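import Cfsg.Agent.AutPOmega.Rigid
import Cfsg.Agent.AutPSL.Structure

/-!
The automorphism group of POmega as the group of semisimilarities modulo scalars: the field automorphism of an
automorphism, the image of the similarity group, the inner automorphisms.
-/

set_option autoImplicit false

namespace Cfsg.Agent.AutPOmega

open Module QuadraticMap Classical.Quad Matrix

variable {ι : Type} [Fintype ι] [DecidableEq ι] {F : Type*} [Field F] {Q : QuadraticForm F (ι → F)}

namespace Semi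

variable (T S : Semi Q)

theorem app_zero : T.app 0 = 0 := by
  have := T.app_smul 0 0
  simpa using this

/-- The composite of two semisimilarities. -/
def comp : Semi Q where
  g := T.g * Matrix.GeneralLinearGroup.map (T.σ : F →+* F) S.g
  σ := T.σ * S.σ
  c := T.c * T.σ S.c
  c_ne := mul_ne_zero T.c_ne ((map_ne_zero T.σ).2 S.c_ne)
  map_Q v := by
    have h : ((T.g * Matrix.GeneralLinearGroup.map (T.σ : F →+* F) S.g : GL ι F).1 *ᵥ
        fun i => (T.σ * S.σ) (v i)) = T.app (S.app v) := by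
      show (T.g.1 * S.g.1.map T.σ) *ᵥ _ = T.g.1 *ᵥ fun i => T.σ ((S.g.1 *ᵥ fun j => S.σ (v j)) i)
      rw [T.map_mulVec, ← Matrix.mulVec_mulVec]
      rfl
    rw [h, T.Q_app, S.Q_app, map_mul, ← mul_assoc]
    rfl

theorem app_comp (v : ι → F) : (T.comp S).app v = T.app (S.app v) := by
  show (T.g.1 * S.g.1.map T.σ) *ᵥ _ = T.g.1 *ᵥ fun i => T.σ ((S.g.1 *ᵥ fun j => S.σ (v j)) i)
  rw [T.map_mulVec, ← Matrix.mulVec_mulVec]
  rfl

theorem omAut_ext {s t : Om Q} (h : ∀ v, mat s *ᵥ T.app v = mat t *ᵥ T.app v) : s = t :=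
  om_ext_mulVec fun x => by rw [← T.app_inv x, h]

theorem aut_comp : (T.comp S).aut = T.aut * S.aut := autExt fun s => by
  rw [MulAut.mul_apply, aut_mkO, aut_mkO, aut_mkO]
  refine congrArg mkO ((T.comp S).omAut_ext fun v => ?_)
  rw [omAut_app, app_comp, app_comp, omAut_app, omAut_app]

/-- The inverse semisimilarity. -/
def inv : Semi Q where
  g := Matrix.GeneralLinearGroup.map (T.σ.symm : F →+* F) T.g⁻¹
  σ := T.σ.symm
  c := T.σ.symm T.c⁻¹
  c_ne := (map_ne_zero T.σ.symm).2 (inv_ne_zero T.c_ne)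
  map_Q v := by
    have h : ((Matrix.GeneralLinearGroup.map (T.σ.symm : F →+* F) T.g⁻¹ : GL ι F).1 *ᵥ
        fun i => T.σ.symm (v i)) = T.appInv v := by
      funext i
      exact (RingHom.map_mulVec (T.σ.symm : F →+* F) (T.g⁻¹).1 v i).symm
    refine T.σ.injective ?_
    rw [h, map_mul, T.σ.apply_symm_apply, T.σ.apply_symm_apply]
    refine mul_left_cancel₀ T.c_ne ?_
    rw [← T.Q_app, T.app_inv, ← mul_assoc, mul_inv_cancel₀ T.c_ne, one_mul]

theorem app_inv' (v : ι → F) : T.inv.app v = T.appInv v := by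
  funext i
  exact (RingHom.map_mulVec (T.σ.symm : F →+* F) (T.g⁻¹).1 v i).symm

theorem aut_congr {a : F} (ha : a ≠ 0) (h : ∀ v, T.app v = a • S.app v) : T.aut = S.aut := autExt fun s => by
  rw [aut_mkO, aut_mkO]
  refine congrArg mkO (S.omAut_ext fun v => smul_right_injective _ ha ?_)
  show a • (mat (T.omAut s) *ᵥ S.app v) = a • (mat (S.omAut s) *ᵥ S.app v)
  rw [← Matrix.mulVec_smul, ← h, omAut_app, h, omAut_app]

theorem aut_inv : T.inv.aut = T.aut⁻¹ := by
  refine eq_inv_of_mul_eq_one_right (autExt fun s => ?_)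
  rw [MulAut.one_apply, MulAut.mul_apply, aut_mkO, aut_mkO]
  refine congrArg mkO (T.omAut_ext fun v => ?_)
  rw [omAut_app, ← T.app_inv (mat s *ᵥ T.app v)]
  congr 1
  have h1 := T.inv.omAut_app s (T.app v)
  have hTT : ∀ w, T.inv.app (T.app w) = w := fun w => T.app_injective (by rw [app_inv', T.app_inv])
  rwa [hTT, app_inv'] at h1

theorem induced_iff {β : MulAut (Cfsg.POmega F ⇑Q)} :
    Cfsg.IsInducedBySemilinearPOmega (⇑Q) T.g T.σ β ↔ β = T.aut :=
  ⟨fun h => autExt fun s => (h s (T.omAut s) (T.mat_omAut s)).trans (T.aut_mkO s).symm,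
    fun h => h ▸ T.aut_induced⟩

/-- A similarity as a semisimilarity. -/
noncomputable def ofSim (g : Geo.quadSimilarityGroup (F := F) (⇑Q)) : Semi Q where
  g := g.1
  σ := RingEquiv.refl F
  c := (g.2.choose : F)
  c_ne := g.2.choose.ne_zero
  map_Q v := g.2.choose_spec v

theorem ofSim_app (g : Geo.quadSimilarityGroup (F := F) (⇑Q)) (v : ι → F) : (ofSim g).app v = g.1.1 *ᵥ v := rfl

/-- A field automorphism fixing the coefficients as a semisimilarity. -/
def ofGal (σ : F ≃+* F) (h : ∀ v : ι → F, Q (fun i => σ (v i)) = σ (Q v)) : Semi Q where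
  g := 1
  σ := σ
  c := 1
  c_ne := one_ne_zero
  map_Q v := by rw [Units.val_one, Matrix.one_mulVec, one_mul, h]

theorem ofGal_app (σ : F ≃+* F) (h : ∀ v : ι → F, Q (fun i => σ (v i)) = σ (Q v)) (v : ι → F) :
    (ofGal σ h).app v = fun i => σ (v i) := by rw [app]; exact Matrix.one_mulVec _

theorem mat_omAut_ofGal (σ : F ≃+* F) (h : ∀ v : ι → F, Q (fun i => σ (v i)) = σ (Q v)) (s : Om Q) :
    mat ((ofGal σ h).omAut s) = (mat s).map σ := by
  rw [mat_omAut]
  show (1 : GL ι F).1 * _ * ((1 : GL ι F)⁻¹).1 = _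
  rw [inv_one, Units.val_one, Matrix.one_mul, Matrix.mul_one]
  rfl

theorem isFieldAut_iff (σ : F ≃+* F) (h : ∀ v : ι → F, Q (fun i => σ (v i)) = σ (Q v))
    {β : MulAut (Cfsg.POmega F ⇑Q)} : Cfsg.IsFieldAutPOmegaOf (⇑Q) σ β ↔ β = (ofGal σ h).aut :=
  ⟨fun hβ => autExt fun s => (hβ s ((ofGal σ h).omAut s) (mat_omAut_ofGal σ h s)).trans
      ((ofGal σ h).aut_mkO s).symm,
    fun hβ s s' hs => by
      subst hβ
      refine ((ofGal σ h).aut_mkO s).trans (congrArg mkO ?_)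
      exact Subtype.ext (Subtype.ext (Units.ext ((mat_omAut_ofGal σ h s).trans hs.symm)))⟩

theorem ofGal_comp {σ τ : F ≃+* F} (h : ∀ v : ι → F, Q (fun i => σ (v i)) = σ (Q v))
    (h' : ∀ v : ι → F, Q (fun i => τ (v i)) = τ (Q v))
    (h'' : ∀ v : ι → F, Q (fun i => (σ * τ) (v i)) = (σ * τ) (Q v)) :
    (ofGal (σ * τ) h'').aut = (ofGal σ h).aut * (ofGal τ h').aut := by
  rw [← aut_comp]
  refine aut_congr _ _ one_ne_zero fun v => ?_
  rw [one_smul, app_comp, ofGal_app, ofGal_app, ofGal_app]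
  rfl

theorem pow_galois {σ : F ≃+* F} (h : ∀ v : ι → F, Q (fun i => σ (v i)) = σ (Q v)) (k : ℕ) (v : ι → F) :
    Q (fun i => (σ ^ k) (v i)) = (σ ^ k) (Q v) := by
  induction k generalizing v with
  | zero => simp
  | succ k ih =>
    rw [pow_succ]
    exact (ih fun i => σ (v i)).trans (congrArg _ (h v))

end Semi

/-- An automorphism keeping meeting lines meeting is induced by a semisimilarity. -/
theorem exists_semi_of_nice (hc : Pre Q) [Finite F] (β : MulAut (Cfsg.POmega F ⇑Q)) (hβ : Nice β) :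
    ∃ T : Semi Q, T.aut = β := by
  have := Fintype.ofFinite F
  obtain ⟨p, hp⟩ := CharP.exists F
  have := Fact.mk (CharP.char_is_prime F p)
  obtain ⟨T, S, rfl⟩ := exists_decomp hc p β hβ
  exact ⟨T.inv.comp S, by rw [Semi.aut_comp, Semi.aut_inv]⟩

/-- Only scalars act trivially. -/
theorem Semi.eq_of_aut_eq_one' (hc : Pre Q) [Finite F] (T : Semi Q) (h : T.aut = 1) :
    T.σ = 1 ∧ ∃ a : F, a ≠ 0 ∧ ∀ v, T.app v = a • v := by
  have := Fintype.ofFinite F
  obtain ⟨p, hp⟩ := CharP.exists F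
  have := Fact.mk (CharP.char_is_prime F p)
  have hln : ∀ e v, Pr Q e v → T.app e ∈ ln e v := fun e v hev => by
    have hs : IsSg Q e v := ⟨hev.he, hev.hev⟩
    have hT : IsSg Q (T.app e) (T.c⁻¹ • T.app v) :=
      ⟨by rw [T.Q_app, hev.he, map_zero, mul_zero],
        by rw [polar_smul_right, T.polar_app, hev.hev, map_zero, mul_zero, smul_zero]⟩
    have h1 : mkO (T.omAut (sg Q e v)) = mkO (sg Q e v) := by rw [← T.aut_mkO, h, MulAut.one_apply]
    rw [T.omAut_sg hc hs] at h1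
    have h2 := eq_of_mkO_eq hc p (sg_pow hc p hT) (sg_pow hc p hs) h1
    refine sg_eq_ln hc hT (LinearIndependent.pair_iff.2 fun s t hst => ?_) hs h2 (left_mem_ln _ _)
    rw [smul_smul, ← T.σ.apply_symm_apply s, ← T.σ.apply_symm_apply (t * T.c⁻¹), ← T.app_smul, ← T.app_smul,
      ← T.app_add, ← T.app_zero] at hst
    have h3 := hev.indep (T.app_injective hst)
    exact ⟨by simpa using congrArg T.σ h3.1, by simpa [T.c_ne] using congrArg T.σ h3.2⟩
  have hpt : ∀ e, e ≠ 0 → Q e = 0 → ∃ a : F, T.app e = a • e := fun e he0 he => by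
    obtain ⟨u, v, hu, hv, -, hint⟩ := exists_two_lines hc he0 he
    obtain ⟨a, ha⟩ := Submodule.mem_span_singleton.1 (hint _ (hln e u hu) (hln e v hv))
    exact ⟨a, ha.symm⟩
  have hadj : ∀ {e v : ι → F} {a d : F}, Pr Q e v → T.app e = a • e → T.app v = d • v → a = d :=
    fun {e v a d} hp' h1 h2 => by
      have hne : e + v ≠ 0 := fun h0 => one_ne_zero (hp'.indep (s := 1) (t := 1) (by simpa using h0)).1
      obtain ⟨r, hr⟩ := hpt _ hne (hp'.singular (add_mem (left_mem_ln e v) (right_mem_ln e v)))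
      rw [T.app_add, h1, h2, smul_add] at hr
      have := hp'.indep (s := a - r) (t := d - r)
        (by rw [sub_smul, sub_smul]; linear_combination (norm := module) hr)
      rw [sub_eq_zero.1 this.1, sub_eq_zero.1 this.2]
  obtain ⟨A, B, hp', -⟩ := hc.pairs
  obtain ⟨a, ha⟩ := hpt _ (hp' 0).a_ne (hp' 0).ha
  have ha0 : a ≠ 0 := fun h0 => (hp' 0).a_ne (T.app_injective (by rw [ha, h0, zero_smul, T.app_zero]))
  have hall : ∀ x, x ≠ 0 → Q x = 0 → T.app x = a • x := fun x hx0 hx => by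
    obtain ⟨d, hd⟩ := hpt x hx0 hx
    obtain ⟨w, hw1, hw2⟩ := exists_nbr hc (hp' 0).a_ne (hp' 0).ha hx0 hx
    obtain ⟨r, hr⟩ := hpt w hw1.v_ne hw1.hv
    rw [hd, hadj hw1 ha hr, hadj hw2 hd hr]
  have hσ : T.σ = 1 := RingEquiv.ext fun t => by
    rcases eq_or_ne t 0 with rfl | ht
    · simp
    have h1 := hall (t • A 0) (smul_ne_zero ht (hp' 0).a_ne) (by rw [Classical.Quad.map_smul', (hp' 0).ha, mul_zero])
    rw [T.app_smul, ha, smul_smul, smul_smul] at h1
    have h2 := smul_left_injective F (hp' 0).a_ne h1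
    exact mul_right_cancel₀ ha0 (h2.trans (mul_comm _ _))
  refine ⟨hσ, a, ha0, fun v => singular_induction (U := ⊤) (hp' 0) trivial trivial
    (P := fun v => T.app v = a • v) (fun x _ y _ hx hy => by rw [T.app_add, hx, hy, smul_add]) (fun x _ hx => ?_)
    trivial⟩
  rcases eq_or_ne x 0 with rfl | hx0
  · rw [T.app_zero, smul_zero]
  · exact hall x hx0 hx

variable (hc : Ctx Q)
include hc

theorem exists_value_one : ∃ v, Q v = 1 := by
  obtain ⟨a, b, hp, -⟩ := hc.pairs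
  exact ⟨a 0 + b 0, by rw [map_add', (hp 0).ha, (hp 0).hb, (hp 0).hab]; ring⟩

theorem Semi.c_unique (T : Semi Q) {c : F} (h : ∀ v, Q (T.app v) = c * T.σ (Q v)) : T.c = c := by
  obtain ⟨v, hv⟩ := exists_value_one hc
  have := (T.Q_app v).symm.trans (h v)
  rwa [hv, map_one, mul_one, mul_one] at this

section Finite

variable [Finite F]

theorem exists_semi (β : MulAut (Cfsg.POmega F ⇑Q)) : ∃ T : Semi Q, T.aut = β := by
  have := Fintype.ofFinite F
  obtain ⟨p, hp⟩ := CharP.exists F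
  have := Fact.mk (CharP.char_is_prime F p)
  obtain ⟨T, S, rfl⟩ := exists_decomp hc.toPre p β (nice p hc β)
  exact ⟨T.inv.comp S, by rw [Semi.aut_comp, Semi.aut_inv]⟩

/-- Only scalars act trivially. -/
theorem Semi.eq_of_aut_eq_one (T : Semi Q) (h : T.aut = 1) :
    T.σ = 1 ∧ ∃ a : F, a ≠ 0 ∧ ∀ v, T.app v = a • v := Semi.eq_of_aut_eq_one' hc.toPre T h

theorem Semi.aut_eq_aut {T S : Semi Q} (h : T.aut = S.aut) :
    T.σ = S.σ ∧ ∃ a : F, a ≠ 0 ∧ ∀ v, T.app v = a • S.app v := by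
  obtain ⟨h1, a, ha, h2⟩ := (S.inv.comp T).eq_of_aut_eq_one hc (by rw [Semi.aut_comp, Semi.aut_inv, h, inv_mul_cancel])
  refine ⟨RingEquiv.ext fun t => ?_, S.σ a, (map_ne_zero S.σ).2 ha, fun v => ?_⟩
  · have := congrArg S.σ (RingEquiv.congr_fun h1 t)
    exact (S.σ.apply_symm_apply (T.σ t)).symm.trans this
  · have := congrArg S.app (h2 v)
    rwa [Semi.app_comp, Semi.app_inv', S.app_inv, S.app_smul] at this

/-! ### The two homomorphisms -/

/-- The field automorphism of an automorphism. -/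
noncomputable def galOf : MulAut (Cfsg.POmega F ⇑Q) →* (F ≃+* F) :=
  MonoidHom.mk' (fun β => (exists_semi hc β).choose.σ) fun β γ => by
    refine (Semi.aut_eq_aut hc (S := (exists_semi hc β).choose.comp (exists_semi hc γ).choose) ?_).1
    rw [Semi.aut_comp, (exists_semi hc β).choose_spec, (exists_semi hc γ).choose_spec,
      (exists_semi hc (β * γ)).choose_spec]

theorem galOf_aut (T : Semi Q) : galOf hc T.aut = T.σ := (Semi.aut_eq_aut hc (exists_semi hc T.aut).choose_spec).1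

theorem galOf_comm (hcomm : ∀ σ τ : F ≃+* F, Commute σ τ) (α β : MulAut (Cfsg.POmega F ⇑Q)) :
    galOf hc (α * β * α⁻¹) = galOf hc β := by
  rw [map_mul, map_mul, map_inv, mul_inv_eq_iff_eq_mul, (hcomm _ _).eq]

omit [Finite F] in
theorem mult_unique {g : GL ι F} {c d : F} (h : ∀ v, Q (g.1 *ᵥ v) = c * Q v) (h' : ∀ v, Q (g.1 *ᵥ v) = d * Q v) :
    c = d := by
  obtain ⟨v, hv⟩ := exists_value_one hc
  simpa [hv] using (h v).symm.trans (h' v)

omit hc [Finite F] in
/-- The image of the similarity group. -/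
noncomputable def conjA : Geo.quadSimilarityGroup (F := F) (⇑Q) →* MulAut (Cfsg.POmega F ⇑Q) :=
  MonoidHom.mk' (fun g => (Semi.ofSim g).aut) fun g h => by
    rw [← Semi.aut_comp]
    refine Semi.aut_congr _ _ one_ne_zero fun v => ?_
    rw [one_smul, Semi.app_comp, Semi.ofSim_app, Semi.ofSim_app, Semi.ofSim_app, Matrix.mulVec_mulVec]
    rfl

omit hc [Finite F] in
theorem conjA_apply (g : Geo.quadSimilarityGroup (F := F) (⇑Q)) : conjA g = (Semi.ofSim g).aut := rfl

theorem galOf_conjA (g : Geo.quadSimilarityGroup (F := F) (⇑Q)) : galOf hc (conjA g) = 1 :=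
  galOf_aut hc _

omit hc [Finite F] in
theorem Semi.exists_sim {T : Semi Q} (h : T.σ = 1) : ∃ g, T.aut = conjA g ∧ g.1 = T.g := by
  refine ⟨⟨T.g, Units.mk0 T.c T.c_ne, fun v => ?_⟩, Semi.aut_congr _ _ one_ne_zero fun v => ?_, rfl⟩
  · have := T.map_Q v
    simp only [h] at this
    exact this
  · rw [one_smul, Semi.ofSim_app, Semi.app]
    simp only [h]
    rfl

theorem ker_galOf : (galOf hc).ker = (conjA (Q := Q)).range := by
  ext β
  constructor
  · intro hβ
    obtain ⟨T, rfl⟩ := exists_semi hc β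
    rw [MonoidHom.mem_ker, galOf_aut] at hβ
    obtain ⟨g, hg, -⟩ := Semi.exists_sim hβ
    exact ⟨g, hg.symm⟩
  · rintro ⟨g, rfl⟩
    exact galOf_conjA hc g

omit hc [Finite F] in
theorem isSimilarityInduced_iff {β : MulAut (Cfsg.POmega F ⇑Q)} :
    Cfsg.IsSimilarityInducedAutPOmega (⇑Q) β ↔ ∃ g, β = conjA g :=
  ⟨fun ⟨g, hg, hi⟩ => ⟨⟨g, hg⟩, (Semi.ofSim ⟨g, hg⟩).induced_iff.1 hi⟩,
    fun ⟨g, hg⟩ => ⟨g.1, g.2, (Semi.ofSim g).induced_iff.2 hg⟩⟩

omit hc [Finite F] in
theorem pgoAut_eq : Cfsg.pgoAut F (⇑Q) = (conjA (Q := Q)).range := by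
  refine le_antisymm ((Subgroup.closure_le _).2 fun β hβ => ?_) ?_
  · obtain ⟨g, rfl⟩ := (isSimilarityInduced_iff).1 hβ
    exact ⟨g, rfl⟩
  · rintro _ ⟨g, rfl⟩
    exact Subgroup.subset_closure ((isSimilarityInduced_iff).2 ⟨g, rfl⟩)

theorem pgoAut_normal : (conjA (Q := Q)).range.Normal := by rw [← ker_galOf hc]; infer_instance

theorem conjA_eq_one_iff {g : Geo.quadSimilarityGroup (F := F) (⇑Q)} :
    conjA g = 1 ↔ g.1 ∈ Geo.scalars ι F := by
  constructor
  · intro h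
    obtain ⟨-, a, ha, h2⟩ := (Semi.ofSim g).eq_of_aut_eq_one hc h
    refine (Geo.mem_scalars_iff _).2 ⟨Units.mk0 a ha, Matrix.ext_of_mulVec_single fun i => ?_⟩
    rw [Units.val_mk0, Matrix.smul_mulVec, Matrix.one_mulVec, ← h2, Semi.ofSim_app]
  · intro h
    obtain ⟨a, ha⟩ := (Geo.mem_scalars_iff _).1 h
    rw [← (conjA (Q := Q)).map_one]
    refine Semi.aut_congr _ _ a.ne_zero fun v => ?_
    rw [Semi.ofSim_app, Semi.ofSim_app, ha, Matrix.smul_mulVec, Matrix.one_mulVec]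
    simp

theorem ker_conjA : (conjA (Q := Q)).ker = (Geo.scalars ι F).subgroupOf (Geo.quadSimilarityGroup (F := F) (⇑Q)) :=
  Subgroup.ext fun g => by rw [MonoidHom.mem_ker, conjA_eq_one_iff hc, Subgroup.mem_subgroupOf]

end Finite

/-- The multiplier of a similarity. -/
noncomputable def mult : Geo.quadSimilarityGroup (F := F) (⇑Q) →* Fˣ :=
  MonoidHom.mk' (fun g => g.2.choose) fun g h => Units.ext (mult_unique hc (g := g.1 * h.1)
    (fun v => (g * h).2.choose_spec v) fun v => by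
      rw [Units.val_mul, Units.val_mul, ← Matrix.mulVec_mulVec, g.2.choose_spec, h.2.choose_spec, mul_assoc])

theorem mult_spec (g : Geo.quadSimilarityGroup (F := F) (⇑Q)) (v : ι → F) :
    Q (g.1.1 *ᵥ v) = (mult hc g : F) * Q v := g.2.choose_spec v

theorem mult_eq {g : Geo.quadSimilarityGroup (F := F) (⇑Q)} {c : Fˣ} (h : ∀ v, Q (g.1.1 *ᵥ v) = (c : F) * Q v) :
    mult hc g = c := Units.ext (mult_unique hc (mult_spec hc g) h)

omit hc in
/-- Isometries as similarities. -/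
def isoToSim : Cfsg.isometryGroup F ⇑Q →* Geo.quadSimilarityGroup (F := F) (⇑Q) :=
  Subgroup.inclusion fun g hg => ⟨1, fun v => by rw [Units.val_one, one_mul]; exact mem_isometryGroup_iff.1 hg v⟩

theorem ker_mult : (mult hc).ker = (isoToSim (Q := Q)).range := by
  ext g
  constructor
  · intro h
    refine ⟨⟨g.1, mem_isometryGroup_iff.2 fun v => ?_⟩, rfl⟩
    rw [mult_spec hc g, MonoidHom.mem_ker.1 h, Units.val_one, one_mul]
  · rintro ⟨s, rfl⟩
    refine mult_eq hc fun v => ?_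
    rw [Units.val_one, one_mul]
    exact mem_isometryGroup_iff.1 s.2 v

theorem card_GO : Nat.card (Geo.quadSimilarityGroup (F := F) (⇑Q)) =
    Nat.card (mult hc).range * Nat.card (Cfsg.isometryGroup F ⇑Q) := by
  rw [← Subgroup.card_eq_card_quotient_mul_card_subgroup (mult hc).ker |>.symm,
    Nat.card_congr (QuotientGroup.quotientKerEquivRange (mult hc)).toEquiv, ker_mult hc]
  congr 1
  exact Nat.card_congr (MonoidHom.ofInjective (Subgroup.inclusion_injective _)).symm.toEquiv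

omit hc in
/-- Omega as similarities. -/
def omToSim : Om Q →* Geo.quadSimilarityGroup (F := F) (⇑Q) :=
  isoToSim.comp (Cfsg.Omega F ⇑Q).subtype

omit hc in
/-- A scalar similarity. -/
def scalarSim (a : Fˣ) : Geo.quadSimilarityGroup (F := F) (⇑Q) :=
  ⟨Units.map (Matrix.scalar ι : F →+* Matrix ι ι F).toMonoidHom a, a ^ 2, fun v => by
    show Q (Matrix.scalar ι (a : F) *ᵥ v) = _
    rw [Matrix.scalar_apply, ← Matrix.smul_one_eq_diagonal, Matrix.smul_mulVec, Matrix.one_mulVec, Classical.Quad.map_smul',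
      Units.val_pow_eq_pow_val, pow_two]⟩

omit hc in
theorem scalarSim_mulVec (a : Fˣ) (v : ι → F) : (scalarSim (Q := Q) a).1.1 *ᵥ v = (a : F) • v := by
  show Matrix.scalar ι (a : F) *ᵥ v = _
  rw [Matrix.scalar_apply, ← Matrix.smul_one_eq_diagonal, Matrix.smul_mulVec, Matrix.one_mulVec]

theorem mult_scalarSim (a : Fˣ) : mult hc (scalarSim a) = a ^ 2 := mult_eq hc fun v => by
  rw [scalarSim_mulVec, Classical.Quad.map_smul', Units.val_pow_eq_pow_val, pow_two]

section Counts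

variable [Finite F]

theorem conjA_scalarSim (a : Fˣ) : conjA (scalarSim (Q := Q) a) = 1 := (conjA_eq_one_iff hc).2 ⟨a, rfl⟩

omit hc [Finite F] in
theorem conjA_omToSim (s : Om Q) : conjA (omToSim s) = MulAut.conj (mkO s) := autExt fun t => by
  rw [conjA_apply, Semi.aut_mkO, MulAut.conj_apply, ← map_inv, ← map_mul, ← map_mul]
  refine congrArg mkO ((Semi.ofSim (omToSim s)).omAut_ext fun v => ?_)
  rw [Semi.omAut_app, Semi.ofSim_app, Semi.ofSim_app]
  show mat s *ᵥ (mat t *ᵥ v) = mat (s * t * s⁻¹) *ᵥ (mat s *ᵥ v)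
  rw [mat_mul_mulVec, mat_mul_mulVec, mat_inv_mulVec]

omit hc [Finite F] in
theorem inn_eq : Cfsg.Inn (Cfsg.POmega F ⇑Q) = (omToSim (Q := Q)).range.map (conjA) := by
  ext x
  constructor
  · rintro ⟨y, rfl⟩
    obtain ⟨s, rfl⟩ := mkO_surjective y
    exact ⟨_, ⟨s, rfl⟩, conjA_omToSim s⟩
  · rintro ⟨_, ⟨s, rfl⟩, rfl⟩
    exact ⟨mkO s, (conjA_omToSim s).symm⟩

omit hc [Finite F] in
theorem inn_le_pgo : Cfsg.Inn (Cfsg.POmega F ⇑Q) ≤ (conjA (Q := Q)).range := by
  rw [inn_eq]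
  rintro _ ⟨g, -, rfl⟩
  exact ⟨g, rfl⟩

theorem conj_injective : Function.Injective (MulAut.conj : Cfsg.POmega F ⇑Q →* MulAut (Cfsg.POmega F ⇑Q)) :=
  (injective_iff_map_eq_one _).2 fun x hx => by
    obtain ⟨s, rfl⟩ := mkO_surjective x
    rw [← conjA_omToSim, conjA_eq_one_iff hc] at hx
    obtain ⟨a, ha⟩ := (Geo.mem_scalars_iff _).1 hx
    exact mkO_eq_one_iff.2 (mem_center_of_scalar hc (a := (a : F)) fun v => by
      rw [show mat s = (a : F) • 1 from ha, Matrix.smul_mulVec, Matrix.one_mulVec])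

theorem card_inn : Nat.card (Cfsg.Inn (Cfsg.POmega F ⇑Q)) = Nat.card (Cfsg.POmega F ⇑Q) :=
  (Nat.card_congr (MonoidHom.ofInjective (conj_injective hc)).toEquiv).symm

theorem card_pgo : Nat.card (conjA (Q := Q)).range * (Nat.card F - 1) =
    Nat.card (mult hc).range * Nat.card (Cfsg.isometryGroup F ⇑Q) := by
  have := Fintype.ofFinite F
  rw [← card_GO hc, Subgroup.card_eq_card_quotient_mul_card_subgroup (conjA (Q := Q)).ker,
    Nat.card_congr (QuotientGroup.quotientKerEquivRange (conjA)).toEquiv]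
  congr 1
  rw [ker_conjA hc, ← Nat.card_units]
  refine Nat.card_eq_of_bijective (fun a : Fˣ => ⟨scalarSim a, ⟨a, rfl⟩⟩) ⟨fun a b h => ?_, fun g => ?_⟩
  · obtain ⟨A, B, hp, -⟩ := hc.pairs
    have h1 := congrArg (fun g : Geo.quadSimilarityGroup (F := F) (⇑Q) => g.1.1 *ᵥ A 0) (Subtype.ext_iff.1 h)
    simp only [scalarSim_mulVec] at h1
    exact Units.ext (smul_left_injective F (hp 0).a_ne h1)
  · obtain ⟨⟨g, hg⟩, a, ha⟩ := g
    exact ⟨a, Subtype.ext (Subtype.ext ha)⟩

theorem card_aut (hs : Function.Surjective (galOf hc)) :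
    Nat.card (MulAut (Cfsg.POmega F ⇑Q)) = Nat.card (F ≃+* F) * Nat.card (conjA (Q := Q)).range := by
  rw [← ker_galOf hc, Subgroup.card_eq_card_quotient_mul_card_subgroup (galOf hc).ker,
    Nat.card_congr (QuotientGroup.quotientKerEquivOfSurjective (galOf hc) hs).toEquiv]

end Counts

end Cfsg.Agent.AutPOmega
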