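import Cfsg.Agent.AutPOmega.Std
import Cfsg.Agent.AutPOmega.Structure

/-!
The standard forms as quadratic forms whose coercion is definitionally the function of the definitions.
-/

set_option autoImplicit false

namespace Cfsg.Agent.AutPOmega

open Module QuadraticMap Classical.Quad

variable (F : Type*) [Field F] (m : ℕ)

/-- The odd form. -/
def qOdd : QuadraticForm F (Unit ⊕ (Fin m ⊕ Fin m) → F) :=
  ((hyp (sqForm F) m).comp (oddCoord m).toLinearMap).copy (Cfsg.quadFormOdd m F)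
    (funext fun v => (oddCoord_map m v).symm)

/-- The plus form. -/
def qPlus : QuadraticForm F (Fin m ⊕ Fin m → F) :=
  ((hyp (zeroForm F) m).comp (plusCoord m).toLinearMap).copy (Cfsg.quadFormPlus m F)
    (funext fun v => (plusCoord_map m v).symm)

/-- The minus form. -/
def qMinus (a b : F) : QuadraticForm F ((Fin m ⊕ Fin m) ⊕ Fin 2 → F) :=
  ((hyp (binForm a b) m).comp (minusCoord m).toLinearMap).copy (Cfsg.quadFormMinus m F a b)
    (funext fun v => (minusCoord_map a b m v).symm)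

theorem qOdd_apply (v : Unit ⊕ (Fin m ⊕ Fin m) → F) : qOdd F m v = Cfsg.quadFormOdd m F v := rfl

theorem qPlus_apply (v : Fin m ⊕ Fin m → F) : qPlus F m v = Cfsg.quadFormPlus m F v := rfl

theorem qMinus_apply (a b : F) (v : (Fin m ⊕ Fin m) ⊕ Fin 2 → F) :
    qMinus F m a b v = Cfsg.quadFormMinus m F a b v := rfl

variable {F m}

theorem ctx_odd [Fintype F] (hodd : Odd (Fintype.card F)) (hm : 3 ≤ m) : Ctx (qOdd F m) := by
  obtain ⟨Q, hQ, hc⟩ := exists_ctx_odd (F := F) hodd hm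
  rwa [show qOdd F m = Q from DFunLike.coe_injective hQ.symm]

theorem ctx_plus (hm : 5 ≤ m) : Ctx (qPlus F m) := by
  obtain ⟨Q, hQ, hc⟩ := exists_ctx_plus (F := F) hm
  rwa [show qPlus F m = Q from DFunLike.coe_injective hQ.symm]

theorem ctx_minus [Finite F] (hm : 3 ≤ m) {a b : F}
    (hab : ∀ z₁ z₂ : F, z₁ ^ 2 + a * z₁ * z₂ + b * z₂ ^ 2 = 0 → z₁ = 0 ∧ z₂ = 0) : Ctx (qMinus F m a b) := by
  obtain ⟨Q, hQ, hc⟩ := exists_ctx_minus hm hab
  rwa [show qMinus F m a b = Q from DFunLike.coe_injective hQ.symm]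

variable {K : Type*} [Field K] (i : F →+* K)

theorem qOdd_map (v : Unit ⊕ (Fin m ⊕ Fin m) → F) : qOdd K m (fun j => i (v j)) = i (qOdd F m v) := by
  simp [qOdd_apply, Cfsg.quadFormOdd, map_sum]

theorem qPlus_map (v : Fin m ⊕ Fin m → F) : qPlus K m (fun j => i (v j)) = i (qPlus F m v) := by
  simp [qPlus_apply, Cfsg.quadFormPlus, map_sum]

theorem qMinus_map (a b : F) (v : (Fin m ⊕ Fin m) ⊕ Fin 2 → F) :
    qMinus K m (i a) (i b) (fun j => i (v j)) = i (qMinus F m a b v) := by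
  simp [qMinus_apply, Cfsg.quadFormMinus, map_sum]

theorem qOdd_gal (σ : F ≃+* F) (v : Unit ⊕ (Fin m ⊕ Fin m) → F) : qOdd F m (fun j => σ (v j)) = σ (qOdd F m v) :=
  qOdd_map (σ : F →+* F) v

theorem qPlus_gal (σ : F ≃+* F) (v : Fin m ⊕ Fin m → F) : qPlus F m (fun j => σ (v j)) = σ (qPlus F m v) :=
  qPlus_map (σ : F →+* F) v

theorem qMinus_gal (σ : F ≃+* F) {a b : F} (ha : σ a = a) (hb : σ b = b) (v : (Fin m ⊕ Fin m) ⊕ Fin 2 → F) :
    qMinus F m a b (fun j => σ (v j)) = σ (qMinus F m a b v) := by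
  have h := qMinus_map (σ : F →+* F) a b v
  rwa [show (σ : F →+* F) a = a from ha, show (σ : F →+* F) b = b from hb] at h

end Cfsg.Agent.AutPOmega
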