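import Cfsg.Agent.AutPOmega.NormRing

/-!
A finite reduced ring with involution below a minimal fixed idempotent: the norm one group is cyclic, acts freely
and has order n + 1 or n - 1 where the piece has n * n elements.
-/

set_option autoImplicit false

namespace Cfsg.Agent.AutPOmega

variable {E : Type*} [CommRing E] [Finite E]

theorem card_nonzero (P : E → Prop) (h0 : P 0) :
    Nat.card {a : E // P a} = Nat.card {a : E // P a ∧ a ≠ 0} + 1 := by
  classical
  rw [← Finite.card_option]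
  exact Nat.card_congr
    { toFun := fun a => if h : a.1 = 0 then none else some ⟨a.1, a.2, h⟩
      invFun := fun o => o.elim ⟨0, h0⟩ fun b => ⟨b.1, b.2.1⟩
      left_inv := fun a => by
        by_cases h : a.1 = 0
        · simp only [dif_pos h]; exact Subtype.ext h.symm
        · simp only [dif_neg h]; rfl
      right_inv := fun o => by
        rcases o with _ | b
        · simp
        · simp [b.2.2] }

variable [IsReduced E] (τ : E ≃+* E) (hτ : ∀ a, τ (τ a) = a) {e : E}

/-- The units that are trivial outside an idempotent. -/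
def unitsUnder (e : E) : Subgroup Eˣ where
  carrier := {u | (u : E) * (1 - e) = 1 - e}
  one_mem' := by simp
  mul_mem' := fun {a b} ha hb => by
    simp only [Set.mem_ofPred_eq, Units.val_mul] at *
    rw [mul_assoc, hb, ha]
  inv_mem' := fun {a} ha => by
    simp only [Set.mem_ofPred_eq] at *
    conv_lhs => rw [← ha]
    rw [← mul_assoc, Units.inv_mul, one_mul]

/-- The units of norm one. -/
def normKer : Subgroup Eˣ where
  carrier := {u | τ (u : E) * u = 1}
  one_mem' := by simp
  mul_mem' := fun {a b} ha hb => by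
    simp only [Set.mem_ofPred_eq, Units.val_mul] at *
    rw [map_mul, mul_mul_mul_comm, ha, hb, one_mul]
  inv_mem' := fun {a} ha => by
    simp only [Set.mem_ofPred_eq] at *
    have h1 : τ ((a⁻¹ : Eˣ) : E) * τ (a : E) = 1 := by rw [← map_mul, Units.inv_mul, map_one]
    calc τ ((a⁻¹ : Eˣ) : E) * ((a⁻¹ : Eˣ) : E) = τ ((a⁻¹ : Eˣ) : E) * (τ (a : E) * a) * ((a⁻¹ : Eˣ) : E) := by
          rw [ha, mul_one]
      _ = 1 := by rw [← mul_assoc, h1, one_mul, Units.mul_inv]

omit [Finite E] [IsReduced E] in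
theorem card_unitsUnder (hee : e * e = e) :
    Nat.card (unitsUnder e) = Nat.card {a : E // e * a = a ∧ ∃ z, a * z = e} := by
  refine Nat.card_eq_of_bijective (fun u => ⟨(u.1 : E) * e, by rw [mul_comm (u.1 : E), ← mul_assoc, hee],
    ((u.1⁻¹ : Eˣ) : E), by rw [mul_right_comm, Units.mul_inv, one_mul]⟩) ⟨fun u u' h => ?_, fun a => ?_⟩
  · have h' : (u.1 : E) * e = (u'.1 : E) * e := congrArg Subtype.val h
    have h1 : (u.1 : E) * (1 - e) = 1 - e := u.2
    have h2 : (u'.1 : E) * (1 - e) = 1 - e := u'.2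
    exact Subtype.ext (Units.ext (by linear_combination h' + h1 - h2))
  · obtain ⟨a, ha, z, hz⟩ := a
    let w : Eˣ := ⟨a + (1 - e), e * z + (1 - e), by linear_combination e * hz + (2 - z) * hee - ha, by
      linear_combination e * hz + (2 - z) * hee - ha⟩
    refine ⟨⟨w, show (a + (1 - e)) * (1 - e) = 1 - e by linear_combination hee - ha⟩, Subtype.ext ?_⟩
    show (a + (1 - e)) * e = a
    linear_combination ha - hee

variable (hee : e * e = e) (hτe : τ e = e) (he0 : e ≠ 0)
  (hmin : ∀ f : E, f * f = f → τ f = f → e * f = 0 ∨ e * f = e)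
include hτ hee hτe hmin

omit hee in
/-- The idempotent of an element below the minimal one. -/
theorem atom_piece {a : E} (ha : e * a = a) (ha0 : a ≠ 0) :
    ∃ p z : E, p * p = p ∧ e * p = p ∧ a * p = a ∧ a * z = p ∧ p ≠ 0 ∧ (p = e ∨ (p * τ p = 0 ∧ p + τ p = e)) := by
  obtain ⟨f, z, hff, haf, haz⟩ := exists_annih_idem a
  have hpe : e * (1 - f) = 1 - f := by rw [← haz, ← mul_assoc, ha]
  have hap : a * (1 - f) = a := by rw [mul_sub, mul_one, haf, sub_zero]
  have hpp : (1 - f) * (1 - f) = 1 - f := by linear_combination hff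
  have hp0 : 1 - f ≠ 0 := fun h0 => ha0 (by rw [← hap, h0, mul_zero])
  refine ⟨1 - f, z, hpp, hpe, hap, haz, hp0, ?_⟩
  generalize 1 - f = p at hpe hap hpp hp0
  rcases hmin (p * τ p) (by rw [mul_mul_mul_comm, hpp, ← map_mul, hpp]) (by rw [map_mul, hτ, mul_comm]) with h | h
  · right
    rw [← mul_assoc, hpe] at h
    refine ⟨h, ?_⟩
    have hpe' : e * τ p = τ p := by
      have := congrArg τ hpe
      rwa [map_mul, hτe] at this
    have h' : τ p * τ p = τ p := by rw [← map_mul, hpp]
    rcases hmin (p + τ p) (by linear_combination hpp + h' + 2 * h) (by rw [map_add, hτ, add_comm]) with h'' | h''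
    · exfalso
      rw [mul_add, hpe, hpe'] at h''
      refine hp0 ?_
      linear_combination p * h'' - hpp - h
    · rwa [mul_add, hpe, hpe'] at h''
  · left
    rw [← mul_assoc, hpe] at h
    calc p = p * e := by rw [mul_comm, hpe]
      _ = p * (p * τ p) := by rw [h]
      _ = e := by rw [← mul_assoc, hpp, h]

omit hee in
theorem fixed_invertible {a : E} (ha : e * a = a) (hτa : τ a = a) (ha0 : a ≠ 0) : ∃ z, a * z = e := by
  obtain ⟨p, z, -, -, hap, haz, -, hp⟩ := atom_piece τ hτ hτe hmin ha ha0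
  rcases hp with rfl | ⟨h0, -⟩
  · exact ⟨z, haz⟩
  · exfalso
    have h := congrArg τ hap
    rw [map_mul, hτa] at h
    exact ha0 (by linear_combination a * h0 - hap - p * h)

omit hee in
/-- A norm one unit fixing a non-zero element below e is trivial there. -/
theorem eq_one_of_fix {u : E} (hu : τ u * u = 1) {a : E} (ha : e * a = a) (ha0 : a ≠ 0) (hua : u * a = a) :
    u * e = e := by
  obtain ⟨p, z, -, -, -, haz, -, hp⟩ := atom_piece τ hτ hτe hmin ha ha0
  have hup : u * p = p := by rw [← haz, ← mul_assoc, hua]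
  rcases hp with rfl | ⟨-, hsum⟩
  · exact hup
  · have h := congrArg τ hup
    rw [map_mul] at h
    rw [← hsum]
    linear_combination hup + (τ p) * hu - u * h

theorem isCyclic_atom (he0 : e ≠ 0) : IsCyclic ↥(normKer τ ⊓ unitsUnder e) := by
  have hnu : ¬ IsUnit (1 - e) := fun h => he0 (h.mul_right_eq_zero.1 (by linear_combination -hee))
  obtain ⟨M, hM, hMe⟩ := exists_max_ideal_of_mem_nonunits hnu
  have heM : e ∉ M := fun h => hM.ne_top ((Ideal.eq_top_iff_one M).2 (by
    have := M.add_mem hMe h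
    rwa [sub_add_cancel] at this))
  haveI : M.IsPrime := hM.isPrime
  haveI : IsDomain (E ⧸ M) := Ideal.Quotient.isDomain M
  refine isCyclic_of_injective_ringHom (R := E ⧸ M)
    ((Ideal.Quotient.mk M).toMonoidHom.comp ((Units.coeHom E).comp (normKer τ ⊓ unitsUnder e).subtype)) fun u v huv => ?_
  have key : ∀ w : ↥(normKer τ ⊓ unitsUnder e), ((w.1 : Eˣ) : E) - 1 ∈ M → w = 1 := by
    rintro ⟨w, hw1, hw2⟩ hw
    refine Subtype.ext (Units.ext ?_)
    show (w : E) = 1
    have h1 : τ (w : E) * w = 1 := hw1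
    have h2 : (w : E) * (1 - e) = 1 - e := hw2
    by_cases ha0 : ((w : E) - 1) * e = 0
    · linear_combination h2 + ha0
    exfalso
    obtain ⟨p, z, -, -, -, haz, -, hp⟩ := atom_piece τ hτ hτe hmin (a := ((w : E) - 1) * e)
      (by linear_combination ((w : E) - 1) * hee) ha0
    have hpM : p ∈ M := haz ▸ M.mul_mem_right z (M.mul_mem_right e hw)
    rcases hp with rfl | ⟨-, hsum⟩
    · exact heM hpM
    · refine heM (hsum ▸ M.add_mem hpM ?_)
      have hτp : τ p = -(τ (w : E) * ((w : E) - 1)) * e * τ z := by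
        rw [← haz, map_mul, map_mul, map_sub, map_one, hτe]
        linear_combination (e * τ z) * h1
      rw [hτp]
      exact M.mul_mem_right _ (M.mul_mem_right e (M.neg_mem (M.mul_mem_left _ hw)))
  have huv' : ((u.1 : Eˣ) : E) - ((v.1 : Eˣ) : E) ∈ M := Ideal.Quotient.eq.1 huv
  refine (inv_mul_eq_one.1 (key (v⁻¹ * u) ?_)).symm
  show ((v.1⁻¹ * u.1 : Eˣ) : E) - 1 ∈ M
  rw [Units.val_mul, show ((v.1⁻¹ : Eˣ) : E) * (u.1 : E) - 1 =
    ((v.1⁻¹ : Eˣ) : E) * (((u.1 : Eˣ) : E) - ((v.1 : Eˣ) : E)) by rw [mul_sub, Units.inv_mul]]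
  exact M.mul_mem_left _ huv'

theorem card_atom (h2 : IsUnit (2 : E)) {y : E} (hy : IsUnit y) (hyτ : τ y = -y) (he0 : e ≠ 0) {n : ℕ}
    (hn : Nat.card {a : E // e * a = a} = n * n) :
    2 ≤ n ∧ (Nat.card ↥(normKer τ ⊓ unitsUnder e) = n + 1 ∨ Nat.card ↥(normKer τ ⊓ unitsUnder e) + 1 = n) := by
  classical
  obtain ⟨hh, hhh⟩ := h2.exists_right_inv
  obtain ⟨yi, hyi⟩ := hy.exists_right_inv
  have hτhh : τ hh = hh := by
    have h := congrArg τ hhh
    rw [map_mul, map_ofNat, map_one] at h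
    linear_combination hh * h - τ hh * hhh
  have hτyi : τ yi = -yi := by
    have h := congrArg τ hyi
    rw [map_mul, hyτ, map_one] at h
    linear_combination (-yi) * h - τ yi * hyi
  -- the fixed part
  have hin : ∀ a : {a : E // e * a = a}, (e * (hh * (a.1 + τ a.1)) = hh * (a.1 + τ a.1) ∧
      τ (hh * (a.1 + τ a.1)) = hh * (a.1 + τ a.1)) ∧
      (e * (yi * hh * (a.1 - τ a.1)) = yi * hh * (a.1 - τ a.1) ∧
      τ (yi * hh * (a.1 - τ a.1)) = yi * hh * (a.1 - τ a.1)) := fun a => by
    have h : e * τ a.1 = τ a.1 := by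
      have := congrArg τ a.2
      rwa [map_mul, hτe] at this
    refine ⟨⟨?_, ?_⟩, ?_, ?_⟩
    · linear_combination hh * a.2 + hh * h
    · rw [map_mul, map_add, hτ, hτhh, add_comm]
    · linear_combination yi * hh * a.2 - yi * hh * h
    · rw [map_mul, map_mul, map_sub, hτ, hτhh, hτyi]; ring
  have hfix : Nat.card {a : E // e * a = a ∧ τ a = a} = n := by
    refine Nat.mul_self_inj.1 ?_
    rw [← hn, ← Nat.card_prod]
    have hout : ∀ bc : {a : E // e * a = a ∧ τ a = a} × {a : E // e * a = a ∧ τ a = a},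
        e * (bc.1.1 + y * bc.2.1) = bc.1.1 + y * bc.2.1 := fun bc => by
      rw [mul_add, mul_left_comm, bc.1.2.1, bc.2.2.1]
    refine (Nat.card_congr
      { toFun := fun a => (⟨hh * (a.1 + τ a.1), (hin a).1⟩, ⟨yi * hh * (a.1 - τ a.1), (hin a).2⟩)
        invFun := fun bc => ⟨bc.1.1 + y * bc.2.1, hout bc⟩
        left_inv := fun a => Subtype.ext (by
          show hh * (a.1 + τ a.1) + y * (yi * hh * (a.1 - τ a.1)) = a.1
          linear_combination hh * (a.1 - τ a.1) * hyi + a.1 * hhh)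
        right_inv := fun bc => by
          obtain ⟨⟨b, hb, hb'⟩, ⟨c, hc, hc'⟩⟩ := bc
          refine Prod.ext (Subtype.ext ?_) (Subtype.ext ?_)
          · show hh * (b + y * c + τ (b + y * c)) = b
            rw [map_add, map_mul, hb', hc', hyτ]
            linear_combination b * hhh
          · show yi * hh * (b + y * c - τ (b + y * c)) = c
            rw [map_add, map_mul, hb', hc', hyτ]
            linear_combination c * (2 * hh) * hyi + c * hhh }).symm
  have hfix' := card_nonzero (fun a : E => e * a = a ∧ τ a = a) ⟨mul_zero e, map_zero τ⟩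
  rw [hfix] at hfix'
  have hn2 : 2 ≤ n := by
    haveI : Nonempty {a : E // (e * a = a ∧ τ a = a) ∧ a ≠ 0} := ⟨⟨e, ⟨hee, hτe⟩, he0⟩⟩
    have : 0 < Nat.card {a : E // (e * a = a ∧ τ a = a) ∧ a ≠ 0} := Nat.card_pos
    omega
  refine ⟨hn2, ?_⟩
  -- the norm on the units below e
  let U := unitsUnder e
  let N : U →* Eˣ := MonoidHom.mk' (fun t => Units.map (τ : E →+* E).toMonoidHom t.1 * t.1) fun a b => by
    rw [Subgroup.coe_mul, map_mul]; exact mul_mul_mul_comm _ _ _ _
  have hkerN : Nat.card N.ker = Nat.card ↥(normKer τ ⊓ U) := Nat.card_congr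
    { toFun := fun u => ⟨u.1.1, congrArg Units.val u.2, u.1.2⟩
      invFun := fun u => ⟨⟨u.1, u.2.2⟩, Units.ext u.2.1⟩
      left_inv := fun _ => rfl
      right_inv := fun _ => rfl }
  have hrange : Nat.card N.range = n - 1 := by
    rw [show n - 1 = Nat.card {a : E // (e * a = a ∧ τ a = a) ∧ a ≠ 0} by omega]
    refine Nat.card_eq_of_bijective (fun c => ⟨(c.1 : E) * e, ⟨by rw [mul_comm (c.1 : E), ← mul_assoc, hee], ?_⟩,
      fun h => he0 (c.1.isUnit.mul_right_eq_zero.1 h)⟩) ⟨?_, ?_⟩
    · obtain ⟨t, ht⟩ := c.2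
      rw [map_mul, hτe, ← ht]
      show τ (τ (t.1 : E) * t.1) * e = τ (t.1 : E) * t.1 * e
      rw [map_mul, hτ, mul_comm (t.1 : E)]
    · intro c c' h
      have h' : (c.1 : E) * e = (c'.1 : E) * e := congrArg Subtype.val h
      have hu : ∀ d : N.range, (d.1 : E) * (1 - e) = 1 - e := fun d => by
        obtain ⟨t, ht⟩ := d.2
        rw [← ht]
        show τ (t.1 : E) * t.1 * (1 - e) = 1 - e
        have h1 : (t.1 : E) * (1 - e) = 1 - e := t.2
        have h2 := congrArg τ h1
        rw [map_mul, map_sub, map_one, hτe] at h2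
        linear_combination τ (t.1 : E) * h1 + h2
      exact Subtype.ext (Units.ext (by linear_combination h' + hu c - hu c'))
    · rintro ⟨a, ⟨ha, hτa⟩, ha0⟩
      obtain ⟨z, hz⟩ := fixed_invertible τ hτ hτe hmin ha hτa ha0
      obtain ⟨t, ht, htc⟩ := exists_norm_eq τ hτ h2 hy hyτ (c := a + (1 - e))
        (IsUnit.of_mul_eq_one (e * z + (1 - e)) (by linear_combination e * hz + (2 - z) * hee - ha))
        (by rw [map_add, map_sub, map_one, hτe, hτa])
      obtain ⟨t, rfl⟩ := ht
      let t' : Eˣ := ⟨(t : E) * e + (1 - e), ((t⁻¹ : Eˣ) : E) * e + (1 - e),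
        by linear_combination (e * e) * t.mul_inv + (2 - (t : E) - ((t⁻¹ : Eˣ) : E)) * hee,
        by linear_combination (e * e) * t.mul_inv + (2 - (t : E) - ((t⁻¹ : Eˣ) : E)) * hee⟩
      refine ⟨⟨_, ⟨⟨t', show ((t : E) * e + (1 - e)) * (1 - e) = 1 - e by linear_combination (1 - (t : E)) * hee⟩,
        rfl⟩⟩, Subtype.ext ?_⟩
      show τ ((t : E) * e + (1 - e)) * ((t : E) * e + (1 - e)) * e = a
      rw [map_add, map_sub, map_one, map_mul, hτe]
      linear_combination e * e * e * htc + (e * e + e + 1) * ha - (e * e + (τ (t : E) + (t : E)) * e + 1 - e) * hee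
  have hmul := Subgroup.card_mul_index N.ker
  rw [Subgroup.index_ker, hrange, hkerN, card_unitsUnder hee] at hmul
  set L := Nat.card ↥(normKer τ ⊓ U)
  by_cases hall : ∀ a, e * a = a → a ≠ 0 → ∃ z, a * z = e
  · left
    have h := card_nonzero (fun a : E => e * a = a) (mul_zero e)
    rw [hn, Nat.card_congr (Equiv.subtypeEquivRight fun a => (show (e * a = a ∧ a ≠ 0) ↔ e * a = a ∧ ∃ z, a * z = e from
      ⟨fun h => ⟨h.1, hall a h.1 h.2⟩, fun ⟨h, z, hz⟩ => ⟨h, fun h0 => he0 (by rw [← hz, h0, zero_mul])⟩⟩)), ← hmul] at h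
    obtain ⟨i, rfl⟩ : ∃ i, n = i + 1 := ⟨n - 1, by omega⟩
    rw [Nat.add_sub_cancel] at h
    nlinarith
  right
  push Not at hall
  obtain ⟨a₀, ha₀, ha₀0, hnu⟩ := hall
  obtain ⟨p, z, hpp, hep, -, haz, hp0, hp⟩ := atom_piece τ hτ hτe hmin ha₀ ha₀0
  rcases hp with rfl | ⟨hp, hsum⟩
  · exact absurd haz (hnu z)
  have hτp : τ p * τ p = τ p := by rw [← map_mul, hpp]
  have heτ : e * τ p = τ p := by
    have := congrArg τ hep
    rwa [map_mul, hτe] at this
  have hfield : ∀ b, p * b = b → b ≠ 0 → ∃ z, b * z = p := fun b hb hb0 => by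
    obtain ⟨p', z', hpp', -, hbp', hbz', hp'0, hp'⟩ := atom_piece τ hτ hτe hmin
      (show e * b = b by rw [← hb, ← mul_assoc, hep]) hb0
    have hp'p : p * p' = p' := by rw [← hbz', ← mul_assoc, hb]
    rcases hp' with rfl | ⟨-, hsum'⟩
    · exfalso
      have h : p = p' := by rw [← hp'p, mul_comm]; exact hep.symm
      exact hp0 (by rw [h] at hp; rw [hτe, hpp'] at hp; exact absurd hp he0)
    · refine ⟨z', ?_⟩
      have h3 : p * τ p' = 0 := by
        have h4 := congrArg τ hp'p
        rw [map_mul] at h4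
        rw [← h4, ← mul_assoc, hp, zero_mul]
      rw [hbz']
      linear_combination p * hsum' + hep - h3 - hp'p
  have hp' := card_nonzero (fun b : E => p * b = b) (mul_zero p)
  have hq' := card_nonzero (fun b : E => τ p * b = b) (mul_zero (τ p))
  have hPpq : Nat.card {b : E // p * b = b} = Nat.card {b : E // τ p * b = b} := Nat.card_congr
    { toFun := fun a => ⟨τ a.1, by rw [← map_mul, a.2]⟩
      invFun := fun a => ⟨τ a.1, by
        have := congrArg τ a.2
        rwa [map_mul, hτ] at this⟩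
      left_inv := fun a => Subtype.ext (hτ _)
      right_inv := fun a => Subtype.ext (hτ _) }
  have hsplit : Nat.card {a : E // e * a = a} =
      Nat.card {b : E // p * b = b} * Nat.card {b : E // τ p * b = b} := by
    rw [← Nat.card_prod]
    exact Nat.card_congr
      { toFun := fun a => (⟨p * a.1, by rw [← mul_assoc, hpp]⟩, ⟨τ p * a.1, by rw [← mul_assoc, hτp]⟩)
        invFun := fun bc => ⟨bc.1.1 + bc.2.1, by
          linear_combination (1 - e) * bc.1.2 + (1 - e) * bc.2.2 + bc.1.1 * hep + bc.2.1 * heτ⟩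
        left_inv := fun a => Subtype.ext (by
          show p * a.1 + τ p * a.1 = a.1
          rw [← add_mul, hsum, a.2])
        right_inv := fun bc => by
          refine Prod.ext (Subtype.ext ?_) (Subtype.ext ?_)
          · show p * (bc.1.1 + bc.2.1) = bc.1.1
            linear_combination bc.1.2 - p * bc.2.2 + bc.2.1 * hp
          · show τ p * (bc.1.1 + bc.2.1) = bc.2.1
            linear_combination bc.2.2 - τ p * bc.1.2 + bc.1.1 * hp }
  rw [hn, ← hPpq] at hsplit
  have hPn : Nat.card {b : E // p * b = b} = n := (Nat.mul_self_inj.1 hsplit).symm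
  have hUE : Nat.card {a : E // e * a = a ∧ ∃ z, a * z = e} =
      Nat.card {b : E // p * b = b ∧ b ≠ 0} * Nat.card {b : E // τ p * b = b ∧ b ≠ 0} := by
    rw [← Nat.card_prod]
    refine Nat.card_congr
      { toFun := fun a => (⟨p * a.1, by rw [← mul_assoc, hpp], fun h => ?_⟩,
          ⟨τ p * a.1, by rw [← mul_assoc, hτp], fun h => ?_⟩)
        invFun := fun bc => ⟨bc.1.1 + bc.2.1, by
          linear_combination (1 - e) * bc.1.2.1 + (1 - e) * bc.2.2.1 + bc.1.1 * hep + bc.2.1 * heτ, ?_⟩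
        left_inv := fun a => Subtype.ext (by
          show p * a.1 + τ p * a.1 = a.1
          rw [← add_mul, hsum, a.2.1])
        right_inv := fun bc => by
          refine Prod.ext (Subtype.ext ?_) (Subtype.ext ?_)
          · show p * (bc.1.1 + bc.2.1) = bc.1.1
            linear_combination bc.1.2.1 - p * bc.2.2.1 + bc.2.1 * hp
          · show τ p * (bc.1.1 + bc.2.1) = bc.2.1
            linear_combination bc.2.2.1 - τ p * bc.1.2.1 + bc.1.1 * hp }
    · obtain ⟨z', hz'⟩ := a.2.2
      exact hp0 (by rw [← hep, mul_comm, ← hz', ← mul_assoc, h, zero_mul])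
    · obtain ⟨z', hz'⟩ := a.2.2
      refine hp0 (τ.injective (?_ : τ p = τ 0))
      rw [map_zero, ← heτ, mul_comm, ← hz', ← mul_assoc, h, zero_mul]
    · obtain ⟨z1, hz1⟩ := hfield bc.1.1 bc.1.2.1 bc.1.2.2
      have hb := congrArg τ bc.2.2.1
      rw [map_mul, hτ] at hb
      obtain ⟨z2, hz2⟩ := hfield (τ bc.2.1) hb fun h => bc.2.2.2 (τ.injective (h.trans (map_zero τ).symm))
      have hz2' : bc.2.1 * τ z2 = τ p := by
        have h := congrArg τ hz2
        rwa [map_mul, hτ] at h
      refine ⟨p * z1 + τ p * τ z2, ?_⟩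
      linear_combination p * hz1 + τ p * hz2' - (p * z1) * bc.2.2.1 + (bc.2.1 * z1) * hp -
        (τ p * τ z2) * bc.1.2.1 + (bc.1.1 * τ z2) * hp + hpp + hτp + hsum
  rw [hPn] at hp'
  rw [← hPpq, hPn] at hq'
  rw [hUE, show Nat.card {b : E // p * b = b ∧ b ≠ 0} = n - 1 by omega,
    show Nat.card {b : E // τ p * b = b ∧ b ≠ 0} = n - 1 by omega] at hmul
  have := Nat.eq_of_mul_eq_mul_right (show 0 < n - 1 by omega) hmul
  omega

end Cfsg.Agent.AutPOmega
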