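import Cfsg.Agent.AutPOmega.Subfield
import Cfsg.Agent.Classical.OrthPOmega
import Cfsg.Agent.LocalBalance.Core

/-!
Local balance for standard field automorphisms of orthogonal groups: the witness subgroup over the fixed field.
-/

set_option autoImplicit false

namespace Cfsg.Agent.AutPOmega

open Module QuadraticMap Classical.Quad Matrix

section One

variable {ι : Type} [Fintype ι] [DecidableEq ι] {F : Type*} [Field F] [Finite F] {Q : QuadraticForm F (ι → F)}

theorem conj_swap (y : MulAut (Cfsg.POmega F ⇑Q)) (k : Cfsg.POmega F ⇑Q) :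
    y * MulAut.conj k = MulAut.conj (y k) * y := MulEquiv.ext fun t => by
  simp [MulAut.conj_apply, MulAut.mul_apply]

theorem not_nilpotent (hc : Ctx Q) : ¬ Group.IsNilpotent (Cfsg.POmega F ⇑Q) := by
  have := isSimpleGroup_pomega hc.nondeg (by rw [finrank_fintype_fun_eq_card]; have := hc.seven; omega)
  intro hn
  haveI := hn
  refine Group.IsNilpotent.center_ne_bot (G := Cfsg.POmega F ⇑Q) ((Subgroup.eq_bot_iff_forall _).2 fun k hk => ?_)
  exact conj_injective hc (by
    rw [map_one]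
    exact MulEquiv.ext fun t => by
      rw [MulAut.conj_apply, MulAut.one_apply, ← Subgroup.mem_center_iff.1 hk t, mul_inv_cancel_right])

/-- The square of an isometry lies in Omega. -/
theorem sq_mem_omega (hc : Ctx Q) (g : Cfsg.isometryGroup F ⇑Q) : g * g ∈ Cfsg.Omega F ⇑Q := by
  rw [mem_omega_iff, map_mul, ← Abelianization.ker_of, MonoidHom.mem_ker, map_mul]
  have hmem : oEquiv Q g ∈ Subgroup.closure (reflSet Q) := by
    rw [closure_reflSet hc.nondeg (Or.inr (by rw [finrank_fintype_fun_eq_card]; have := hc.seven; omega))]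
    trivial
  generalize oEquiv Q g = x at hmem ⊢
  induction hmem using Subgroup.closure_induction with
  | mem x hx =>
    obtain ⟨v, hv, rfl⟩ := hx
    exact of_rO_self hv
  | one => rw [map_one, mul_one]
  | mul x y _ _ hx hy => rw [map_mul, mul_mul_mul_comm, hx, hy, mul_one]
  | inv x _ hx => rw [map_inv, ← _root_.mul_inv_rev, hx, inv_one]

/-- In odd characteristic POmega has even order. -/
theorem two_dvd_card (hc : Ctx Q) (h2 : (2 : F) ≠ 0) : 2 ∣ Nat.card (Cfsg.POmega F ⇑Q) := by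
  obtain ⟨A, B, hp, ho⟩ := hc.pairs
  let a : Fin 3 → ι → F := ![A 0, A 1, A 2]
  let b : Fin 3 → ι → F := ![A 1, -A 0, A 2]
  have hli : ∀ {x : Fin 3 → ι → F} {y : Fin 3 → ι → F}, (∀ i j, i ≠ j → polar (⇑Q) (x i) (y j) = 0) →
      (∀ i, polar (⇑Q) (x i) (y i) ≠ 0) → LinearIndependent F x := fun {x y} h1 h3 => by
    refine Fintype.linearIndependent_iff.2 fun c hc' j => ?_
    have h4 := congrArg (fun z => polarBilin Q z (y j)) hc'
    simp only [map_sum, map_smul, LinearMap.sum_apply, LinearMap.smul_apply, map_zero, LinearMap.zero_apply,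
      QuadraticMap.polarBilin_apply_apply] at h4
    rw [Finset.sum_eq_single j (fun i _ hij => by rw [h1 i j hij, smul_zero])
      (fun h => absurd (Finset.mem_univ j) h), smul_eq_mul] at h4
    exact (mul_eq_zero.1 h4).resolve_right (h3 j)
  have o01 := ho 0 1 (by decide)
  have o10 := ho 1 0 (by decide)
  have o02 := ho 0 2 (by decide)
  have o20 := ho 2 0 (by decide)
  have o12 := ho 1 2 (by decide)
  have o21 := ho 2 1 (by decide)
  obtain ⟨g, hg, hgi⟩ := witt_family hc.nondeg 3 a b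
    (hli (y := ![B 0, B 1, B 2]) (fun i j h => by
        fin_cases i <;> fin_cases j <;> simp [a, o01.2.1, o10.2.1, o02.2.1, o20.2.1, o12.2.1, o21.2.1] at h ⊢)
      (fun i => by fin_cases i <;> simp [a, (hp 0).hab, (hp 1).hab, (hp 2).hab]))
    (hli (y := ![B 1, -B 0, B 2]) (fun i j h => by
        fin_cases i <;> fin_cases j <;>
          simp [b, o01.2.1, o10.2.1, o02.2.1, o20.2.1, o12.2.1, o21.2.1] at h ⊢)
      (fun i => by fin_cases i <;> simp [b, (hp 0).hab, (hp 1).hab, (hp 2).hab]))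
    (fun i => by fin_cases i <;> simp [a, b, (hp 0).ha, (hp 1).ha, (hp 2).ha])
    (fun i j => by
      fin_cases i <;> fin_cases j <;>
        simp [a, b, (hp 0).ha, (hp 0).aa, (hp 1).aa, (hp 2).aa, o01.1, o10.1, o02.1, o20.1, o12.1, o21.1])
  let G : Cfsg.isometryGroup F ⇑Q := (oEquiv Q).symm ⟨g, hg⟩
  let s : Om Q := ⟨G * G, sq_mem_omega hc G⟩
  have hs : ∀ v, mat s *ᵥ v = g (g v) := fun v => by
    show (G.1.1 * G.1.1) *ᵥ v = _
    rw [← Matrix.mulVec_mulVec, ← oEquiv_apply, ← oEquiv_apply, MulEquiv.apply_symm_apply]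
  have hs0 : mat s *ᵥ A 0 = -A 0 := by
    rw [hs, show g (A 0) = A 1 from hgi 0, show g (A 1) = -A 0 from hgi 1]
  have hs2 : mat s *ᵥ A 2 = A 2 := by
    rw [hs, show g (A 2) = A 2 from hgi 2, show g (A 2) = A 2 from hgi 2]
  have hpow : ∀ k : ℕ, mat (s ^ k) *ᵥ A 0 = (-1 : F) ^ k • A 0 ∧ mat (s ^ k) *ᵥ A 2 = A 2 := fun k => by
    induction k with
    | zero => rw [pow_zero, pow_zero, one_smul]; exact ⟨mat_one_mulVec _, mat_one_mulVec _⟩
    | succ k ih =>
      rw [pow_succ s k, mat_mul_mulVec, mat_mul_mulVec, hs0, hs2, Matrix.mulVec_neg, ih.1, ih.2, pow_succ,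
        mul_neg_one, neg_smul]
      exact ⟨rfl, rfl⟩
  by_contra hodd
  haveI : Finite (Cfsg.POmega F ⇑Q) := inferInstance
  set n := Nat.card (Cfsg.POmega F ⇑Q)
  have h1 : mkO s ^ n = 1 := pow_card_eq_one'
  rw [← map_pow, mkO_eq_one_iff] at h1
  obtain ⟨c, hc'⟩ := center_scalar hc h1
  have e0 := (hpow n).1
  have e2 := (hpow n).2
  rw [hc', (Nat.not_even_iff_odd.1 fun h => hodd h.two_dvd).neg_one_pow] at e0
  rw [hc'] at e2
  have hc1 : c = 1 := smul_left_injective F (hp 2).a_ne (e2.trans (one_smul F (A 2)).symm)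
  have hcn : c = -1 := smul_left_injective F (hp 0).a_ne e0
  exact h2 (by linear_combination hcn.symm.trans hc1 |>.symm)

end One

variable {ι : Type} [Fintype ι] [DecidableEq ι] {F F₀ : Type*} [Field F] [Field F₀] [Finite F] [Finite F₀]
  {Q : QuadraticForm F (ι → F)} {Q₀ : QuadraticForm F₀ (ι → F₀)} {i : F₀ →+* F}

/-- Omega over the subfield. -/
def mapOm (hQ : ∀ v : ι → F₀, Q (fun j => i (v j)) = i (Q₀ v)) : Om Q₀ →* Om Q :=
  ((mapI hQ).comp (Cfsg.Omega F₀ ⇑Q₀).subtype).codRestrict _ fun s => by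
    have h : (commutator (Cfsg.isometryGroup F₀ ⇑Q₀)).map (mapI hQ) ≤ commutator (Cfsg.isometryGroup F ⇑Q) := by
      rw [commutator_def, commutator_def, Subgroup.map_commutator]
      exact Subgroup.commutator_mono le_top le_top
    exact h ⟨s.1, s.2, rfl⟩

variable (hQ : ∀ v : ι → F₀, Q (fun j => i (v j)) = i (Q₀ v))
include hQ

omit [Finite F] [Finite F₀] in
theorem mat_mapOm (s : Om Q₀) : mat (mapOm hQ s) = (mat s).map i := rfl

theorem mapOm_sg (hc : Ctx Q) (hc₀ : Ctx Q₀) {e w : ι → F₀} (h : IsSg Q₀ e w) :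
    mapOm hQ (sg Q₀ e w) = sg Q (fun j => i (e j)) (fun j => i (w j)) := by
  have hs : IsSg Q (fun j => i (e j)) (fun j => i (w j)) :=
    ⟨by rw [hQ, h.1, map_zero], by rw [polar_map_sub hQ, h.2, map_zero]⟩
  refine Subtype.ext (Subtype.ext (Units.ext (Matrix.ext_of_mulVec_single fun l => ?_)))
  show mat (mapOm hQ (sg Q₀ e w)) *ᵥ _ = mat (sg Q _ _) *ᵥ _
  have e1 : (Pi.single l 1 : ι → F) = fun j => i ((Pi.single l 1 : ι → F₀) j) := by
    funext j
    by_cases hj : j = l <;> simp [hj]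
  rw [mat_mapOm, e1, mulVec_map_apply, sg_mulVec hc₀ h, sg_mulVec hc hs]
  funext j
  simp [sgMap, hQ, polar_map_sub hQ]

/-- A semisimilarity fixing the subfield root elements is a power of the field automorphism. -/
theorem eq_ofGal_of_fix (hc : Ctx Q) (hc₀ : Ctx Q₀) (T : Semi Q)
    (h : ∀ s : Om Q₀, T.aut (mkO (mapOm hQ s)) = mkO (mapOm hQ s)) :
    ∃ a : F, a ≠ 0 ∧ (∀ c, T.σ (i c) = i c) ∧ ∀ v, T.app v = a • fun j => T.σ (v j) := by
  have := Fintype.ofFinite F
  obtain ⟨p, hp⟩ := CharP.exists F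
  have := Fact.mk (CharP.char_is_prime F p)
  have hinj : ∀ {e : ι → F₀}, e ≠ 0 → (fun j => i (e j)) ≠ 0 := fun he h0 => he (funext fun j => i.injective
    ((congrFun h0 j).trans (map_zero i).symm))
  have hind : ∀ {e v : ι → F₀}, Pr Q₀ e v → LinearIndependent F ![fun j => i (e j), fun j => i (v j)] :=
    fun {e v} hp' => by
      refine (LinearIndependent.pair_iff' (hinj hp'.e_ne)).2 fun c hcv => ?_
      have hv : v ∉ Submodule.span F₀ {e} := fun hm => by
        obtain ⟨d, hd⟩ := Submodule.mem_span_singleton.1 hm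
        exact one_ne_zero (hp'.indep (s := -d) (t := 1) (by rw [one_smul, neg_smul, hd, neg_add_cancel])).2
      obtain ⟨z, hz, hzv⟩ := exists_perp hc₀.nondeg hv
      have h1 := congrArg (fun x => polar (⇑Q) x (fun j => i (z j))) hcv
      simp only [polar_smul_left, polar_map_sub hQ, hz e (Submodule.mem_span_singleton_self e), map_zero,
        smul_zero, hzv, map_one] at h1
      exact one_ne_zero h1.symm
  have hln : ∀ {e v : ι → F₀}, Pr Q₀ e v → T.app (fun j => i (e j)) ∈ ln (fun j => i (e j)) (fun j => i (v j)) :=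
    fun {e v} hp' => by
      have h0 : IsSg Q₀ e v := ⟨hp'.he, hp'.hev⟩
      have hs : IsSg Q (fun j => i (e j)) (fun j => i (v j)) :=
        ⟨by rw [hQ, h0.1, map_zero], by rw [polar_map_sub hQ, h0.2, map_zero]⟩
      have hT : IsSg Q (T.app fun j => i (e j)) (T.c⁻¹ • T.app fun j => i (v j)) :=
        ⟨by rw [T.Q_app, hs.1, map_zero, mul_zero],
          by rw [polar_smul_right, T.polar_app, hs.2, map_zero, mul_zero, smul_zero]⟩
      have h1 := h (sg Q₀ e v)
      rw [mapOm_sg hQ hc hc₀ h0, T.aut_mkO, T.omAut_sg hc hs] at h1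
      refine sg_eq_ln hc hT (LinearIndependent.pair_iff.2 fun s t hst => ?_) hs
        (eq_of_mkO_eq hc p (sg_pow hc p hT) (sg_pow hc p hs) h1) (left_mem_ln _ _)
      rw [smul_smul, ← T.σ.apply_symm_apply s, ← T.σ.apply_symm_apply (t * T.c⁻¹), ← T.app_smul, ← T.app_smul,
        ← T.app_add, ← T.app_zero] at hst
      have h3 := LinearIndependent.pair_iff.1 (hind hp') _ _ (T.app_injective hst)
      exact ⟨by simpa using congrArg T.σ h3.1, by simpa [T.c_ne] using congrArg T.σ h3.2⟩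
  have hpt : ∀ e, e ≠ 0 → Q₀ e = 0 → ∃ a : F, T.app (fun j => i (e j)) = a • fun j => i (e j) := fun e he0 he => by
    obtain ⟨u, v, hu, hv, huv, -⟩ := exists_two_lines hc₀ he0 he
    obtain ⟨s, t, h1⟩ := mem_ln.1 (hln hu)
    obtain ⟨s', t', h2⟩ := mem_ln.1 (hln hv)
    have h3 := congrArg (fun x => polar (⇑Q) x (fun j => i (u j))) (h1.trans h2.symm)
    simp [polar_add_left, polar_smul_left, polar_map_sub hQ, hu.hev, polar_singular hu.hv,
      polar_comm (⇑Q₀) v u, huv] at h3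
    exact ⟨s', by rw [← h2, ← h3, zero_smul, add_zero]⟩
  have hadj : ∀ {e v : ι → F₀} {a d : F}, Pr Q₀ e v → T.app (fun j => i (e j)) = a • (fun j => i (e j)) →
      T.app (fun j => i (v j)) = d • (fun j => i (v j)) → a = d := fun {e v a d} hp' h1 h2 => by
    have hne : e + v ≠ 0 := fun h0 => one_ne_zero (hp'.indep (s := 1) (t := 1) (by simpa using h0)).1
    obtain ⟨r, hr⟩ := hpt _ hne (hp'.singular (add_mem (left_mem_ln e v) (right_mem_ln e v)))
    have e1 : (fun j => i ((e + v) j)) = (fun j => i (e j)) + fun j => i (v j) := by funext j; simp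
    rw [e1, T.app_add, h1, h2, smul_add] at hr
    have := LinearIndependent.pair_iff.1 (hind hp') (a - r) (d - r)
      (by rw [sub_smul, sub_smul]; linear_combination (norm := module) hr)
    rw [sub_eq_zero.1 this.1, sub_eq_zero.1 this.2]
  obtain ⟨A, B, hp', -⟩ := hc₀.pairs
  obtain ⟨a, ha⟩ := hpt _ (hp' 0).a_ne (hp' 0).ha
  have ha0 : a ≠ 0 := fun h0 => hinj (hp' 0).a_ne (T.app_injective (by rw [ha, h0, zero_smul, T.app_zero]))
  have hall : ∀ x, Q₀ x = 0 → T.app (fun j => i (x j)) = a • fun j => i (x j) := fun x hx => by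
    rcases eq_or_ne x 0 with rfl | hx0
    · have : (fun j => i ((0 : ι → F₀) j)) = 0 := by funext j; simp
      rw [this, T.app_zero, smul_zero]
    obtain ⟨d, hd⟩ := hpt x hx0 hx
    obtain ⟨w, hw1, hw2⟩ := exists_nbr hc₀ (hp' 0).a_ne (hp' 0).ha hx0 hx
    obtain ⟨r, hr⟩ := hpt w hw1.v_ne hw1.hv
    rw [hd, hadj hw1 ha hr, hadj hw2 hd hr]
  have hσ : ∀ c, T.σ (i c) = i c := fun c => by
    have h1 := hall (c • A 0) (by rw [Classical.Quad.map_smul', (hp' 0).ha, mul_zero])
    have e1 : (fun j => i ((c • A 0) j)) = i c • fun j => i (A 0 j) := by funext j; simp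
    rw [e1, T.app_smul, ha, smul_smul, smul_smul] at h1
    exact mul_right_cancel₀ ha0 ((smul_left_injective F (hinj (hp' 0).a_ne) h1).trans (mul_comm _ _))
  have hlin : ∀ x : ι → F₀, T.app (fun j => i (x j)) = a • fun j => i (x j) := fun x =>
    singular_induction (U := ⊤) (hp' 0) trivial trivial (P := fun x => T.app (fun j => i (x j)) = a • fun j => i (x j))
      (fun x _ y _ hx hy => by
        have e1 : (fun j => i ((x + y) j)) = (fun j => i (x j)) + fun j => i (y j) := by funext j; simp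
        rw [e1, T.app_add, hx, hy, smul_add])
      (fun x _ hx => hall x hx) trivial
  refine ⟨a, ha0, hσ, fun v => ?_⟩
  have hg : T.g.1 = a • (1 : Matrix ι ι F) := Matrix.ext_of_mulVec_single fun l => by
    have e1 : (Pi.single l 1 : ι → F) = fun j => i ((Pi.single l 1 : ι → F₀) j) := by
      funext j
      by_cases hj : j = l <;> simp [hj]
    have h1 := hlin (Pi.single l 1)
    simp only [Semi.app, hσ] at h1
    rw [e1, h1, Matrix.smul_mulVec, Matrix.one_mulVec]
  rw [Semi.app, hg, Matrix.smul_mulVec, Matrix.one_mulVec]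

/-- The witness for a standard field automorphism. -/
theorem witness_field (hc : Ctx Q) (hc₀ : Ctx Q₀) {σ : F ≃+* F} (hσ : ∀ v, Q (fun j => σ (v j)) = σ (Q v))
    (hi : ∀ x : F, σ x = x ↔ x ∈ i.range) {p : ℕ} (hp : p.Prime) (hp2 : p = 2 → (2 : F₀) ≠ 0)
    (hdvd : p ∣ Nat.card ↥(LocalBalance.innR (Cfsg.POmega F ⇑Q) ⊓ Subgroup.centralizer {(Semi.ofGal σ hσ).aut})) :
    LocalBalance.Witness p (Semi.ofGal σ hσ).aut := by
  classical
  haveI := Fact.mk hp
  haveI := LocalBalance.finite_mulAut (K := Cfsg.POmega F ⇑Q)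
  let ψ : Om Q₀ →* MulAut (Cfsg.POmega F ⇑Q) := (MulAut.conj : _ →* MulAut (Cfsg.POmega F ⇑Q)).comp
    (mkO.comp (mapOm hQ))
  have hψ : ∀ s : Om Q₀, ψ s = conjA (mapGO hQ (omToSim s)) := fun s => by
    show MulAut.conj (mkO (mapOm hQ s)) = _
    rw [← conjA_omToSim]
    exact congrArg conjA (Subtype.ext rfl)
  have hcent := centralizer_std hQ hc hc₀ hσ hi
  have hY : ∀ y, y ∈ LocalBalance.innR (Cfsg.POmega F ⇑Q) → y * (Semi.ofGal σ hσ).aut = (Semi.ofGal σ hσ).aut * y →
      ∃ g, y = conjA (mapGO hQ g) := fun y hy hyc => by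
    have h1 : y ∈ (conjA (Q := Q)).range ⊓ Subgroup.centralizer {(Semi.ofGal σ hσ).aut} :=
      Subgroup.mem_inf.2 ⟨inn_le_pgo hy, Subgroup.mem_centralizer_singleton_iff.2 hyc⟩
    rw [hcent] at h1
    obtain ⟨_, ⟨g, rfl⟩, rfl⟩ := h1
    exact ⟨g, rfl⟩
  refine ⟨ψ.range, ?_, ?_, ?_, ?_, ?_⟩
  · rintro _ ⟨s, rfl⟩
    exact ⟨mkO (mapOm hQ s), rfl⟩
  · rintro _ ⟨s, rfl⟩
    have h1 : ψ s ∈ (mapGO hQ).range.map conjA := ⟨_, ⟨omToSim s, rfl⟩, (hψ s).symm⟩
    rw [← hcent] at h1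
    exact (Subgroup.mem_inf.1 h1).2
  · rintro y hy hyc _ ⟨s, rfl⟩
    obtain ⟨g, rfl⟩ := hY y hy hyc
    refine ⟨(Semi.ofSim g).omAut s, ?_⟩
    have e : omToSim ((Semi.ofSim g).omAut s) = g * omToSim s * g⁻¹ := by
      refine Subtype.ext (Units.ext ?_)
      show mat ((Semi.ofSim g).omAut s) = g.1.1 * mat s * (g.1⁻¹).1
      rw [Semi.mat_omAut]
      rfl
    rw [hψ, hψ, e, map_mul, map_mul, map_mul, map_mul, map_inv, map_inv]
  · intro y hyc hyX
    obtain ⟨T, rfl⟩ := exists_semi hc y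
    have hfix : ∀ s : Om Q₀, T.aut (mkO (mapOm hQ s)) = mkO (mapOm hQ s) := fun s => by
      have h1 := hyX _ ⟨s, rfl⟩
      rw [show ψ s = MulAut.conj (mkO (mapOm hQ s)) from rfl, conj_swap, mul_left_inj] at h1
      exact conj_injective hc h1
    obtain ⟨a, ha, hτ, hTv⟩ := eq_ofGal_of_fix hQ hc hc₀ T hfix
    obtain ⟨k, hk⟩ := LocalBalance.mem_zpowers_of_fix (σ := σ) (τ := T.σ) fun x hx => by
      obtain ⟨c, rfl⟩ := (hi x).1 hx
      exact hτ c
    have hgal : ∀ z : ℤ, ∃ S : Semi Q, S.aut = (Semi.ofGal σ hσ).aut ^ z ∧ S.σ = σ ^ z ∧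
        ∀ v, S.app v = fun j => (σ ^ z) (v j) := fun z => by
      haveI : Finite (F ≃+* F) := Finite.of_injective (fun σ : F ≃+* F => (σ : F → F)) DFunLike.coe_injective
      obtain ⟨n, hn⟩ : ∃ n : ℕ, σ ^ n = σ ^ z :=
        ⟨_, (zpow_natCast σ _).symm.trans ((congrArg (σ ^ ·) (Int.toNat_of_nonneg (Int.emod_nonneg z
          (by exact_mod_cast (orderOf_pos σ).ne')))).trans (zpow_mod_orderOf σ z))⟩
      have happ : ∀ (n : ℕ) v, ((Semi.ofGal σ hσ).npow n).app v = fun j => (σ ^ n) (v j) := fun n => by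
        induction n with
        | zero =>
          intro v
          show (1 : GL ι F).1 *ᵥ _ = _
          rw [Units.val_one, Matrix.one_mulVec, pow_zero]
          rfl
        | succ n ih =>
          intro v
          rw [Semi.npow, Semi.app_comp, ih, Semi.ofGal_app, pow_succ']
          rfl
      refine ⟨(Semi.ofGal σ hσ).npow n, ?_, by rw [Semi.sigma_npow]; exact hn, fun v => by rw [happ, hn]⟩
      rw [Semi.aut_npow]
      have hord : (Semi.ofGal σ hσ).aut ^ orderOf σ = 1 := by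
        rw [← Semi.aut_npow]
        have h1 : ∀ v, ((Semi.ofGal σ hσ).npow (orderOf σ)).app v = v := fun v => by
          rw [happ, pow_orderOf_eq_one]; rfl
        refine autExt fun s => ?_
        rw [Semi.aut_mkO, MulAut.one_apply]
        refine congrArg mkO (((Semi.ofGal σ hσ).npow (orderOf σ)).omAut_ext fun v => ?_)
        rw [Semi.omAut_app, h1, h1]
      obtain ⟨d, hd⟩ : (orderOf σ : ℤ) ∣ z - n := by
        rw [orderOf_dvd_iff_zpow_eq_one, _root_.zpow_sub, zpow_natCast, ← hn, mul_inv_cancel]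
      rw [show z = (n : ℤ) + orderOf σ * d by omega, _root_.zpow_add, _root_.zpow_mul, zpow_natCast, zpow_natCast,
        hord, _root_.one_zpow, mul_one]
    obtain ⟨S, hS, hSσ, hSv⟩ := hgal k
    refine ⟨k, ?_⟩
    show (Semi.ofGal σ hσ).aut ^ k = T.aut
    rw [← hS]
    refine (Semi.aut_congr _ _ ha fun v => ?_).symm
    rw [hTv, hSv, ← show σ ^ k = T.σ from hk]
  · intro M hM hMn hMc
    have hker : ∀ s, ψ s = 1 ↔ mkO s = 1 := fun s => by
      rw [hψ, conjA_mapGO_eq_one hQ hc hc₀, conjA_omToSim]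
      exact ⟨fun h => conj_injective hc₀ (h.trans (map_one _).symm), fun h => by rw [h, map_one]⟩
    let ψb : Cfsg.POmega F₀ ⇑Q₀ →* MulAut (Cfsg.POmega F ⇑Q) := QuotientGroup.lift _ ψ fun s hs => by
      rw [MonoidHom.mem_ker, hker, mkO_eq_one_iff]; exact hs
    have hψb : Function.Injective ψb := (injective_iff_map_eq_one _).2 fun z hz => by
      obtain ⟨s, rfl⟩ := mkO_surjective z
      exact (hker s).1 hz
    have hr : ψb.range = ψ.range := by
      ext z
      exact ⟨fun ⟨u, hu⟩ => by obtain ⟨s, rfl⟩ := mkO_surjective u; exact ⟨s, hu⟩, fun ⟨s, hs⟩ => ⟨mkO s, hs⟩⟩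
    haveI := isSimpleGroup_pomega hc₀.nondeg (by rw [finrank_fintype_fun_eq_card]; have := hc₀.seven; omega)
    have hcard : Nat.card (Cfsg.POmega F₀ ⇑Q₀) = Nat.card ψ.range := by
      rw [← hr]; exact Nat.card_congr (MonoidHom.ofInjective hψb).toEquiv
    have hpX : p ∣ Nat.card (Cfsg.POmega F₀ ⇑Q₀) := by
      by_cases h2 : p = 2
      · subst h2; exact two_dvd_card hc₀ (hp2 rfl)
      obtain ⟨⟨y, hy⟩, hyp⟩ := exists_prime_orderOf_dvd_card' p hdvd
      rw [Subgroup.orderOf_mk] at hyp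
      obtain ⟨hyI, hyc⟩ := Subgroup.mem_inf.1 hy
      obtain ⟨g, hg⟩ := hY y hyI (Subgroup.mem_centralizer_singleton_iff.1 hyc)
      have hmem : g * g * scalarSim (mult hc₀ g)⁻¹ ∈ (mult hc₀).ker := by
        rw [MonoidHom.mem_ker, map_mul, map_mul, mult_scalarSim, pow_two, mul_mul_mul_comm, mul_inv_cancel, mul_one]
      rw [ker_mult hc₀] at hmem
      obtain ⟨h, hh⟩ := hmem
      have hy2 : conjA (mapGO hQ (isoToSim h)) = y * y := by
        have hsc : conjA (mapGO hQ (scalarSim (mult hc₀ g)⁻¹)) = 1 :=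
          (conjA_mapGO_eq_one hQ hc hc₀ _).2 (conjA_scalarSim hc₀ _)
        rw [hh, map_mul, map_mul, map_mul, map_mul, hsc, mul_one, hg]
      have hy4 : y ^ 4 ∈ ψ.range := by
        refine ⟨⟨h * h, sq_mem_omega hc₀ h⟩, ?_⟩
        rw [hψ, show omToSim (⟨h * h, sq_mem_omega hc₀ h⟩ : Om Q₀) = isoToSim h * isoToSim h from Subtype.ext rfl,
          map_mul, map_mul, hy2, ← pow_two, ← pow_two, ← pow_mul]
      have hyR : y ∈ ψ.range := by
        have hco : Nat.Coprime 4 (orderOf y) := by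
          rw [hyp]
          exact (Nat.Coprime.pow_left 2 ((Nat.coprime_primes Nat.prime_two hp).2 (Ne.symm h2)) : Nat.Coprime (2 ^ 2) p)
        obtain ⟨k, hk⟩ := exists_pow_eq_self_of_coprime hco
        rw [← hk]
        exact pow_mem hy4 _
      rw [hcard, ← hyp, ← Subgroup.orderOf_mk y hyR]
      exact orderOf_dvd_natCard _
    rw [← hr] at hM hMn
    exact LocalBalance.bot_of_simple_range hp ψb hψb hpX hM hMn hMc

end Cfsg.Agent.AutPOmega

namespace Cfsg.Agent.AutPOmega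

open Module QuadraticMap Classical.Quad Matrix

/-- The criterion for an automorphism conjugate to a standard field automorphism. -/
theorem balance_of_field {ι : Type} [Fintype ι] [DecidableEq ι] {F F₀ : Type*} [Field F] [Field F₀] [Finite F]
    [Finite F₀] {Q : QuadraticForm F (ι → F)} {Q₀ : QuadraticForm F₀ (ι → F₀)} {i : F₀ →+* F}
    (hQ : ∀ v : ι → F₀, Q (fun j => i (v j)) = i (Q₀ v)) (hc : Ctx Q) (hc₀ : Ctx Q₀) {σ : F ≃+* F}
    (hσ : ∀ v, Q (fun j => σ (v j)) = σ (Q v)) (hi : ∀ x : F, σ x = x ↔ x ∈ i.range) {p : ℕ} (hp : p.Prime)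
    (hp2 : p = 2 → (2 : F₀) ≠ 0) {x h : MulAut (Cfsg.POmega F ⇑Q)} (hx : x = h * (Semi.ofGal σ hσ).aut * h⁻¹)
    (hord : orderOf x = p) {A : Subgroup (MulAut (Cfsg.POmega F ⇑Q))}
    (hA : ∀ k : Cfsg.POmega F ⇑Q, MulAut.conj k ∈ A) :
    Cfsg.pPrimeCore p ↥(A ⊓ Subgroup.centralizer {x}) ≠ ⊥ ↔
      p.Coprime (Nat.card ↥(MonoidHom.eqLocus x.toMonoidHom (MonoidHom.id (Cfsg.POmega F ⇑Q)))) := by
  refine LocalBalance.core_ne_bot_iff_coprime (conj_injective hc) (not_nilpotent hc) hp hord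
    (by rintro _ ⟨k, rfl⟩; exact hA k) fun hd => ?_
  rw [hx, LocalBalance.card_fixed_conj] at hd
  rw [hx]
  exact (witness_field hQ hc hc₀ hσ hi hp hp2 hd).conj h

end Cfsg.Agent.AutPOmega
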