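import Mathlib

/-!
Determinants of linear maps whose square is a scalar.
-/

set_option autoImplicit false

namespace Cfsg.Agent.AutPOmega

open Module

universe u v

variable {F : Type u} [Field F] {V : Type v} [AddCommGroup V] [Module F V] [FiniteDimensional F V]

/-- A map whose square is a non-square scalar. -/
theorem det_of_sq_nonsquare {g : V →ₗ[F] V} {c : F} (hg : ∀ x, g (g x) = c • x) (hns : ¬ IsSquare c) {k : ℕ}
    (hk : finrank F V = 2 * k) : LinearMap.det g = (-c) ^ k := by
  classical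
  haveI : Fact (∀ r : F, r ^ 2 ≠ c + 0 * r) := ⟨fun r hr => hns ⟨r, by linear_combination -hr⟩⟩
  let φ : QuadraticAlgebra F c 0 →ₐ[F] Module.End F V := QuadraticAlgebra.lift ⟨g, LinearMap.ext fun x => by
    simp [hg, Module.End.mul_apply]⟩
  letI : Module (QuadraticAlgebra F c 0) V := Module.compHom V φ.toRingHom
  haveI : IsScalarTower F (QuadraticAlgebra F c 0) V := ⟨fun r z x => by
    show φ (r • z) x = r • φ z x
    rw [map_smul]
    rfl⟩
  haveI : Module.Finite (QuadraticAlgebra F c 0) V := Module.Finite.of_restrictScalars_finite F _ V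
  let f : V →ₗ[QuadraticAlgebra F c 0] V :=
    (⟨0, 1⟩ : QuadraticAlgebra F c 0) • (LinearMap.id : V →ₗ[QuadraticAlgebra F c 0] V)
  have hf : f.restrictScalars F = g := LinearMap.ext fun x => by
    show φ ⟨0, 1⟩ x = g x
    simp [φ, QuadraticAlgebra.lift]
  have hK : finrank F (QuadraticAlgebra F c 0) = 2 := QuadraticAlgebra.finrank_eq_two (R := F) c 0
  have hn : finrank (QuadraticAlgebra F c 0) V = k := by
    have h := Module.finrank_mul_finrank F (QuadraticAlgebra F c 0) V
    rw [hK, hk] at h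
    omega
  have hN : Algebra.norm F (⟨0, 1⟩ : QuadraticAlgebra F c 0) = -c := by
    rw [Algebra.norm_eq_matrix_det (QuadraticAlgebra.basis (R := F) (a := c) (b := 0)), Matrix.det_fin_two]
    simp [Algebra.leftMulMatrix_eq_repr_mul, QuadraticAlgebra.basis]
  rw [← hf, LinearMap.det_restrictScalars, LinearMap.det_smul, LinearMap.det_id, mul_one, hn, map_pow, hN]

/-- An involution: the determinant and the two eigenspaces. -/
theorem det_involution (h2 : (2 : F) ≠ 0) {g : V →ₗ[F] V} (hg : ∀ x, g (g x) = x) :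
    IsCompl (LinearMap.ker (g - LinearMap.id)) (LinearMap.ker (g + LinearMap.id)) ∧
      finrank F (LinearMap.ker (g - LinearMap.id)) + finrank F (LinearMap.ker (g + LinearMap.id)) = finrank F V ∧
      LinearMap.det g = (-1) ^ finrank F (LinearMap.ker (g + LinearMap.id)) := by
  set A := LinearMap.ker (g - LinearMap.id)
  set B := LinearMap.ker (g + LinearMap.id)
  have hA : ∀ x, x ∈ A ↔ g x = x := fun x => by simp [A, sub_eq_zero]
  have hB : ∀ x, x ∈ B ↔ g x = -x := fun x => by simp [B, add_eq_zero_iff_eq_neg]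
  have hc : IsCompl A B := by
    refine ⟨disjoint_iff_inf_le.2 fun x hx => ?_, codisjoint_iff_le_sup.2 fun x _ => ?_⟩
    · obtain ⟨h, h'⟩ := hx
      rw [SetLike.mem_coe, hA] at h
      rw [SetLike.mem_coe, hB, h, eq_neg_iff_add_eq_zero, ← two_smul F, smul_eq_zero] at h'
      exact (Submodule.mem_bot F).2 (h'.resolve_left h2)
    · refine Submodule.mem_sup.2 ⟨(2 : F)⁻¹ • (x + g x), (hA _).2 ?_, (2 : F)⁻¹ • (x - g x), (hB _).2 ?_, ?_⟩
      · rw [map_smul, map_add, hg, add_comm]
      · rw [map_smul, map_sub, hg, ← smul_neg, neg_sub]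
      · rw [← smul_add, show x + g x + (x - g x) = (2 : F) • x by rw [two_smul]; abel, smul_smul,
          inv_mul_cancel₀ h2, one_smul]
  refine ⟨hc, Submodule.finrank_add_eq_of_isCompl hc, ?_⟩
  let e := Submodule.prodEquivOfIsCompl A B hc
  have he : g = (e : A × B →ₗ[F] V) ∘ₗ ((LinearMap.id : A →ₗ[F] A).prodMap ((-1 : F) • (LinearMap.id : B →ₗ[F] B))) ∘ₗ
      (e.symm : V →ₗ[F] A × B) := LinearMap.ext fun x => by
    obtain ⟨⟨a, b⟩, rfl⟩ := e.surjective x
    simp [e, (hA _).1 a.2, (hB _).1 b.2]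
  conv_lhs => rw [he]
  rw [LinearMap.det_conj, LinearMap.det_prodMap, LinearMap.det_id, one_mul, LinearMap.det_smul, LinearMap.det_id,
    mul_one]

end Cfsg.Agent.AutPOmega
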