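import Cfsg.Agent.AutPOmega.Odd
import Cfsg.Agent.AutPOmega.Involution

/-!
Isometries commuting with a similarity whose square is scalar.
-/

set_option autoImplicit false

namespace Cfsg.Agent.AutPOmega

open Module QuadraticMap Classical.Quad Matrix

variable {ι : Type} [Fintype ι] [DecidableEq ι] {F : Type*} [Field F] [Finite F] {Q : QuadraticForm F (ι → F)}
  (hQ : (polarBilin Q).Nondegenerate) (h2 : (2 : F) ≠ 0)

omit [Fintype ι] [DecidableEq ι] [Finite F] in
theorem polar_of_sim {L : (ι → F) →ₗ[F] (ι → F)} {c : F} (hL : ∀ x, Q (L x) = c * Q x) (x y : ι → F) :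
    polar (⇑Q) (L x) (L y) = c * polar (⇑Q) x y := by
  simp only [polar, ← map_add, hL]
  ring

section Subspace

variable (A : Submodule F (ι → F)) (hA : ∀ x ∈ A, (∀ y ∈ A, polar (⇑Q) x y = 0) → x = 0)
include hA

omit [Fintype ι] [DecidableEq ι] [Finite F] in
theorem restrict_nondeg : (polarBilin (Q.comp A.subtype)).Nondegenerate :=
  nondeg_of fun x hx => Subtype.ext (hA x.1 x.2 fun y hy => by
    have h := hx ⟨y, hy⟩
    simp only [polar, QuadraticMap.comp_apply, Submodule.subtype_apply, Submodule.coe_add] at h ⊢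
    exact h)

omit [DecidableEq ι] [Finite F] in
/-- A similarity of a non-degenerate subspace of odd dimension has square multiplier. -/
theorem isSquare_of_odd_restrict (hd : Odd (finrank F A)) {L : (ι → F) →ₗ[F] (ι → F)} {c : F} (hc : c ≠ 0)
    (hL : ∀ x, Q (L x) = c * Q x) (hinv : ∀ x ∈ A, L x ∈ A) : IsSquare c := by
  classical
  obtain ⟨j, hj⟩ := hd
  let e := (Module.finBasis F A).equivFun.symm
  let Qp : QuadraticForm F (Fin (finrank F A) → F) := (Q.comp A.subtype).comp (e : (Fin _ → F) →ₗ[F] A)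
  have hn : (polarBilin Qp).Nondegenerate := nondeg_of fun x hx => by
    refine e.injective ((eq_zero_of_polar (restrict_nondeg A hA) (x := e x) fun z => ?_).trans e.map_zero.symm)
    obtain ⟨z, rfl⟩ := e.surjective z
    have h := hx z
    simp only [polar, Qp, QuadraticMap.comp_apply, map_add, LinearEquiv.coe_coe] at h ⊢
    exact h
  let K : (Fin (finrank F A) → F) →ₗ[F] (Fin (finrank F A) → F) :=
    (e.symm : A →ₗ[F] _) ∘ₗ (L.restrict hinv) ∘ₗ (e : _ →ₗ[F] A)
  have hK : ∀ v, Qp (K v) = c * Qp v := fun v => by simp [Qp, K, hL]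
  have hinj : Function.Injective K := (injective_iff_map_eq_zero K).2 fun v hv => by
    refine eq_zero_of_polar hn fun z => ?_
    have h : polar (⇑Qp) (K v) (K z) = c * polar (⇑Qp) v z := by
      simp only [polar, ← map_add, hK]; ring
    rw [hv, show polar (⇑Qp) 0 (K z) = 0 from LinearMap.congr_fun ((polarBilin Qp).map_zero) _] at h
    exact (mul_eq_zero.1 h.symm).resolve_left hc
  have hdet : (LinearMap.toMatrix' K).det ≠ 0 := fun h0 => by
    obtain ⟨v, hv0, hv⟩ := Matrix.exists_mulVec_eq_zero_iff.2 h0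
    rw [LinearMap.toMatrix'_mulVec] at hv
    exact hv0 (hinj (hv.trans (map_zero _).symm))
  have h := det_sim hn (g := Matrix.GeneralLinearGroup.mkOfDetNeZero _ hdet) (c := c) fun v => by
    show Qp (LinearMap.toMatrix' K *ᵥ v) = _
    rw [LinearMap.toMatrix'_mulVec, hK]
  simp only [Fintype.card_fin, hj, pow_succ, pow_mul] at h
  refine ⟨(LinearMap.toMatrix' K).det / c ^ j, ?_⟩
  have hD : (LinearMap.toMatrix' K).det * (LinearMap.toMatrix' K).det = (c * c) ^ j * c := by
    simpa [Matrix.GeneralLinearGroup.mkOfDetNeZero, pow_two] using h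
  field_simp
  have e1 : (c * c) ^ j = (c ^ j) ^ 2 := by rw [mul_pow]; ring
  linear_combination -hD - c * e1

end Subspace

include hQ h2

omit [DecidableEq ι] [Finite F] in
theorem eigen_nondeg {L : (ι → F) →ₗ[F] (ι → F)} (hL : ∀ x, Q (L x) = Q x) (hLL : ∀ x, L (L x) = x) {ε : F}
    (hε : ε = 1 ∨ ε = -1) (A : Submodule F (ι → F)) (hA : ∀ x, x ∈ A ↔ L x = ε • x) :
    ∀ x ∈ A, (∀ y ∈ A, polar (⇑Q) x y = 0) → x = 0 := by
  intro x hx h
  refine eq_zero_of_polar hQ fun y => ?_
  have hy : (2 : F)⁻¹ • (y + ε • L y) ∈ A := (hA _).2 (by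
    rw [map_smul, map_add, map_smul, hLL]
    rcases hε with rfl | rfl
    · rw [one_smul, one_smul, one_smul, add_comm]
    · rw [neg_one_smul, neg_one_smul, neg_one_smul, ← smul_neg, neg_add, neg_neg, add_comm])
  have h1 := h _ hy
  rw [polar_smul_right, polar_add_right, polar_smul_right] at h1
  have h3 : polar (⇑Q) x (L y) = ε * polar (⇑Q) x y := by
    have h4 := polar_of_sim (c := (1 : F)) (fun z => by rw [one_mul, hL]) x (L y)
    rw [(hA x).1 hx, hLL, polar_smul_left, one_mul] at h4
    exact h4.symm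
  rw [h3] at h1
  have hεε : ε * ε = 1 := by rcases hε with rfl | rfl <;> norm_num
  simp only [smul_eq_mul] at h1
  rw [← mul_assoc, hεε, one_mul, ← two_mul, inv_mul_cancel_left₀ h2] at h1
  exact h1

omit hQ h2 [DecidableEq ι] [Finite F] in
theorem refl_comm {L : (ι → F) →ₗ[F] (ι → F)} (hL : ∀ x, Q (L x) = Q x) {ε : F} (hε : ε = 1 ∨ ε = -1) {u : ι → F}
    (hu : Q u ≠ 0) (hLu : L u = ε • u) (x : ι → F) : (rO hu).1 (L x) = L ((rO hu).1 x) := by
  have h := polar_of_sim (c := (1 : F)) (fun z => by rw [one_mul, hL]) x u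
  rw [hLu, polar_smul_right, one_mul, smul_eq_mul] at h
  have hεε : ε * ε = 1 := by rcases hε with rfl | rfl <;> norm_num
  have e : polar (⇑Q) (L x) u = ε * polar (⇑Q) x u := by linear_combination ε * h - polar (⇑Q) (L x) u * hεε
  rw [rO_apply, rO_apply, map_sub, map_smul, hLu, smul_smul, e]
  congr 2
  field_simp

omit [DecidableEq ι] in
/-- In a subspace of dimension at least two of an involutive isometry, two reflections of different spinor norm. -/
theorem exists_comm_refls {L : (ι → F) →ₗ[F] (ι → F)} (hL : ∀ x, Q (L x) = Q x) (hLL : ∀ x, L (L x) = x) {ε : F}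
    (hε : ε = 1 ∨ ε = -1) (A : Submodule F (ι → F)) (hA : ∀ x, x ∈ A ↔ L x = ε • x) (hdim : 2 ≤ finrank F A) :
    ∃ (u w : ι → F) (hu : Q u ≠ 0) (hw : Q w ≠ 0), IsSquare (Q u) ∧ ¬ IsSquare (Q w) ∧
      (∀ x, (rO hu).1 (L x) = L ((rO hu).1 x)) ∧ ∀ x, (rO hw).1 (L x) = L ((rO hw).1 x) := by
  obtain ⟨a, b, ha, hb, hsa, hsb⟩ :=
    exists_rO_square (restrict_nondeg A (eigen_nondeg hQ h2 hL hLL hε A hA)) h2 hdim
  exact ⟨a.1, b.1, ha, hb, hsa, hsb, refl_comm hL hε ha ((hA _).1 a.2), refl_comm hL hε hb ((hA _).1 b.2)⟩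

omit [DecidableEq ι] in
/-- For a similarity with non-square scalar square, a vector orthogonal to its image. -/
theorem exists_orth_image {L : (ι → F) →ₗ[F] (ι → F)} {c : F} (hns : ¬ IsSquare c) (hL : ∀ x, Q (L x) = c * Q x)
    (hLL : ∀ x, L (L x) = c • x) (hn : 5 ≤ Fintype.card ι) : ∃ u, Q u ≠ 0 ∧ polar (⇑Q) u (L u) = 0 := by
  classical
  by_contra hcon
  push Not at hcon
  have hc : c ≠ 0 := fun h => hns (h ▸ IsSquare.zero)
  have hsa : ∀ x y, polar (⇑Q) (L x) y = polar (⇑Q) x (L y) := fun x y => by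
    have h := polar_of_sim hL x (L y)
    rw [hLL, polar_smul_right, smul_eq_mul] at h
    exact mul_left_cancel₀ hc h
  let R : QuadraticForm F (ι → F) := LinearMap.BilinMap.toQuadraticMap ((polarBilin Q).compl₂ L)
  have hR : ∀ x, R x = polar (⇑Q) x (L x) := fun x => rfl
  have hRp : ∀ x y, polar (⇑R) x y = 2 * polar (⇑Q) x (L y) := fun x y => by
    rw [show polar (⇑R) x y = polar (⇑Q) x (L y) + polar (⇑Q) y (L x) from LinearMap.BilinMap.polar_toQuadraticMap _ _,
      polar_comm (⇑Q) y, hsa, two_mul]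
  have h0 : ∀ x, R x = 0 → Q x = 0 := fun x hx => by
    by_contra h
    exact hcon x h ((hR x).symm.trans hx)
  have hfn : finrank F (ι → F) = Fintype.card ι := Module.finrank_fintype_fun_eq_card F
  obtain ⟨e, he0, he⟩ := exists_singular R (by rw [hfn]; omega)
  obtain ⟨y, hy⟩ : ∃ y, polar (⇑R) e y ≠ 0 := by
    by_contra h
    push Not at h
    refine he0 (eq_zero_of_polar hQ fun z => ?_)
    have h1 := h (c⁻¹ • L z)
    rw [hRp, map_smul, hLL, smul_smul, inv_mul_cancel₀ hc, one_smul] at h1
    exact (mul_eq_zero.1 h1).resolve_left h2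
  obtain ⟨f, hf, hef⟩ : ∃ f, R f = 0 ∧ polar (⇑R) e f = 1 := by
    obtain ⟨z, hz⟩ : ∃ z, polar (⇑R) e z = 1 :=
      ⟨(polar (⇑R) e y)⁻¹ • y, by rw [polar_smul_right, smul_eq_mul, inv_mul_cancel₀ hy]⟩
    refine ⟨z + (-R z) • e, ?_, ?_⟩
    · rw [map_add', Classical.Quad.map_smul', he, polar_smul_right, polar_comm, hz]; simp
    · rw [polar_add_right, polar_smul_right, hz, polar_self', he]; simp
  let W : Submodule F (ι → F) := LinearMap.ker (((polarBilin R).flip e).prod ((polarBilin R).flip f))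
  have hW : ∀ w, w ∈ W ↔ polar (⇑R) w e = 0 ∧ polar (⇑R) w f = 0 := fun w => by
    simp [W]
  set d := polar (⇑Q) e f
  have hQe := h0 e he
  have hQf := h0 f hf
  have hQW : ∀ w ∈ W, Q w = d * R w := fun w hw => by
    obtain ⟨hwe, hwf⟩ := (hW w).1 hw
    have key : ∀ t : F, t * t = 1 →
        Q w + t * polar (⇑Q) w e - t * R w * polar (⇑Q) w f - R w * d = 0 := fun t ht => by
      have hz : R (w + t • e + (-(t * R w)) • f) = 0 := by
        rw [map_add', map_add', Classical.Quad.map_smul', Classical.Quad.map_smul', he, hf, polar_smul_right, polar_smul_right, polar_add_left,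
          polar_smul_left, hwe, hwf, hef]
        simp
        linear_combination -(R w) * ht
      have h := h0 _ hz
      rw [map_add', map_add', Classical.Quad.map_smul', Classical.Quad.map_smul', hQe, hQf, polar_smul_right, polar_smul_right, polar_add_left,
        polar_smul_left] at h
      simp at h
      linear_combination h + R w * d * ht
    refine mul_left_cancel₀ h2 ?_
    linear_combination key 1 (one_mul 1) + key (-1) (by ring)
  have hperp : ∀ w ∈ W, ∀ w' ∈ W, polar (⇑Q) w (w' - (2 * d) • L w') = 0 := fun w hw w' hw' => by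
    have h : polar (⇑Q) w w' = d * polar (⇑R) w w' := by
      simp only [polar, hQW _ hw, hQW _ hw', hQW _ (W.add_mem hw hw')]; ring
    rw [polar_sub_right, polar_smul_right, h, hRp, smul_eq_mul]
    ring
  let h : (ι → F) →ₗ[F] (ι → F) := LinearMap.id - (2 * d) • L
  have hinj : Function.Injective h := (injective_iff_map_eq_zero h).2 fun x hx => by
    have h1 : x = (2 * d) • L x := sub_eq_zero.1 hx
    have h3 : (1 - 4 * d ^ 2 * c) • x = 0 := by
      have h4 : x = (4 * d ^ 2 * c) • x := by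
        conv_lhs => rw [h1, h1, map_smul, hLL, smul_smul, smul_smul]
        congr 1; ring
      rw [sub_smul, one_smul, ← h4, sub_self]
    refine (smul_eq_zero.1 h3).resolve_left fun h5 => hns ?_
    have hd : d ≠ 0 := fun hd0 => by simp [hd0] at h5
    refine ⟨1 / (2 * d), ?_⟩
    field_simp
    linear_combination -h5
  have hle : W.map h ≤ LinearMap.BilinForm.orthogonal (polarBilin Q) W := by
    rintro _ ⟨w', hw', rfl⟩
    intro w hw
    exact hperp w hw w' hw'
  have h5 := Submodule.finrank_mono hle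
  rw [LinearMap.BilinForm.finrank_orthogonal hQ, hfn,
    ← LinearEquiv.finrank_eq (W.equivMapOfInjective h hinj)] at h5
  have h6 : Fintype.card ι ≤ finrank F W + 2 := by
    have h := (((polarBilin R).flip e).prod ((polarBilin R).flip f)).finrank_range_add_finrank_ker
    have h' := Submodule.finrank_le (LinearMap.range (((polarBilin R).flip e).prod ((polarBilin R).flip f)))
    rw [Module.finrank_prod, Module.finrank_self] at h'
    rw [hfn] at h
    show _ ≤ finrank F (LinearMap.ker _) + 2
    omega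
  omega

end Cfsg.Agent.AutPOmega
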