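import Cfsg.Agent.AutPOmega.MinusPgo
import Cfsg.Agent.AutPOmega.InvCent

/-!
Involutory graph automorphisms of a minus space: normal forms and the number of classes.
-/

set_option autoImplicit false

namespace Cfsg.Agent.AutPOmega

open Module QuadraticMap Classical.Quad Matrix

section Count

variable {X : Type*} [Group X] {H K : Subgroup X} [K.Normal] (hKH : K ≤ H) {γ : X}
include hKH

theorem index_dvd_two (hcard : Nat.card (H ⧸ K.subgroupOf H) = 2) :
    (K ⊔ (H ⊓ Subgroup.centralizer {γ})).relIndex H = 1 ∨ (K ⊔ (H ⊓ Subgroup.centralizer {γ})).relIndex H = 2 := by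
  have hmul := Subgroup.relIndex_mul_relIndex K (K ⊔ (H ⊓ Subgroup.centralizer {γ})) H le_sup_left
    (sup_le hKH inf_le_left)
  rw [show K.relIndex H = 2 from hcard] at hmul
  exact (Nat.dvd_prime Nat.prime_two).1 ⟨_, by rw [← hmul, mul_comm]⟩

theorem index_eq_two (hcard : Nat.card (H ⧸ K.subgroupOf H) = 2) (h : ∀ x ∈ H, x * γ = γ * x → x ∈ K) :
    (K ⊔ (H ⊓ Subgroup.centralizer {γ})).relIndex H = 2 := by
  rw [show K ⊔ (H ⊓ Subgroup.centralizer {γ}) = K from
    le_antisymm (sup_le le_rfl fun x hx => h x hx.1 (Subgroup.mem_centralizer_singleton_iff.1 hx.2)) le_sup_left]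
  exact hcard

theorem index_two_of_inverting (hcard : Nat.card (H ⧸ K.subgroupOf H) = 4) {d s : X} (hd : d ∈ H) (hdd : d * d ∉ K)
    (hsd : s * d * s * d ∈ K) (hss : s * s = 1) (hsγ : s * γ ∈ H) (hx : ∃ x ∈ H, x * γ = γ * x ∧ x ∉ K) :
    (K ⊔ (H ⊓ Subgroup.centralizer {γ})).relIndex H = 2 := by
  set J := K ⊔ (H ⊓ Subgroup.centralizer {γ})
  have hmul := Subgroup.relIndex_mul_relIndex K J H le_sup_left (sup_le hKH inf_le_left)
  rw [show K.relIndex H = 4 from hcard] at hmul
  obtain ⟨x, hxH, hxγ, hxK⟩ := hx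
  have hJ1 : K.relIndex J ≠ 1 := fun h => hxK ((Subgroup.relIndex_eq_one.1 h) (Subgroup.mem_sup_right
    ⟨hxH, Subgroup.mem_centralizer_singleton_iff.2 hxγ⟩))
  have hJ2 : J.relIndex H ≠ 1 := fun h => by
    have hdJ : d ∈ J := (Subgroup.relIndex_eq_one.1 h) hd
    let π := QuotientGroup.mk' K
    have c1 : Commute (π d) (π γ) := by
      have hle : J ≤ (Subgroup.centralizer {π γ}).comap π := sup_le
        (fun z hz => by
          rw [Subgroup.mem_comap, Subgroup.mem_centralizer_singleton_iff,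
            show π z = 1 from (QuotientGroup.eq_one_iff z).2 hz]
          simp)
        (fun z hz => by
          rw [Subgroup.mem_comap, Subgroup.mem_centralizer_singleton_iff, ← map_mul, ← map_mul,
            Subgroup.mem_centralizer_singleton_iff.1 hz.2])
      exact Subgroup.mem_centralizer_singleton_iff.1 (hle hdJ)
    obtain ⟨e⟩ := quot_cyclic_four hKH hcard hd hdd
    have c2 : Commute (π d) (π (s * γ)) := by
      have h5 : ∀ p' q' : H ⧸ K.subgroupOf H, p' * q' = q' * p' := fun p' q' => e.injective (by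
        rw [map_mul, map_mul, mul_comm])
      have h6 := QuotientGroup.eq.1 (h5 (QuotientGroup.mk ⟨d, hd⟩) (QuotientGroup.mk ⟨_, hsγ⟩))
      have h7 : (d * (s * γ))⁻¹ * (s * γ * d) ∈ K := h6
      show π d * π (s * γ) = π (s * γ) * π d
      rw [← map_mul, ← map_mul]
      exact QuotientGroup.eq.2 h7
    have c3 : Commute (π d) (π s) := by
      rw [map_mul] at c2
      have := c2.mul_right c1.inv_right
      rwa [mul_inv_cancel_right] at this
    have hss' : π s * π s = 1 := by rw [← map_mul, hss, map_one]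
    have h8 : π (s * d * s * d) = 1 := (QuotientGroup.eq_one_iff _).2 hsd
    rw [map_mul, map_mul, map_mul, ← c3.eq, mul_assoc (π d), hss', mul_one, ← map_mul] at h8
    exact hdd ((QuotientGroup.eq_one_iff _).1 h8)
  have hle : J.relIndex H ≤ 4 := Nat.le_of_dvd (by norm_num) ⟨_, by rw [← hmul, mul_comm]⟩
  interval_cases hh : J.relIndex H <;> omega

end Count

variable {F : Type*} [Field F] [Fintype F] {m : ℕ} (hm : 3 ≤ m) {a b : F}
  (hab : ∀ z₁ z₂ : F, z₁ ^ 2 + a * z₁ * z₂ + b * z₂ ^ 2 = 0 → z₁ = 0 ∧ z₂ = 0)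
  (hodd : Odd (Fintype.card F))
include hm hab

omit [Fintype F] hab hm in
theorem det_cLin (a b : F) (w : F × F) :
    LinearMap.det (cLin (m := m) a b w) = binForm a b w ^ (m + 1) := by
  classical
  have e : LinearMap.toMatrix' (cLin (m := m) a b w) = Matrix.fromBlocks
      (Matrix.diagonal (Sum.elim (fun _ => binForm a b w) fun _ => 1)) 0 0
      !![w.1, -(b * w.2); w.2, w.1 + a * w.2] := by
    ext (i | i) (j | j)
    · rcases i with i | i <;> rcases j with j | j <;> simp [cLin, Matrix.diagonal, Pi.single_apply, eq_comm]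
    · rcases i with i | i <;> simp [cLin]
    · fin_cases i <;> simp [cLin]
    · fin_cases i <;> fin_cases j <;> simp [cLin]
  rw [← LinearMap.det_toMatrix', e, Matrix.det_fromBlocks_zero₂₁, Matrix.det_diagonal, Matrix.det_fin_two,
    binForm_apply]
  simp [Fintype.prod_sum_type, pow_succ]
  left
  ring

/-- The determinant of a similarity is its parity times a power of the multiplier. -/
theorem det_parM (g : Geo.quadSimilarityGroup (F := F) (⇑(qMinus F m a b))) :
    g.1.1.det = (((parM hm hab g : ℤˣ) : ℤ) : F) * (mult (ctx_minus hm hab) g : F) ^ (m + 1) := by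
  classical
  have hc := ctx_minus hm hab
  obtain ⟨k, hk, hkm⟩ := exists_canon_mult hm hab (mult hc g)
  have : k⁻¹ * g ∈ (mult hc).ker := by rw [MonoidHom.mem_ker, map_mul, map_inv, hkm, inv_mul_cancel]
  rw [ker_mult] at this
  obtain ⟨s, hs⟩ := this
  have hgk : g = k * isoToSim s := by rw [hs, mul_inv_cancel_left]
  have h2 : parM hm hab g = dickson hc.nondeg (hexM hm hab) (oEquiv _ s) := by
    rw [hgk, map_mul, (isParM_parM hm hab).2 k hk, one_mul, parM_iso]
  have h3 : k.1.1.det = (mult hc g : F) ^ (m + 1) := by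
    obtain ⟨w, -, hw⟩ := hk
    have hw2 : (mult hc g : F) = binForm a b w := by
      obtain ⟨v, hv⟩ := exists_value_one hc
      have h := mult_spec hc k v
      rw [hkm, hw, qMinus_cLin, hv] at h
      simpa using h.symm
    rw [hw2, ← det_cLin a b w, ← LinearMap.det_toLin']
    exact congrArg _ (LinearMap.ext fun v => by rw [Matrix.toLin'_apply, hw])
  rw [h2, ← det_eq_dickson hc.nondeg (hexM hm hab) s, ← h3, mul_comm, ← Matrix.det_mul]
  exact congrArg (fun x : Geo.quadSimilarityGroup (F := F) (⇑(qMinus F m a b)) => x.1.1.det) hgk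

/-- The linear map of a similarity. -/
noncomputable abbrev lin (g : Geo.quadSimilarityGroup (F := F) (⇑(qMinus F m a b))) :
    ((Fin m ⊕ Fin m) ⊕ Fin 2 → F) →ₗ[F] ((Fin m ⊕ Fin m) ⊕ Fin 2 → F) := Matrix.toLin' g.1.1

include hodd

/-- An involution outside the inner-diagonal group, by a similarity of parity minus one. -/
theorem classify {γ : MulAut (Cfsg.POmega F ⇑(qMinus F m a b))} (h1 : galOf (ctx_minus hm hab) γ = 1)
    (h2γ : γ * γ = 1) (hnot : γ ∉ inndiagM hm hab) :
    ∃ g, conjA g = γ ∧ parM hm hab g = -1 ∧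
      (((∀ v, qMinus F m a b (lin g v) = qMinus F m a b v) ∧ (∀ v, lin g (lin g v) = v) ∧
          Odd (finrank F (LinearMap.ker (lin g - LinearMap.id))) ∧
          Odd (finrank F (LinearMap.ker (lin g + LinearMap.id)))) ∨
        (Even m ∧ ∃ c : F, ¬ IsSquare c ∧ (∀ v, qMinus F m a b (lin g v) = c * qMinus F m a b v) ∧
          ∀ v, lin g (lin g v) = c • v)) := by
  classical
  have hc := ctx_minus hm hab
  have h2 := two_ne_zero_of_odd hodd
  have hγ : γ ∈ (conjA (Q := qMinus F m a b)).range := by rwa [← ker_galOf hc, MonoidHom.mem_ker]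
  obtain ⟨g₀, rfl⟩ := hγ
  have hp : parM hm hab g₀ = -1 :=
    (Int.units_eq_one_or _).resolve_left fun h => hnot ⟨g₀, h, rfl⟩
  have hs : conjA (g₀ * g₀) = 1 := by rw [map_mul, h2γ]
  rw [conjA_eq_one_iff hc] at hs
  obtain ⟨l, hl⟩ := hs
  have hl' : g₀ * g₀ = scalarSim l := Subtype.ext hl.symm
  have hlv : ∀ v, lin g₀ (lin g₀ v) = (l : F) • v := fun v => by
    rw [← scalarSim_mulVec, ← hl']
    simp [lin, Matrix.mulVec_mulVec]
  set μ := mult hc g₀
  have hμ : μ * μ = l ^ 2 := by rw [← map_mul, hl', mult_scalarSim hc]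
  have hμ' : (μ : F) = l ∨ (μ : F) = -l := by
    have h := congrArg Units.val hμ
    rw [Units.val_mul, Units.val_pow_eq_pow_val, pow_two] at h
    exact mul_self_eq_mul_self_iff.1 h
  have hn : finrank F ((Fin m ⊕ Fin m) ⊕ Fin 2 → F) = 2 * (m + 1) := by simp; omega
  by_cases hsq : IsSquare (l : F)
  · obtain ⟨e, he⟩ := hsq
    have he0 : e ≠ 0 := fun h => l.ne_zero (by rw [he, h, mul_zero])
    set g := g₀ * scalarSim (Units.mk0 e he0)⁻¹
    have hgv : ∀ v, lin g v = e⁻¹ • lin g₀ v := fun v => by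
      simp only [lin, g, Subgroup.coe_mul, Units.val_mul, Matrix.toLin'_apply, ← Matrix.mulVec_mulVec,
        scalarSim_mulVec, Matrix.mulVec_smul, Units.val_inv_eq_inv_val, Units.val_mk0]
    have hgg : ∀ v, lin g (lin g v) = v := fun v => by
      rw [hgv, hgv, map_smul, hlv, smul_smul, smul_smul, he]
      field_simp
      rw [one_smul]
    have hgQ : ∀ v, qMinus F m a b (lin g v) = e⁻¹ * e⁻¹ * (μ : F) * qMinus F m a b v := fun v => by
      rw [hgv, Classical.Quad.map_smul', Matrix.toLin'_apply, mult_spec hc g₀]; ring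
    have hiso : ∀ v, qMinus F m a b (lin g v) = qMinus F m a b v := by
      rcases hμ' with hμ' | hμ'
      · intro v; rw [hgQ, hμ', he]; field_simp
      · exfalso
        have hneg : ∀ v, qMinus F m a b (lin g v) = -qMinus F m a b v := fun v => by
          rw [hgQ, hμ', he]; field_simp
        obtain ⟨-, hdim, -⟩ := det_involution h2 hgg
        have hsing : ∀ (ε : F), ε * ε = 1 → ∀ u, lin g u = ε • u → qMinus F m a b u = 0 := fun ε hε u hu => by
          have h := hneg u
          rw [hu, Classical.Quad.map_smul', hε, one_mul] at h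
          exact (mul_eq_zero.1 (by linear_combination h : (2 : F) * qMinus F m a b u = 0)).resolve_left h2
        have hA := (minus_index hab m).2 (LinearMap.ker (lin g - LinearMap.id)) fun u hu =>
          hsing 1 (one_mul 1) u (by rw [one_smul]; exact sub_eq_zero.1 hu)
        have hB := (minus_index hab m).2 (LinearMap.ker (lin g + LinearMap.id)) fun u hu =>
          hsing (-1) (by ring) u (by rw [neg_one_smul]; exact eq_neg_of_add_eq_zero_left hu)
        rw [hn] at hdim
        omega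
    have hgp : parM hm hab g = -1 := by rw [map_mul, parM_scalar, mul_one, hp]
    refine ⟨g, by rw [map_mul, conjA_scalarSim hc, mul_one], hgp, Or.inl ⟨hiso, hgg, ?_⟩⟩
    obtain ⟨-, hdim, hdet⟩ := det_involution h2 hgg
    have h := det_parM hm hab g
    rw [mult_eq hc (c := 1) (g := g) (fun v => by
      rw [Units.val_one, one_mul]; exact hiso v), ← LinearMap.det_toLin', hdet, hgp] at h
    have hB : Odd (finrank F (LinearMap.ker (lin g + LinearMap.id))) := by
      rcases Nat.even_or_odd (finrank F (LinearMap.ker (lin g + LinearMap.id))) with hev | hod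
      · exfalso
        rw [hev.neg_one_pow] at h
        simp at h
        exact h2 (by linear_combination h)
      · exact hod
    refine ⟨?_, hB⟩
    rw [hn] at hdim
    obtain ⟨j, hj⟩ := hB
    exact ⟨m - j, by omega⟩
  · refine ⟨g₀, rfl, hp, Or.inr ?_⟩
    have h := det_parM hm hab g₀
    rw [hp, ← LinearMap.det_toLin', det_of_sq_nonsquare hlv hsq hn] at h
    push_cast at h
    have hl0 : (-(l : F)) ^ (m + 1) ≠ 0 := pow_ne_zero _ (neg_ne_zero.2 l.ne_zero)
    rcases hμ' with hμ' | hμ'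
    · have hev : Even m := by
        rcases Nat.even_or_odd m with hev | hod
        · exact hev
        · exfalso
          change (-(l : F)) ^ (m + 1) = _ * (μ : F) ^ (m + 1) at h
          rw [hμ', neg_pow, (hod.add_one).neg_one_pow] at h
          simp at h
          exact h2 (mul_eq_zero.1 (by linear_combination h : (2 : F) * (l : F) ^ (m + 1) = 0) |>.resolve_right
            (pow_ne_zero _ l.ne_zero))
      refine ⟨hev, l, hsq, fun v => ?_, hlv⟩
      rw [← hμ', Matrix.toLin'_apply]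
      exact mult_spec hc g₀ v
    · exfalso
      change (-(l : F)) ^ (m + 1) = _ * (μ : F) ^ (m + 1) at h
      rw [hμ'] at h
      exact h2 (mul_eq_zero.1 (by linear_combination h : (2 : F) * (-(l : F)) ^ (m + 1) = 0) |>.resolve_right hl0)

omit hodd in
theorem spin_neg_one (hodd : Odd (Fintype.card F)) (hz : ¬ Fintype.card F ^ (m + 1) % 4 = 3) :
    ∃ N : Cfsg.isometryGroup F ⇑(qMinus F m a b), dickson (ctx_minus hm hab).nondeg (hexM hm hab) (oEquiv _ N) = 1 ∧
      spin (qMinus F m a b) (oEquiv _ N) = -1 ∧ conjA (isoToSim N) = 1 := by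
  have hc := ctx_minus hm hab
  have h2 := two_ne_zero_of_odd hodd
  have hn : 2 ≤ finrank F ((Fin m ⊕ Fin m) ⊕ Fin 2 → F) := by simp
  let N : Cfsg.isometryGroup F ⇑(qMinus F m a b) := ⟨(scalarSim (Q := qMinus F m a b) (-1)).1,
    mem_isometryGroup_iff.2 fun v => by rw [scalarSim_mulVec, Classical.Quad.map_smul']; simp⟩
  have hd : dickson hc.nondeg (hexM hm hab) (oEquiv _ N) = 1 := by
    rw [← parM_iso hm hab, show isoToSim N = scalarSim (-1) from rfl, parM_scalar]
  refine ⟨N, hd, (Int.units_eq_one_or _).resolve_left fun h => hz ?_, conjA_scalarSim hc (-1)⟩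
  refine (neg_one_mem_iff hm hab hodd).1 ⟨N, (mem_omega_iff N).2 ((mem_commutator_iff hc.nondeg h2 hn _).2 ⟨hd, h⟩), ?_⟩
  exact Matrix.ext_of_mulVec_single fun j => by
    show (scalarSim (Q := qMinus F m a b) (-1)).1.1 *ᵥ _ = _
    rw [scalarSim_mulVec, Matrix.neg_mulVec, Matrix.one_mulVec]
    simp

set_option maxHeartbeats 1000000 in
theorem centralizer_le_inn (hmo : Odd m) {γ : MulAut (Cfsg.POmega F ⇑(qMinus F m a b))}
    (h1 : galOf (ctx_minus hm hab) γ = 1) (h2γ : γ * γ = 1) (hnot : γ ∉ inndiagM hm hab)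
    {x : MulAut (Cfsg.POmega F ⇑(qMinus F m a b))} (hx : x ∈ inndiagM hm hab) (hxγ : x * γ = γ * x) :
    x ∈ Cfsg.Inn (Cfsg.POmega F ⇑(qMinus F m a b)) := by
  classical
  have hc := ctx_minus hm hab
  have h2 := two_ne_zero_of_odd hodd
  obtain ⟨g, rfl, -, hg⟩ := classify hm hab hodd h1 h2γ hnot
  obtain ⟨hiso, hgg, hA, hB⟩ := hg.resolve_right fun h => Nat.not_even_iff_odd.2 hmo h.1
  obtain ⟨k, hk, rfl⟩ := hx
  have hkp : parM hm hab k = 1 := hk
  have hcm : conjA ((g * k)⁻¹ * (k * g)) = 1 := by rw [map_mul, map_inv, map_mul, map_mul, hxγ, inv_mul_cancel]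
  rw [conjA_eq_one_iff hc] at hcm
  obtain ⟨e, he⟩ := hcm
  have he' : k * g = g * k * scalarSim e := by
    rw [show scalarSim e = (g * k)⁻¹ * (k * g) from Subtype.ext he, mul_inv_cancel_left]
  have hev : ∀ v, lin k (lin g v) = (e : F) • lin g (lin k v) := fun v => by
    have h := congrArg (fun x : Geo.quadSimilarityGroup (F := F) (⇑(qMinus F m a b)) => x.1.1 *ᵥ v) he'
    simp only [Subgroup.coe_mul, Units.val_mul, ← Matrix.mulVec_mulVec, scalarSim_mulVec, Matrix.mulVec_smul] at h
    simpa only [lin, Matrix.toLin'_apply] using h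
  have hinj : Function.Injective (lin k) := fun u v h => by
    have := congrArg (((k⁻¹).1).1 *ᵥ ·) h
    simpa [lin, Matrix.mulVec_mulVec] using this
  set A := LinearMap.ker (lin g - LinearMap.id)
  set B := LinearMap.ker (lin g + LinearMap.id)
  have hmA : ∀ x, x ∈ A ↔ lin g x = (1 : F) • x := fun x => by simp [A, sub_eq_zero]
  have hmB : ∀ x, x ∈ B ↔ lin g x = (-1 : F) • x := fun x => by simp [B, add_eq_zero_iff_eq_neg]
  have hee : (e : F) = 1 ∨ (e : F) = -1 := by
    obtain ⟨v, hv⟩ : ∃ v : (Fin m ⊕ Fin m) ⊕ Fin 2 → F, v ≠ 0 := exists_ne 0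
    have h := hev (lin g v)
    rw [hgg, hev, map_smul, hgg, smul_smul] at h
    have h' : ((e : F) * e - 1) • lin k v = 0 := by rw [sub_smul, one_smul, ← h, sub_self]
    have := (smul_eq_zero.1 h').resolve_right fun h0 => hv (hinj (h0.trans (map_zero _).symm))
    exact mul_self_eq_one_iff.1 (sub_eq_zero.1 this)
  have hsquare : IsSquare (mult hc k : F) := by
    rcases hee with he1 | he1
    · have hAA : ∀ x ∈ A, lin k x ∈ A := fun x hx => by
        have h := hev x
        rw [(hmA x).1 hx, one_smul, he1, one_smul] at h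
        exact (hmA _).2 (by rw [one_smul, ← h])
      exact isSquare_of_odd_restrict A (eigen_nondeg hc.nondeg h2 hiso hgg (Or.inl rfl) A hmA) hA
        (mult hc k).ne_zero (fun v => mult_spec hc k v) hAA
    · exfalso
      have hAB : A.map (lin k) ≤ B := by
        rintro _ ⟨x, hx, rfl⟩
        have h := hev x
        rw [(hmA x).1 hx, one_smul, he1, neg_one_smul] at h
        exact (hmB _).2 (by rw [neg_one_smul]; exact (neg_eq_iff_eq_neg.2 h).symm)
      have hBA : B.map (lin k) ≤ A := by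
        rintro _ ⟨x, hx, rfl⟩
        have h := hev x
        rw [(hmB x).1 hx, neg_one_smul, map_neg, he1, neg_one_smul, neg_inj] at h
        exact (hmA _).2 (by rw [one_smul, ← h])
      have h3 := Submodule.finrank_mono hAB
      have h4 := Submodule.finrank_mono hBA
      rw [← LinearEquiv.finrank_eq (Submodule.equivMapOfInjective _ hinj _)] at h3 h4
      obtain ⟨-, hdim, -⟩ := det_involution h2 hgg
      obtain ⟨i, hi⟩ := hA
      obtain ⟨j, hj⟩ := hmo
      simp only [Module.finrank_fintype_fun_eq_card, Fintype.card_sum, Fintype.card_fin] at hdim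
      change finrank F A + finrank F B = _ at hdim
      omega
  obtain ⟨r, hr⟩ := hsquare
  have hr0 : r ≠ 0 := fun h => (mult hc k).ne_zero (by rw [hr, h, mul_zero])
  have hmem : k * (scalarSim (Units.mk0 r hr0))⁻¹ ∈ (mult hc).ker := by
    rw [MonoidHom.mem_ker, map_mul, map_inv, mult_scalarSim hc, mul_inv_eq_one]
    ext
    rw [hr]
    simp [pow_two]
  rw [ker_mult] at hmem
  obtain ⟨s, hs⟩ := hmem
  have hks : conjA k = conjA (isoToSim s) := by rw [hs, map_mul, map_inv, conjA_scalarSim hc, inv_one, mul_one]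
  have hsd : dickson hc.nondeg (hexM hm hab) (oEquiv _ s) = 1 := by
    rw [← parM_iso hm hab, hs, map_mul, map_inv, parM_scalar, inv_one, mul_one, hkp]
  have hn : 2 ≤ finrank F ((Fin m ⊕ Fin m) ⊕ Fin 2 → F) := by simp
  rw [hks]
  rcases Int.units_eq_one_or (spin _ (oEquiv _ s)) with h | h
  · exact mem_inn_of_omega ((mem_omega_iff _).2 ((mem_commutator_iff hc.nondeg h2 hn _).2 ⟨hsd, h⟩))
  · have hz : ¬ Fintype.card F ^ (m + 1) % 4 = 3 := fun hz => by
      obtain ⟨-, ⟨i, hi⟩⟩ := card_mod_four hz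
      obtain ⟨j, hj⟩ := hmo
      omega
    obtain ⟨N, hN1, hN2, hN3⟩ := spin_neg_one hm hab hodd hz
    rw [show conjA (isoToSim s) = conjA (isoToSim (N * s)) by rw [map_mul, map_mul, hN3, one_mul]]
    refine mem_inn_of_omega ((mem_omega_iff _).2 ((mem_commutator_iff hc.nondeg h2 hn _).2 ⟨?_, ?_⟩))
    · rw [map_mul, map_mul, hN1, hsd]; decide
    · rw [map_mul, map_mul, hN2, h]; decide

/-- In even degree, an isometry of spinor norm minus one commuting with a graph involution. -/
theorem exists_centralizer_not_inn (hz : Fintype.card F ^ (m + 1) % 4 = 3)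
    {γ : MulAut (Cfsg.POmega F ⇑(qMinus F m a b))}
    (h1 : galOf (ctx_minus hm hab) γ = 1) (h2γ : γ * γ = 1) (hnot : γ ∉ inndiagM hm hab) :
    ∃ x ∈ inndiagM hm hab, x * γ = γ * x ∧ x ∉ Cfsg.Inn (Cfsg.POmega F ⇑(qMinus F m a b)) := by
  classical
  have hc := ctx_minus hm hab
  have h2 := two_ne_zero_of_odd hodd
  have hn2 : 2 ≤ finrank F ((Fin m ⊕ Fin m) ⊕ Fin 2 → F) := by simp
  obtain ⟨g, rfl, -, hg⟩ := classify hm hab hodd h1 h2γ hnot
  obtain ⟨u, w, hu, hw, hsp, hcomm⟩ : ∃ (u w : (Fin m ⊕ Fin m) ⊕ Fin 2 → F) (hu : qMinus F m a b u ≠ 0)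
      (hw : qMinus F m a b w ≠ 0), spin (qMinus F m a b) (rO hu * rO hw) = -1 ∧
      ∀ v, (rO hu).1 ((rO hw).1 (lin g v)) = lin g ((rO hu).1 ((rO hw).1 v)) := by
    rcases hg with ⟨hiso, hgg, -, -⟩ | ⟨-, c, hns, hgQ, hgg⟩
    · obtain ⟨-, hdim, -⟩ := det_involution h2 hgg
      obtain ⟨ε, hε, A, hA, hA2⟩ : ∃ ε : F, (ε = 1 ∨ ε = -1) ∧ ∃ A : Submodule F ((Fin m ⊕ Fin m) ⊕ Fin 2 → F),
          (∀ x, x ∈ A ↔ lin g x = ε • x) ∧ 2 ≤ finrank F A := by
        by_cases h : 2 ≤ finrank F (LinearMap.ker (lin g - LinearMap.id))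
        · exact ⟨1, Or.inl rfl, _, fun x => by simp [sub_eq_zero], h⟩
        · refine ⟨-1, Or.inr rfl, LinearMap.ker (lin g + LinearMap.id),
            fun x => by simp [add_eq_zero_iff_eq_neg], ?_⟩
          simp only [Module.finrank_fintype_fun_eq_card, Fintype.card_sum, Fintype.card_fin] at hdim
          omega
      obtain ⟨u, w, hu, hw, hsu, hsw, hcu, hcw⟩ := exists_comm_refls hc.nondeg h2 hiso hgg hε A hA hA2
      refine ⟨u, w, hu, hw, ?_, fun v => by rw [hcw, hcu]⟩
      rw [map_mul, spin_rO h2, spin_rO h2, if_pos hsu, if_neg hsw, mul_one]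
    · have hc0 : c ≠ 0 := fun h => hns (h ▸ IsSquare.zero)
      obtain ⟨u, hu, hperp⟩ := exists_orth_image hc.nondeg h2 hns hgQ hgg (by simp; omega)
      have hgu : qMinus F m a b (lin g u) ≠ 0 := by rw [hgQ]; exact mul_ne_zero hc0 hu
      refine ⟨u, lin g u, hu, hgu, ?_, fun v => ?_⟩
      · rw [map_mul, spin_rO h2, spin_rO h2, hgQ]
        by_cases hs : IsSquare (qMinus F m a b u)
        · rw [if_pos hs, if_neg, mul_one]
          intro h
          exact hns (by
            have := h.mul hs.inv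
            rwa [mul_assoc, mul_inv_cancel₀ hu, mul_one] at this)
        · rw [if_neg hs, if_pos (isSquare_mul_of_not h2 hns hs), one_mul]
      · have e1 : polar (⇑(qMinus F m a b)) (lin g v) (lin g u) =
            c * polar (⇑(qMinus F m a b)) v u := polar_of_sim hgQ v u
        have e2 : c * polar (⇑(qMinus F m a b)) (lin g v) u =
            c * polar (⇑(qMinus F m a b)) v (lin g u) * c * c⁻¹ := by
          have h := polar_of_sim hgQ v (lin g u)
          rw [hgg, polar_smul_right, smul_eq_mul] at h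
          rw [h]; field_simp
        have e3 : polar (⇑(qMinus F m a b)) (lin g v) u = polar (⇑(qMinus F m a b)) v (lin g u) := by
          refine mul_left_cancel₀ hc0 ?_
          rw [e2]; field_simp
        simp only [rO_apply, map_sub, map_smul, hgg, polar_sub_left, polar_smul_left, smul_eq_mul]
        rw [e1, e3, hgQ, show polar (⇑(qMinus F m a b)) (lin g u) u = 0 by rw [polar_comm]; exact hperp,
          zero_div, zero_smul, zero_smul, sub_zero, sub_zero]
        match_scalars <;> field_simp <;> ring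
  obtain ⟨s, hs⟩ : ∃ s, s = (oEquiv (qMinus F m a b)).symm (rO hu * rO hw) := ⟨_, rfl⟩
  have hsd : dickson hc.nondeg (hexM hm hab) (oEquiv _ s) = 1 := by
    rw [hs, MulEquiv.apply_symm_apply, map_mul, dickson_rO, dickson_rO]; decide
  refine ⟨conjA (isoToSim s), ⟨_, by rw [SetLike.mem_coe, MonoidHom.mem_ker, parM_iso, hsd], rfl⟩, ?_, ?_⟩
  · rw [← map_mul, ← map_mul]
    refine congrArg conjA (Subtype.ext (Units.ext (Matrix.ext_of_mulVec_single fun j => ?_)))
    have hsx : ∀ v, s.1.1 *ᵥ v = (rO hu).1 ((rO hw).1 v) := fun v => by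
      rw [hs, ← oEquiv_apply, MulEquiv.apply_symm_apply]; rfl
    show (s.1.1 * g.1.1) *ᵥ _ = (g.1.1 * s.1.1) *ᵥ _
    rw [← Matrix.mulVec_mulVec, ← Matrix.mulVec_mulVec, hsx, hsx]
    exact hcomm _
  · intro hmem
    obtain ⟨σ, d, hdd, hσ⟩ := exists_scalar_of_mem_inn hc hmem
    have hmemO : s ∈ Cfsg.Omega F ⇑(qMinus F m a b) := by
      rcases mul_self_eq_one_iff.1 hdd with rfl | rfl
      · rw [show s = σ.1 from Subtype.ext (Units.ext (by rw [hσ, one_smul]))]
        exact σ.2
      · obtain ⟨n₀, hn₀, hn₁⟩ := (neg_one_mem_iff hm hab hodd).2 hz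
        rw [show s = n₀ * σ.1 from Subtype.ext (Units.ext (by
          show _ = n₀.1.1 * mat σ
          rw [hσ, hn₁, neg_smul, one_smul, Matrix.neg_mul, Matrix.one_mul]))]
        exact mul_mem hn₀ σ.2
    have := ((mem_commutator_iff hc.nondeg h2 hn2 _).1 ((mem_omega_iff s).1 hmemO)).2
    rw [hs, MulEquiv.apply_symm_apply, hsp] at this
    exact absurd this (by decide)

/-- The number of classes. -/
theorem split_count {γ : MulAut (Cfsg.POmega F ⇑(qMinus F m a b))}
    (h1 : galOf (ctx_minus hm hab) γ = 1) (h2γ : γ * γ = 1) (hnot : γ ∉ inndiagM hm hab) :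
    (Cfsg.splitClassCount (inndiagM hm hab) (Cfsg.Inn (Cfsg.POmega F ⇑(qMinus F m a b))) γ = 1 ∨
      Cfsg.splitClassCount (inndiagM hm hab) (Cfsg.Inn (Cfsg.POmega F ⇑(qMinus F m a b))) γ = 2) ∧
    (¬ (Even m ∧ Fintype.card F % 4 = 1) →
      Cfsg.splitClassCount (inndiagM hm hab) (Cfsg.Inn (Cfsg.POmega F ⇑(qMinus F m a b))) γ = 2) := by
  classical
  have hc := ctx_minus hm hab
  obtain ⟨-, hcard⟩ := card_quots hm hab hodd
  rw [AutPSL.splitClassCount_eq_relIndex _ _ (inn_le_inndiagM hm hab) γ]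
  by_cases hz : Fintype.card F ^ (m + 1) % 4 = 3
  · rw [if_pos hz] at hcard
    obtain ⟨d, s, hdd, hss, hs, hsd⟩ := exists_gen_mk hm hab hz
    obtain ⟨g, hg, hgp, -⟩ := classify hm hab hodd h1 h2γ hnot
    obtain ⟨g', hg'⟩ := s.2
    have hg'p : parM hm hab g' = -1 :=
      (Int.units_eq_one_or _).resolve_left fun h' => hs ⟨g', h', hg'⟩
    have hsγ : s.1 * γ ∈ inndiagM hm hab := ⟨g' * g, by
      rw [SetLike.mem_coe, MonoidHom.mem_ker, map_mul, hg'p, hgp]; decide, by rw [map_mul, hg', hg]⟩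
    have h4 := index_two_of_inverting (inn_le_inndiagM hm hab) hcard d.2 hdd hsd (congrArg Subtype.val hss) hsγ
      (exists_centralizer_not_inn hm hab hodd hz h1 h2γ hnot)
    exact ⟨Or.inr h4, fun _ => h4⟩
  · rw [if_neg hz] at hcard
    refine ⟨index_dvd_two (inn_le_inndiagM hm hab) hcard, fun hcond => ?_⟩
    have hmo : Odd m := by
      rcases Nat.even_or_odd m with hev | h
      · exfalso
        have h4 : Fintype.card F % 4 = 3 := by
          have := Nat.odd_iff.1 hodd
          have : ¬ Fintype.card F % 4 = 1 := fun h => hcond ⟨hev, h⟩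
          omega
        exact hz ((cond_iff hodd).1 ⟨hev, h4⟩)
      · exact h
    exact index_eq_two (inn_le_inndiagM hm hab) hcard fun x hx hxγ =>
      centralizer_le_inn hm hab hodd hmo h1 h2γ hnot hx hxγ

omit hodd in
theorem galOf_eq_one_of_involution {γ : MulAut (Cfsg.POmega F ⇑(qMinus F m a b))} (hγ : γ ^ 2 = 1) :
    galOf (ctx_minus hm hab) γ = 1 := by
  by_contra hne
  set σ := galOf (ctx_minus hm hab) γ
  let K : Subfield F := (σ : F →+* F).eqLocusField (RingHom.id F)
  have hi : ∀ y : F, σ y = y ↔ y ∈ K.subtype.range := fun y =>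
    ⟨fun h => ⟨⟨y, h⟩, rfl⟩, by rintro ⟨⟨z, hz⟩, rfl⟩; exact hz⟩
  haveI : Fintype K := Fintype.ofFinite K
  obtain ⟨ζ, hζ⟩ := exists_rootfree (F := K)
  exact absurd (normal_minus hm hab Nat.prime_two hγ hne K.subtype hi hζ).1 (by decide)

end Cfsg.Agent.AutPOmega
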