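import Cfsg.Agent.AutPOmega.Rigidity
import Cfsg.Agent.AutPOmega.MinusGraph

/-!
Local balance for the minus groups.
-/

set_option autoImplicit false

namespace Cfsg.Agent.AutPOmega

open Module QuadraticMap Classical.Quad Matrix

variable {F : Type*} [Field F] [Fintype F] {m : ℕ} (hm : 3 ≤ m) {a b : F}
  (hab : ∀ z₁ z₂ : F, z₁ ^ 2 + a * z₁ * z₂ + b * z₂ ^ 2 = 0 → z₁ = 0 ∧ z₂ = 0)
include hm hab

set_option maxHeartbeats 1000000 in
theorem balance_minus (A : Subgroup (MulAut (Cfsg.POmega F ⇑(qMinus F m a b))))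
    (hinn : ∀ k : Cfsg.POmega F ⇑(qMinus F m a b), MulAut.conj k ∈ A) {p : ℕ} (hp : p.Prime) {r : ℕ} [CharP F r]
    (hpr : p ≠ r) (x : MulAut (Cfsg.POmega F ⇑(qMinus F m a b))) (hord : orderOf x = p)
    (hnot : ¬ Cfsg.IsInnerDiagonalAutPOmegaMinus m a b x) :
    Cfsg.pPrimeCore p ↥(A ⊓ Subgroup.centralizer {x}) ≠ ⊥ ↔ (Cfsg.IsFieldAutClassPOmegaMinus m x ∧
      p.Coprime (Nat.card ↥(MonoidHom.eqLocus x.toMonoidHom (MonoidHom.id (Cfsg.POmega F ⇑(qMinus F m a b)))))) := by
  classical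
  have hc := ctx_minus hm hab
  have hA : LocalBalance.innR (Cfsg.POmega F ⇑(qMinus F m a b)) ≤ A := by rintro _ ⟨k, rfl⟩; exact hinn k
  by_cases h1 : galOf hc x = 1
  · have hx : x ∈ (conjA (Q := qMinus F m a b)).range := by rwa [← ker_galOf hc, MonoidHom.mem_ker]
    obtain ⟨g, hg⟩ := hx
    have hout : x ∉ inndiagM hm hab := by
      rintro ⟨k, hk, hkx⟩
      exact hnot ⟨k.1, k.2, (preservesMinus_iff hm hab k).2 hk, (Semi.ofSim k).induced_iff.2 hkx.symm⟩
    have hxp : x ^ p = 1 := hord ▸ pow_orderOf_eq_one x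
    have hp2 : p = 2 := by
      by_contra h
      refine hout ⟨g, ?_, hg⟩
      have h3 := parM_eq_of_conjA_eq hm hab (g := g ^ p) (k := 1) (by rw [map_pow, hg, hxp, map_one])
      rw [map_pow, map_one] at h3
      rcases Int.units_eq_one_or (parM hm hab g) with h4 | h4
      · exact h4
      · rw [h4, (hp.odd_of_ne_two h).neg_one_pow] at h3
        exact absurd h3 (by decide)
    subst hp2
    have hodd : Odd (Fintype.card F) := by
      refine Nat.odd_iff.2 (FiniteField.odd_card_of_char_ne_two fun h => hpr ?_)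
      rw [← h, ringChar.eq F r]
    have h2 := two_ne_zero_of_odd hodd
    have hn : finrank F ((Fin m ⊕ Fin m) ⊕ Fin 2 → F) = 2 * (m + 1) := by simp; omega
    obtain ⟨k, rfl, -, hk⟩ := classify hm hab hodd h1 (by rw [← pow_two]; exact hxp) hout
    have hw : LocalBalance.Witness 2 (conjA k) := by
      rcases hk with ⟨hiso, hinv, hAo, hBo⟩ | ⟨hev, c, hns, hsim, hsq⟩
      · obtain ⟨-, hdim, -⟩ := det_involution h2 hinv
        refine witness_rigid hc one_ne_zero (fun v => by rw [one_smul]; exact hinv v)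
          (rigid_split hc h2 hiso hinv _ _ (fun v => ?_) (fun v => ?_) hAo hBo ?_) hord
        · simp [sub_eq_zero]
        · simp [add_eq_zero_iff_eq_neg]
        · rw [hn] at hdim; omega
      · exact witness_rigid hc (l := c) (fun h => hns (h.symm ▸ IsSquare.zero)) hsq
          (rigid_nonsplit hc h2 hns hsim hsq (k := m + 1) (by simp; omega) hev.add_one (by omega)) hord
    exact iff_of_false (fun h => h (LocalBalance.core_eq_bot hord hw hA))
      fun h => galOf_fieldClass_minus hm hab h.1 h1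
  · set σ := galOf hc x with hσdef
    let K : Subfield F := (σ : F →+* F).eqLocusField (RingHom.id F)
    have hi : ∀ y : F, σ y = y ↔ y ∈ K.subtype.range := fun y =>
      ⟨fun h => ⟨⟨y, h⟩, rfl⟩, fun ⟨z, hz⟩ => hz ▸ z.2⟩
    obtain ⟨ζ, hζ⟩ := exists_rootfree (F := K)
    obtain ⟨hop, habP, e, hx⟩ := normal_minus hm hab hp (hord ▸ pow_orderOf_eq_one x) h1 K.subtype hi hζ
    have ha1 : σ (K.subtype 1) = K.subtype 1 := (hi _).2 ⟨1, rfl⟩
    have hb1 : σ (K.subtype ζ) = K.subtype ζ := (hi _).2 ⟨ζ, rfl⟩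
    have hP := qMinus_gal (m := m) σ ha1 hb1
    replace hx : x = e.autIso (Semi.ofGal σ hP).aut := hx
    have hclass : Cfsg.IsFieldAutClassPOmegaMinus m x :=
      ⟨_, _, e.pom.symm, σ, habP, h1, ha1, hb1, (Semi.isFieldAut_iff σ hP).2 (MulEquiv.ext fun z => by
        show e.pom.symm (x (e.pom z)) = _
        rw [hx]; exact (congrArg e.pom.symm (e.autIso_apply _ z)).trans (e.pom.symm_apply_apply _))⟩
    rw [and_iff_right hclass]
    refine LocalBalance.core_ne_bot_iff_coprime (conj_injective hc) (not_nilpotent hc) hp hord hA fun hd => ?_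
    rw [hx] at hd ⊢
    refine witness_congr e.pom (witness_field (qMinus_map K.subtype 1 ζ) (ctx_minus hm habP)
      (ctx_minus hm (rootfree_aniso hζ)) hP hi hp (fun h => absurd (h ▸ hop) (by decide)) ?_)
    have h5 := map_inf_centralizer e.autIso (Cfsg.Inn (Cfsg.POmega F ⇑(qMinus F m (K.subtype 1) (K.subtype ζ))))
      (Semi.ofGal σ hP).aut
    rw [e.map_inn] at h5
    refine hd.trans (dvd_of_eq ?_)
    show Nat.card ↥(Cfsg.Inn _ ⊓ _) = Nat.card ↥(Cfsg.Inn _ ⊓ _)
    rw [← h5]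
    exact Nat.card_congr (Subgroup.equivMapOfInjective _ _ e.autIso.injective).toEquiv.symm

end Cfsg.Agent.AutPOmega
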