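import Cfsg.Agent.AutPOmega.Structure
import Cfsg.Agent.AutPSL.Centralizers

/-!
Semisimilarities inducing automorphisms of prime order: descent of the form to the fixed field; transport of
POmega along linear isomorphisms of forms.
-/

set_option autoImplicit false

namespace Cfsg.Agent.AutPOmega

open Module QuadraticMap Classical.Quad Matrix

variable {ι : Type} [Fintype ι] [DecidableEq ι] {F : Type*} [Field F] {Q : QuadraticForm F (ι → F)}

/-- Two forms agreeing on the vectors over a subfield are equal. -/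
theorem qf_ext_sub {F₀ : Type*} [Field F₀] (i : F₀ →+* F) {Q₁ Q₂ : QuadraticForm F (ι → F)}
    (h : ∀ v : ι → F₀, Q₁ (fun j => i (v j)) = Q₂ (fun j => i (v j))) : Q₁ = Q₂ := by
  set D := Q₁ - Q₂ with hD
  have hb : ∀ j, (Pi.single j 1 : ι → F) = fun l => i ((Pi.single j 1 : ι → F₀) l) := fun j => by
    funext l
    by_cases hl : l = j <;> simp [hl]
  have h0 : ∀ v : ι → F₀, D (fun j => i (v j)) = 0 := fun v => by rw [hD, QuadraticMap.sub_apply, h, sub_self]
  have hpol : ∀ j l, polar (⇑D) (Pi.single j 1 : ι → F) (Pi.single l 1) = 0 := fun j l => by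
    have e : (Pi.single j 1 : ι → F) + Pi.single l 1 =
        fun x => i ((Pi.single j 1 + Pi.single l 1 : ι → F₀) x) := by
      rw [hb j, hb l]; funext x; simp
    rw [polar, e, h0, hb j, hb l, h0, h0]; ring
  have hB : polarBilin D = 0 := LinearMap.ext_basis (Pi.basisFun F ι) (Pi.basisFun F ι) fun j l => by
    simpa using hpol j l
  have hall : ∀ v, D v = 0 := fun v => by
    rw [← Finset.univ_sum_single v]
    refine Finset.induction_on (Finset.univ : Finset ι) (by simp) fun j s hj ih => ?_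
    rw [Finset.sum_insert hj, Classical.Quad.map_add', ih,
      show polar (⇑D) (Pi.single j (v j)) (∑ x ∈ s, Pi.single x (v x)) = 0 from
        LinearMap.congr_fun (LinearMap.congr_fun hB _) _,
      show (Pi.single j (v j) : ι → F) = v j • Pi.single j 1 by rw [← Pi.single_smul, smul_eq_mul, mul_one],
      Classical.Quad.map_smul', hb j, h0]
    simp
  exact sub_eq_zero.1 (QuadraticMap.ext hall)

theorem mulVec_map_apply {F₀ : Type*} [Field F₀] (i : F₀ →+* F) (M : Matrix ι ι F₀) (v : ι → F₀) :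
    M.map i *ᵥ (fun j => i (v j)) = fun j => i ((M *ᵥ v) j) :=
  funext fun j => (RingHom.map_mulVec i M v j).symm

/-- Iterating a semisimilarity. -/
def Semi.npow (T : Semi Q) : ℕ → Semi Q
  | 0 => { g := 1, σ := 1, c := 1, c_ne := one_ne_zero, map_Q := fun v => by
              rw [Units.val_one, Matrix.one_mulVec, one_mul]; rfl }
  | k + 1 => T.comp (T.npow k)

theorem Semi.aut_npow (T : Semi Q) : ∀ k, (T.npow k).aut = T.aut ^ k
  | 0 => by
    refine autExt fun s => ?_
    rw [Semi.aut_mkO, pow_zero, MulAut.one_apply]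
    refine congrArg mkO ((T.npow 0).omAut_ext fun v => ?_)
    rw [Semi.omAut_app]
    show (1 : GL ι F).1 *ᵥ _ = mat s *ᵥ ((1 : GL ι F).1 *ᵥ _)
    rw [Units.val_one, Matrix.one_mulVec, Matrix.one_mulVec]
    rfl
  | k + 1 => by rw [Semi.npow, Semi.aut_comp, Semi.aut_npow T k, pow_succ']

theorem Semi.sigma_npow (T : Semi Q) : ∀ k, (T.npow k).σ = T.σ ^ k
  | 0 => (pow_zero T.σ).symm
  | k + 1 => by rw [pow_succ', ← Semi.sigma_npow T k]; rfl

variable [Finite F]

/-- The coboundary of a semisimilarity inducing an automorphism of order dividing that of its field automorphism. -/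
theorem exists_frame (hc : Ctx Q) (T : Semi Q) {r : ℕ} (hr : orderOf T.σ = r) (h : T.aut ^ r = 1) :
    ∃ (k : GL ι F) (a : F), a ≠ 0 ∧ ∀ v, T.app (k.1 *ᵥ v) = a • (k.1 *ᵥ fun j => T.σ (v j)) := by
  set n := Fintype.card ι
  let e : ι ≃ Fin n := Fintype.equivFin ι
  let R : GL ι F ≃* GL (Fin n) F := Units.mapEquiv (Matrix.reindexAlgEquiv F F e).toMulEquiv
  have hRσ : ∀ (τ : F ≃+* F) (g : GL ι F), R (Matrix.GeneralLinearGroup.map (τ : F →+* F) g) =
      AutPSL.fieldGL τ (R g) := fun τ g => Units.ext (Matrix.ext fun _ _ => rfl)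
  have htw : ∀ k, AutPSL.twN T.σ (R T.g) k = R (T.npow k).g := by
    intro k
    induction k with
    | zero => exact (map_one R).symm
    | succ k ih =>
      show R T.g * AutPSL.fieldGL T.σ (AutPSL.twN T.σ (R T.g) k) = R (T.g * _)
      rw [ih, map_mul, hRσ]
  have hσr : T.σ ^ r = 1 := by rw [← hr]; exact pow_orderOf_eq_one _
  obtain ⟨-, c, hc0, hcv⟩ := (T.npow r).eq_of_aut_eq_one hc (by rw [T.aut_npow, h])
  have hg : (T.npow r).g.1 = c • (1 : Matrix ι ι F) := Matrix.ext_of_mulVec_single fun j => by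
    have h1 := hcv (Pi.single j 1)
    rw [Semi.app, T.sigma_npow r, hσr] at h1
    rw [Matrix.smul_mulVec, Matrix.one_mulVec]
    exact h1
  have hn : 0 < n := by have := hc.seven; omega
  obtain ⟨a, k', hk⟩ := AutPSL.exists_coboundary hn hr (R T.g) (by
    rw [htw, Matrix.GeneralLinearGroup.center_eq_range_scalar]
    refine ⟨Units.mk0 c hc0, Units.ext (Matrix.ext fun x y => ?_)⟩
    show Matrix.scalar (Fin n) c x y = (T.npow r).g.1 (e.symm x) (e.symm y)
    rw [hg]
    simp [Matrix.diagonal_apply, Matrix.one_apply, e.symm.injective.eq_iff])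
  set k := R.symm k'
  have hkR : R k = k' := R.apply_symm_apply k'
  have hk2 : R (T.g * Matrix.GeneralLinearGroup.map (T.σ : F →+* F) k) =
      Matrix.GeneralLinearGroup.scalar (Fin n) a * R k := by
    rw [map_mul, hRσ, hkR, hk, mul_assoc, mul_assoc, inv_mul_cancel, mul_one]
  have hk3 : (T.g * Matrix.GeneralLinearGroup.map (T.σ : F →+* F) k).1 = (a : F) • k.1 := by
    ext x y
    have h4 := congrFun (congrFun (congrArg (fun g : GL (Fin n) F => (g : Matrix (Fin n) (Fin n) F)) hk2) (e x)) (e y)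
    change (T.g * Matrix.GeneralLinearGroup.map (T.σ : F →+* F) k).1 (e.symm (e x)) (e.symm (e y)) =
      (Matrix.scalar (Fin n) (a : F) * (R k).1) (e x) (e y) at h4
    simp only [e.symm_apply_apply, Matrix.scalar_apply, Matrix.diagonal_mul] at h4
    rw [h4, Matrix.smul_apply, smul_eq_mul]
    show _ * k.1 (e.symm (e x)) (e.symm (e y)) = _
    rw [e.symm_apply_apply, e.symm_apply_apply]
  refine ⟨k, a, a.ne_zero, fun v => ?_⟩
  have h5 : (fun j => T.σ ((k.1 *ᵥ v) j)) = k.1.map T.σ *ᵥ fun j => T.σ (v j) := T.map_mulVec _ _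
  rw [Semi.app, h5, Matrix.mulVec_mulVec, ← Matrix.smul_mulVec, ← hk3]
  rfl

/-- The form over the fixed field attached to a semisimilarity of prime order. -/
theorem exists_descent (hc : Ctx Q) (T : Semi Q) {r : ℕ} (hr : orderOf T.σ = r) (h : T.aut ^ r = 1)
    {F₀ : Type*} [Field F₀] (i : F₀ →+* F) (hi : ∀ x : F, T.σ x = x ↔ x ∈ i.range) :
    ∃ (k : GL ι F) (a α : F) (G₀ : QuadraticForm F₀ (ι → F₀)), a ≠ 0 ∧ α ≠ 0 ∧ (polarBilin G₀).Nondegenerate ∧
      (∀ v : ι → F₀, Q (k.1 *ᵥ fun j => i (v j)) = α * i (G₀ v)) ∧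
      ∀ v, T.app (k.1 *ᵥ v) = a • (k.1 *ᵥ fun j => T.σ (v j)) := by
  obtain ⟨k, a, ha, hk⟩ := exists_frame hc T hr h
  let Qk : QuadraticForm F (ι → F) := Q.comp (Matrix.toLin' k.1)
  have hfix : ∀ v : ι → F₀, (fun j => T.σ (i (v j))) = fun j => i (v j) := fun v =>
    funext fun j => (hi _).2 ⟨_, rfl⟩
  have hrel : ∀ v : ι → F₀, a * a * Qk (fun j => i (v j)) = T.c * T.σ (Qk fun j => i (v j)) := fun v => by
    have h1 := T.Q_app (k.1 *ᵥ fun j => i (v j))
    rw [hk, hfix, Classical.Quad.map_smul'] at h1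
    exact h1
  obtain ⟨v₀, hv₀⟩ : ∃ v₀ : ι → F₀, Qk (fun j => i (v₀ j)) ≠ 0 := by
    by_contra hne
    push Not at hne
    have h0 : Qk = 0 := qf_ext_sub i fun v => by rw [hne v, QuadraticMap.zero_apply]
    obtain ⟨v, hv⟩ := exists_value_one hc
    have h1 : Qk ((k⁻¹).1 *ᵥ v) = 0 := by rw [h0, QuadraticMap.zero_apply]
    change Q (k.1 *ᵥ ((k⁻¹).1 *ᵥ v)) = 0 at h1
    rw [Matrix.mulVec_mulVec, Units.mul_inv, Matrix.one_mulVec, hv] at h1
    exact one_ne_zero h1
  set α := Qk (fun j => i (v₀ j)) with hα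
  have hex : ∀ v : ι → F₀, ∃ x : F₀, i x = α⁻¹ * Qk (fun j => i (v j)) := fun v => (hi _).1 (by
    have h1 := hrel v
    have h2 := hrel v₀
    rw [← hα] at h2
    have hσα : T.σ α ≠ 0 := (map_ne_zero T.σ).2 hv₀
    rw [map_mul, map_inv₀]
    field_simp
    refine mul_left_cancel₀ T.c_ne ?_
    linear_combination Qk (fun j => i (v j)) * h2 - α * h1)
  choose G hG using hex
  have hG' : ∀ v, α * i (G v) = Qk fun j => i (v j) := fun v => by rw [hG, mul_inv_cancel_left₀ hv₀]
  have hadd : ∀ x y : ι → F₀, (fun j => i ((x + y) j)) = (fun j => i (x j)) + fun j => i (y j) := fun x y => by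
    funext j; simp
  have hsmul : ∀ (s : F₀) (x : ι → F₀), (fun j => i ((s • x) j)) = i s • fun j => i (x j) := fun s x => by
    funext j; simp
  have hpol : ∀ x y, α * i (polar G x y) = polar (⇑Qk) (fun j => i (x j)) (fun j => i (y j)) := fun x y => by
    rw [polar, map_sub, map_sub, mul_sub, mul_sub, hG', hG', hG', hadd]
    rfl
  have hinj : ∀ {x y : F₀}, α * i x = α * i y → x = y := fun h => i.injective (mul_left_cancel₀ hv₀ h)
  let G₀ : QuadraticForm F₀ (ι → F₀) := QuadraticMap.ofPolar G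
    (fun s x => hinj (by
      rw [hG', hsmul, Classical.Quad.map_smul', smul_eq_mul, map_mul, map_mul, ← hG']; ring))
    (fun x x' y => hinj (by rw [map_add, mul_add, hpol, hpol, hpol, hadd, polar_add_left]))
    (fun s x y => hinj (by
      rw [smul_eq_mul, map_mul, hpol, hsmul, polar_smul_left, smul_eq_mul, ← hpol]; ring))
  refine ⟨k, a, α, G₀, ha, hv₀, nondeg_of fun x hx => ?_, fun v => (hG' v).symm, hk⟩
  have h0 : ∀ y : ι → F, polarBilin Qk (fun j => i (x j)) y = 0 := fun y => by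
    have : polarBilin Qk (fun j => i (x j)) = 0 := (Pi.basisFun F ι).ext fun l => by
      have e : (Pi.single l 1 : ι → F) = fun j => i ((Pi.single l 1 : ι → F₀) j) := by
        funext j
        by_cases hj : j = l <;> simp [hj]
      rw [Pi.basisFun_apply, LinearMap.zero_apply]
      show polar (⇑Qk) _ _ = 0
      rw [e, ← hpol, show polar G x (Pi.single l 1) = 0 from hx _, map_zero, mul_zero]
    rw [this, LinearMap.zero_apply]
  have h1 : k.1 *ᵥ (fun j => i (x j)) = 0 := eq_zero_of_polar hc.nondeg fun z => by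
    have h2 := h0 ((k⁻¹).1 *ᵥ z)
    have hz : k.1 *ᵥ ((k⁻¹).1 *ᵥ z) = z := by rw [Matrix.mulVec_mulVec, Units.mul_inv, Matrix.one_mulVec]
    rw [← hz]
    simpa [Qk, polar, Matrix.mulVec_add] using h2
  have h3 : (fun j => i (x j)) = 0 := by
    have h4 := congrArg ((k⁻¹).1 *ᵥ ·) h1
    simpa [Matrix.mulVec_mulVec] using h4
  funext j
  exact i.injective ((congrFun h3 j).trans (map_zero i).symm)

/-- Matching the descended form with a model. -/
theorem exists_normal_form (hc : Ctx Q) (T : Semi Q) {F₀ : Type*} [Field F₀] (i : F₀ →+* F) {k : GL ι F} {a α : F}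
    (ha : a ≠ 0) (hα : α ≠ 0) {G₀ P₀ : QuadraticForm F₀ (ι → F₀)} (hi : ∀ x : F₀, T.σ (i x) = i x)
    (hk : ∀ v : ι → F₀, Q (k.1 *ᵥ fun j => i (v j)) = α * i (G₀ v))
    (hT : ∀ v, T.app (k.1 *ᵥ v) = a • (k.1 *ᵥ fun j => T.σ (v j)))
    (e : (ι → F₀) ≃ₗ[F₀] (ι → F₀)) {l : F₀} (hl : l ≠ 0) (he : ∀ v, G₀ (e v) = l * P₀ v)
    {P : QuadraticForm F (ι → F)} (hP : ∀ v : ι → F₀, P (fun j => i (v j)) = i (P₀ v)) :
    ∃ (H : GL ι F) (c : F), c ≠ 0 ∧ (∀ v, Q (H.1 *ᵥ v) = c * P v) ∧
      ∀ v, T.app (H.1 *ᵥ v) = a • (H.1 *ᵥ fun j => T.σ (v j)) := by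
  let e' : GL ι F₀ := ⟨LinearMap.toMatrix' e.toLinearMap, LinearMap.toMatrix' e.symm.toLinearMap,
    by rw [← LinearMap.toMatrix'_comp, LinearEquiv.comp_symm, LinearMap.toMatrix'_id],
    by rw [← LinearMap.toMatrix'_comp, LinearEquiv.symm_comp, LinearMap.toMatrix'_id]⟩
  have he' : ∀ v, e'.1 *ᵥ v = e v := fun v => LinearMap.toMatrix'_mulVec _ _
  refine ⟨k * Matrix.GeneralLinearGroup.map i e', α * i l, mul_ne_zero hα ((map_ne_zero i).2 hl), fun v => ?_,
    fun v => ?_⟩
  · have h := qf_ext_sub i (Q₁ := Q.comp (Matrix.toLin' (k.1 * e'.1.map i))) (Q₂ := (α * i l) • P) fun w => by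
      show Q ((k.1 * e'.1.map i) *ᵥ fun j => i (w j)) = (α * i l) • P (fun j => i (w j))
      rw [← Matrix.mulVec_mulVec, mulVec_map_apply, hk, he', he, hP, map_mul, smul_eq_mul, mul_assoc]
    exact QuadraticMap.congr_fun h v
  · have hmap : (e'.1.map i).map T.σ = e'.1.map i := Matrix.ext fun x y => hi _
    have h5 : (fun j => T.σ ((e'.1.map i *ᵥ v) j)) = e'.1.map i *ᵥ fun j => T.σ (v j) := by
      rw [T.map_mulVec, hmap]
    show T.app ((k.1 * e'.1.map i) *ᵥ v) = a • ((k.1 * e'.1.map i) *ᵥ _)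
    rw [← Matrix.mulVec_mulVec, hT, h5, ← Matrix.mulVec_mulVec]

end Cfsg.Agent.AutPOmega
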