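import Cfsg.Agent.AutPOmega.Odd
import Cfsg.Agent.AutPOmega.Lang
import Cfsg.Agent.AutPSL.Classes

/-!
Field automorphisms of prime order in odd dimension: normal form under the inner-diagonal group.
-/

set_option autoImplicit false

namespace Cfsg.Agent.AutPOmega

open Module QuadraticMap Classical.Quad Matrix

section General

variable {ι : Type} [Fintype ι] [DecidableEq ι] {F : Type*} [Field F] {Q : QuadraticForm F (ι → F)}

/-- A similarity conjugating a semisimilarity to a field automorphism. -/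
theorem conj_of_normal [Finite F] (T S : Semi Q) {H : GL ι F} {c a : F} (hc' : c ≠ 0) (ha : a ≠ 0)
    (hH : ∀ v, Q (H.1 *ᵥ v) = c * Q v) (hT : ∀ v, T.app (H.1 *ᵥ v) = a • (H.1 *ᵥ S.app v)) :
    ∃ h, h ∈ (conjA (Q := Q)).range ∧ T.aut = h * S.aut * h⁻¹ ∧
      ∃ g, h = conjA g ∧ g.1 = H := by
  let g : Geo.quadSimilarityGroup (F := F) (⇑Q) := ⟨H, Units.mk0 c hc', hH⟩
  refine ⟨conjA g, ⟨g, rfl⟩, ?_, g, rfl, rfl⟩
  rw [eq_mul_inv_iff_mul_eq, conjA_apply, ← Semi.aut_comp, ← Semi.aut_comp]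
  refine Semi.aut_congr _ _ ha fun v => ?_
  rw [Semi.app_comp, Semi.app_comp, Semi.ofSim_app, hT]
  rfl

theorem gal_comm' {F : Type*} [Field F] [Finite F] (σ τ : F ≃+* F) : Commute σ τ := by
  have := Fintype.ofFinite F
  obtain ⟨p, hp⟩ := CharP.exists F
  obtain ⟨k, hk, hcard⟩ := FiniteField.card F p
  have := Fact.mk hk
  exact AutPSL.gal_comm (f := k) k.2 hcard σ τ

theorem galOf_conj [Finite F] (hc : Ctx Q) (α β : MulAut (Cfsg.POmega F ⇑Q)) :
    galOf hc (α * β * α⁻¹) = galOf hc β := galOf_comm hc gal_comm' α β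

theorem orderOf_gal [Finite F] (hc : Ctx Q) {x : MulAut (Cfsg.POmega F ⇑Q)} {r : ℕ} (hr : r.Prime)
    (hxr : x ^ r = 1) (hne : galOf hc x ≠ 1) : orderOf (galOf hc x) = r := by
  have := Fact.mk hr
  exact orderOf_eq_prime (by rw [← map_pow, hxr, map_one]) hne

theorem galOf_fieldClass [Finite F] (hc : Ctx Q) (hQ : ∀ (σ : F ≃+* F) v, Q (fun j => σ (v j)) = σ (Q v))
    {x : MulAut (Cfsg.POmega F ⇑Q)} (hx : Cfsg.IsFieldAutClassPOmega (⇑Q) x) : galOf hc x ≠ 1 := by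
  obtain ⟨α, φ, σ, hσ, hφ, h⟩ := hx
  rw [Semi.isFieldAut_iff σ (hQ σ)] at hφ
  rw [← galOf_conj hc α x, h, hφ, galOf_aut]
  exact hσ

end General

variable {F : Type*} [Field F] [Fintype F] {m : ℕ} (hodd : Odd (Fintype.card F)) (hm : 3 ≤ m)
include hodd hm

theorem normal_odd {x : MulAut (Cfsg.POmega F ⇑(qOdd F m))} {r : ℕ} (hr : r.Prime) (hxr : x ^ r = 1)
    (hne : galOf (ctx_odd hodd hm) x ≠ 1) :
    Cfsg.IsConjUnder (conjA (Q := qOdd F m)).range (Semi.ofGal _ (qOdd_gal (galOf (ctx_odd hodd hm) x))).aut x := by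
  obtain ⟨T, rfl⟩ := exists_semi (ctx_odd hodd hm) x
  have hord := orderOf_gal (ctx_odd hodd hm) hr hxr hne
  rw [galOf_aut] at hord
  rw [galOf_aut]
  let K : Subfield F := (T.σ : F →+* F).eqLocusField (RingHom.id F)
  have hi : ∀ y : F, T.σ y = y ↔ y ∈ K.subtype.range := fun y =>
    ⟨fun h => ⟨⟨y, h⟩, rfl⟩, fun ⟨z, hz⟩ => hz ▸ z.2⟩
  obtain ⟨k, a, α, G₀, ha, hα, hG₀, hk, hT⟩ := exists_descent (ctx_odd hodd hm) T hord hxr K.subtype hi
  obtain ⟨c, hc, -, E, hE⟩ := odd_case hG₀ (m := m) (by rw [finrank_fintype_fun_eq_card]; simp; ring)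
  let S : (((Fin m → K) × (Fin m → K)) × K) ≃ₗ[K] (((Fin m → K) × (Fin m → K)) × K) :=
    ((LinearEquiv.smulOfNeZero K (Fin m → K) c hc).prodCongr (LinearEquiv.refl K (Fin m → K))).prodCongr
      (LinearEquiv.refl K K)
  have hS : ∀ w, hyp (c • sqForm K) m (S w) = c * hyp (sqForm K) m w := fun w => by
    rw [hyp_apply, hyp_apply, mul_add, Finset.mul_sum]
    simp [S, mul_assoc]
  obtain ⟨H, c', hc', hH, hTH⟩ := exists_normal_form (ctx_odd hodd hm) T K.subtype ha hα (fun y => y.2) hk hT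
    ((oddCoord m).trans (S.trans E)) hc (P₀ := qOdd K m) (P := qOdd F m) (fun v => by
      show G₀ (E (S (oddCoord m v))) = _
      rw [hE, hS, qOdd_apply, oddCoord_map]) (fun v => qOdd_map K.subtype v)
  obtain ⟨h, hh, e, -⟩ := conj_of_normal T (Semi.ofGal T.σ (qOdd_gal T.σ)) hc' ha hH
    (fun v => by rw [hTH, Semi.ofGal_app])
  exact ⟨h, hh, e⟩

/-- Twisted conjugacy in the inner-diagonal coset. -/
theorem coset_odd {x δ : MulAut (Cfsg.POmega F ⇑(qOdd F m))} {r : ℕ} (hr : r.Prime) (hxr : orderOf x = r)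
    (hne : galOf (ctx_odd hodd hm) x ≠ 1) (hδ : δ ∈ (conjA (Q := qOdd F m)).range) :
    orderOf (δ * x) = r ↔ Cfsg.IsConjUnder (conjA (Q := qOdd F m)).range x (δ * x) := by
  constructor
  · intro h
    have hg : galOf (ctx_odd hodd hm) (δ * x) = galOf (ctx_odd hodd hm) x := by
      rw [← ker_galOf (ctx_odd hodd hm), MonoidHom.mem_ker] at hδ
      rw [map_mul, hδ, one_mul]
    have h1 := normal_odd hodd hm hr (hxr ▸ pow_orderOf_eq_one x) hne
    have h2 := normal_odd hodd hm hr (h ▸ pow_orderOf_eq_one (δ * x)) (hg ▸ hne)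
    rw [hg] at h2
    exact AutPSL.isConjUnder_trans (AutPSL.isConjUnder_symm h1) h2
  · rintro ⟨h, -, e⟩
    rw [e, AutPSL.orderOf_conj_eq, hxr]

end Cfsg.Agent.AutPOmega
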