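import Cfsg.Agent.AutPOmega.Balance
import Cfsg.Agent.AutPOmega.OddLang

/-!
Local balance in odd dimension.
-/

set_option autoImplicit false

namespace Cfsg.Agent.AutPOmega

open Module QuadraticMap Classical.Quad Matrix

theorem odd_card_subfield {F : Type*} [Field F] [Fintype F] (hodd : Odd (Fintype.card F)) (K : Subfield F)
    [Fintype K] : Odd (Fintype.card K) := by
  rw [Module.card_eq_pow_finrank (K := K) (V := F)] at hodd
  exact (Nat.odd_pow_iff Module.finrank_pos.ne').1 hodd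

theorem balance_odd {F : Type*} [Field F] [Fintype F] {m : ℕ} (hodd : Odd (Fintype.card F)) (hm : 3 ≤ m)
    (A : Subgroup (MulAut (Cfsg.POmega F ⇑(qOdd F m)))) (hinn : ∀ k : Cfsg.POmega F ⇑(qOdd F m), MulAut.conj k ∈ A)
    {p : ℕ} (hp : p.Prime) (x : MulAut (Cfsg.POmega F ⇑(qOdd F m))) (hord : orderOf x = p)
    (hnot : ¬ Cfsg.IsSimilarityInducedAutPOmega (⇑(qOdd F m)) x) :
    Cfsg.pPrimeCore p ↥(A ⊓ Subgroup.centralizer {x}) ≠ ⊥ ↔ (Cfsg.IsFieldAutClassPOmega (⇑(qOdd F m)) x ∧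
      p.Coprime (Nat.card ↥(MonoidHom.eqLocus x.toMonoidHom (MonoidHom.id (Cfsg.POmega F ⇑(qOdd F m)))))) := by
  classical
  have hc := ctx_odd hodd hm
  have hne : galOf hc x ≠ 1 := fun h1 => hnot (by
    rw [isSimilarityInduced_iff]
    rw [← MonoidHom.mem_ker, ker_galOf hc] at h1
    obtain ⟨g, hg⟩ := h1
    exact ⟨g, hg.symm⟩)
  obtain ⟨h, -, hx⟩ := normal_odd hodd hm hp (hord ▸ pow_orderOf_eq_one x) hne
  set σ := galOf hc x
  have hclass : Cfsg.IsFieldAutClassPOmega (⇑(qOdd F m)) x :=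
    ⟨h⁻¹, _, σ, hne, (Semi.isFieldAut_iff σ (qOdd_gal σ)).2 rfl, by rw [hx]; group⟩
  rw [and_iff_right hclass]
  let K : Subfield F := (σ : F →+* F).eqLocusField (RingHom.id F)
  have hi : ∀ y : F, σ y = y ↔ y ∈ K.subtype.range := fun y =>
    ⟨fun h => ⟨⟨y, h⟩, rfl⟩, fun ⟨z, hz⟩ => hz ▸ z.2⟩
  haveI := Fintype.ofFinite K
  have hoddK := odd_card_subfield hodd K
  exact balance_of_field (qOdd_map K.subtype) hc (ctx_odd hoddK hm) (qOdd_gal σ) hi hp
    (fun _ => two_ne_zero_of_odd hoddK) hx hord hinn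

end Cfsg.Agent.AutPOmega
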