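import Mathlib
import Cfsg.Agent.Classical.QuadDecomp

/-!
Quadratic spaces with three orthogonal hyperbolic pairs: singular vectors, frames, zero counts modulo p.
-/

set_option autoImplicit false

namespace Cfsg.Agent.AutPOmega

open Module QuadraticMap Classical.Quad

variable {ι : Type} [Fintype ι] [DecidableEq ι] {F : Type*} [Field F] {Q : QuadraticForm F (ι → F)}

/-- A hyperbolic pair. -/
structure HPair (Q : QuadraticForm F (ι → F)) (a b : ι → F) : Prop where
  ha : Q a = 0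
  hb : Q b = 0
  hab : polar (⇑Q) a b = 1

/-- The basic hypotheses: non-degenerate, Witt index at least three. -/
structure Pre (Q : QuadraticForm F (ι → F)) : Prop where
  nondeg : (polarBilin Q).Nondegenerate
  pairs : ∃ a b : Fin 3 → ι → F, (∀ i, HPair Q (a i) (b i)) ∧
    ∀ i j, i ≠ j → polar (⇑Q) (a i) (a j) = 0 ∧ polar (⇑Q) (a i) (b j) = 0 ∧ polar (⇑Q) (b i) (b j) = 0
  seven : 7 ≤ Fintype.card ι

/-- The standing hypotheses: non-degenerate, Witt index at least three, not the hyperbolic space of dimension 8. -/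
structure Ctx (Q : QuadraticForm F (ι → F)) : Prop extends Pre Q where
  notD4 : 9 ≤ Fintype.card ι ∨ ∀ W : Submodule F (ι → F), (∀ x ∈ W, Q x = 0) → finrank F W ≤ 3

theorem HPair.ba {a b : ι → F} (H : HPair Q a b) : polar (⇑Q) b a = 1 := by rw [polar_comm, H.hab]

theorem polar_singular {x : ι → F} (hx : Q x = 0) : polar (⇑Q) x x = 0 := by rw [polar_self', hx, mul_zero]

theorem HPair.aa {a b : ι → F} (H : HPair Q a b) : polar (⇑Q) a a = 0 := polar_singular H.ha

theorem HPair.bb {a b : ι → F} (H : HPair Q a b) : polar (⇑Q) b b = 0 := polar_singular H.hb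

theorem HPair.symm {a b : ι → F} (H : HPair Q a b) : HPair Q b a := ⟨H.hb, H.ha, H.ba⟩

theorem HPair.a_ne {a b : ι → F} (H : HPair Q a b) : a ≠ 0 := fun h => by
  have := H.hab
  rw [h, polar_zero_left] at this
  exact one_ne_zero this.symm

theorem HPair.b_ne {a b : ι → F} (H : HPair Q a b) : b ≠ 0 := H.symm.a_ne

theorem HPair.indep {a b : ι → F} (H : HPair Q a b) {s t : F} (h : s • a + t • b = 0) : s = 0 ∧ t = 0 := by
  constructor
  · have := congrArg (fun x => polar (⇑Q) x b) h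
    simpa [polar_add_left, polar_smul_left, H.hab, H.bb, polar_zero_left] using this
  · have := congrArg (fun x => polar (⇑Q) x a) h
    simpa [polar_add_left, polar_smul_left, H.ba, H.aa, polar_zero_left] using this

/-- The complement of a pair. -/
def InW (Q : QuadraticForm F (ι → F)) (a b x : ι → F) : Prop := polar (⇑Q) x a = 0 ∧ polar (⇑Q) x b = 0

theorem inW_zero {a b : ι → F} : InW Q a b 0 := ⟨polar_zero_left Q a, polar_zero_left Q b⟩

theorem InW.add {a b x y : ι → F} (hx : InW Q a b x) (hy : InW Q a b y) : InW Q a b (x + y) :=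
  ⟨by rw [polar_add_left, hx.1, hy.1, add_zero], by rw [polar_add_left, hx.2, hy.2, add_zero]⟩

theorem InW.smul {a b x : ι → F} (hx : InW Q a b x) (r : F) : InW Q a b (r • x) :=
  ⟨by rw [polar_smul_left, hx.1, smul_zero], by rw [polar_smul_left, hx.2, smul_zero]⟩

theorem InW.swap {a b x : ι → F} (hx : InW Q a b x) : InW Q b a x := ⟨hx.2, hx.1⟩

theorem InW.ax {a b x : ι → F} (hx : InW Q a b x) : polar (⇑Q) a x = 0 := by rw [polar_comm, hx.1]

theorem InW.bx {a b x : ι → F} (hx : InW Q a b x) : polar (⇑Q) b x = 0 := by rw [polar_comm, hx.2]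

/-- The projection to the complement. -/
def proj (Q : QuadraticForm F (ι → F)) (a b x : ι → F) : ι → F :=
  x - polar (⇑Q) x b • a - polar (⇑Q) x a • b

theorem HPair.proj_mem {a b : ι → F} (H : HPair Q a b) (x : ι → F) : InW Q a b (proj Q a b x) := by
  constructor <;>
    simp [proj, polar_sub_left, polar_smul_left, H.aa, H.bb, H.hab, H.ba]

theorem eq_proj (a b x : ι → F) : x = polar (⇑Q) x b • a + polar (⇑Q) x a • b + proj Q a b x := by
  rw [proj]; abel

theorem proj_eq {a b x : ι → F} (hx : InW Q a b x) : proj Q a b x = x := by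
  rw [proj, hx.1, hx.2, zero_smul, zero_smul, sub_zero, sub_zero]

theorem HPair.map_comb {a b : ι → F} (H : HPair Q a b) {w : ι → F} (hw : InW Q a b w) (s t : F) :
    Q (s • a + t • b + w) = s * t + Q w := by
  rw [map_add', map_add', map_smul', map_smul', H.ha, H.hb, polar_add_left, polar_smul_left, polar_smul_left,
    polar_smul_left, polar_smul_right, H.hab, hw.ax, hw.bx]
  simp only [smul_eq_mul]
  ring

/-- Every vector of a subspace containing a pair is a sum of singular vectors of the subspace. -/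
theorem singular_induction {U : Submodule F (ι → F)} {a b : ι → F} (H : HPair Q a b) (ha : a ∈ U) (hb : b ∈ U)
    {P : (ι → F) → Prop} (hadd : ∀ x ∈ U, ∀ y ∈ U, P x → P y → P (x + y)) (hs : ∀ x ∈ U, Q x = 0 → P x)
    {x : ι → F} (hx : x ∈ U) : P x := by
  set s := polar (⇑Q) x b
  set t := polar (⇑Q) x a
  set w := proj Q a b x with hw
  have hwU : w ∈ U := sub_mem (sub_mem hx (U.smul_mem _ ha)) (U.smul_mem _ hb)
  have hu : (1 : F) • a + (-Q w) • b + w ∈ U := U.add_mem (U.add_mem (U.smul_mem _ ha) (U.smul_mem _ hb)) hwU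
  have e : x = (s - 1) • a + (t + Q w) • b + ((1 : F) • a + (-Q w) • b + w) := by
    conv_lhs => rw [eq_proj (Q := Q) a b x]
    simp only [s, t, w]
    module
  rw [e]
  refine hadd _ (U.add_mem (U.smul_mem _ ha) (U.smul_mem _ hb)) _ hu
    (hadd _ (U.smul_mem _ ha) _ (U.smul_mem _ hb) (hs _ (U.smul_mem _ ha) ?_) (hs _ (U.smul_mem _ hb) ?_))
    (hs _ hu ?_)
  · rw [map_smul', H.ha, mul_zero]
  · rw [map_smul', H.hb, mul_zero]
  · rw [H.map_comb (H.proj_mem x)]; ring

/-- The orthogonal of a family. -/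
def perpF (Q : QuadraticForm F (ι → F)) {k : ℕ} (v : Fin k → ι → F) : Submodule F (ι → F) :=
  LinearMap.ker (LinearMap.pi fun i => (polarBilin Q).flip (v i))

theorem mem_perpF {k : ℕ} {v : Fin k → ι → F} {x : ι → F} : x ∈ perpF Q v ↔ ∀ i, polar (⇑Q) x (v i) = 0 := by
  rw [perpF, LinearMap.mem_ker, funext_iff]
  rfl

omit [DecidableEq ι] in
theorem finrank_perpF {k : ℕ} (v : Fin k → ι → F) : Fintype.card ι ≤ finrank F (perpF Q v) + k := by
  have h := LinearMap.finrank_range_add_finrank_ker (LinearMap.pi fun i => (polarBilin Q).flip (v i))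
  rw [Module.finrank_fintype_fun_eq_card] at h
  have h2 := Submodule.finrank_le (LinearMap.range (LinearMap.pi fun i => (polarBilin Q).flip (v i)))
  rw [Module.finrank_fin_fun] at h2

  unfold perpF
  calc Fintype.card ι = _ + _ := h.symm
    _ ≤ _ := by rw [add_comm]; exact Nat.add_le_add le_rfl h2

theorem exists_singular_perp [Finite F] {k : ℕ} (v : Fin k → ι → F) (h : k + 3 ≤ Fintype.card ι) :
    ∃ x, x ≠ 0 ∧ Q x = 0 ∧ ∀ i, polar (⇑Q) x (v i) = 0 := by
  have h3 : 3 ≤ finrank F (perpF Q v) := by have := finrank_perpF (Q := Q) v; omega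
  obtain ⟨⟨x, hx⟩, hx0, hQ⟩ := exists_singular (Q.comp (perpF Q v).subtype) h3
  exact ⟨x, fun h => hx0 (Subtype.ext h), hQ, mem_perpF.1 hx⟩

/-- The number of zeros in a subspace of dimension at least three containing a pair is divisible by p. -/
theorem zeros_dvd [Fintype F] (p : ℕ) [Fact p.Prime] [CharP F p] {U : Submodule F (ι → F)} {a b : ι → F}
    (H : HPair Q a b) (ha : a ∈ U) (hb : b ∈ U) (h3 : 3 ≤ finrank F U) :
    p ∣ Nat.card {x : U // Q (x : ι → F) = 0} := by
  classical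
  let W : Submodule F (ι → F) := U ⊓ perpF Q ![a, b]
  have hW : ∀ {x}, x ∈ W ↔ x ∈ U ∧ InW Q a b x := fun {x} => by
    rw [Submodule.mem_inf, mem_perpF]
    constructor
    · exact fun h => ⟨h.1, h.2 0, h.2 1⟩
    · rintro ⟨h1, h2, h3⟩
      exact ⟨h1, fun i => by fin_cases i <;> assumption⟩
  have hWU : ∀ {x}, x ∈ U → proj Q a b x ∈ W := fun hx =>
    hW.2 ⟨sub_mem (sub_mem hx (U.smul_mem _ ha)) (U.smul_mem _ hb), H.proj_mem _⟩
  have hmem : ∀ (s t : F) {w}, w ∈ W → s • a + t • b + w ∈ U := fun s t w hw =>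
    U.add_mem (U.add_mem (U.smul_mem _ ha) (U.smul_mem _ hb)) (hW.1 hw).1
  have hcoord : ∀ (s t : F) {w}, w ∈ W → polar (⇑Q) (s • a + t • b + w) b = s ∧
      polar (⇑Q) (s • a + t • b + w) a = t ∧ proj Q a b (s • a + t • b + w) = w := fun s t w hw => by
    have h1 : polar (⇑Q) (s • a + t • b + w) b = s := by
      simp [polar_add_left, polar_smul_left, H.hab, H.bb, (hW.1 hw).2.2]
    have h2 : polar (⇑Q) (s • a + t • b + w) a = t := by
      simp [polar_add_left, polar_smul_left, H.ba, H.aa, (hW.1 hw).2.1]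
    refine ⟨h1, h2, ?_⟩
    rw [proj, h1, h2]; abel
  let Φ : (Fˣ × W) ⊕ (F × {w : W // Q (w : ι → F) = 0}) → {x : U // Q (x : ι → F) = 0} :=
    Sum.elim
      (fun z => ⟨⟨(-Q (z.2 : ι → F) / z.1) • a + (z.1 : F) • b + z.2, hmem _ _ z.2.2⟩, by
        show Q ((-Q (z.2 : ι → F) / z.1) • a + (z.1 : F) • b + z.2) = 0
        rw [H.map_comb (hW.1 z.2.2).2, div_mul_cancel₀ _ z.1.ne_zero, neg_add_cancel]⟩)
      (fun z => ⟨⟨z.1 • a + (0 : F) • b + z.2.1, hmem _ _ z.2.1.2⟩, by
        show Q (z.1 • a + (0 : F) • b + (z.2.1 : ι → F)) = 0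
        rw [H.map_comb (hW.1 z.2.1.2).2, mul_zero, zero_add, z.2.2]⟩)
  have hΦ : Function.Bijective Φ := by
    constructor
    · intro z z' h
      have h' := congrArg (fun x : {x : U // Q (x : ι → F) = 0} => ((x : U) : ι → F)) h
      have e1 := congrArg (fun x => polar (⇑Q) x b) h'
      have e2 := congrArg (fun x => polar (⇑Q) x a) h'
      have e3 := congrArg (fun x => proj Q a b x) h'
      rcases z with ⟨u, w⟩ | ⟨s, w⟩ <;> rcases z' with ⟨u', w'⟩ | ⟨s', w'⟩ <;>
        simp only [Φ, Sum.elim_inl, Sum.elim_inr] at e1 e2 e3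
      · rw [(hcoord _ _ w.2).2.1, (hcoord _ _ w'.2).2.1] at e2
        rw [(hcoord _ _ w.2).2.2, (hcoord _ _ w'.2).2.2] at e3
        rw [Units.ext e2, Subtype.ext e3]
      · rw [(hcoord _ _ w.2).2.1, (hcoord _ _ w'.1.2).2.1] at e2
        exact absurd e2 u.ne_zero
      · rw [(hcoord _ _ w.1.2).2.1, (hcoord _ _ w'.2).2.1] at e2
        exact absurd e2.symm u'.ne_zero
      · rw [(hcoord _ _ w.1.2).1, (hcoord _ _ w'.1.2).1] at e1
        rw [(hcoord _ _ w.1.2).2.2, (hcoord _ _ w'.1.2).2.2] at e3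
        rw [e1, Subtype.ext (Subtype.ext e3)]
    · rintro ⟨⟨x, hx⟩, hQx⟩
      have hQ : polar (⇑Q) x b * polar (⇑Q) x a + Q (proj Q a b x) = 0 := by
        rw [← H.map_comb (H.proj_mem x), ← eq_proj]; exact hQx
      by_cases ht : polar (⇑Q) x a = 0
      · rw [ht, mul_zero, zero_add] at hQ
        refine ⟨Sum.inr (polar (⇑Q) x b, ⟨⟨_, hWU hx⟩, hQ⟩), Subtype.ext (Subtype.ext ?_)⟩
        show polar (⇑Q) x b • a + (0 : F) • b + proj Q a b x = x
        conv_rhs => rw [eq_proj (Q := Q) a b x, ht]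
      · refine ⟨Sum.inl (Units.mk0 _ ht, ⟨_, hWU hx⟩), Subtype.ext (Subtype.ext ?_)⟩
        show (-Q (proj Q a b x) / polar (⇑Q) x a) • a + polar (⇑Q) x a • b + proj Q a b x = x
        rw [show -Q (proj Q a b x) / polar (⇑Q) x a = polar (⇑Q) x b by
          rw [div_eq_iff ht]; linear_combination -hQ]
        exact (eq_proj a b x).symm
  rw [← Nat.card_congr (Equiv.ofBijective Φ hΦ), Nat.card_sum, Nat.card_prod, Nat.card_prod]
  obtain ⟨k, -, hk⟩ := FiniteField.card F p
  have hpF : p ∣ Nat.card F := by rw [Nat.card_eq_fintype_card, hk]; exact dvd_pow_self p k.ne_zero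
  refine Nat.dvd_add (dvd_mul_of_dvd_right ?_ _) (dvd_mul_of_dvd_left hpF _)
  rw [Module.natCard_eq_pow_finrank (K := F)]
  refine dvd_pow hpF fun h0 => ?_
  have hW0 : W = ⊥ := Submodule.finrank_eq_zero.1 h0
  let T : U →ₗ[F] (Fin 2 → F) := (LinearMap.pi fun i => (polarBilin Q).flip (![a, b] i)).comp U.subtype
  have hT : Function.Injective T := (injective_iff_map_eq_zero T).2 fun x hx => by
    have : (x : ι → F) ∈ W := Submodule.mem_inf.2 ⟨x.2, mem_perpF.2 fun i => congrFun hx i⟩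
    rw [hW0, Submodule.mem_bot] at this
    exact Subtype.ext this
  have := LinearMap.finrank_le_finrank_of_injective hT
  rw [Module.finrank_fin_fun] at this
  omega

namespace Pre

variable (hc : Pre Q)
include hc

/-- A pair extends to three mutually orthogonal pairs. -/
theorem exists_pairs {a b : ι → F} (H : HPair Q a b) :
    ∃ a₁ b₁ a₂ b₂ : ι → F, HPair Q a₁ b₁ ∧ HPair Q a₂ b₂ ∧ InW Q a b a₁ ∧ InW Q a b b₁ ∧ InW Q a b a₂ ∧
      InW Q a b b₂ ∧ InW Q a₁ b₁ a₂ ∧ InW Q a₁ b₁ b₂ := by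
  obtain ⟨A, B, hp, ho⟩ := hc.pairs
  have hli : ∀ {x y : ι → F}, HPair Q x y → LinearIndependent F ![x, y] := fun {x y} h =>
    LinearIndependent.pair_iff.2 fun s t hst => h.indep hst
  obtain ⟨g, hg, hgi⟩ := witt_family hc.nondeg 2 ![A 0, B 0] ![a, b] (hli (hp 0)) (hli H)
    (fun i => by fin_cases i <;> simp [(hp 0).ha, (hp 0).hb, H.ha, H.hb])
    (fun i j => by
      fin_cases i <;> fin_cases j <;> simp [(hp 0).aa, (hp 0).bb, (hp 0).hab, (hp 0).ba, H.aa, H.bb, H.hab, H.ba])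
  have e0 : g (A 0) = a := hgi 0
  have e1 : g (B 0) = b := hgi 1
  have hgp : ∀ i, HPair Q (g (A i)) (g (B i)) := fun i =>
    ⟨by rw [hg, (hp i).ha], by rw [hg, (hp i).hb], by rw [polar_eq_of_mem hg, (hp i).hab]⟩
  have hin : ∀ i j : Fin 3, j ≠ i → InW Q (g (A i)) (g (B i)) (g (A j)) ∧ InW Q (g (A i)) (g (B i)) (g (B j)) :=
    fun i j h => by
    constructor <;> constructor <;> rw [polar_eq_of_mem hg]
    · exact (ho j i h).1
    · exact (ho j i h).2.1
    · rw [polar_comm]; exact (ho i j h.symm).2.1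
    · exact (ho j i h).2.2
  refine ⟨g (A 1), g (B 1), g (A 2), g (B 2), hgp 1, hgp 2, ?_, ?_, ?_, ?_, (hin 1 2 (by decide)).1,
    (hin 1 2 (by decide)).2⟩
  · exact e0 ▸ e1 ▸ (hin 0 1 (by decide)).1
  · exact e0 ▸ e1 ▸ (hin 0 1 (by decide)).2
  · exact e0 ▸ e1 ▸ (hin 0 2 (by decide)).1
  · exact e0 ▸ e1 ▸ (hin 0 2 (by decide)).2

theorem six_le : 6 ≤ Fintype.card ι := by have := hc.seven; omega

end Pre

instance : CoeOut (Ctx Q) (Pre Q) := ⟨Ctx.toPre⟩

end Cfsg.Agent.AutPOmega
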