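import Cfsg.Prelude.Def_LieTypeDatum
import Cfsg.Agent.Classical.QuadMat
import Cfsg.Agent.AutPOmega.Space

/-!
Omega and POmega of a quadratic space: the automorphisms induced by semisimilarities, Siegel elements.
-/

set_option autoImplicit false

namespace Cfsg.Agent.AutPOmega

open Module QuadraticMap Classical Classical.Quad Matrix
open scoped commutatorElement

variable {ι : Type} [Fintype ι] [DecidableEq ι] {F : Type*} [Field F] {Q : QuadraticForm F (ι → F)}

/-- The group Omega. -/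
abbrev Om (Q : QuadraticForm F (ι → F)) := ↥(Cfsg.Omega F ⇑Q)

/-- The matrix of an element. -/
abbrev mat (s : Om Q) : Matrix ι ι F := s.1.1.1

theorem om_ext_mulVec {A B : Om Q} (h : ∀ x : ι → F, mat A *ᵥ x = mat B *ᵥ x) : A = B :=
  Subtype.ext (Subtype.ext (Units.ext (Matrix.ext_of_mulVec_single fun i => h (Pi.single i 1))))

theorem mat_mul_mulVec (s t : Om Q) (x : ι → F) : mat (s * t) *ᵥ x = mat s *ᵥ (mat t *ᵥ x) :=
  (Matrix.mulVec_mulVec x (mat s) (mat t)).symm

theorem mat_one_mulVec (x : ι → F) : mat (1 : Om Q) *ᵥ x = x := Matrix.one_mulVec x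

theorem mat_inv_mulVec (s : Om Q) (x : ι → F) : mat s⁻¹ *ᵥ (mat s *ᵥ x) = x := by
  rw [← mat_mul_mulVec, inv_mul_cancel, mat_one_mulVec]

theorem mat_mulVec_inv (s : Om Q) (x : ι → F) : mat s *ᵥ (mat s⁻¹ *ᵥ x) = x := by
  rw [← mat_mul_mulVec, mul_inv_cancel, mat_one_mulVec]

theorem mat_injective (s : Om Q) {x y : ι → F} (h : mat s *ᵥ x = mat s *ᵥ y) : x = y := by
  rw [← mat_inv_mulVec s x, h, mat_inv_mulVec]

theorem mat_mulVec_ne_zero (s : Om Q) {v : ι → F} (hv : v ≠ 0) : mat s *ᵥ v ≠ 0 := fun h =>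
  hv (mat_injective s (h.trans (Matrix.mulVec_zero _).symm))

theorem Q_mat (s : Om Q) (x : ι → F) : Q (mat s *ᵥ x) = Q x := mem_isometryGroup_iff.1 s.1.2 x

theorem polar_mat (s : Om Q) (x y : ι → F) : polar (⇑Q) (mat s *ᵥ x) (mat s *ᵥ y) = polar (⇑Q) x y := by
  simp only [polar, ← Matrix.mulVec_add, Q_mat]

/-- The projection to POmega. -/
def mkO : Om Q →* Cfsg.POmega F ⇑Q := QuotientGroup.mk' _

theorem mkO_surjective : Function.Surjective (mkO (Q := Q)) := QuotientGroup.mk'_surjective _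

theorem mkO_eq_one_iff {s : Om Q} : mkO s = 1 ↔ s ∈ Subgroup.center (Om Q) := QuotientGroup.eq_one_iff s

theorem autExt {α β : MulAut (Cfsg.POmega F ⇑Q)} (h : ∀ s : Om Q, α (mkO s) = β (mkO s)) : α = β :=
  MulEquiv.ext fun x => by obtain ⟨s, rfl⟩ := mkO_surjective x; exact h s

theorem map_center (e : MulAut (Om Q)) :
    (Subgroup.center (Om Q)).map (e : Om Q ≃* Om Q).toMonoidHom = Subgroup.center (Om Q) := by
  ext x
  simp only [Subgroup.mem_map, MulEquiv.coe_toMonoidHom, Subgroup.mem_center_iff]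
  constructor
  · rintro ⟨y, hy, rfl⟩ g
    have := congrArg e (hy (e.symm g))
    simpa using this
  · intro hx
    refine ⟨e.symm x, fun g => e.injective ?_, e.apply_symm_apply x⟩
    simpa using hx (e g)

/-- An automorphism of Omega induces one of POmega. -/
def toPOmAut : MulAut (Om Q) →* MulAut (Cfsg.POmega F ⇑Q) where
  toFun e := QuotientGroup.congr _ _ e (map_center e)
  map_one' := autExt fun _ => rfl
  map_mul' _ _ := autExt fun _ => rfl

/-- A semisimilarity. -/
structure Semi (Q : QuadraticForm F (ι → F)) where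
  g : GL ι F
  σ : F ≃+* F
  c : F
  c_ne : c ≠ 0
  map_Q : ∀ v : ι → F, Q (g.1 *ᵥ fun i => σ (v i)) = c * σ (Q v)

namespace Semi

variable (T : Semi Q)

/-- The semilinear map. -/
def app (v : ι → F) : ι → F := T.g.1 *ᵥ fun i => T.σ (v i)

theorem Q_app (v : ι → F) : Q (T.app v) = T.c * T.σ (Q v) := T.map_Q v

theorem app_add (u v : ι → F) : T.app (u + v) = T.app u + T.app v := by
  simp only [app, ← Matrix.mulVec_add]
  congr 1
  funext i
  exact map_add T.σ _ _

theorem app_smul (a : F) (v : ι → F) : T.app (a • v) = T.σ a • T.app v := by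
  simp only [app, ← Matrix.mulVec_smul]
  congr 1
  funext i
  exact map_mul T.σ _ _

theorem polar_app (u v : ι → F) : polar (⇑Q) (T.app u) (T.app v) = T.c * T.σ (polar (⇑Q) u v) := by
  simp only [polar, ← app_add, Q_app, map_sub]
  ring

/-- The inverse map. -/
def appInv (v : ι → F) : ι → F := fun i => T.σ.symm (((T.g⁻¹).1 *ᵥ v) i)

theorem app_inv (v : ι → F) : T.app (T.appInv v) = v := by
  simp only [app, appInv, RingEquiv.apply_symm_apply]
  rw [Matrix.mulVec_mulVec, Units.mul_inv, Matrix.one_mulVec]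

theorem app_injective {u v : ι → F} (h : T.app u = T.app v) : u = v := by
  have h1 := congrArg ((T.g⁻¹).1 *ᵥ ·) h
  simp only [app, Matrix.mulVec_mulVec, Units.inv_mul, Matrix.one_mulVec] at h1
  funext i
  exact T.σ.injective (congrFun h1 i)

theorem map_mulVec (M : Matrix ι ι F) (v : ι → F) :
    (fun i => T.σ ((M *ᵥ v) i)) = M.map T.σ *ᵥ fun j => T.σ (v j) := by
  funext i
  exact RingHom.map_mulVec (T.σ : F →+* F) M v i

/-- The conjugate of an element of the isometry group. -/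
def conjGL (s : GL ι F) : GL ι F := T.g * Matrix.GeneralLinearGroup.map (T.σ : F →+* F) s * T.g⁻¹

theorem conjGL_app (s : GL ι F) (v : ι → F) : (T.conjGL s).1 *ᵥ T.app v = T.app (s.1 *ᵥ v) := by
  show (T.g.1 * s.1.map T.σ * (T.g⁻¹).1) *ᵥ (T.g.1 *ᵥ _) = T.g.1 *ᵥ _
  rw [Matrix.mulVec_mulVec, Matrix.mul_assoc, Units.inv_mul, Matrix.mul_one, ← Matrix.mulVec_mulVec, T.map_mulVec]

theorem map_symm_map (σ : F ≃+* F) (s : GL ι F) :
    Matrix.GeneralLinearGroup.map (σ.symm : F →+* F) (Matrix.GeneralLinearGroup.map (σ : F →+* F) s) = s :=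
  Units.ext (Matrix.ext fun i j => σ.symm_apply_apply _)

theorem map_map_symm (σ : F ≃+* F) (s : GL ι F) :
    Matrix.GeneralLinearGroup.map (σ : F →+* F) (Matrix.GeneralLinearGroup.map (σ.symm : F →+* F) s) = s :=
  Units.ext (Matrix.ext fun i j => σ.apply_symm_apply _)

/-- The automorphism of the isometry group. -/
def isoAut : MulAut (Cfsg.isometryGroup F ⇑Q) where
  toFun s := ⟨T.conjGL s.1, mem_isometryGroup_iff.2 fun x => by
    rw [← T.app_inv x, T.conjGL_app, Q_app, Q_app, mem_isometryGroup_iff.1 s.2]⟩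
  invFun s := ⟨Matrix.GeneralLinearGroup.map (T.σ.symm : F →+* F) (T.g⁻¹ * s.1 * T.g),
    mem_isometryGroup_iff.2 fun x => by
      set M := Matrix.GeneralLinearGroup.map (T.σ.symm : F →+* F) (T.g⁻¹ * s.1 * T.g)
      have h : T.conjGL M = s.1 := by
        rw [conjGL, map_map_symm]; group
      have h1 : Q (T.app (M.1 *ᵥ x)) = Q (T.app x) := by
        rw [← T.conjGL_app, h, mem_isometryGroup_iff.1 s.2]
      rw [Q_app, Q_app] at h1
      exact T.σ.injective (mul_left_cancel₀ T.c_ne h1)⟩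
  left_inv s := Subtype.ext (by
    show Matrix.GeneralLinearGroup.map _ (T.g⁻¹ * T.conjGL s.1 * T.g) = s.1
    rw [conjGL, show T.g⁻¹ * (T.g * Matrix.GeneralLinearGroup.map (T.σ : F →+* F) s.1 * T.g⁻¹) * T.g =
      Matrix.GeneralLinearGroup.map (T.σ : F →+* F) s.1 by group, map_symm_map])
  right_inv s := Subtype.ext (by
    show T.conjGL _ = s.1
    rw [conjGL, map_map_symm]; group)
  map_mul' s t := Subtype.ext (by
    show T.conjGL (s.1 * t.1) = T.conjGL s.1 * T.conjGL t.1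
    rw [conjGL, conjGL, conjGL, map_mul]; group)

theorem map_omega :
    (Cfsg.Omega F ⇑Q).map (T.isoAut : Cfsg.isometryGroup F ⇑Q ≃* Cfsg.isometryGroup F ⇑Q).toMonoidHom =
      Cfsg.Omega F ⇑Q := by
  show (commutator _).map _ = commutator _
  rw [commutator_def, Subgroup.map_commutator, Subgroup.map_top_of_surjective _ T.isoAut.surjective]

/-- The automorphism of Omega. -/
def omAut : MulAut (Om Q) :=
  (MulEquiv.subgroupMap (T.isoAut : Cfsg.isometryGroup F ⇑Q ≃* Cfsg.isometryGroup F ⇑Q) (Cfsg.Omega F ⇑Q)).trans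
    (MulEquiv.subgroupCongr T.map_omega)

theorem omAut_app (s : Om Q) (v : ι → F) : mat (T.omAut s) *ᵥ T.app v = T.app (mat s *ᵥ v) :=
  T.conjGL_app s.1.1 v

theorem mat_omAut (s : Om Q) : mat (T.omAut s) = T.g.1 * (mat s).map T.σ * (T.g⁻¹).1 := rfl

/-- The automorphism of POmega. -/
def aut : MulAut (Cfsg.POmega F ⇑Q) := toPOmAut T.omAut

theorem aut_mkO (s : Om Q) : T.aut (mkO s) = mkO (T.omAut s) := rfl

theorem aut_induced : Cfsg.IsInducedBySemilinearPOmega (⇑Q) T.g T.σ T.aut := fun s s' h => by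
  refine (T.aut_mkO s).trans (congrArg mkO ?_)
  exact Subtype.ext (Subtype.ext (Units.ext h.symm))

theorem aut_mem_gamma : T.aut ∈ Cfsg.gammaPOmega F ⇑Q :=
  Subgroup.subset_closure ⟨T.g, T.σ, ⟨Units.mk0 T.c T.c_ne, T.map_Q⟩, T.aut_induced⟩

end Semi

/-- An isometry as a semisimilarity. -/
noncomputable def Semi.ofIso (g : (ι → F) ≃ₗ[F] (ι → F)) (hg : g ∈ oG Q) : Semi Q where
  g := ((oEquiv Q).symm ⟨g, hg⟩).1
  σ := RingEquiv.refl F
  c := 1
  c_ne := one_ne_zero
  map_Q v := by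
    rw [one_mul]
    exact mem_isometryGroup_iff.1 ((oEquiv Q).symm ⟨g, hg⟩).2 v

theorem Semi.ofIso_app (g : (ι → F) ≃ₗ[F] (ι → F)) (hg : g ∈ oG Q) (v : ι → F) :
    (Semi.ofIso g hg).app v = g v := by
  show ((oEquiv Q).symm ⟨g, hg⟩).1.1 *ᵥ v = g v
  rw [← oEquiv_apply, MulEquiv.apply_symm_apply]

/-! ### Siegel elements -/

/-- The map of a Siegel element. -/
def sgMap (Q : QuadraticForm F (ι → F)) (e w x : ι → F) : ι → F :=
  x + polar (⇑Q) x w • e - polar (⇑Q) x e • w - (Q w * polar (⇑Q) x e) • e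

open scoped _root_.Classical in
/-- The Siegel element, or 1. -/
noncomputable def sg (Q : QuadraticForm F (ι → F)) (e w : ι → F) : Om Q :=
  if h : ∃ s : Om Q, ∀ x, mat s *ᵥ x = sgMap Q e w x then h.choose else 1

theorem siegel_eq {e w : ι → F} (he : Q e = 0) (hew : polar (⇑Q) e w = 0) (x : ι → F) :
    siegel he hew x = sgMap Q e w x := by
  rw [siegel_apply, sgMap]; module

theorem exists_shift (hQ : (polarBilin Q).Nondegenerate) (h5 : 5 ≤ Fintype.card ι) {e w : ι → F} (he : Q e = 0)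
    (hew : polar (⇑Q) e w = 0) (hw : w ∉ Submodule.span F {e}) :
    ∃ u, polar (⇑Q) e u = 0 ∧ polar (⇑Q) u w = -Q w ∧ u ∉ Submodule.span F {e} ∧
      u + w ∉ Submodule.span F {e} := by
  obtain ⟨u0, hu0, hu1⟩ := exists_perp hQ hw
  have hu0e : polar (⇑Q) e u0 = 0 := hu0 e (Submodule.mem_span_singleton_self e)
  by_cases hQw : Q w = 0
  · obtain ⟨z, hz, hzne⟩ : ∃ z ∈ perpF Q ![e, w], z ∉ Submodule.span F (Set.range ![e, w]) := by
      by_contra h
      push Not at h
      have h1 := Submodule.finrank_mono (show perpF Q ![e, w] ≤ _ from h)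
      have h2 := finrank_perpF (Q := Q) ![e, w]
      have h3 := finrank_range_le_card (R := F) ![e, w]
      rw [Fintype.card_fin] at h3
      have h4 : (Set.range ![e, w]).finrank F ≤ 2 := h3
      rw [Set.finrank] at h4
      omega
    rw [mem_perpF] at hz
    have hze : polar (⇑Q) z e = 0 := hz 0
    have hzw : polar (⇑Q) z w = 0 := hz 1
    have hmem : ∀ {x}, x ∈ Submodule.span F {e} → x ∈ Submodule.span F (Set.range ![e, w]) := fun hx =>
      Submodule.span_mono (by rintro x rfl; exact ⟨0, rfl⟩) hx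
    refine ⟨z, by rw [polar_comm, hze], by rw [hzw, hQw, neg_zero], fun h => hzne (hmem h), fun h => hzne ?_⟩
    have := Submodule.sub_mem _ (hmem h) (Submodule.subset_span ⟨1, rfl⟩ : w ∈ Submodule.span F (Set.range ![e, w]))
    simpa using this
  · have h1 : ∀ x, polar (⇑Q) x w ≠ 0 → x ∉ Submodule.span F {e} := fun x hx hmem => by
      obtain ⟨c, rfl⟩ := Submodule.mem_span_singleton.1 hmem
      rw [polar_smul_left, hew, smul_zero] at hx
      exact hx rfl
    have hu : polar (⇑Q) ((-Q w) • u0) w = -Q w := by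
      rw [polar_smul_left, polar_comm, hu1, smul_eq_mul, mul_one]
    refine ⟨(-Q w) • u0, by rw [polar_smul_right, hu0e, smul_zero], hu, h1 _ (by rw [hu]; exact neg_ne_zero.2 hQw),
      h1 _ ?_⟩
    rw [polar_add_left, hu, polar_self', two_mul, ← add_assoc, neg_add_cancel, zero_add]
    exact hQw

theorem exists_sg (hQ : (polarBilin Q).Nondegenerate) (h5 : 5 ≤ Fintype.card ι) {e w : ι → F} (he : Q e = 0)
    (hew : polar (⇑Q) e w = 0) : ∃ s : Om Q, ∀ x, mat s *ᵥ x = sgMap Q e w x := by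
  by_cases hw : w ∈ Submodule.span F {e}
  · obtain ⟨c, rfl⟩ := Submodule.mem_span_singleton.1 hw
    refine ⟨1, fun x => ?_⟩
    rw [mat_one_mulVec, sgMap, Quad.map_smul', he, polar_smul_right, smul_eq_mul]
    module
  obtain ⟨u, hu, huw, hu1, hu2⟩ := exists_shift hQ h5 he hew hw
  have he0 : e ≠ 0 → ∀ {x}, x ∉ Submodule.span F {e} → LinearIndependent F ![e, x] := fun he0 {x} hx =>
    (LinearIndependent.pair_iff' he0).2 fun c hc => hx (Submodule.mem_span_singleton.2 ⟨c, hc⟩)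
  by_cases he00 : e = 0
  · subst he00
    refine ⟨1, fun x => ?_⟩
    rw [mat_one_mulVec, sgMap]
    simp
  have hQ' : Q u = Q (u + w) := by rw [map_add', huw]; ring
  obtain ⟨r, hr, hri⟩ := witt_family hQ 2 ![e, u] ![e, u + w] (he0 he00 hu1) (he0 he00 hu2)
    (fun i => by fin_cases i <;> simp [hQ'])
    (fun i j => by
      fin_cases i <;> fin_cases j <;> simp [polar_add_right, polar_comm (⇑Q) u e, polar_comm (⇑Q) w e, hu, hew,
        polar_self', hQ', polar_comm (⇑Q) (u + w) e])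
  have hre : r e = e := hri 0
  have hru : r u = u + w := hri 1
  let R : Cfsg.isometryGroup F ⇑Q := (oEquiv Q).symm ⟨r, hr⟩
  let S : Cfsg.isometryGroup F ⇑Q := (oEquiv Q).symm ⟨siegel he hu, siegel_mem he hu⟩
  refine ⟨⟨⁅R, S⁆, Subgroup.commutator_mem_commutator (Subgroup.mem_top R) (Subgroup.mem_top S)⟩, fun x => ?_⟩
  show (⁅R, S⁆ : Cfsg.isometryGroup F ⇑Q).1.1 *ᵥ x = _
  rw [← oEquiv_apply, map_commutatorElement, MulEquiv.apply_symm_apply, MulEquiv.apply_symm_apply]
  show ((r * siegel he hu * r⁻¹ * (siegel he hu)⁻¹ : (ι → F) ≃ₗ[F] (ι → F))) x = _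
  have hadd : ∀ y, sgMap Q e w (siegel he hu y) = r (siegel he hu (r⁻¹ y)) := fun y => by
    have hry : r (r⁻¹ y) = y := by rw [← LinearEquiv.mul_apply, mul_inv_cancel]; rfl
    set z := r⁻¹ y
    have h1 : polar (⇑Q) y (u + w) = polar (⇑Q) z u := by rw [← hru, ← hry, polar_eq_of_mem hr]
    have h2 : polar (⇑Q) y e = polar (⇑Q) z e := by rw [← hre, ← hry, polar_eq_of_mem hr]; rw [hre]
    rw [siegel_eq he hu z, sgMap, sgMap, map_sub, map_sub, map_add, map_smul, map_smul, map_smul, hre, hru, hry,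
      siegel_eq he hu y, ← h1, ← h2, sgMap, polar_add_right]
    simp only [polar_sub_left, polar_add_left, polar_smul_left, smul_eq_mul, hew, huw, polar_singular he,
      polar_comm (⇑Q) u e, hu]
    module
  calc (r * siegel he hu * r⁻¹ * (siegel he hu)⁻¹ : (ι → F) ≃ₗ[F] (ι → F)) x
      = r (siegel he hu (r⁻¹ ((siegel he hu)⁻¹ x))) := rfl
    _ = sgMap Q e w (siegel he hu ((siegel he hu)⁻¹ x)) := (hadd _).symm
    _ = sgMap Q e w x := by rw [← LinearEquiv.mul_apply, mul_inv_cancel]; rfl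

/-- Singular e and w orthogonal to it. -/
def IsSg (Q : QuadraticForm F (ι → F)) (e w : ι → F) : Prop := Q e = 0 ∧ polar (⇑Q) e w = 0

theorem sg_mulVec (hc : Pre Q) {e w : ι → F} (h : IsSg Q e w) (x : ι → F) :
    mat (sg Q e w) *ᵥ x = sgMap Q e w x := by
  have hex := exists_sg hc.nondeg (by have := hc.six_le; omega) h.1 h.2
  rw [sg, dif_pos hex]
  exact hex.choose_spec x

theorem isSg_zero {e : ι → F} (he : Q e = 0) : IsSg Q e 0 := ⟨he, polar_zero_right Q e⟩

theorem IsSg.add {e v w : ι → F} (h : IsSg Q e v) (h' : IsSg Q e w) : IsSg Q e (v + w) :=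
  ⟨h.1, by rw [polar_add_right, h.2, h'.2, add_zero]⟩

theorem IsSg.smul {e w : ι → F} (h : IsSg Q e w) (r : F) : IsSg Q e (r • w) :=
  ⟨h.1, by rw [polar_smul_right, h.2, smul_zero]⟩

theorem IsSg.conj {e w : ι → F} (h : IsSg Q e w) (s : Om Q) : IsSg Q (mat s *ᵥ e) (mat s *ᵥ w) :=
  ⟨by rw [Q_mat]; exact h.1, by rw [polar_mat]; exact h.2⟩

variable (hc : Pre Q)
include hc

theorem sg_zero {e : ι → F} (he : Q e = 0) : sg Q e 0 = 1 :=
  om_ext_mulVec fun x => by rw [sg_mulVec hc (isSg_zero he), mat_one_mulVec, sgMap]; simp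

theorem sg_mul {e v w : ι → F} (h : IsSg Q e v) (h' : IsSg Q e w) :
    sg Q e v * sg Q e w = sg Q e (v + w) :=
  om_ext_mulVec fun x => by
    rw [mat_mul_mulVec, sg_mulVec hc h', sg_mulVec hc h, sg_mulVec hc (h.add h')]
    simp only [sgMap, polar_sub_left, polar_add_left, polar_smul_left, polar_add_right, smul_eq_mul, h.2,
      polar_singular h.1, map_add', polar_comm (⇑Q) w e, h'.2, polar_comm (⇑Q) w v]
    module

theorem sg_add_smul {e w : ι → F} (h : IsSg Q e w) (r : F) : sg Q e (w + r • e) = sg Q e w := by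
  have hr : IsSg Q e (r • e) := ⟨h.1, by rw [polar_smul_right, polar_singular h.1, smul_zero]⟩
  rw [← sg_mul hc h hr, show sg Q e (r • e) = 1 from om_ext_mulVec fun x => by
    rw [sg_mulVec hc hr, mat_one_mulVec, sgMap, Quad.map_smul', h.1, polar_smul_right, smul_eq_mul]; module, mul_one]

theorem sg_smul {e w : ι → F} (h : IsSg Q e w) (r : F) : sg Q (r • e) w = sg Q e (r • w) :=
  om_ext_mulVec fun x => by
    rw [sg_mulVec hc ⟨by rw [Quad.map_smul', h.1, mul_zero], by rw [polar_smul_left, h.2, smul_zero]⟩,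
      sg_mulVec hc (h.smul r)]
    simp only [sgMap, polar_smul_right, Quad.map_smul', smul_eq_mul]
    module

theorem sg_swap {e v : ι → F} (h : IsSg Q e v) (hv : Q v = 0) : sg Q e v = sg Q v (-e) :=
  om_ext_mulVec fun x => by
    rw [sg_mulVec hc h, sg_mulVec hc ⟨hv, by rw [polar_neg_right, polar_comm, h.2, neg_zero]⟩]
    simp only [sgMap, polar_neg_right, QuadraticMap.map_neg, hv, h.1]
    module

theorem conj_sg {e w : ι → F} (h : IsSg Q e w) (s : Om Q) :
    s * sg Q e w * s⁻¹ = sg Q (mat s *ᵥ e) (mat s *ᵥ w) :=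
  om_ext_mulVec fun x => by
    obtain ⟨y, rfl⟩ : ∃ y, mat s *ᵥ y = x := ⟨_, mat_mulVec_inv s x⟩
    rw [mat_mul_mulVec, mat_mul_mulVec, mat_inv_mulVec, sg_mulVec hc h, sg_mulVec hc (h.conj s)]
    simp only [sgMap, polar_mat, Q_mat, Matrix.mulVec_sub, Matrix.mulVec_add, Matrix.mulVec_smul]

theorem Semi.omAut_sg (T : Semi Q) {e w : ι → F} (h : IsSg Q e w) :
    T.omAut (sg Q e w) = sg Q (T.app e) (T.c⁻¹ • T.app w) := by
  have hT : IsSg Q (T.app e) (T.c⁻¹ • T.app w) :=
    ⟨by rw [T.Q_app, h.1, map_zero, mul_zero], by rw [polar_smul_right, T.polar_app, h.2, map_zero, mul_zero, smul_zero]⟩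
  refine om_ext_mulVec fun x => ?_
  obtain ⟨y, rfl⟩ : ∃ y, T.app y = x := ⟨_, T.app_inv x⟩
  have hc0 := T.c_ne
  have hsub : ∀ u v, T.app (u - v) = T.app u - T.app v := fun u v =>
    eq_sub_of_add_eq (by rw [← T.app_add, sub_add_cancel])
  rw [T.omAut_app, sg_mulVec hc h, sg_mulVec hc hT]
  simp only [sgMap, hsub, T.app_add, T.app_smul, polar_smul_right, T.polar_app, Quad.map_smul', T.Q_app, map_mul,
    smul_eq_mul, smul_smul]
  match_scalars <;> field_simp

end Cfsg.Agent.AutPOmega
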