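import Cfsg.Agent.AutPOmega.MinusDih

/-!
The quotients of the projective similarity group of a minus space by the special and by the simple group.
-/

set_option autoImplicit false

namespace Cfsg.Agent.AutPOmega

open Module QuadraticMap Classical.Quad Matrix

section Groups

variable {G : Type*} [Group G]

/-- A homomorphism of `X` descends along a surjection onto a subgroup. -/
theorem exists_descend {X A : Type*} [Group X] [Group A] (c : X →* G) (φ : X →* A) (hφ : c.ker ≤ φ.ker) :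
    ∃ ψ : c.range →* A, (Function.Surjective φ → Function.Surjective ψ) ∧
      ψ.ker = (φ.ker.map c).subgroupOf c.range ∧ ∀ x, ψ (c.rangeRestrict x) = φ x := by
  let ψ : c.range →* A := c.rangeRestrict.liftOfSurjective c.rangeRestrict_surjective
    ⟨φ, by rw [MonoidHom.ker_rangeRestrict]; exact hφ⟩
  have hψ : ∀ x, ψ (c.rangeRestrict x) = φ x := fun x => MonoidHom.liftOfRightInverse_comp_apply _ _ _ _ x
  refine ⟨ψ, fun hs a => ?_, ?_, hψ⟩
  · obtain ⟨x, rfl⟩ := hs a
    exact ⟨_, hψ x⟩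
  · ext y
    obtain ⟨x, rfl⟩ := c.rangeRestrict_surjective y
    rw [MonoidHom.mem_ker, hψ, Subgroup.mem_subgroupOf, MonoidHom.coe_rangeRestrict, Subgroup.mem_map]
    refine ⟨fun h => ⟨x, h, rfl⟩, ?_⟩
    rintro ⟨k, hk, he⟩
    have h1 : k⁻¹ * x ∈ φ.ker := hφ (by rw [MonoidHom.mem_ker, map_mul, map_inv, he, inv_mul_cancel])
    rw [MonoidHom.mem_ker, map_mul, map_inv, MonoidHom.mem_ker.1 hk, inv_one, one_mul] at h1
    exact h1

theorem exists_hom_of_quotient {P N : Subgroup G} [N.Normal] {A : Type*} [Group A]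
    (e : Nonempty (P ⧸ N.subgroupOf P ≃* A)) :
    ∃ φ : P →* A, Function.Surjective φ ∧ φ.ker = N.subgroupOf P := by
  obtain ⟨e⟩ := e
  refine ⟨e.toMonoidHom.comp (QuotientGroup.mk' _), e.surjective.comp (QuotientGroup.mk'_surjective _), ?_⟩
  ext x
  rw [MonoidHom.mem_ker, MonoidHom.comp_apply, MulEquiv.coe_toMonoidHom, MulEquiv.map_eq_one_iff,
    ← MonoidHom.mem_ker, QuotientGroup.ker_mk']

theorem card_quot_mul {P N : Subgroup G} (h : N ≤ P) :
    Nat.card (P ⧸ N.subgroupOf P) * Nat.card N = Nat.card P := by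
  rw [← Nat.card_congr (Subgroup.subgroupOfEquivOfLe h).toEquiv, ← Subgroup.card_eq_card_quotient_mul_card_subgroup]

/-- A group of order four with an involution outside a subgroup of order two. -/
theorem klein_of [Finite G] (h4 : Nat.card G = 4) {H : Subgroup G} (h2 : Nat.card H = 2) {s : G} (hs : s * s = 1)
    (hsH : s ∉ H) : IsKleinFour G := by
  refine ⟨h4, ?_⟩
  have hidx : H.index = 2 := by
    have h := H.card_mul_index
    rw [h2, h4] at h
    omega
  haveI := Subgroup.normal_of_index_eq_two hidx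
  obtain ⟨t, ht, hu⟩ := (Nat.card_eq_two_iff' (1 : H)).1 h2
  have hH : ∀ x ∈ H, x = 1 ∨ x = t.1 := fun x hx => or_iff_not_imp_left.2 fun h =>
    congrArg Subtype.val (hu ⟨x, hx⟩ fun e => h (congrArg Subtype.val e))
  have hsq : ∀ x ∈ H, x * x = 1 := fun x hx => by
    have := pow_card_eq_one' (G := H) (x := ⟨x, hx⟩)
    rw [h2, pow_two] at this
    exact congrArg Subtype.val this
  have hcent : ∀ g, ∀ x ∈ H, g * x = x * g := fun g x hx => by
    rcases hH x hx with rfl | rfl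
    · simp
    · rcases hH _ ((inferInstance : H.Normal).conj_mem _ t.2 g) with e | e
      · exact absurd (Subtype.ext (conj_eq_one_iff.1 e)) ht
      · exact mul_inv_eq_iff_eq_mul.1 e
  haveI : Nontrivial G := Finite.one_lt_card_iff_nontrivial.1 (by rw [h4]; norm_num)
  rw [Monoid.exponent_eq_prime_iff Nat.prime_two]
  intro x hx
  haveI : Fact (Nat.Prime 2) := ⟨Nat.prime_two⟩
  refine orderOf_eq_prime ?_ hx
  rw [pow_two]
  by_cases hxH : x ∈ H
  · exact hsq x hxH
  · have hmem : s * x ∈ H := (Subgroup.mul_mem_iff_of_index_two hidx).2 (iff_of_false hsH hxH)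
    have e := hsq _ hmem
    have hc := hcent s _ hmem
    calc x * x = s * (s * x) * (s * (s * x)) := by rw [← mul_assoc s s x, hs, one_mul]
      _ = (s * x) * s * (s * (s * x)) := by rw [hc]
      _ = (s * x) * (s * s) * (s * x) := by group
      _ = 1 := by rw [hs, mul_one, e]

theorem units_klein : Nonempty (ℤˣ × ℤˣ ≃* Multiplicative (ZMod 2 × ZMod 2)) := by
  have h2 : Nat.card ℤˣ = 2 := by rw [Nat.card_eq_fintype_card, Fintype.card_units_int]
  haveI : Fact (Nat.Prime 2) := ⟨Nat.prime_two⟩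
  have h := zmodCyclicMulEquiv (isCyclic_of_prime_card h2)
  rw [h2] at h
  exact ⟨(MulEquiv.prodCongr h.symm h.symm).trans (MulEquiv.prodMultiplicative _ _).symm⟩

theorem cond_iff {F : Type*} [Fintype F] {m : ℕ} (hodd : Odd (Fintype.card F)) :
    (Even m ∧ Fintype.card F % 4 = 3) ↔ Fintype.card F ^ (m + 1) % 4 = 3 := by
  refine ⟨fun ⟨⟨k, hk⟩, h⟩ => ?_, fun h => ?_⟩
  · rw [hk, ← two_mul, pow_succ, pow_mul, Nat.mul_mod, Nat.pow_mod, Nat.pow_mod (a := Fintype.card F) (b := 2), h]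
    norm_num
  · rcases Nat.even_or_odd m with hm | hm
    · obtain ⟨k, hk⟩ := hm
      refine ⟨⟨k, hk⟩, ?_⟩
      rw [hk, ← two_mul, pow_succ, pow_mul, Nat.mul_mod, Nat.pow_mod] at h
      rcases (show Fintype.card F % 4 = 1 ∨ Fintype.card F % 4 = 3 by have := Nat.odd_iff.1 hodd; omega) with h1 | h1
      · rw [show Fintype.card F ^ 2 % 4 = 1 by rw [Nat.pow_mod, h1], h1] at h
        norm_num at h
      · exact h1
    · obtain ⟨k, hk⟩ := hm
      rw [hk, show 2 * k + 1 + 1 = 2 * (k + 1) by ring, pow_mul, Nat.pow_mod] at h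
      rw [show Fintype.card F ^ 2 % 4 = 1 by
        rw [Nat.pow_mod]
        rcases (show Fintype.card F % 4 = 1 ∨ Fintype.card F % 4 = 3 by have := Nat.odd_iff.1 hodd; omega) with h1 | h1 <;>
          rw [h1] <;> norm_num] at h
      norm_num at h

section Quotients

variable [Finite G] {P M N : Subgroup G} [N.Normal] (hMP : M ≤ P) (hNM : N ≤ M)
include hMP hNM

theorem quot_dihedral (hP : Nat.card (P ⧸ N.subgroupOf P) = 8) (hM : Nat.card (M ⧸ N.subgroupOf M) = 4) {d s : G}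
    (hd : d ∈ M) (hs : s ∈ P) (hdd : d * d ∉ N) (hss : s * s = 1) (hsM : s ∉ M) (hsd : s * d * s * d ∈ N) :
    Nonempty (P ⧸ N.subgroupOf P ≃* DihedralGroup 4) := by
  refine dihedral_four hP (d := QuotientGroup.mk' _ ⟨d, hMP hd⟩) (s := QuotientGroup.mk' _ ⟨s, hs⟩) ?_ ?_ ?_ ?_ ?_
  · rw [← map_pow]
    refine (QuotientGroup.eq_one_iff _).2 ?_
    have h := pow_card_eq_one' (G := M ⧸ N.subgroupOf M) (x := QuotientGroup.mk ⟨d, hd⟩)
    rw [hM, ← QuotientGroup.mk_pow, QuotientGroup.eq_one_iff] at h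
    exact h
  · rw [← map_pow, pow_two]
    intro e
    have e' := (QuotientGroup.eq_one_iff _).1 e
    exact hdd e'
  · rw [← map_mul]
    exact (QuotientGroup.eq_one_iff _).2 (show s * s ∈ N by rw [hss]; exact N.one_mem)
  · rw [← map_mul, ← map_mul, ← map_mul]
    exact (QuotientGroup.eq_one_iff _).2 (show s * d * s * d ∈ N from hsd)
  · intro k e
    rw [← map_pow] at e
    refine hsM ?_
    have e' := QuotientGroup.eq.1 e.symm
    have h3 : (d ^ k)⁻¹ * s ∈ N := e'
    simpa using mul_mem (pow_mem hd k) (hNM h3)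

theorem quot_klein (hP : Nat.card (P ⧸ N.subgroupOf P) = 4) (hM : Nat.card (M ⧸ N.subgroupOf M) = 2) {s : G}
    (hs : s ∈ P) (hss : s * s = 1) (hsM : s ∉ M) :
    Nonempty (P ⧸ N.subgroupOf P ≃* Multiplicative (ZMod 2 × ZMod 2)) := by
  let incl : M →* P ⧸ N.subgroupOf P := (QuotientGroup.mk' _).comp (Subgroup.inclusion hMP)
  have hincl : incl.ker = N.subgroupOf M := by
    ext x
    rw [MonoidHom.mem_ker, MonoidHom.comp_apply, ← MonoidHom.mem_ker, QuotientGroup.ker_mk']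
    rfl
  have hH : Nat.card incl.range = 2 := by
    rw [← Nat.card_congr (QuotientGroup.quotientKerEquivRange incl).toEquiv, hincl, hM]
  haveI := klein_of hP hH (s := QuotientGroup.mk' _ ⟨s, hs⟩) (by
    rw [← map_mul]
    exact (QuotientGroup.eq_one_iff _).2 (show s * s ∈ N by rw [hss]; exact N.one_mem)) (by
    rintro ⟨d, e⟩
    have e0 := QuotientGroup.eq.1 e
    have e' : (d.1)⁻¹ * s ∈ N := e0
    exact hsM (by simpa using mul_mem d.2 (hNM e')))
  exact IsKleinFour.nonempty_mulEquiv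

omit [Finite G] hMP in
theorem quot_cyclic_four (hM : Nat.card (M ⧸ N.subgroupOf M) = 4) {d : G} (hd : d ∈ M) (hdd : d * d ∉ N) :
    Nonempty (M ⧸ N.subgroupOf M ≃* Multiplicative (ZMod 4)) := by
  haveI : Finite (M ⧸ N.subgroupOf M) := Nat.finite_of_card_ne_zero (by rw [hM]; norm_num)
  haveI : Fact (Nat.Prime 2) := ⟨Nat.prime_two⟩
  have hd' : orderOf (QuotientGroup.mk' (N.subgroupOf M) ⟨d, hd⟩) = 4 := by
    refine orderOf_eq_prime_pow (p := 2) (n := 1) ?_ (by
      have := pow_card_eq_one' (x := QuotientGroup.mk' (N.subgroupOf M) ⟨d, hd⟩)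
      rwa [hM] at this)
    rw [pow_one, pow_two, ← map_mul]
    intro e
    have e' := (QuotientGroup.eq_one_iff _).1 e
    exact hdd e'
  have h := zmodCyclicMulEquiv (isCyclic_of_orderOf_eq_card _ (hd'.trans hM.symm))
  rw [hM] at h
  exact ⟨h.symm⟩

end Quotients

theorem cyclic_two {A : Type*} [Group A] (hM : Nat.card A = 2) : Nonempty (A ≃* Multiplicative (ZMod 2)) := by
  haveI : Fact (Nat.Prime 2) := ⟨Nat.prime_two⟩
  have h := zmodCyclicMulEquiv (isCyclic_of_prime_card hM)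
  rw [hM] at h
  exact ⟨h.symm⟩

end Groups

variable {F : Type*} [Field F] [Fintype F] {m : ℕ} (hm : 3 ≤ m) {a b : F}
  (hab : ∀ z₁ z₂ : F, z₁ ^ 2 + a * z₁ * z₂ + b * z₂ ^ 2 = 0 → z₁ = 0 ∧ z₂ = 0)
  (hodd : Odd (Fintype.card F))
include hm hab hodd

theorem pso_eq : Cfsg.psoAut F ⇑(qMinus F m a b) =
    ((parM hm hab).comp isoToSim).ker.map (conjA.comp isoToSim) := by
  classical
  have hc := ctx_minus hm hab
  have h2 := two_ne_zero_of_odd hodd
  have hdet : ∀ s : Cfsg.isometryGroup F ⇑(qMinus F m a b),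
      s.1 ∈ Cfsg.specialIsometryGL F ⇑(qMinus F m a b) ↔ ((parM hm hab).comp isoToSim) s = 1 := by
    intro s
    rw [MonoidHom.comp_apply, parM_iso]
    have h := det_eq_dickson hc.nondeg (hexM hm hab) s
    constructor
    · intro hs
      rcases Int.units_eq_one_or (dickson hc.nondeg (hexM hm hab) (oEquiv _ s)) with e | e
      · exact e
      · exfalso
        have h1 : (s.1.1 : Matrix _ _ F).det = 1 := congrArg Units.val (MonoidHom.mem_ker.1 hs.2)
        rw [h, e] at h1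
        simp at h1
        exact h2 (by linear_combination -h1)
    · intro hs
      rw [hs] at h
      exact ⟨s.2, MonoidHom.mem_ker.2 (Units.ext (h.trans (by simp)))⟩
  refine le_antisymm ((Subgroup.closure_le _).2 ?_) ?_
  · rintro β ⟨g, hg, hi⟩
    exact ⟨⟨g, hg.1⟩, (hdet ⟨g, hg.1⟩).1 hg, ((Semi.ofSim (isoToSim ⟨g, hg.1⟩)).induced_iff.1 hi).symm⟩
  · rintro _ ⟨s, hs, rfl⟩
    exact Subgroup.subset_closure ⟨s.1, (hdet s).2 hs, (Semi.ofSim (isoToSim s)).induced_iff.2 rfl⟩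

omit hodd in
theorem ker_conjA_le : (conjA (Q := qMinus F m a b)).ker ≤ (parM hm hab).ker ∧
    ∀ g ∈ (conjA (Q := qMinus F m a b)).ker, IsSquare (mult (ctx_minus hm hab) g : F) := by
  have hc := ctx_minus hm hab
  refine ⟨fun g hg => ?_, fun g hg => ?_⟩
  · rw [MonoidHom.mem_ker, parM_eq_of_conjA_eq hm hab (k := 1) (by rw [MonoidHom.mem_ker.1 hg, map_one]), map_one]
  · rw [MonoidHom.mem_ker, conjA_eq_one_iff hc] at hg
    obtain ⟨c, hcc⟩ := hg
    have e : g = scalarSim c := Subtype.ext hcc.symm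
    rw [e, mult_scalarSim hc, Units.val_pow_eq_pow_val]
    exact ⟨c, pow_two _⟩

set_option maxHeartbeats 1000000 in
theorem pgo_pso : ∃ φ : ↥(Cfsg.pgoAut F ⇑(qMinus F m a b)) →* Multiplicative (ZMod 2 × ZMod 2),
    Function.Surjective φ ∧
      φ.ker = (Cfsg.psoAut F ⇑(qMinus F m a b)).subgroupOf (Cfsg.pgoAut F ⇑(qMinus F m a b)) := by
  classical
  have hc := ctx_minus hm hab
  have h2 := two_ne_zero_of_odd hodd
  have hchar : ringChar F ≠ 2 := fun h => h2 (by
    haveI : CharP F 2 := h ▸ ringChar.charP F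
    exact CharTwo.two_eq_zero)
  rw [pgoAut_eq, pso_eq hm hab hodd]
  let χ : Fˣ →* ℤˣ := (quadraticChar F).toUnitHom
  have hχ : ∀ u : Fˣ, χ u = 1 ↔ IsSquare (u : F) := fun u => by
    rw [← quadraticChar_one_iff_isSquare u.ne_zero, Units.ext_iff]
    simp [χ]
  let φ₁ := (parM hm hab).prod (χ.comp (mult hc))
  have hsurj : Function.Surjective φ₁ := by
    obtain ⟨u, hu⟩ := FiniteField.exists_nonsquare hchar
    have hu0 : u ≠ 0 := by rintro rfl; exact hu IsSquare.zero
    rintro ⟨e₁, e₂⟩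
    obtain ⟨c, hc2⟩ : ∃ c : Fˣ, χ c = e₂ := by
      rcases Int.units_eq_one_or e₂ with rfl | rfl
      · exact ⟨1, map_one _⟩
      · refine ⟨Units.mk0 u hu0, ?_⟩
        rcases Int.units_eq_one_or (χ (Units.mk0 u hu0)) with e | e
        · exact absurd ((hχ _).1 e) hu
        · exact e
    obtain ⟨g, hg, hgm⟩ := exists_canon_mult hm hab c
    have hgp : parM hm hab g = 1 := (isParM_parM hm hab).2 g hg
    let v₀ : (Fin m ⊕ Fin m) ⊕ Fin 2 → F := Pi.single (.inr 0) 1
    have hv₀ : qMinus F m a b v₀ ≠ 0 := by simp [v₀, qMinus_apply, Cfsg.quadFormMinus]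
    let s := isoToSim ((oEquiv _).symm (rO hv₀))
    have hsp : parM hm hab s = -1 := by
      rw [parM_iso, MulEquiv.apply_symm_apply, dickson_rO]
    have hsm : mult hc s = 1 := by
      rw [← MonoidHom.mem_ker, ker_mult hc]; exact ⟨_, rfl⟩
    rcases Int.units_eq_one_or e₁ with rfl | rfl
    · exact ⟨g, Prod.ext hgp ((congrArg χ hgm).trans hc2)⟩
    · refine ⟨s * g, Prod.ext ?_ ?_⟩
      · show parM hm hab (s * g) = -1
        rw [map_mul, hsp, hgp, mul_one]
      · show χ (mult hc (s * g)) = e₂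
        rw [map_mul, hsm, one_mul, hgm, hc2]
  have hker : φ₁.ker.map conjA = ((parM hm hab).comp isoToSim).ker.map (conjA.comp isoToSim) := by
    refine le_antisymm ?_ ?_
    · rintro _ ⟨g, hg, rfl⟩
      have hg' : parM hm hab g = 1 ∧ χ (mult hc g) = 1 := Prod.ext_iff.1 hg
      obtain ⟨r, hr⟩ := (hχ _).1 hg'.2
      have hr0 : r ≠ 0 := fun h => by rw [h, mul_zero] at hr; exact (mult hc g).ne_zero hr
      let c := Units.mk0 r hr0
      have hmem : g * (scalarSim c)⁻¹ ∈ (mult hc).ker := by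
        rw [MonoidHom.mem_ker, map_mul, map_inv, mult_scalarSim hc, mul_inv_eq_one]
        ext
        rw [hr]
        simp [c, pow_two]
      rw [ker_mult hc] at hmem
      obtain ⟨s, hs⟩ := hmem
      refine ⟨s, ?_, ?_⟩
      · rw [SetLike.mem_coe, MonoidHom.mem_ker, MonoidHom.comp_apply, hs, map_mul, map_inv, parM_scalar, inv_one,
          mul_one, hg'.1]
      · rw [MonoidHom.comp_apply, hs, map_mul, map_inv,
          show conjA (scalarSim c) = 1 from (conjA_eq_one_iff hc).2 ⟨c, rfl⟩, inv_one, mul_one]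
    · rintro _ ⟨s, hs, rfl⟩
      refine ⟨isoToSim s, Prod.ext hs ?_, rfl⟩
      show χ (mult hc (isoToSim s)) = 1
      rw [show mult hc (isoToSim s) = 1 by rw [← MonoidHom.mem_ker, ker_mult hc]; exact ⟨_, rfl⟩, map_one]
  obtain ⟨ψ, hψs, hψk, -⟩ := exists_descend conjA φ₁ fun g hg => by
    obtain ⟨h1, h2'⟩ := ker_conjA_le hm hab
    exact Prod.ext (h1 hg) ((hχ _).2 (h2' g hg))
  obtain ⟨e⟩ := units_klein
  refine ⟨e.toMonoidHom.comp ψ, e.surjective.comp (hψs hsurj), ?_⟩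
  rw [← hker, ← hψk]
  ext x
  simp [MonoidHom.mem_ker]

/-- Orders of the quotients by the simple group. -/
theorem card_quots :
    Nat.card ((conjA (Q := qMinus F m a b)).range ⧸ (Cfsg.Inn (Cfsg.POmega F ⇑(qMinus F m a b))).subgroupOf
      (conjA (Q := qMinus F m a b)).range) = (if Fintype.card F ^ (m + 1) % 4 = 3 then 8 else 4) ∧
    Nat.card (inndiagM hm hab ⧸ (Cfsg.Inn (Cfsg.POmega F ⇑(qMinus F m a b))).subgroupOf (inndiagM hm hab)) =
      (if Fintype.card F ^ (m + 1) % 4 = 3 then 4 else 2) := by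
  have hc := ctx_minus hm hab
  have hpos : 0 < Nat.card (Cfsg.POmega F ⇑(qMinus F m a b)) := Nat.card_pos
  have h1 := card_quot_mul (inn_le_pgo (Q := qMinus F m a b))
  have h2 := card_quot_mul (inn_le_inndiagM hm hab)
  rw [card_inn hc, card_pgo_minus hm hab, card_iso_minus hm hab, if_pos hodd] at h1
  rw [card_inn hc] at h2
  obtain ⟨ψ, hψs, hψk, -⟩ := exists_descend conjA (parM hm hab) (ker_conjA_le hm hab).1
  have hs : Function.Surjective (parM hm hab) := fun e => by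
    obtain ⟨s, hs, -, -⟩ := exists_refl_out hm hab
    let v₀ : (Fin m ⊕ Fin m) ⊕ Fin 2 → F := Pi.single (.inr 0) 1
    have hv₀ : qMinus F m a b v₀ ≠ 0 := by simp [v₀, qMinus_apply, Cfsg.quadFormMinus]
    rcases Int.units_eq_one_or e with rfl | rfl
    · exact ⟨1, map_one _⟩
    · exact ⟨isoToSim ((oEquiv _).symm (rO hv₀)), by rw [parM_iso, MulEquiv.apply_symm_apply, dickson_rO]⟩
  have h3 := card_quot_mul (P := (conjA (Q := qMinus F m a b)).range) (N := inndiagM hm hab) (by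
    rintro _ ⟨g, -, rfl⟩; exact ⟨g, rfl⟩)
  rw [inndiagM, ← hψk, Nat.card_congr (QuotientGroup.quotientKerEquivOfSurjective ψ (hψs hs)).toEquiv,
    card_pgo_minus hm hab, card_iso_minus hm hab, if_pos hodd] at h3
  rw [Nat.card_eq_fintype_card (α := ℤˣ), Fintype.card_units_int, ← inndiagM] at h3
  have h1' := Nat.eq_of_mul_eq_mul_right hpos h1
  refine ⟨h1', Nat.eq_of_mul_eq_mul_right hpos (Nat.eq_of_mul_eq_mul_left (show 0 < 2 by norm_num) ?_)⟩
  rw [h2, h3]
  split_ifs <;> ring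

omit hodd in
theorem exists_gen_mk (hz : Fintype.card F ^ (m + 1) % 4 = 3) :
    ∃ d : inndiagM hm hab, ∃ s : (conjA (Q := qMinus F m a b)).range,
      d.1 * d.1 ∉ Cfsg.Inn (Cfsg.POmega F ⇑(qMinus F m a b)) ∧ s * s = 1 ∧ s.1 ∉ inndiagM hm hab ∧
      s.1 * d.1 * s.1 * d.1 ∈ Cfsg.Inn (Cfsg.POmega F ⇑(qMinus F m a b)) := by
  obtain ⟨d, s, hd, hs, hgs, -, hss, hdd, hsd⟩ := exists_gens hm hab hz
  refine ⟨⟨d, hd⟩, ⟨s, ?_⟩, hdd, Subtype.ext hss, hs, hsd⟩
  rwa [← ker_galOf (ctx_minus hm hab), MonoidHom.mem_ker]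

set_option maxHeartbeats 1000000 in
theorem pgo_inn :
    ((Even m ∧ Fintype.card F % 4 = 3) → ∃ φ : ↥(Cfsg.pgoAut F ⇑(qMinus F m a b)) →* DihedralGroup 4,
      Function.Surjective φ ∧ φ.ker = (Cfsg.Inn (Cfsg.POmega F ⇑(qMinus F m a b))).subgroupOf _) ∧
    (¬ (Even m ∧ Fintype.card F % 4 = 3) →
      ∃ φ : ↥(Cfsg.pgoAut F ⇑(qMinus F m a b)) →* Multiplicative (ZMod 2 × ZMod 2),
      Function.Surjective φ ∧ φ.ker = (Cfsg.Inn (Cfsg.POmega F ⇑(qMinus F m a b))).subgroupOf _) := by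
  have hc := ctx_minus hm hab
  rw [pgoAut_eq]
  obtain ⟨hcard, hcard2⟩ := card_quots hm hab hodd
  have hiff := cond_iff (F := F) (m := m) hodd
  have hle : inndiagM hm hab ≤ (conjA (Q := qMinus F m a b)).range := by rintro _ ⟨g, -, rfl⟩; exact ⟨g, rfl⟩
  refine ⟨fun h => exists_hom_of_quotient ?_, fun h => exists_hom_of_quotient ?_⟩
  · have hz := hiff.1 h
    rw [if_pos hz] at hcard hcard2
    obtain ⟨d, s, hdd, hss, hs, hsd⟩ := exists_gen_mk hm hab hz
    exact quot_dihedral hle (inn_le_inndiagM hm hab) hcard hcard2 d.2 s.2 hdd (congrArg Subtype.val hss) hs hsd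
  · rw [if_neg (mt hiff.2 h)] at hcard hcard2
    obtain ⟨s, hs, hss, hgs⟩ := exists_refl_out hm hab
    have hsP : s ∈ (conjA (Q := qMinus F m a b)).range := by rwa [← ker_galOf hc, MonoidHom.mem_ker]
    exact quot_klein hle (inn_le_inndiagM hm hab) hcard hcard2 hsP hss hs

set_option maxHeartbeats 1000000 in
theorem inndiag_inn :
    ((Even m ∧ Fintype.card F % 4 = 3) → ∃ φ : ↥(inndiagM hm hab) →* Multiplicative (ZMod 4),
      Function.Surjective φ ∧ φ.ker = (Cfsg.Inn (Cfsg.POmega F ⇑(qMinus F m a b))).subgroupOf (inndiagM hm hab)) ∧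
    (¬ (Even m ∧ Fintype.card F % 4 = 3) →
      ∃ φ : ↥(inndiagM hm hab) →* Multiplicative (ZMod 2),
      Function.Surjective φ ∧ φ.ker = (Cfsg.Inn (Cfsg.POmega F ⇑(qMinus F m a b))).subgroupOf (inndiagM hm hab)) := by
  have hiff := cond_iff (F := F) (m := m) hodd
  obtain ⟨-, hcard⟩ := card_quots hm hab hodd
  refine ⟨fun h => exists_hom_of_quotient ?_, fun h => exists_hom_of_quotient ?_⟩
  · have hz := hiff.1 h
    rw [if_pos hz] at hcard
    obtain ⟨d, s, hdd, -, -, -⟩ := exists_gen_mk hm hab hz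
    exact quot_cyclic_four (inn_le_inndiagM hm hab) hcard d.2 hdd
  · rw [if_neg (mt hiff.2 h)] at hcard
    exact cyclic_two hcard

end Cfsg.Agent.AutPOmega
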