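import Cfsg.Agent.AutPOmega.Forms
import Cfsg.Agent.Classical.OrthPOmega

/-!
Odd dimension: multipliers are squares, orders of the automorphism group and of its pieces, the outer automorphism
group.
-/

set_option autoImplicit false

namespace Cfsg.Agent.AutPOmega

open Module QuadraticMap Classical.Quad Matrix

/-- A group with a normal subgroup of order two and a complement is a direct product. -/
theorem nonempty_prod_of_split {G H : Type*} [Group G] [Group H] (π : G →* H) (s : H →* G) (hs : ∀ h, π (s h) = h)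
    (hk : Nat.card π.ker = 2) : Nonempty (G ≃* π.ker × H) := by
  have hcent : ∀ n : π.ker, ∀ g : G, Commute (n : G) g := fun n g => by
    obtain ⟨y, -, huy⟩ := (Nat.card_eq_two_iff' (1 : π.ker)).1 hk
    have hg : ⟨g * (n : G) * g⁻¹, (MonoidHom.normal_ker π).conj_mem _ n.2 g⟩ = (n : π.ker) := by
      by_cases hn : n = 1
      · exact Subtype.ext (by rw [hn]; simp)
      · refine (huy _ fun h => hn (Subtype.ext ?_)).trans (huy n hn).symm
        have := congrArg (fun y : π.ker => (y : G)) h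
        simpa [mul_inv_eq_one] using this
    have := congrArg (fun y : π.ker => (y : G)) hg
    show (n : G) * g = g * n
    exact (mul_inv_eq_iff_eq_mul.1 this).symm
  let φ : π.ker × H →* G := MonoidHom.noncommCoprod π.ker.subtype s fun n h => hcent n (s h)
  have hb : Function.Bijective φ := by
    refine ⟨(injective_iff_map_eq_one φ).2 fun ⟨n, h⟩ hnh => ?_, fun g => ⟨(⟨g * (s (π g))⁻¹, ?_⟩, π g), ?_⟩⟩
    · have h1 : (n : G) * s h = 1 := hnh
      have h2 : h = 1 := by
        have := congrArg π h1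
        rwa [map_mul, MonoidHom.mem_ker.1 n.2, one_mul, hs, map_one] at this
      subst h2
      rw [map_one, mul_one] at h1
      exact Prod.ext (Subtype.ext h1) rfl
    · rw [MonoidHom.mem_ker, map_mul, map_inv, hs, mul_inv_cancel]
    · exact inv_mul_cancel_right _ _
  exact ⟨(MulEquiv.ofBijective φ hb).symm⟩

section General

variable {ι : Type} [Fintype ι] [DecidableEq ι] {F : Type*} [Field F] {Q : QuadraticForm F (ι → F)}

/-- The determinant of a similarity. -/
theorem det_sim (hQ : (polarBilin Q).Nondegenerate) {g : GL ι F} {c : F} (h : ∀ v, Q (g.1 *ᵥ v) = c * Q v) :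
    g.1.det * g.1.det = c ^ Fintype.card ι := by
  set M := LinearMap.BilinForm.toMatrix' (polarBilin Q) with hM
  have hdet : M.det ≠ 0 := by
    have h1 := (LinearMap.BilinForm.nondegenerate_iff_det_ne_zero (Pi.basisFun F ι)).1 hQ
    exact h1
  have e : LinearMap.BilinForm.comp (polarBilin Q) (Matrix.toLin' g.1) (Matrix.toLin' g.1) = c • polarBilin Q := by
    refine LinearMap.ext fun x => LinearMap.ext fun y => ?_
    show polar (⇑Q) (g.1 *ᵥ x) (g.1 *ᵥ y) = c * polar (⇑Q) x y
    simp only [polar, ← Matrix.mulVec_add, h]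
    ring
  have e2 := congrArg (fun B => (LinearMap.BilinForm.toMatrix' B).det) e
  simp only [LinearMap.BilinForm.toMatrix'_comp, LinearMap.toMatrix'_toLin', map_smul, Matrix.det_mul,
    Matrix.det_transpose, Matrix.det_smul, ← hM] at e2
  exact mul_right_cancel₀ hdet (by linear_combination e2)

end General

variable {F : Type*} [Field F] [Fintype F] {m : ℕ}

section Fix

variable (hodd : Odd (Fintype.card F)) (hm : 3 ≤ m)
include hodd hm

theorem range_mult_odd :
    (mult (ctx_odd hodd hm)).range = (powMonoidHom 2 : Fˣ →* Fˣ).range := by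
  refine le_antisymm ?_ ?_
  · rintro _ ⟨g, rfl⟩
    have h := det_sim (ctx_odd hodd hm).nondeg (g := g.1) (mult_spec (ctx_odd hodd hm) g)
    have hcard : Fintype.card (Unit ⊕ (Fin m ⊕ Fin m)) = 2 * m + 1 := by simp; ring
    rw [hcard, pow_succ, mul_comm 2 m, pow_mul] at h
    set c := (mult (ctx_odd hodd hm) g : F)
    have hcm : c ^ m ≠ 0 := pow_ne_zero _ (Units.ne_zero _)
    refine ⟨Units.mk0 (g.1.1.det / c ^ m) (div_ne_zero (Matrix.GeneralLinearGroup.det_ne_zero g.1) hcm),
      Units.ext ?_⟩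
    show (g.1.1.det / c ^ m) ^ 2 = c
    rw [div_pow, div_eq_iff (pow_ne_zero _ hcm)]
    linear_combination h
  · rintro _ ⟨a, rfl⟩
    exact ⟨scalarSim a, mult_scalarSim (ctx_odd hodd hm) a⟩

theorem gal_surjective_odd : Function.Surjective (galOf (ctx_odd hodd hm)) := fun σ =>
  ⟨(Semi.ofGal σ (qOdd_gal σ)).aut, galOf_aut _ _⟩

theorem card_omega_odd :
    Nat.card (Cfsg.isometryGroup F ⇑(qOdd F m)) = 4 * Nat.card (Cfsg.POmega F ⇑(qOdd F m)) := by
  have hc := ctx_odd hodd hm
  have h2 := two_ne_zero_of_odd hodd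
  have hn : 5 ≤ finrank F (Unit ⊕ (Fin m ⊕ Fin m) → F) := by simp; omega
  have hno : ¬ ∃ g : Cfsg.isometryGroup F ⇑(qOdd F m), g ∈ Cfsg.Omega F ⇑(qOdd F m) ∧
      ((g : GL (Unit ⊕ (Fin m ⊕ Fin m)) F) :
        Matrix (Unit ⊕ (Fin m ⊕ Fin m)) (Unit ⊕ (Fin m ⊕ Fin m)) F) = -1 := by
    rintro ⟨g, hg, hg1⟩
    have hd1 := det_eq_dickson hc.nondeg (hex_of_two h2 _) g
    rw [((mem_commutator_iff hc.nondeg h2 (by omega) _).1 ((mem_omega_iff g).1 hg)).1, hg1, Matrix.det_neg,
      Matrix.det_one, mul_one] at hd1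
    simp [Fintype.card_sum, ← two_mul, pow_add, pow_mul] at hd1
    exact h2 (by linear_combination -hd1)
  have h3 := card_pomega_mul (Q := qOdd F m)
  rw [(card_center_omega hc.nondeg hn).2 (Or.inl hno), mul_one, index_omega,
    index_commutator_odd hc.nondeg h2 (by omega)] at h3
  exact h3.symm

theorem card_pgo_odd :
    Nat.card (conjA (Q := qOdd F m)).range = 2 * Nat.card (Cfsg.POmega F ⇑(qOdd F m)) := by
  have h := card_pgo (ctx_odd hodd hm)
  rw [range_mult_odd hodd hm, card_omega_odd hodd hm] at h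
  have h1 := ((powMonoidHom 2 : Fˣ →* Fˣ).range).index_mul_card
  rw [IsCyclic.index_powMonoidHom_range, Nat.card_units] at h1
  have h2 : Nat.gcd (Nat.card F - 1) 2 = 2 := by
    obtain ⟨k, hk⟩ := hodd
    rw [Nat.card_eq_fintype_card, hk, Nat.add_sub_cancel, Nat.gcd_comm]
    exact Nat.gcd_eq_left ⟨k, rfl⟩
  rw [h2] at h1
  have hpos : 0 < Nat.card F - 1 := by have := Finite.one_lt_card (α := F); omega
  refine Nat.eq_of_mul_eq_mul_right hpos ?_
  rw [h, ← h1]
  ring

theorem card_aut_odd : Nat.card (MulAut (Cfsg.POmega F (Cfsg.quadFormOdd m F))) =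
    Nat.card (F ≃+* F) * (2 * Nat.card (Cfsg.POmega F (Cfsg.quadFormOdd m F))) := by
  have h := card_aut (ctx_odd hodd hm) (gal_surjective_odd hodd hm)
  rwa [card_pgo_odd hodd hm] at h

theorem relIndex_inn_odd :
    (Cfsg.Inn (Cfsg.POmega F ⇑(qOdd F m))).relIndex (conjA (Q := qOdd F m)).range = 2 := by
  have h := ((Cfsg.Inn (Cfsg.POmega F ⇑(qOdd F m))).subgroupOf (conjA (Q := qOdd F m)).range).index_mul_card
  rw [Nat.card_congr (Subgroup.subgroupOfEquivOfLe inn_le_pgo).toEquiv, card_inn (ctx_odd hodd hm),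
    card_pgo_odd hodd hm] at h
  exact Nat.eq_of_mul_eq_mul_right Nat.card_pos h

theorem out_odd : Nonempty (Cfsg.Out (Cfsg.POmega F (Cfsg.quadFormOdd m F)) ≃*
    Multiplicative (ZMod 2) × (F ≃+* F)) := by
  have hc := ctx_odd hodd hm
  have hs : ∀ σ : F ≃+* F, ∀ v, qOdd F m (fun j => σ (v j)) = σ (qOdd F m v) := fun σ => qOdd_gal σ
  let s₀ : (F ≃+* F) →* MulAut (Cfsg.POmega F ⇑(qOdd F m)) :=
    MonoidHom.mk' (fun σ => (Semi.ofGal σ (hs σ)).aut) fun σ τ => Semi.ofGal_comp (hs σ) (hs τ) (hs _)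
  let π : Cfsg.Out (Cfsg.POmega F ⇑(qOdd F m)) →* (F ≃+* F) := QuotientGroup.lift _ (galOf hc) (by
    rw [ker_galOf hc]; exact inn_le_pgo)
  let s := (QuotientGroup.mk' (Cfsg.Inn (Cfsg.POmega F ⇑(qOdd F m)))).comp s₀
  have hπs : ∀ σ, π (s σ) = σ := fun σ => galOf_aut hc (Semi.ofGal σ (hs σ))
  have : Finite (F ≃+* F) := Finite.of_injective (fun σ : F ≃+* F => (σ : F → F)) DFunLike.coe_injective
  have hker : Nat.card π.ker = 2 := by
    have h1 := π.ker.card_eq_card_quotient_mul_card_subgroup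
    rw [Nat.card_congr (QuotientGroup.quotientKerEquivOfSurjective π fun σ => ⟨s σ, hπs σ⟩).toEquiv] at h1
    have h2 := (Cfsg.Inn (Cfsg.POmega F ⇑(qOdd F m))).card_eq_card_quotient_mul_card_subgroup
    rw [show Nat.card (MulAut (Cfsg.POmega F ⇑(qOdd F m)) ⧸ Cfsg.Inn (Cfsg.POmega F ⇑(qOdd F m))) =
      Nat.card (Cfsg.Out (Cfsg.POmega F ⇑(qOdd F m))) from rfl, h1, card_inn hc,
      card_aut hc (gal_surjective_odd hodd hm), card_pgo_odd hodd hm, mul_assoc] at h2
    exact (Nat.eq_of_mul_eq_mul_right Nat.card_pos (Nat.eq_of_mul_eq_mul_left Nat.card_pos h2)).symm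
  obtain ⟨e⟩ := nonempty_prod_of_split π s hπs hker
  have : Fact (Nat.Prime 2) := ⟨Nat.prime_two⟩
  have hcyc : IsCyclic π.ker := isCyclic_of_prime_card hker
  have hz := zmodCyclicMulEquiv hcyc
  rw [hker] at hz
  exact ⟨e.trans (MulEquiv.prodCongr hz.symm (MulEquiv.refl _))⟩

end Fix

end Cfsg.Agent.AutPOmega
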