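import Cfsg.Agent.AutPOmega.OddNormal
import Cfsg.Agent.AutPOmega.Odd
import Cfsg.Agent.Classical.OrthPOmega

/-!
Similarities of a non-degenerate form of dimension at least five acting trivially on POmega are scalars
(no restriction on the type of the space, so the hyperbolic space of dimension 8 is included).
-/

set_option autoImplicit false

namespace Cfsg.Agent.AutPOmega

open Module QuadraticMap Classical Classical.Quad Matrix
open scoped commutatorElement

variable {ι : Type} [Fintype ι] [DecidableEq ι] {F : Type*} [Field F] {Q : QuadraticForm F (ι → F)}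

section Mult

variable (hv : ∃ v : ι → F, Q v = 1)
include hv

theorem mult0_unique {g : GL ι F} {c d : F} (h : ∀ v, Q (g.1 *ᵥ v) = c * Q v) (h' : ∀ v, Q (g.1 *ᵥ v) = d * Q v) :
    c = d := by
  obtain ⟨v, hv⟩ := hv
  simpa [hv] using (h v).symm.trans (h' v)

/-- The multiplier of a similarity of a form representing one. -/
noncomputable def mult0 : Geo.quadSimilarityGroup (F := F) (⇑Q) →* Fˣ :=
  MonoidHom.mk' (fun g => g.2.choose) fun g h => Units.ext (mult0_unique hv (g := g.1 * h.1)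
    (fun v => (g * h).2.choose_spec v) fun v => by
      rw [Units.val_mul, Units.val_mul, ← Matrix.mulVec_mulVec, g.2.choose_spec, h.2.choose_spec, mul_assoc])

theorem mult0_spec (g : Geo.quadSimilarityGroup (F := F) (⇑Q)) (v : ι → F) :
    Q (g.1.1 *ᵥ v) = (mult0 hv g : F) * Q v := g.2.choose_spec v

theorem mult0_eq {g : Geo.quadSimilarityGroup (F := F) (⇑Q)} {c : Fˣ} (h : ∀ v, Q (g.1.1 *ᵥ v) = (c : F) * Q v) :
    mult0 hv g = c := Units.ext (mult0_unique hv (mult0_spec hv g) h)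

theorem ker_mult0 : (mult0 hv).ker = (isoToSim (Q := Q)).range := by
  ext g
  constructor
  · intro h
    refine ⟨⟨g.1, mem_isometryGroup_iff.2 fun v => ?_⟩, rfl⟩
    rw [mult0_spec hv g, MonoidHom.mem_ker.1 h, Units.val_one, one_mul]
  · rintro ⟨s, rfl⟩
    refine mult0_eq hv fun v => ?_
    rw [Units.val_one, one_mul]
    exact mem_isometryGroup_iff.1 s.2 v

theorem mult0_isoToSim (s : Cfsg.isometryGroup F ⇑Q) : mult0 hv (isoToSim s) = 1 := by
  rw [← MonoidHom.mem_ker, ker_mult0]; exact ⟨s, rfl⟩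

theorem mult0_scalarSim (a : Fˣ) : mult0 hv (scalarSim a) = a ^ 2 := mult0_eq hv fun v => by
  rw [scalarSim_mulVec, Classical.Quad.map_smul', Units.val_pow_eq_pow_val, pow_two]

/-- A similarity with square multiplier is a scalar times an isometry. -/
theorem exists_iso_of_square {g : Geo.quadSimilarityGroup (F := F) (⇑Q)} (h : IsSquare (mult0 hv g : F)) :
    ∃ (r : Fˣ) (s : Cfsg.isometryGroup F ⇑Q), g = scalarSim r * isoToSim s := by
  obtain ⟨r, hr⟩ := h
  have hr0 : r ≠ 0 := fun h => (mult0 hv g).ne_zero (by rw [hr, h, mul_zero])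
  have hmem : (scalarSim (Units.mk0 r hr0))⁻¹ * g ∈ (mult0 hv).ker := by
    rw [MonoidHom.mem_ker, map_mul, map_inv, mult0_scalarSim hv, inv_mul_eq_one]
    ext
    rw [hr]
    simp [pow_two]
  rw [ker_mult0] at hmem
  obtain ⟨s, hs⟩ := hmem
  exact ⟨_, s, by rw [hs, mul_inv_cancel_left]⟩

end Mult

variable [Finite F] (hQ : (polarBilin Q).Nondegenerate) (h2 : (2 : F) ≠ 0) (hn : 5 ≤ finrank F (ι → F))
include hQ hn

/-- Omega is perfect. -/
theorem omega_perfect : commutator (Om Q) = ⊤ := by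
  have hperf : commutator (eo Q) = ⊤ := by
    refine eq_top_iff.2 ?_
    rintro ⟨g, hg⟩ -
    have h := eo_le_commutator_eo hQ hn hg
    rw [← Subgroup.map_subtype_commutator] at h
    obtain ⟨x, hx, hxg⟩ := h
    exact (Subtype.ext hxg : x = ⟨g, hg⟩) ▸ hx
  refine Subgroup.map_injective (f := (omegaEquiv hQ hn).toMonoidHom) (omegaEquiv hQ hn).injective ?_
  rw [Subgroup.map_top_of_surjective _ (omegaEquiv hQ hn).surjective, commutator_def, Subgroup.map_commutator,
    Subgroup.map_top_of_surjective _ (omegaEquiv hQ hn).surjective, ← commutator_def, hperf]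

include h2

/-- Only scalars act trivially. -/
theorem sim_scalar_of_aut_one {g : Geo.quadSimilarityGroup (F := F) (⇑Q)} (h : conjA g = 1) :
    g.1 ∈ Geo.scalars ι F := by
  let φ : Om Q ≃* Om Q := (Semi.ofSim g).omAut
  have hz : ∀ s : Om Q, s⁻¹ * φ s ∈ Subgroup.center (Om Q) := fun s => by
    rw [← mkO_eq_one_iff, map_mul, map_inv]
    have h1 : mkO (φ s) = mkO s := by
      show mkO ((Semi.ofSim g).omAut s) = _
      rw [← (Semi.ofSim g).aut_mkO, ← conjA_apply, h, MulAut.one_apply]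
    rw [h1, inv_mul_cancel]
  let z : Om Q →* Subgroup.center (Om Q) := MonoidHom.mk' (fun s => ⟨s⁻¹ * φ s, hz s⟩) fun s t => Subtype.ext (by
    show (s * t)⁻¹ * φ (s * t) = s⁻¹ * φ s * (t⁻¹ * φ t)
    have hc := Subgroup.mem_center_iff.1 (hz s) t⁻¹
    rw [map_mul, ← mul_assoc (s⁻¹ * φ s), ← hc]
    group)
  have hfix : ∀ s, φ s = s := fun s => by
    have hle : commutator (Om Q) ≤ z.ker := by
      rw [commutator_def, Subgroup.commutator_le]
      intro a _ b _
      rw [MonoidHom.mem_ker, map_commutatorElement, commutatorElement_eq_one_iff_commute]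
      exact Subtype.ext (Subgroup.mem_center_iff.1 (z b).2 (z a).1)
    have h1 : s ∈ z.ker := hle ((omega_perfect hQ hn).symm ▸ Subgroup.mem_top s)
    have h2 : s⁻¹ * φ s = 1 := congrArg Subtype.val (MonoidHom.mem_ker.1 h1)
    exact (inv_mul_eq_one.1 h2).symm
  obtain ⟨a, ha, hav, -⟩ := scalar_of_commute hQ h2 (by omega) (T := fun x => g.1.1 *ᵥ x) (τ := id)
    (fun x y => Matrix.mulVec_add _ _ _) (fun t x => Matrix.mulVec_smul _ _ _)
    (fun x y hxy => by
      have := congrArg ((g.1⁻¹).1 *ᵥ ·) hxy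
      simpa [Matrix.mulVec_mulVec] using this)
    fun e w he hw x => by
      let s := (omegaEquiv hQ hn).symm ⟨sO he hw, sO_mem_eo he hw⟩
      have hs : ∀ y, mat s *ᵥ y = (sO he hw).1 y := fun y => by
        rw [← omegaEquiv_apply hQ hn s, MulEquiv.apply_symm_apply]
      have h1 := (Semi.ofSim g).omAut_app s x
      rw [show (Semi.ofSim g).omAut s = s from hfix s, Semi.ofSim_app, Semi.ofSim_app] at h1
      show g.1.1 *ᵥ (sO he hw).1 x = (sO he hw).1 (g.1.1 *ᵥ x)
      rw [← hs, ← hs, h1]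
  refine (Geo.mem_scalars_iff _).2 ⟨Units.mk0 a ha, Matrix.ext_of_mulVec_single fun i => ?_⟩
  rw [Units.val_mk0, Matrix.smul_mulVec, Matrix.one_mulVec]
  exact hav _

theorem sim_aut_one_iff {g : Geo.quadSimilarityGroup (F := F) (⇑Q)} :
    conjA g = 1 ↔ ∃ a : Fˣ, g = scalarSim a := by
  constructor
  · intro h
    obtain ⟨a, ha⟩ := sim_scalar_of_aut_one hQ h2 hn h
    exact ⟨a, Subtype.ext ha.symm⟩
  · rintro ⟨a, rfl⟩
    rw [← (conjA (Q := Q)).map_one]
    refine Semi.aut_congr _ _ a.ne_zero fun v => ?_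
    rw [Semi.ofSim_app, Semi.ofSim_app, scalarSim_mulVec, Subgroup.coe_one, Units.val_one, Matrix.one_mulVec]

theorem sim_aut_scalar (a : Fˣ) : conjA (scalarSim (Q := Q) a) = 1 :=
  (sim_aut_one_iff hQ h2 hn).2 ⟨a, rfl⟩

/-- An isometry inducing an inner automorphism is a sign times an element of Omega. -/
theorem sim_sign_of_inn {g : Cfsg.isometryGroup F ⇑Q}
    (hg : conjA (isoToSim g) ∈ Cfsg.Inn (Cfsg.POmega F ⇑Q)) :
    ∃ (σ : Om Q) (a : F), (a = 1 ∨ a = -1) ∧ g.1.1 = a • mat σ := by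
  rw [inn_eq] at hg
  obtain ⟨_, ⟨s, rfl⟩, e⟩ := hg
  have h1 : conjA ((omToSim s)⁻¹ * isoToSim g) = 1 := by rw [map_mul, map_inv, e, inv_mul_cancel]
  obtain ⟨a, ha⟩ := (sim_aut_one_iff hQ h2 hn).1 h1
  have hga : isoToSim g = omToSim s * scalarSim a := by rw [← ha, mul_inv_cancel_left]
  have hv : ∀ v, g.1.1 *ᵥ v = (a : F) • (mat s *ᵥ v) := fun v => by
    have := congrArg (fun x : Geo.quadSimilarityGroup (F := F) (⇑Q) => x.1.1 *ᵥ v) hga
    simp only [Subgroup.coe_mul, Units.val_mul, ← Matrix.mulVec_mulVec, scalarSim_mulVec, Matrix.mulVec_smul] at this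
    exact this
  refine ⟨s, a, mul_self_eq_one_iff.1 ?_, Matrix.ext_of_mulVec_single fun j => by rw [hv, Matrix.smul_mulVec]⟩
  obtain ⟨v, hv0⟩ : ∃ v, Q v ≠ 0 := by
    by_contra hcon
    push Not at hcon
    have : Nontrivial (ι → F) := Module.nontrivial_of_finrank_pos (R := F) (by omega)
    obtain ⟨v, hv0⟩ := exists_ne (0 : ι → F)
    exact hv0 (eq_zero_of_polar hQ fun y => by simp [polar, hcon])
  have h3 := congrArg (⇑Q) (hv v)
  rw [Classical.Quad.map_smul', Q_mat, mem_isometryGroup_iff.1 g.2 v] at h3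
  exact mul_right_cancel₀ hv0 (by rw [one_mul]; exact h3.symm)

omit hQ h2 hn [Finite F] in
/-- An element of Omega induces an inner automorphism. -/
theorem inn_of_mem_omega {g : Cfsg.isometryGroup F ⇑Q} (hg : g ∈ Cfsg.Omega F ⇑Q) :
    conjA (isoToSim g) ∈ Cfsg.Inn (Cfsg.POmega F ⇑Q) := by
  rw [inn_eq]
  exact ⟨_, ⟨⟨g, hg⟩, rfl⟩, rfl⟩

end Cfsg.Agent.AutPOmega
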