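import Cfsg.Agent.AutPOmega.SemisimpleCent
import Cfsg.Agent.AutPOmega.SimKernel
import Cfsg.Agent.AutPOmega.MinusPgo

/-!
Classes of semisimple automorphisms of odd prime order of orthogonal groups: group-theoretic reduction, lifting
and the commuting similarities.
-/

set_option autoImplicit false

namespace Cfsg.Agent.AutPOmega

open Module QuadraticMap Classical Classical.Quad Matrix

section Groups

variable {X : Type*} [Group X] {K H G : Subgroup X} [K.Normal]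

theorem classes_coincide {PO GT : Subgroup X} (hKH : K ≤ H) (hHG : H ≤ G) (hKP : K ≤ PO) (hGGT : G ≤ GT)
    (hPGT : PO ≤ GT) (hout : ∀ g ∈ GT, g ∈ G ∨ ∃ σ ∈ PO, σ⁻¹ * g ∈ G) {x : X}
    (hgen : G ≤ K ⊔ (G ⊓ Subgroup.centralizer {x})) :
    (∀ y : X, (Cfsg.IsConjUnder K x y ↔ Cfsg.IsConjUnder G x y) ∧
      (Cfsg.IsConjUnder H x y ↔ Cfsg.IsConjUnder G x y)) ∧
    ∀ y : X, Cfsg.IsConjUnder PO x y ↔ Cfsg.IsConjUnder GT x y := by
  have key : ∀ g ∈ G, ∃ t ∈ K, g * x * g⁻¹ = t * x * t⁻¹ := fun g hg => by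
    obtain ⟨t, ht, c, hc, rfl⟩ := Subgroup.mem_sup_of_normal_left.1 (hgen hg)
    refine ⟨t, ht, ?_⟩
    have hcx : c * x = x * c := Subgroup.mem_centralizer_singleton_iff.1 hc.2
    rw [_root_.mul_inv_rev, mul_assoc t c x, hcx]
    group
  refine ⟨fun y => ⟨⟨fun ⟨g, hg, e⟩ => ⟨g, hHG (hKH hg), e⟩, fun ⟨g, hg, e⟩ => ?_⟩,
    ⟨fun ⟨g, hg, e⟩ => ⟨g, hHG hg, e⟩, fun ⟨g, hg, e⟩ => ?_⟩⟩, fun y => ⟨fun ⟨g, hg, e⟩ => ⟨g, hPGT hg, e⟩,
    fun ⟨g, hg, e⟩ => ?_⟩⟩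
  · obtain ⟨t, ht, e'⟩ := key g hg
    exact ⟨t, ht, e.trans e'⟩
  · obtain ⟨t, ht, e'⟩ := key g hg
    exact ⟨t, hKH ht, e.trans e'⟩
  · rcases hout g hg with hgG | ⟨σ, hσ, hσg⟩
    · obtain ⟨t, ht, e'⟩ := key g hgG
      exact ⟨t, hKP ht, e.trans e'⟩
    · obtain ⟨t, ht, e'⟩ := key _ hσg
      refine ⟨σ * t, mul_mem hσ (hKP ht), e.trans ?_⟩
      calc g * x * g⁻¹ = σ * ((σ⁻¹ * g) * x * (σ⁻¹ * g)⁻¹) * σ⁻¹ := by group
        _ = σ * (t * x * t⁻¹) * σ⁻¹ := by rw [e']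
        _ = σ * t * x * (σ * t)⁻¹ := by group

theorem gen_of_two (h2 : K.relIndex G = 2) {J : Subgroup X} (hKJ : K ≤ J) (hJG : J ≤ G) {d : X} (hd : d ∈ J)
    (hdK : d ∉ K) : G ≤ J := by
  have h := Subgroup.relIndex_mul_relIndex K J G hKJ hJG
  rw [h2] at h
  rcases (Nat.dvd_prime Nat.prime_two).1 ⟨_, h.symm⟩ with h1 | h1
  · exact absurd ((Subgroup.relIndex_eq_one.1 h1) hd) hdK
  · rw [h1] at h
    exact Subgroup.relIndex_eq_one.1 (by omega)

theorem gen_of_cyclic_four (e : Nonempty (G ⧸ K.subgroupOf G ≃* Multiplicative (ZMod 4))) (hKH : K ≤ H) (hHG : H ≤ G)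
    (hH2 : K.relIndex H = 2) {J : Subgroup X} (hKJ : K ≤ J) (hJG : J ≤ G) {d : X} (hd : d ∈ J) (hdH : d ∉ H) :
    G ≤ J := by
  have h4 : K.relIndex G = 4 := by
    show Nat.card (G ⧸ K.subgroupOf G) = 4
    rw [Nat.card_congr e.some.toEquiv, Nat.card_eq_fintype_card]
    simp
  have hm := Subgroup.relIndex_mul_relIndex K J G hKJ hJG
  rw [h4] at hm
  have h1 : K.relIndex J ≠ 1 := fun h1 => hdH (hKH ((Subgroup.relIndex_eq_one.1 h1) hd))
  have h2 : K.relIndex J ≠ 2 := by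
    intro h2
    obtain ⟨e⟩ := e
    let f : G →* Multiplicative (ZMod 4) := e.toMonoidHom.comp (QuotientGroup.mk' _)
    have hf : ∀ z : G, f z = 1 ↔ z.1 ∈ K := fun z => by
      simp only [f, MonoidHom.comp_apply, MulEquiv.coe_toMonoidHom, MulEquiv.map_eq_one_iff, QuotientGroup.mk'_apply]
      exact QuotientGroup.eq_one_iff z
    have hsq : ∀ (L : Subgroup X), K ≤ L → K.relIndex L = 2 → ∀ z : G, z.1 ∈ L → f z * f z = 1 := fun L hL hL2 z hz => by
      have := Subgroup.pow_index_mem (K.subgroupOf L) ⟨z.1, hz⟩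
      rw [show (K.subgroupOf L).index = 2 from hL2, pow_two, Subgroup.mem_subgroupOf] at this
      rw [← map_mul, hf]
      exact this
    have huniq : ∀ a b : Multiplicative (ZMod 4), a * a = 1 → b * b = 1 → a ≠ 1 → b ≠ 1 → a = b := by decide
    obtain ⟨h, hh, hhK⟩ := SetLike.not_le_iff_exists.1 (fun hle : H ≤ K => by
      rw [Subgroup.relIndex_eq_one.2 hle] at hH2
      omega)
    have h3 := huniq (f ⟨d, hJG hd⟩) (f ⟨h, hHG hh⟩) (hsq J hKJ h2 _ hd) (hsq H hKH hH2 _ hh)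
      (fun h => hdH (hKH ((hf _).1 h))) (fun h' => hhK ((hf _).1 h'))
    have h5 : f (⟨d, hJG hd⟩ * ⟨h, hHG hh⟩⁻¹) = 1 := by rw [map_mul, map_inv, h3, mul_inv_cancel]
    have h6 : d * h⁻¹ ∈ K := (hf _).1 h5
    exact hdH (by simpa using mul_mem (hKH h6) hh)
  have hdvd : K.relIndex J ∣ 4 := ⟨_, hm.symm⟩
  have h7 : K.relIndex J = 4 := by
    have := Nat.le_of_dvd (by norm_num) hdvd
    interval_cases hk : K.relIndex J <;> omega
  rw [h7] at hm
  exact Subgroup.relIndex_eq_one.1 (by omega)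

theorem gen_of_four (h4 : K.relIndex G = 4) (hKH : K ≤ H) {J : Subgroup X} (hKJ : K ≤ J) (hJG : J ≤ G) {d u : X}
    (hd : d ∈ J) (hdH : d ∉ H) (hu : u ∈ J) (huH : u ∈ H) (huK : u ∉ K) : G ≤ J := by
  have hm := Subgroup.relIndex_mul_relIndex K J G hKJ hJG
  rw [h4] at hm
  have h1 : K.relIndex J ≠ 1 := fun h1 => huK ((Subgroup.relIndex_eq_one.1 h1) hu)
  have h2 : K.relIndex J ≠ 2 := fun h2 => by
    have h3 := Subgroup.mul_mem_iff_of_index_two (H := K.subgroupOf J) h2 (a := ⟨d, hd⟩) (b := ⟨u, hu⟩)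
    have hdK : d ∉ K := fun h => hdH (hKH h)
    have h5 : d * u ∈ K := h3.2 (iff_of_false hdK huK)
    exact hdH (by simpa using mul_mem (hKH h5) (inv_mem huH))
  have hdvd : K.relIndex J ∣ 4 := ⟨_, hm.symm⟩
  have h7 : K.relIndex J = 4 := by
    have := Nat.le_of_dvd (by norm_num) hdvd
    interval_cases hk : K.relIndex J <;> omega
  rw [h7] at hm
  exact Subgroup.relIndex_eq_one.1 (by omega)

end Groups

variable {ι : Type} [Fintype ι] [DecidableEq ι] {F : Type*} [Field F] [Finite F] {Q : QuadraticForm F (ι → F)}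
  (hQ : (polarBilin Q).Nondegenerate) (h2 : (2 : F) ≠ 0) (hn : 5 ≤ finrank F (ι → F))
include hQ h2 hn

/-- An automorphism of odd prime order in a 2-extension of the inner group comes from an element of Omega of the
same order. -/
theorem exists_omega_lift {x : MulAut (Cfsg.POmega F ⇑Q)} (hx : x ∈ (conjA (Q := Q)).range)
    (h8 : (Cfsg.Inn (Cfsg.POmega F ⇑Q)).relIndex (conjA (Q := Q)).range ∣ 8) {r : ℕ} (hro : Odd r)
    (hxr : orderOf x = r) :
    ∃ s : Cfsg.isometryGroup F ⇑Q, s ∈ Cfsg.Omega F ⇑Q ∧ x = conjA (isoToSim s) ∧ s ^ r = 1 := by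
  have hcop : r.Coprime 8 := Nat.Coprime.pow_right 3 ((Nat.coprime_two_right).2 hro)
  have h1 : x ^ 8 ∈ Cfsg.Inn (Cfsg.POmega F ⇑Q) := by
    obtain ⟨k, hk⟩ := h8
    have := Subgroup.pow_index_mem ((Cfsg.Inn (Cfsg.POmega F ⇑Q)).subgroupOf (conjA (Q := Q)).range) ⟨x, hx⟩
    rw [Subgroup.mem_subgroupOf] at this
    have h9 := pow_mem this k
    rw [SubmonoidClass.coe_pow, ← pow_mul] at h9
    rwa [hk]
  have hx' : x ∈ Cfsg.Inn (Cfsg.POmega F ⇑Q) := by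
    have hxr' : x ^ r = 1 := hxr ▸ pow_orderOf_eq_one x
    obtain ⟨a, ha⟩ : ∃ a, 8 * a % r = 1 % r := ⟨(ZMod.unitOfCoprime 8 hcop.symm)⁻¹.1.val, by
      rcases Nat.eq_zero_or_pos r with h | h
      · exact absurd (h ▸ hro) (by decide)
      have : NeZero r := ⟨h.ne'⟩
      have h' : ((8 * ((ZMod.unitOfCoprime 8 hcop.symm)⁻¹.1 : ZMod r).val : ℕ) : ZMod r) = ((1 : ℕ) : ZMod r) := by
        rw [Nat.cast_mul, ZMod.natCast_zmod_val, Nat.cast_one, ← ZMod.coe_unitOfCoprime 8 hcop.symm, Units.mul_inv]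
      exact (ZMod.natCast_eq_natCast_iff' _ _ r).1 h'⟩
    have e : x = (x ^ 8) ^ a := by
      rw [← pow_mul, ← pow_mod_orderOf x (8 * a), hxr, ha, ← hxr, pow_mod_orderOf, pow_one]
    rw [e]
    exact pow_mem h1 a
  rw [inn_eq] at hx'
  obtain ⟨_, ⟨σ, rfl⟩, rfl⟩ := hx'
  have hc : conjA (omToSim (σ ^ r)) = 1 := by rw [map_pow, map_pow, ← hxr, pow_orderOf_eq_one]
  obtain ⟨a, ha⟩ := (sim_aut_one_iff hQ h2 hn).1 hc
  have hsq : (σ ^ r) ^ 2 = 1 := by
    refine om_ext_mulVec fun v => ?_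
    have hm : ∀ w, mat (σ ^ r) *ᵥ w = (a : F) • w := fun w => by
      rw [← scalarSim_mulVec (Q := Q) a w, ← ha]; rfl
    obtain ⟨w, hw⟩ : ∃ w, Q w ≠ 0 := by
      obtain ⟨w, hw⟩ := exists_value hQ h2 (by omega) (c := (1 : F)) one_ne_zero
      exact ⟨w, by rw [hw]; exact one_ne_zero⟩
    have haa : (a : F) * a = 1 := by
      have h3 := Q_mat (σ ^ r) w
      rw [hm, Classical.Quad.map_smul'] at h3
      exact mul_right_cancel₀ hw (by rw [h3, one_mul])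
    rw [pow_two, mat_mul_mulVec, hm, hm, smul_smul, haa, one_smul, mat_one_mulVec]
  obtain ⟨j, hj⟩ := hro
  refine ⟨(σ ^ (r + 1)).1, (σ ^ (r + 1)).2, ?_, ?_⟩
  · show conjA (omToSim σ) = conjA (omToSim (σ ^ (r + 1)))
    rw [pow_succ, map_mul omToSim, map_mul, hc, one_mul]
  · rw [← SubmonoidClass.coe_pow, ← pow_mul, mul_comm, pow_mul, hj,
      show 2 * j + 1 + 1 = 2 * (j + 1) by ring, pow_mul, ← hj, hsq, one_pow]
    rfl

/-- A similarity with any multiplier and determinant a power of it, commuting with a semisimple isometry. -/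
theorem exists_central_sim {s : Cfsg.isometryGroup F ⇑Q} {r : ℕ} (hr : Odd r) (hrF : (r : F) ≠ 0)
    (hsr : s ^ r = 1) {n : ℕ} (hι : Fintype.card ι = 2 * n) (c : Fˣ) :
    ∃ g : Geo.quadSimilarityGroup (F := F) (⇑Q), g * isoToSim s = isoToSim s * g ∧
      (∀ v, Q (g.1.1 *ᵥ v) = (c : F) * Q v) ∧ g.1.1.det = (c : F) ^ n := by
  classical
  have hS : ∀ v, Q (Matrix.toLin' s.1.1 v) = Q v := fun v => by
    rw [Matrix.toLin'_apply]; exact mem_isometryGroup_iff.1 s.2 v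
  have hSr : (Matrix.toLin' s.1.1) ^ r = 1 := by
    rw [← Matrix.toLin'_pow, ← Units.val_pow_eq_pow_val, ← SubgroupClass.coe_pow, hsr]
    exact Matrix.toLin'_one
  obtain ⟨t, htS, htQ, hdet, hfix⟩ := exists_sim_commute hQ h2 (S := Matrix.toLin' s.1.1) hS hr hrF hSr
    (n := n) (by rw [finrank_fintype_fun_eq_card, hι]) c.ne_zero
  have hd0 : (LinearMap.toMatrix' t).det ≠ 0 := fun h0 => by
    obtain ⟨v, hv0, hv⟩ := Matrix.exists_mulVec_eq_zero_iff.2 h0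
    rw [LinearMap.toMatrix'_mulVec] at hv
    refine hv0 (eq_zero_of_polar hQ fun w => ?_)
    have h : polar (⇑Q) (t v) (t w) = (c : F) * polar (⇑Q) v w := by
      simp only [polar, ← map_add, htQ]; ring
    rw [hv, polar_zero_left] at h
    exact (mul_eq_zero.1 h.symm).resolve_left c.ne_zero
  let g : Geo.quadSimilarityGroup (F := F) (⇑Q) :=
    ⟨Matrix.GeneralLinearGroup.mkOfDetNeZero _ hd0, c, fun v => by
      show Q (LinearMap.toMatrix' t *ᵥ v) = _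
      rw [LinearMap.toMatrix'_mulVec]; exact htQ v⟩
  have hgv : ∀ v, Q (g.1.1 *ᵥ v) = (c : F) * Q v := fun v => by
    show Q (LinearMap.toMatrix' t *ᵥ v) = _
    rw [LinearMap.toMatrix'_mulVec]; exact htQ v
  have hgs : g * isoToSim s = isoToSim s * g := by
    refine Subtype.ext (Units.ext ?_)
    show LinearMap.toMatrix' t * s.1.1 = s.1.1 * LinearMap.toMatrix' t
    have := congrArg LinearMap.toMatrix' htS
    rwa [LinearMap.toMatrix'_mul, LinearMap.toMatrix'_mul, LinearMap.toMatrix'_toLin'] at this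
  have hsq := det_sim hQ (g := g.1) hgv
  rw [hι, mul_comm 2 n, pow_mul, pow_two] at hsq
  by_cases hf : ∀ x, Matrix.toLin' s.1.1 x = x → x = 0
  · refine ⟨g, hgs, hgv, ?_⟩
    show (LinearMap.toMatrix' t).det = _
    rw [LinearMap.det_toMatrix', hdet hf]
  rcases mul_self_eq_mul_self_iff.1 hsq with h | h
  · exact ⟨g, hgs, hgv, h⟩
  push Not at hf
  obtain ⟨u, hu, hsu⟩ := hfix hf
  rw [Matrix.toLin'_apply] at hsu
  let ρ : Cfsg.isometryGroup F ⇑Q := (oEquiv Q).symm (rO hu)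
  have hρ : ∀ v, ρ.1.1 *ᵥ v = (rO hu).1 v := fun v => by
    rw [← oEquiv_apply, MulEquiv.apply_symm_apply]
  have hρs : isoToSim ρ * isoToSim s = isoToSim s * isoToSim ρ := by
    refine Subtype.ext (Units.ext (Matrix.ext_of_mulVec_single fun j => ?_))
    show (ρ.1.1 * s.1.1) *ᵥ _ = (s.1.1 * ρ.1.1) *ᵥ _
    rw [← Matrix.mulVec_mulVec, ← Matrix.mulVec_mulVec, hρ, hρ, rO_apply, rO_apply, Matrix.mulVec_sub,
      Matrix.mulVec_smul, hsu]
    congr 2
    congr 1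
    have h4 : polar (⇑Q) (s.1.1 *ᵥ Pi.single j 1) (s.1.1 *ᵥ u) = polar (⇑Q) (Pi.single j 1) u := by
      simp only [polar, ← Matrix.mulVec_add, mem_isometryGroup_iff.1 s.2]
    rwa [hsu] at h4
  refine ⟨isoToSim ρ * g, by rw [mul_assoc, hgs, ← mul_assoc, hρs, mul_assoc], fun v => ?_, ?_⟩
  · show Q ((ρ.1.1 * g.1.1) *ᵥ v) = _
    rw [← Matrix.mulVec_mulVec, mem_isometryGroup_iff.1 ρ.2, hgv]
  · show (ρ.1.1 * g.1.1).det = _
    rw [Matrix.det_mul, h, det_eq_dickson hQ (hex_of_two h2 _) ρ, MulEquiv.apply_symm_apply, dickson_rO]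
    simp

end Cfsg.Agent.AutPOmega
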