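import Cfsg.Agent.AutPOmega.Roots

/-!
Automorphisms induce incidence-preserving maps on singular lines and points.
-/

set_option autoImplicit false

namespace Cfsg.Agent.AutPOmega

open Module QuadraticMap Classical Classical.Quad Matrix

variable {ι : Type} [Fintype ι] [DecidableEq ι] {F : Type*} [Field F] {Q : QuadraticForm F (ι → F)}

/-- The root group of L goes to the root group of M. -/
def Maps (β : MulAut (Cfsg.POmega F ⇑Q)) (L M : Submodule F (ι → F)) : Prop :=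
  IsLine Q L ∧ IsLine Q M ∧ ∀ s, InX L s → ∃ s', InX M s' ∧ β (mkO s) = mkO s'

/-- Distinct lines with a common point. -/
def Meet (L M : Submodule F (ι → F)) : Prop := L ≠ M ∧ ∃ x, x ≠ 0 ∧ x ∈ L ∧ x ∈ M

/-- Orthogonal lines. -/
def Orth (Q : QuadraticForm F (ι → F)) (L M : Submodule F (ι → F)) : Prop :=
  ∀ x ∈ L, ∀ y ∈ M, polar (⇑Q) x y = 0

/-- Lines spanning a totally singular plane. -/
def Adj (Q : QuadraticForm F (ι → F)) (L M : Submodule F (ι → F)) : Prop := Meet L M ∧ Orth Q L M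

/-- Commuting root groups. -/
def Com (Q : QuadraticForm F (ι → F)) (L M : Submodule F (ι → F)) : Prop :=
  ∀ s t : Om Q, InX L s → InX M t → Commute s t

/-- The group theoretical form of adjacency. -/
def GAdj (Q : QuadraticForm F (ι → F)) (L M : Submodule F (ι → F)) : Prop :=
  L ≠ M ∧ Com Q L M ∧ ∃ (s t r : Om Q) (N : Submodule F (ι → F)), InX L s ∧ InX M t ∧ s ≠ 1 ∧ t ≠ 1 ∧
    IsLine Q N ∧ InX N r ∧ s * t = r

/-- A common neighbour. -/
def CN (Q : QuadraticForm F (ι → F)) (L M N : Submodule F (ι → F)) : Prop := IsLine Q N ∧ Adj Q N L ∧ Adj Q N M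

/-- Two common neighbours are adjacent, and there is no claw among the common neighbours. -/
def Grid (Q : QuadraticForm F (ι → F)) (L M : Submodule F (ι → F)) : Prop :=
  (∃ N N', CN Q L M N ∧ CN Q L M N' ∧ Adj Q N N') ∧
    ¬ ∃ N N₁ N₂ N₃, CN Q L M N ∧ CN Q L M N₁ ∧ CN Q L M N₂ ∧ CN Q L M N₃ ∧ Adj Q N N₁ ∧ Adj Q N N₂ ∧ Adj Q N N₃ ∧
      ¬ Adj Q N₁ N₂ ∧ ¬ Adj Q N₁ N₃ ∧ ¬ Adj Q N₂ N₃ ∧ N₁ ≠ N₂ ∧ N₁ ≠ N₃ ∧ N₂ ≠ N₃

theorem Meet.symm {L M : Submodule F (ι → F)} (h : Meet L M) : Meet M L :=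
  ⟨h.1.symm, let ⟨x, h0, h1, h2⟩ := h.2; ⟨x, h0, h2, h1⟩⟩

theorem Orth.symm {L M : Submodule F (ι → F)} (h : Orth Q L M) : Orth Q M L := fun x hx y hy => by
  rw [polar_comm]; exact h y hy x hx

variable (hc : Pre Q)
include hc

theorem com_of_meet {L M : Submodule F (ι → F)} (hL : IsLine Q L) (hM : IsLine Q M) (h : Meet L M) :
    Com Q L M := by
  obtain ⟨-, x, hx0, hxL, hxM⟩ := h
  obtain ⟨b, -, hpb, rfl⟩ := hL.exists_pr hxL hx0
  obtain ⟨d, -, hpd, rfl⟩ := hM.exists_pr hxM hx0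
  intro s t hs ht
  obtain ⟨a, rfl⟩ := (InX.iff_param hc hpb).1 hs
  obtain ⟨c, rfl⟩ := (InX.iff_param hc hpd).1 ht
  show _ * _ = _ * _
  rw [sg_mul hc (hpb.isSg a) (hpd.isSg c), sg_mul hc (hpd.isSg c) (hpb.isSg a), add_comm]

theorem com_of_orth {L M : Submodule F (ι → F)} (hL : IsLine Q L) (hM : IsLine Q M) (h : Orth Q L M) :
    Com Q L M := by
  rintro s t ⟨a, b, ha, hb, rfl⟩ ⟨c, d, hc', hd, rfl⟩
  have h1 := conj_sg hc (hM.isSg hc' hd) (sg Q a b)
  have hfix : ∀ z ∈ M, mat (sg Q a b) *ᵥ z = z := fun z hz => by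
    rw [sg_mulVec hc (hL.isSg ha hb), sgMap, polar_comm (⇑Q) z b, h b hb z hz, polar_comm (⇑Q) z a, h a ha z hz]
    simp
  rw [hfix c hc', hfix d hd] at h1
  exact mul_inv_eq_iff_eq_mul.1 h1

theorem com_iff {L M : Submodule F (ι → F)} (hL : IsLine Q L) (hM : IsLine Q M) :
    Com Q L M ↔ L = M ∨ Meet L M ∨ Orth Q L M := by
  constructor
  · intro h
    by_cases hLM : L = M
    · exact Or.inl hLM
    right
    by_cases ho : Orth Q L M
    · exact Or.inr ho
    left
    refine ⟨hLM, ?_⟩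
    obtain ⟨e, v, hp, rfl⟩ := hL
    obtain ⟨c, d, hcd, rfl⟩ := hM
    simp only [Orth] at ho
    push Not at ho
    obtain ⟨x, hx, y, hy, hxy⟩ := ho
    have hs : InX (ln e v) (sg Q e v) := ⟨e, v, left_mem_ln e v, right_mem_ln e v, rfl⟩
    have ht : InX (ln c d) (sg Q c d) := ⟨c, d, left_mem_ln c d, right_mem_ln c d, rfl⟩
    have hcm := (h _ _ hs ht).eq
    have h1 := conj_sg hc (⟨hcd.he, hcd.hev⟩ : IsSg Q c d) (sg Q e v)
    rw [hcm, mul_inv_cancel_right] at h1
    have hstab : ∀ z ∈ ln c d, mat (sg Q e v) *ᵥ z ∈ ln c d := fun z hz => by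
      obtain ⟨α, β, rfl⟩ := mem_ln.1 hz
      have hli : LinearIndependent F ![mat (sg Q e v) *ᵥ c, mat (sg Q e v) *ᵥ d] :=
        LinearIndependent.pair_iff.2 fun a b hab => hcd.indep (mat_injective (sg Q e v) (by
          rw [Matrix.mulVec_add, Matrix.mulVec_smul, Matrix.mulVec_smul, hab, Matrix.mulVec_zero]))
      refine sg_eq_ln hc (IsSg.conj ⟨hcd.he, hcd.hev⟩ _) hli ⟨hcd.he, hcd.hev⟩ h1.symm (mem_ln.2 ⟨α, β, ?_⟩)
      rw [Matrix.mulVec_add, Matrix.mulVec_smul, Matrix.mulVec_smul]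
    refine ⟨mat (sg Q e v) *ᵥ y - y, fun h0 => hxy ?_, sg_moved hc ⟨hp.he, hp.hev⟩ y, sub_mem (hstab y hy) hy⟩
    rw [sg_mulVec hc ⟨hp.he, hp.hev⟩, sgMap, hp.hv, zero_mul, zero_smul, sub_zero, add_sub_assoc,
      add_sub_cancel_left, sub_eq_add_neg, ← neg_smul] at h0
    obtain ⟨h2, h3⟩ := hp.indep h0
    obtain ⟨α, β, rfl⟩ := mem_ln.1 hx
    rw [polar_add_left, polar_smul_left, polar_smul_left, polar_comm (⇑Q) e y, polar_comm (⇑Q) v y, h2,
      neg_eq_zero.1 h3]
    simp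
  · rintro (rfl | h | h)
    · obtain ⟨e, v, hp, rfl⟩ := hL
      intro s t hs ht
      obtain ⟨a, rfl⟩ := (InX.iff_param hc hp).1 hs
      obtain ⟨c, rfl⟩ := (InX.iff_param hc hp).1 ht
      show _ * _ = _ * _
      rw [sg_mul hc (hp.isSg a) (hp.isSg c), sg_mul hc (hp.isSg c) (hp.isSg a), add_comm]
    · exact com_of_meet hc hL hM h
    · exact com_of_orth hc hL hM h

theorem gAdj_iff {L M : Submodule F (ι → F)} (hL : IsLine Q L) (hM : IsLine Q M) :
    GAdj Q L M ↔ Adj Q L M := by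
  constructor
  · rintro ⟨hne, hcom, s, t, r, N, hs, ht, hs1, ht1, hN, hr, hst⟩
    obtain ⟨a, b, ha, hb, rfl⟩ := hr
    by_cases hm : Meet L M
    · refine ⟨hm, ?_⟩
      obtain ⟨-, x, hx0, hxL, hxM⟩ := hm
      obtain ⟨u, -, hpu, rfl⟩ := hL.exists_pr hxL hx0
      obtain ⟨w, -, hpw, rfl⟩ := hM.exists_pr hxM hx0
      obtain ⟨α, rfl⟩ := (InX.iff_param hc hpu).1 hs
      obtain ⟨γ, rfl⟩ := (InX.iff_param hc hpw).1 ht
      have hα : α ≠ 0 := fun h0 => hs1 (by rw [h0, zero_smul, sg_zero hc hpu.he])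
      have hγ : γ ≠ 0 := fun h0 => ht1 (by rw [h0, zero_smul, sg_zero hc hpu.he])
      rw [sg_mul hc (hpu.isSg α) (hpw.isSg γ)] at hst
      have hsum := (hpu.isSg α).add (hpw.isSg γ)
      have huw : polar (⇑Q) u w = 0 := by
        by_cases hm' : α • u + γ • w ∈ Submodule.span F {x}
        · obtain ⟨c, hc'⟩ := Submodule.mem_span_singleton.1 hm'
          have h3 := congrArg (fun z => polar (⇑Q) u z) hc'
          simp [polar_add_right, polar_smul_right, polar_comm (⇑Q) u x, hpu.hev, polar_singular hpu.hv, hγ] at h3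
          exact h3
        · have hli : LinearIndependent F ![x, α • u + γ • w] :=
            (LinearIndependent.pair_iff' hx0).2 fun c hc' => hm' (Submodule.mem_span_singleton.2 ⟨c, hc'⟩)
          have h2 := sg_eq_ln hc hsum hli (hN.isSg ha hb) hst (right_mem_ln _ _)
          have h3 : Q (α • u + γ • w) = 0 := hN.singular
            ((Submodule.span_le.2 (by rintro z (rfl | rfl) <;> assumption) : ln a b ≤ N) h2)
          rw [Quad.map_add', Quad.map_smul', Quad.map_smul', hpu.hv, hpw.hv, polar_smul_left, polar_smul_right] at h3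
          simpa [hα, hγ] using h3
      intro y hy z hz
      obtain ⟨c₁, c₂, rfl⟩ := mem_ln.1 hy
      obtain ⟨d₁, d₂, rfl⟩ := mem_ln.1 hz
      simp [polar_add_left, polar_add_right, polar_smul_left, polar_smul_right, polar_singular hpu.he, hpw.hev,
        polar_comm (⇑Q) u x, hpu.hev, huw]
    · exfalso
      have ho : Orth Q L M := ((com_iff hc hL hM).1 hcom).resolve_left hne |>.resolve_left hm
      obtain ⟨e, v, hp, rfl⟩ := hL
      obtain ⟨c, d, hq, rfl⟩ := hM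
      obtain ⟨α, rfl⟩ := (InX.iff_param hc hp).1 hs
      obtain ⟨γ, rfl⟩ := (InX.iff_param hc hq).1 ht
      have hα : α ≠ 0 := fun h0 => hs1 (by rw [h0, zero_smul, sg_zero hc hp.he])
      have hγ : γ ≠ 0 := fun h0 => ht1 (by rw [h0, zero_smul, sg_zero hc hq.he])
      have hmove : ∀ z, (∀ y ∈ ln c d, polar (⇑Q) z y = 0) →
          α • (polar (⇑Q) z v • e - polar (⇑Q) z e • v) ∈ N := fun z hz => by
        have h1 : mat (sg Q e (α • v) * sg Q c (γ • d)) *ᵥ z - z ∈ N := by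
          rw [hst]
          exact (Submodule.span_le.2 (by rintro x (rfl | rfl) <;> assumption) : ln a b ≤ N)
            (sg_moved hc (hN.isSg ha hb) z)
        rw [mat_mul_mulVec, sg_mulVec hc (hq.isSg γ), sgMap, polar_smul_right, hz d (right_mem_ln c d),
          hz c (left_mem_ln c d)] at h1
        simp only [smul_zero, zero_smul, add_zero, sub_zero, mul_zero] at h1
        rw [sg_mulVec hc (hp.isSg α), sgMap, Quad.map_smul', hp.hv, polar_smul_right, smul_eq_mul] at h1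
        convert h1 using 1
        module
      have hmove' : ∀ z, (∀ y ∈ ln e v, polar (⇑Q) z y = 0) →
          γ • (polar (⇑Q) z d • c - polar (⇑Q) z c • d) ∈ N := fun z hz => by
        have h1 : mat (sg Q c (γ • d) * sg Q e (α • v)) *ᵥ z - z ∈ N := by
          rw [← (hcom _ _ hs ht).eq, hst]
          exact (Submodule.span_le.2 (by rintro x (rfl | rfl) <;> assumption) : ln a b ≤ N)
            (sg_moved hc (hN.isSg ha hb) z)
        rw [mat_mul_mulVec, sg_mulVec hc (hp.isSg α), sgMap, polar_smul_right, hz v (right_mem_ln e v),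
          hz e (left_mem_ln e v)] at h1
        simp only [smul_zero, zero_smul, add_zero, sub_zero, mul_zero] at h1
        rw [sg_mulVec hc (hq.isSg γ), sgMap, Quad.map_smul', hq.hv, polar_smul_right, smul_eq_mul] at h1
        convert h1 using 1
        module
      have hdisj : ∀ x ∈ ln e v, x ∈ ln c d → x = 0 := fun x hx hx' =>
        by_contra fun h0 => hm ⟨hne, x, h0, hx, hx'⟩
      have gen : ∀ {e v c d : ι → F}, Pr Q e v → (∀ x ∈ ln e v, x ∈ ln c d → x = 0) → ∀ {α : F}, α ≠ 0 →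
          (∀ z, (∀ y ∈ ln c d, polar (⇑Q) z y = 0) → α • (polar (⇑Q) z v • e - polar (⇑Q) z e • v) ∈ N) →
          e ∈ N := fun {e v c d} hp hd {α} hα hmv => by
        have hv : v ∉ Submodule.span F (Set.range ![e, c, d]) := fun hm' => by
          obtain ⟨g, hg⟩ := (Submodule.mem_span_range_iff_exists_fun F).1 hm'
          simp [Fin.sum_univ_three] at hg
          have e1 : v - g 0 • e = g 1 • c + g 2 • d := by linear_combination (norm := module) -hg
          have h0 := hd (v - g 0 • e) (sub_mem (right_mem_ln e v) (Submodule.smul_mem _ _ (left_mem_ln e v)))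
            (e1 ▸ mem_ln.2 ⟨_, _, rfl⟩)
          exact hp.not_mem (Submodule.mem_span_singleton.2 ⟨g 0, (sub_eq_zero.1 h0).symm⟩)
        obtain ⟨z, hz1, hz2⟩ := exists_functional hc.nondeg _ hv
        have h := hmv z fun y hy => by
          obtain ⟨β₁, β₂, rfl⟩ := mem_ln.1 hy
          have e1 : polar (⇑Q) z c = 0 := hz2 1
          have e2 : polar (⇑Q) z d = 0 := hz2 2
          simp [polar_add_right, polar_smul_right, e1, e2]
        have e0 : polar (⇑Q) z e = 0 := hz2 0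
        rw [hz1, e0, one_smul, zero_smul, sub_zero] at h
        simpa [hα] using N.smul_mem α⁻¹ h
      have he : e ∈ N := gen hp hdisj hα hmove
      have hv : v ∈ N := by
        refine gen (v := e) hp.symm (fun x hx hx' => hdisj x (by rwa [show ln v e = ln e v by rw [ln, ln, Set.pair_comm]] at hx) hx')
          (neg_ne_zero.2 hα) fun z hz => ?_
        convert hmove z hz using 1
        module
      have hc1 : c ∈ N := gen hq (fun x hx hx' => hdisj x hx' hx) hγ hmove'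
      have h1 : ln e v = N := (hN.eq_ln he hv hp).symm
      exact hq.e_ne (hdisj c (h1 ▸ hc1) (left_mem_ln c d))
  · rintro ⟨hm, ho⟩
    refine ⟨hm.1, com_of_meet hc hL hM hm, ?_⟩
    obtain ⟨hne, x, hx0, hxL, hxM⟩ := hm
    obtain ⟨u, hu, hpu, hLe⟩ := hL.exists_pr hxL hx0
    obtain ⟨w, hw, hpw, hMe⟩ := hM.exists_pr hxM hx0
    have hsum : Pr Q x (u + w) := Pr.of_not_mem hx0 hpu.he (by
        rw [Quad.map_add', hpu.hv, hpw.hv, ho u hu w hw]; ring)
      (by rw [polar_add_right, hpu.hev, hpw.hev, add_zero]) fun hm' => by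
        obtain ⟨c, hc'⟩ := Submodule.mem_span_singleton.1 hm'
        refine hne (hL.eq_ln hxL ?_ hpw |>.trans hMe.symm)
        rw [show w = c • x - u by rw [hc']; abel]
        exact sub_mem (L.smul_mem c hxL) hu
    refine ⟨_, _, _, ln x (u + w), ?_, ?_, hpu.sg_ne_one hc one_ne_zero, hpw.sg_ne_one hc one_ne_zero,
      ⟨_, _, hsum, rfl⟩, (InX.iff_param hc hsum).2 ⟨1, rfl⟩, ?_⟩
    · rw [hLe, InX.iff_param hc hpu]; exact ⟨1, rfl⟩
    · rw [hMe, InX.iff_param hc hpw]; exact ⟨1, rfl⟩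
    · rw [sg_mul hc (hpu.isSg 1) (hpw.isSg 1), smul_add]

/-- Lines through one point that are not orthogonal do not form a grid. -/
theorem not_grid [Finite F] (hD : 9 ≤ Fintype.card ι ∨ ∀ W : Submodule F (ι → F), (∀ x ∈ W, Q x = 0) → finrank F W ≤ 3)
    {L M : Submodule F (ι → F)} (hL : IsLine Q L) (hM : IsLine Q M) (hm : Meet L M)
    (ho : ¬ Orth Q L M) : ¬ Grid Q L M := by
  rintro ⟨⟨N, N', hN, hN', hadj⟩, hclaw⟩
  obtain ⟨hne, e, he0, heL, heM⟩ := hm
  obtain ⟨u, hu, hpu, hLe⟩ := hL.exists_pr heL he0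
  obtain ⟨w0, hw0, hpw0, hMe0⟩ := hM.exists_pr heM he0
  have he := hpu.he
  have huw0 : polar (⇑Q) u w0 ≠ 0 := fun h0 => ho fun x hx y hy => by
    rw [hLe] at hx; rw [hMe0] at hy
    obtain ⟨c₁, c₂, rfl⟩ := mem_ln.1 hx
    obtain ⟨d₁, d₂, rfl⟩ := mem_ln.1 hy
    simp [polar_add_left, polar_add_right, polar_smul_left, polar_smul_right, polar_singular he, hpw0.hev,
      polar_comm (⇑Q) u e, hpu.hev, h0]
  set v := (polar (⇑Q) u w0)⁻¹ • w0 with hv
  have hvM : v ∈ M := M.smul_mem _ hw0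
  have huv : polar (⇑Q) u v = 1 := by rw [hv, polar_smul_right, smul_eq_mul, inv_mul_cancel₀ huw0]
  have H : HPair Q u v := ⟨hpu.hv, hM.singular hvM, huv⟩
  have hev : polar (⇑Q) e v = 0 := hM.polar_mem heM hvM
  have hmem : ∀ K, CN Q L M K → e ∈ K := by
    rintro K ⟨hK, ⟨⟨-, a, ha0, haK, haL⟩, hoL⟩, ⟨⟨-, c, hc0, hcK, hcM⟩, hoM⟩⟩
    by_contra heK
    rw [hLe] at haL; rw [hMe0] at hcM
    obtain ⟨a₁, a₂, hae⟩ := mem_ln.1 haL
    obtain ⟨c₁, c₂, hce⟩ := mem_ln.1 hcM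
    have h0 := hK.polar_mem haK hcK
    rw [← hae, ← hce] at h0
    simp [polar_add_left, polar_add_right, polar_smul_left, polar_smul_right, polar_singular he, hpw0.hev,
      polar_comm (⇑Q) u e, hpu.hev, huw0] at h0
    have key : ∀ {a s : F} {x z : ι → F}, z ≠ 0 → z ∈ K → s • e + a • x = z → a ≠ 0 := fun {a s x z} hz0 hzK hz ha => by
      rw [ha, zero_smul, add_zero] at hz
      have hs : s ≠ 0 := fun hs => hz0 (by rw [← hz, hs, zero_smul])
      exact heK (by simpa [hs] using K.smul_mem s⁻¹ (hz ▸ hzK : s • e ∈ K))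
    rcases h0 with h0 | h0
    · exact key hc0 hcK hce h0
    · exact key ha0 haK hae h0
  have hperp : ∀ K, CN Q L M K → ∀ x ∈ K, InW Q u v x := fun K hK x hx =>
    ⟨hK.2.1.2 x hx u hu, hK.2.2.2 x hx v hvM⟩
  obtain ⟨x, hxN, hpx, hNe⟩ := hN.1.exists_pr (hmem N hN) he0
  obtain ⟨x', hxN', hpx', hN'e⟩ := hN'.1.exists_pr (hmem N' hN') he0
  have hxx' : polar (⇑Q) x x' = 0 := hadj.2 x hxN x' hxN'
  -- a four dimensional totally singular subspace
  let W := Submodule.span F (Set.range ![e, x, x', u])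
  have hx'n : x' ∉ ln e x := fun h0 => hadj.1.1 (hNe.trans
    ((IsLine.eq_ln ⟨e, x, hpx, rfl⟩ (left_mem_ln e x) h0 hpx').trans hN'e.symm))
  have hli : LinearIndependent F ![e, x, x', u] := by
    rw [Fintype.linearIndependent_iff]
    intro g hg
    simp [Fin.sum_univ_four] at hg
    have h3 : g 3 = 0 := by
      have := congrArg (fun z => polar (⇑Q) z v) hg
      simpa [polar_add_left, polar_smul_left, hev, (hperp N hN x hxN).2, (hperp N' hN' x' hxN').2, huv] using this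
    rw [h3, zero_smul, add_zero] at hg
    have h2 : g 2 = 0 := by
      by_contra h2
      refine hx'n ?_
      have : x' = (g 2)⁻¹ • (-(g 0 • e + g 1 • x)) := by
        rw [show -(g 0 • e + g 1 • x) = g 2 • x' by linear_combination (norm := module) -hg, inv_smul_smul₀ h2]
      rw [this]
      exact Submodule.smul_mem _ _ (neg_mem (mem_ln.2 ⟨_, _, rfl⟩))
    rw [h2, zero_smul, add_zero] at hg
    obtain ⟨h0, h1⟩ := hpx.indep hg
    intro i; fin_cases i <;> assumption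
  have hWs : ∀ z ∈ W, Q z = 0 := by
    intro z hz
    obtain ⟨g, rfl⟩ := (Submodule.mem_span_range_iff_exists_fun F).1 hz
    simp [Fin.sum_univ_four, Quad.map_add', Quad.map_smul', polar_add_left, polar_smul_left, polar_smul_right, he,
      hpx.hv, hpx'.hv, hpu.hv, hpx.hev, hpx'.hev, hpu.hev, hxx', (hperp N hN x hxN).1, (hperp N' hN' x' hxN').1]
  have h9 : 9 ≤ Fintype.card ι := hD.resolve_right fun h3 => by
    have := h3 W hWs
    have h4 : finrank F W = 4 := by rw [show finrank F W = _ from finrank_span_eq_card hli, Fintype.card_fin]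
    omega
  -- the claw
  obtain ⟨f, hf, hef⟩ : ∃ f, f ∈ perpF Q ![x, u, v] ∧ polar (⇑Q) e f = 1 := by
    have hn : e ∉ Submodule.span F (Set.range ![x, u, v]) := fun hm' => by
      obtain ⟨g, hg⟩ := (Submodule.mem_span_range_iff_exists_fun F).1 hm'
      simp [Fin.sum_univ_three] at hg
      have h1 := congrArg (fun z => polar (⇑Q) z v) hg
      simp [polar_add_left, polar_smul_left, (hperp N hN x hxN).2, huv, H.bb, hev] at h1
      have h2 := congrArg (fun z => polar (⇑Q) z u) hg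
      simp [polar_add_left, polar_smul_left, (hperp N hN x hxN).1, H.aa, H.ba, hpu.hev] at h2
      rw [h1, h2, zero_smul, zero_smul, add_zero, add_zero] at hg
      exact one_ne_zero (hpx.indep (s := 1) (t := -(g 0)) (by rw [one_smul, neg_smul, hg, add_neg_cancel])).1
    obtain ⟨f, hf1, hf2⟩ := exists_functional hc.nondeg _ hn
    exact ⟨f, mem_perpF.2 hf2, by rw [polar_comm]; exact hf1⟩
  obtain ⟨y, hy, hxy⟩ : ∃ y, y ∈ perpF Q ![e, f, u, v] ∧ polar (⇑Q) x y = 1 := by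
    have hn : x ∉ Submodule.span F (Set.range ![e, f, u, v]) := fun hm' => by
      obtain ⟨g, hg⟩ := (Submodule.mem_span_range_iff_exists_fun F).1 hm'
      simp [Fin.sum_univ_four] at hg
      have hf0 := mem_perpF.1 hf
      have f1 : polar (⇑Q) f x = 0 := hf0 0
      have f2 : polar (⇑Q) f u = 0 := hf0 1
      have f3 : polar (⇑Q) f v = 0 := hf0 2
      have h1 := congrArg (fun z => polar (⇑Q) z v) hg
      simp [polar_add_left, polar_smul_left, (hperp N hN x hxN).2, huv, H.bb, hev, f3] at h1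
      have h2 := congrArg (fun z => polar (⇑Q) z u) hg
      simp [polar_add_left, polar_smul_left, (hperp N hN x hxN).1, H.aa, H.ba, hpu.hev, f2] at h2
      have h3 := congrArg (fun z => polar (⇑Q) z e) hg
      simp [polar_add_left, polar_smul_left, polar_singular he, polar_comm (⇑Q) f e, hef, polar_comm (⇑Q) x e,
        hpx.hev, polar_comm (⇑Q) u e, hpu.hev, polar_comm (⇑Q) v e, hev] at h3
      rw [h1, h2, h3, zero_smul, zero_smul, add_zero, add_zero, zero_smul, add_zero] at hg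
      exact hpx.not_mem (Submodule.mem_span_singleton.2 ⟨_, hg⟩)
    obtain ⟨y, hy1, hy2⟩ := exists_functional hc.nondeg _ hn
    exact ⟨y, mem_perpF.2 hy2, by rw [polar_comm]; exact hy1⟩
  obtain ⟨p, hp0, hp, hpp⟩ := exists_singular_perp (Q := Q) ![u, v, e, f, x, y] (by omega)
  have hnon : p ∉ Submodule.span F (Set.range ![u, v, e, f, x, y]) := fun hm' => by
    obtain ⟨g, hg⟩ := (Submodule.mem_span_range_iff_exists_fun F).1 hm'
    simp [Fin.sum_univ_six] at hg
    have hf0 := mem_perpF.1 hf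
    have hy0 := mem_perpF.1 hy
    have f1 : polar (⇑Q) f x = 0 := hf0 0
    have f2 : polar (⇑Q) f u = 0 := hf0 1
    have f3 : polar (⇑Q) f v = 0 := hf0 2
    have y1 : polar (⇑Q) y e = 0 := hy0 0
    have y2 : polar (⇑Q) y f = 0 := hy0 1
    have y3 : polar (⇑Q) y u = 0 := hy0 2
    have y4 : polar (⇑Q) y v = 0 := hy0 3
    have p1 : polar (⇑Q) p u = 0 := hpp 0
    have p2 : polar (⇑Q) p v = 0 := hpp 1
    have p3 : polar (⇑Q) p e = 0 := hpp 2
    have p4 : polar (⇑Q) p f = 0 := hpp 3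
    have p5 : polar (⇑Q) p x = 0 := hpp 4
    have p6 : polar (⇑Q) p y = 0 := hpp 5
    have xu := (hperp N hN x hxN).1
    have xv := (hperp N hN x hxN).2
    have e0 := congrArg (fun z => polar (⇑Q) z v) hg
    simp [polar_add_left, polar_smul_left, p2, huv, H.bb, hev, f3, xv, y4] at e0
    have e1 := congrArg (fun z => polar (⇑Q) z u) hg
    simp [polar_add_left, polar_smul_left, p1, H.aa, H.ba, hpu.hev, f2, xu, y3] at e1
    have e3 := congrArg (fun z => polar (⇑Q) z e) hg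
    simp [polar_add_left, polar_smul_left, p3, polar_singular he, polar_comm (⇑Q) f e, hef, polar_comm (⇑Q) x e,
      hpx.hev, polar_comm (⇑Q) u e, hpu.hev, polar_comm (⇑Q) v e, hev, y1] at e3
    have e5 := congrArg (fun z => polar (⇑Q) z x) hg
    simp [polar_add_left, polar_smul_left, p5, hpx.hev, f1, polar_comm (⇑Q) u x, xu, polar_comm (⇑Q) v x, xv,
      polar_singular hpx.hv, polar_comm (⇑Q) y x, hxy] at e5
    rw [e0, e1, e3, e5, zero_smul, zero_smul, zero_smul, zero_smul, zero_add, zero_add, add_zero, add_zero] at hg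
    have e4 := congrArg (fun z => polar (⇑Q) z y) hg
    simp [polar_add_left, polar_smul_left, p6, polar_comm (⇑Q) e y, y1, hxy] at e4
    rw [e4, zero_smul, add_zero] at hg
    have e2 := congrArg (fun z => polar (⇑Q) z f) hg
    simp [polar_smul_left, p4, hef] at e2
    rw [e2, zero_smul] at hg
    exact hp0 hg.symm
  obtain ⟨q, hq1, hq2⟩ := exists_functional hc.nondeg _ hnon
  have hqU : q + (-Q q) • p ∈ perpF Q ![u, v, e, f, x, y] := mem_perpF.2 fun i => by
    rw [polar_add_left, polar_smul_left, hq2, hpp, smul_zero, add_zero]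
  set q' := q + (-Q q) • p with hq'
  have Hpq : HPair Q p q' := ⟨hp, by rw [hq', map_add_smul, hp, hq1]; ring,
    by rw [hq', polar_add_right, polar_smul_right, polar_singular hp, polar_comm, hq1, smul_zero, add_zero]⟩
  obtain ⟨w, hw, hQw⟩ : ∃ w, w ∈ perpF Q ![u, v, e, f, x, y, p, q'] ∧ Q w ≠ 0 := by
    by_contra hne'
    push Not at hne'
    have h1 := finrank_perpF (Q := Q) ![u, v, e, f, x, y, p, q']
    obtain ⟨z, hz, hz0⟩ : ∃ z ∈ perpF Q ![u, v, e, f, x, y, p, q'], z ≠ (0 : ι → F) :=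
      Submodule.exists_mem_ne_zero_of_ne_bot fun hb => by rw [hb, finrank_bot] at h1; omega
    refine hz0 (eq_zero_of_polar hc.nondeg fun t => ?_)
    have hf0 := mem_perpF.1 hf
    have hy0 := mem_perpF.1 hy
    have hq0 := mem_perpF.1 hqU
    have f1 : polar (⇑Q) f x = 0 := hf0 0
    have f2 : polar (⇑Q) f u = 0 := hf0 1
    have f3 : polar (⇑Q) f v = 0 := hf0 2
    have y1 : polar (⇑Q) y e = 0 := hy0 0
    have y2 : polar (⇑Q) y f = 0 := hy0 1
    have y3 : polar (⇑Q) y u = 0 := hy0 2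
    have y4 : polar (⇑Q) y v = 0 := hy0 3
    have xu := (hperp N hN x hxN).1
    have xv := (hperp N hN x hxN).2
    let t' := t - polar (⇑Q) t v • u - polar (⇑Q) t u • v
    let t'' := t' - (polar (⇑Q) t' f - polar (⇑Q) t' e * polar (⇑Q) f f) • e - polar (⇑Q) t' e • f
    let t₃ := t'' - (polar (⇑Q) t'' y - polar (⇑Q) t'' x * polar (⇑Q) y y) • x - polar (⇑Q) t'' x • y
    let t₄ := t₃ - polar (⇑Q) t₃ q' • p - polar (⇑Q) t₃ p • q'
    have p1 : polar (⇑Q) p u = 0 := hpp 0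
    have p2 : polar (⇑Q) p v = 0 := hpp 1
    have p3 : polar (⇑Q) p e = 0 := hpp 2
    have p4 : polar (⇑Q) p f = 0 := hpp 3
    have p5 : polar (⇑Q) p x = 0 := hpp 4
    have p6 : polar (⇑Q) p y = 0 := hpp 5
    have q1 : polar (⇑Q) q' u = 0 := hq0 0
    have q2 : polar (⇑Q) q' v = 0 := hq0 1
    have q3 : polar (⇑Q) q' e = 0 := hq0 2
    have q4 : polar (⇑Q) q' f = 0 := hq0 3
    have q5 : polar (⇑Q) q' x = 0 := hq0 4
    have q6 : polar (⇑Q) q' y = 0 := hq0 5
    have ht4 : t₄ ∈ perpF Q ![u, v, e, f, x, y, p, q'] := mem_perpF.2 fun i => by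
      fin_cases i <;>
        simp [t₄, t₃, t'', t', polar_sub_left, polar_smul_left, huv, H.ba, H.aa, H.bb, f1, f2, f3, y1, y2, y3, y4, xu,
          xv, p1, p2, p3, p4, p5, p6, q1, q2, q3, q4, q5, q6, hef, polar_comm (⇑Q) f e, polar_singular he, hxy,
          polar_comm (⇑Q) y x, polar_singular hpx.hv, hpx.hev, polar_comm (⇑Q) x e, hpu.hev, hev,
          polar_comm (⇑Q) u e, polar_comm (⇑Q) v e, polar_comm (⇑Q) u f, polar_comm (⇑Q) v f, polar_comm (⇑Q) x f,
          polar_comm (⇑Q) u x, polar_comm (⇑Q) v x, polar_comm (⇑Q) e y, polar_comm (⇑Q) f y, polar_comm (⇑Q) u y,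
          polar_comm (⇑Q) v y, polar_comm (⇑Q) u p, polar_comm (⇑Q) v p, polar_comm (⇑Q) e p, polar_comm (⇑Q) f p,
          polar_comm (⇑Q) x p, polar_comm (⇑Q) y p, polar_comm (⇑Q) u q', polar_comm (⇑Q) v q', polar_comm (⇑Q) e q',
          polar_comm (⇑Q) f q', polar_comm (⇑Q) x q', polar_comm (⇑Q) y q', Hpq.hab, Hpq.ba, Hpq.aa, Hpq.bb]
    have h4 : polar (⇑Q) z t₄ = 0 := by
      simp only [polar, hne' _ (add_mem hz ht4), hne' _ hz, hne' _ ht4]; ring
    have hz0' := mem_perpF.1 hz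
    have z0 : polar (⇑Q) z u = 0 := hz0' 0
    have z1 : polar (⇑Q) z v = 0 := hz0' 1
    have z2 : polar (⇑Q) z e = 0 := hz0' 2
    have z3 : polar (⇑Q) z f = 0 := hz0' 3
    have z4 : polar (⇑Q) z x = 0 := hz0' 4
    have z5 : polar (⇑Q) z y = 0 := hz0' 5
    have z6 : polar (⇑Q) z p = 0 := hz0' 6
    have z7 : polar (⇑Q) z q' = 0 := hz0' 7
    simpa [t₄, t₃, t'', t', polar_sub_right, polar_smul_right, z0, z1, z2, z3, z4, z5, z6, z7] using h4
  have hw0 := mem_perpF.1 hw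
  set z₃ := (-Q w) • p + (1 : F) • q' + w with hz3
  have hw6 : polar (⇑Q) w p = 0 := hw0 6
  have hw7 : polar (⇑Q) w q' = 0 := hw0 7
  have hz3Q : Q z₃ = 0 := by rw [hz3, Hpq.map_comb ⟨hw6, hw7⟩]; ring
  have hpU : ∀ i : Fin 6, polar (⇑Q) p (![u, v, e, f, x, y] i) = 0 := hpp
  have hqU' : ∀ i : Fin 6, polar (⇑Q) q' (![u, v, e, f, x, y] i) = 0 := mem_perpF.1 hqU
  have hzU : ∀ i : Fin 6, polar (⇑Q) z₃ (![u, v, e, f, x, y] i) = 0 := fun i => by
    have : polar (⇑Q) w (![u, v, e, f, x, y] i) = 0 := by fin_cases i <;> [exact hw0 0; exact hw0 1; exact hw0 2; exact hw0 3; exact hw0 4; exact hw0 5]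
    rw [hz3, polar_add_left, polar_add_left, polar_smul_left, polar_smul_left, hpU, hqU', this]
    simp
  have hpq3 : polar (⇑Q) p z₃ ≠ 0 ∧ polar (⇑Q) q' z₃ ≠ 0 := by
    constructor <;>
      simp [hz3, polar_add_right, polar_smul_right, Hpq.aa, Hpq.bb, Hpq.hab, Hpq.ba, polar_comm (⇑Q) p w, hw6,
        polar_comm (⇑Q) q' w, hw7, hQw]
  have pr : ∀ z, z ≠ 0 → Q z = 0 → (∀ i : Fin 6, polar (⇑Q) z (![u, v, e, f, x, y] i) = 0) →
      Pr Q e z ∧ CN Q L M (ln e z) ∧ Adj Q N (ln e z) := by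
    intro z hz0 hz hzi
    have zu : polar (⇑Q) z u = 0 := hzi 0
    have zv : polar (⇑Q) z v = 0 := hzi 1
    have ze : polar (⇑Q) z e = 0 := hzi 2
    have zf : polar (⇑Q) z f = 0 := hzi 3
    have zx : polar (⇑Q) z x = 0 := hzi 4
    have zy : polar (⇑Q) z y = 0 := hzi 5
    have hzn : z ∉ Submodule.span F {e} := fun hm' => by
      obtain ⟨c, rfl⟩ := Submodule.mem_span_singleton.1 hm'
      rw [polar_smul_left, hef, smul_eq_mul, mul_one] at zf
      exact hz0 (by rw [zf, zero_smul])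
    have hz' : Pr Q e z := Pr.of_not_mem he0 he hz (by rw [polar_comm, ze]) hzn
    refine ⟨hz', ⟨⟨e, z, hz', rfl⟩, ⟨⟨?_, e, he0, left_mem_ln e z, heL⟩, ?_⟩,
      ⟨?_, e, he0, left_mem_ln e z, heM⟩, ?_⟩, ⟨?_, e, he0, hmem N hN, left_mem_ln e z⟩, ?_⟩
    · intro h
      have : polar (⇑Q) u v = 0 := by
        obtain ⟨c₁, c₂, hu'⟩ := mem_ln.1 (h ▸ hu : u ∈ ln e z)
        rw [← hu', polar_add_left, polar_smul_left, polar_smul_left, hev, zv]; simp
      exact one_ne_zero (huv.symm.trans this)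
    · intro a ha b hb
      rw [hLe] at hb
      obtain ⟨a₁, a₂, rfl⟩ := mem_ln.1 ha
      obtain ⟨b₁, b₂, rfl⟩ := mem_ln.1 hb
      simp [polar_add_left, polar_add_right, polar_smul_left, polar_smul_right, polar_singular he, hpu.hev, ze, zu]
    · intro h
      have : polar (⇑Q) u v = 0 := by
        obtain ⟨c₁, c₂, hv'⟩ := mem_ln.1 (h ▸ hvM : v ∈ ln e z)
        rw [← hv', polar_add_right, polar_smul_right, polar_smul_right, polar_comm (⇑Q) u e, hpu.hev,
          polar_comm (⇑Q) u z, zu]; simp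
      exact one_ne_zero (huv.symm.trans this)
    · intro a ha b hb
      rw [hMe0] at hb
      have zw : polar (⇑Q) z w0 = 0 := by
        rw [hv, polar_smul_right] at zv; simpa [huw0] using zv
      obtain ⟨a₁, a₂, rfl⟩ := mem_ln.1 ha
      obtain ⟨b₁, b₂, rfl⟩ := mem_ln.1 hb
      simp [polar_add_left, polar_add_right, polar_smul_left, polar_smul_right, polar_singular he, hpw0.hev, ze, zw]
    · intro h
      have : polar (⇑Q) x y = 0 := by
        obtain ⟨c₁, c₂, hx'⟩ := mem_ln.1 (h ▸ hxN : x ∈ ln e z)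
        have hye : polar (⇑Q) y e = 0 := mem_perpF.1 hy 0
        rw [← hx', polar_add_left, polar_smul_left, polar_smul_left, zy, polar_comm (⇑Q) e y, hye]
        simp
      exact one_ne_zero (hxy.symm.trans this)
    · intro a ha b hb
      rw [hNe] at ha
      obtain ⟨a₁, a₂, rfl⟩ := mem_ln.1 ha
      obtain ⟨b₁, b₂, rfl⟩ := mem_ln.1 hb
      simp [polar_add_left, polar_add_right, polar_smul_left, polar_smul_right, polar_singular he,
        polar_comm (⇑Q) e z, ze, polar_comm (⇑Q) x z, zx, polar_comm (⇑Q) x e, hpx.hev]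
  obtain ⟨k1, c1, a1⟩ := pr p hp0 hp hpU
  obtain ⟨k2, c2, a2⟩ := pr q' Hpq.b_ne Hpq.hb hqU'
  obtain ⟨k3, c3, a3⟩ := pr z₃ (fun h0 => hpq3.1 (by rw [h0, polar_zero_right])) hz3Q hzU
  refine hclaw ⟨N, _, _, _, hN, c1, c2, c3, a1, a2, a3, ?_, ?_, ?_, ?_, ?_, ?_⟩
  · exact fun h => one_ne_zero (Hpq.hab.symm.trans (h.2 p (right_mem_ln e p) q' (right_mem_ln e q')))
  · exact fun h => hpq3.1 (h.2 p (right_mem_ln e p) z₃ (right_mem_ln e z₃))
  · exact fun h => hpq3.2 (h.2 q' (right_mem_ln e q') z₃ (right_mem_ln e z₃))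
  · exact fun h => one_ne_zero (Hpq.hab.symm.trans (k2.polar_mem (h ▸ right_mem_ln e p) (right_mem_ln e q')))
  · exact fun h => hpq3.1 (k3.polar_mem (h ▸ right_mem_ln e p) (right_mem_ln e z₃))
  · exact fun h => hpq3.2 (k3.polar_mem (h ▸ right_mem_ln e q') (right_mem_ln e z₃))

omit hc in
/-- Orthogonal disjoint lines form a grid. -/
theorem grid {L M : Submodule F (ι → F)} (hL : IsLine Q L) (hM : IsLine Q M) (hne : L ≠ M) (hm : ¬ Meet L M)
    (ho : Orth Q L M) : Grid Q L M := by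
  have hdisj : ∀ x ∈ L, x ∈ M → x = 0 := fun x hx hx' => by_contra fun h0 => hm ⟨hne, x, h0, hx, hx'⟩
  constructor
  · obtain ⟨a, b, hab, rfl⟩ := hL
    obtain ⟨c, d, hcd, rfl⟩ := hM
    have pr : ∀ {z}, z ∈ ln c d → z ≠ 0 → Pr Q a z ∧ CN Q (ln a b) (ln c d) (ln a z) := fun {z} hz hz0 => by
      have h : Pr Q a z := Pr.of_not_mem hab.e_ne hab.he (hcd.singular hz) (ho a (left_mem_ln a b) z hz) fun hm' =>
        hz0 (hdisj z ((Submodule.span_singleton_le_iff_mem a (ln a b)).2 (left_mem_ln a b) hm') hz)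
      refine ⟨h, ⟨a, z, h, rfl⟩, ⟨⟨fun h' => hz0 (hdisj z (h' ▸ right_mem_ln a z) hz), a, hab.e_ne, left_mem_ln a z,
        left_mem_ln a b⟩, ?_⟩, ⟨fun h' => hab.e_ne (hdisj a (left_mem_ln a b) (h' ▸ left_mem_ln a z)), z, hz0,
        right_mem_ln a z, hz⟩, ?_⟩ <;> intro x hx y hy <;> obtain ⟨s, t, rfl⟩ := mem_ln.1 hx
      · rw [polar_add_left, polar_smul_left, polar_smul_left, hab.polar_mem (left_mem_ln a b) hy,
          polar_comm (⇑Q) z y, ho y hy z hz]; simp
      · rw [polar_add_left, polar_smul_left, polar_smul_left, ho a (left_mem_ln a b) y hy, hcd.polar_mem hz hy]; simp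
    obtain ⟨hc1, hN⟩ := pr (left_mem_ln c d) hcd.e_ne
    obtain ⟨hd1, hN'⟩ := pr (right_mem_ln c d) hcd.v_ne
    refine ⟨_, _, hN, hN', ⟨fun h => ?_, a, hab.e_ne, left_mem_ln a c, left_mem_ln a d⟩, fun x hx y hy => ?_⟩
    · obtain ⟨s, t, hst⟩ := mem_ln.1 (h ▸ right_mem_ln a c : c ∈ ln a d)
      have h0 : s • a = 0 := hdisj _ (Submodule.smul_mem _ s (left_mem_ln a b))
        (by rw [show s • a = c - t • d by rw [← hst]; abel]; exact sub_mem (left_mem_ln c d) (Submodule.smul_mem _ t (right_mem_ln c d)))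
      rw [h0, zero_add] at hst
      exact hcd.symm.not_mem (Submodule.mem_span_singleton.2 ⟨t, hst⟩)
    · obtain ⟨s, t, rfl⟩ := mem_ln.1 hx
      obtain ⟨s', t', rfl⟩ := mem_ln.1 hy
      simp [polar_add_left, polar_add_right, polar_smul_left, polar_smul_right, polar_singular hab.he, hc1.hev,
        hd1.hev, polar_comm (⇑Q) c a, hcd.hev]
  · rintro ⟨N, N₁, N₂, N₃, hN, hN₁, hN₂, hN₃, h1, h2, h3, h12, h13, h23, n12, n13, n23⟩
    have pts : ∀ K, CN Q L M K → ∃ l m, l ∈ L ∧ m ∈ M ∧ l ∈ K ∧ m ∈ K ∧ l ≠ 0 ∧ m ≠ 0 ∧ K = ln l m := by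
      rintro K ⟨hK, ⟨⟨-, l, hl0, hlK, hlL⟩, -⟩, ⟨⟨-, m, hm0, hmK, hmM⟩, -⟩⟩
      refine ⟨l, m, hlL, hmM, hlK, hmK, hl0, hm0, hK.eq_ln hlK hmK (Pr.of_not_mem hl0 (hK.singular hlK)
        (hK.singular hmK) (hK.polar_mem hlK hmK) fun h => hm0 (hdisj m ?_ hmM))⟩
      exact (Submodule.span_singleton_le_iff_mem l L).2 hlL h
    obtain ⟨l, m, hl, hm', hlN, hmN, hl0, hm0, hNe⟩ := pts N hN
    have share : ∀ K, CN Q L M K → Adj Q N K → l ∈ K ∨ m ∈ K := by
      intro K hK hadj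
      obtain ⟨l', m', hl', hm'', -, -, hl0', hm0', hKe⟩ := pts K hK
      obtain ⟨⟨-, z, hz0, hzN, hzK⟩, -⟩ := hadj
      rw [hNe] at hzN; rw [hKe] at hzK
      obtain ⟨s, t, hz⟩ := mem_ln.1 hzN
      obtain ⟨s', t', hz'⟩ := mem_ln.1 hzK
      have e1 : s • l - s' • l' = t' • m' - t • m := by linear_combination (norm := module) hz - hz'
      have h0 := hdisj _ (sub_mem (L.smul_mem s hl) (L.smul_mem s' hl'))
        (e1 ▸ sub_mem (M.smul_mem t' hm'') (M.smul_mem t hm'))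
      by_cases hs : s = 0
      · right
        have ht : t ≠ 0 := fun ht => hz0 (by rw [← hz, hs, ht, zero_smul, zero_smul, add_zero])
        rw [hKe, show m = t⁻¹ • (t' • m') by
          rw [show t' • m' = t • m by rw [← sub_eq_zero, ← e1, h0], inv_smul_smul₀ ht]]
        exact Submodule.smul_mem _ _ (Submodule.smul_mem _ _ (right_mem_ln _ _))
      · left
        rw [hKe, show l = s⁻¹ • (s' • l') by
          rw [← sub_eq_zero.1 h0, inv_smul_smul₀ hs]]
        exact Submodule.smul_mem _ _ (Submodule.smul_mem _ _ (left_mem_ln _ _))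
    have adj_of : ∀ K K', CN Q L M K → CN Q L M K' → K ≠ K' → ∀ z, z ≠ 0 → z ∈ K → z ∈ K' → Adj Q K K' := by
      intro K K' hK hK' hne' z hz0 hz hz'
      refine ⟨⟨hne', z, hz0, hz, hz'⟩, fun a ha b hb => ?_⟩
      obtain ⟨l₁, m₁, hl₁, hm₁, -, -, -, -, hKe⟩ := pts K hK
      obtain ⟨l₂, m₂, hl₂, hm₂, -, -, -, -, hK'e⟩ := pts K' hK'
      rw [hKe] at ha; rw [hK'e] at hb
      obtain ⟨s, t, rfl⟩ := mem_ln.1 ha
      obtain ⟨s', t', rfl⟩ := mem_ln.1 hb
      simp [polar_add_left, polar_add_right, polar_smul_left, polar_smul_right, hL.polar_mem hl₁ hl₂,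
        hM.polar_mem hm₁ hm₂, ho l₁ hl₁ m₂ hm₂, polar_comm (⇑Q) m₁ l₂, ho l₂ hl₂ m₁ hm₁]
    rcases share _ hN₁ h1 with a | a <;> rcases share _ hN₂ h2 with b | b <;> rcases share _ hN₃ h3 with c | c
    all_goals
      first
        | exact h12 (adj_of _ _ hN₁ hN₂ n12 _ hl0 a b)
        | exact h12 (adj_of _ _ hN₁ hN₂ n12 _ hm0 a b)
        | exact h13 (adj_of _ _ hN₁ hN₃ n13 _ hl0 a c)
        | exact h13 (adj_of _ _ hN₁ hN₃ n13 _ hm0 a c)
        | exact h23 (adj_of _ _ hN₂ hN₃ n23 _ hl0 b c)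
        | exact h23 (adj_of _ _ hN₂ hN₃ n23 _ hm0 b c)

theorem meet_iff [Finite F] (hD : 9 ≤ Fintype.card ι ∨ ∀ W : Submodule F (ι → F), (∀ x ∈ W, Q x = 0) → finrank F W ≤ 3)
    {L M : Submodule F (ι → F)} (hL : IsLine Q L) (hM : IsLine Q M) :
    Meet L M ↔ L ≠ M ∧ Com Q L M ∧ (Adj Q L M ∨ ¬ Grid Q L M) := by
  constructor
  · intro h
    refine ⟨h.1, com_of_meet hc hL hM h, ?_⟩
    by_cases ho : Orth Q L M
    · exact Or.inl ⟨h, ho⟩
    · exact Or.inr (not_grid hc hD hL hM h ho)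
  · rintro ⟨hne, hcom, h⟩
    by_contra hm
    have ho := ((com_iff hc hL hM).1 hcom).resolve_left hne |>.resolve_left hm
    rcases h with h | h
    · exact hm h.1
    · exact h (grid hL hM hne hm ho)

end Cfsg.Agent.AutPOmega
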