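import Cfsg.Agent.AutPOmega.Points

/-!
An automorphism fixing a pair of points acts on the radical of one of them by a semisimilarity.
-/

set_option autoImplicit false

namespace Cfsg.Agent.AutPOmega

open Module QuadraticMap Classical Classical.Quad Matrix

variable {ι : Type} [Fintype ι] [DecidableEq ι] {F : Type*} [Field F] {Q : QuadraticForm F (ι → F)}

/-- The map induced on the radical. -/
def IsPhi (β : MulAut (Cfsg.POmega F ⇑Q)) (a b : ι → F) (φ : (ι → F) → ι → F) : Prop :=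
  ∀ w, InW Q a b w → InW Q a b (φ w) ∧ β (mkO (sg Q a w)) = mkO (sg Q a (φ w))

theorem InW.isSg {a b w : ι → F} (H : HPair Q a b) (hw : InW Q a b w) : IsSg Q a w := ⟨H.ha, hw.ax⟩

theorem InW.eq_zero_of_mem {a b w : ι → F} (H : HPair Q a b) (hw : InW Q a b w)
    (hm : w ∈ Submodule.span F {a}) : w = 0 := by
  obtain ⟨c, rfl⟩ := Submodule.mem_span_singleton.1 hm
  have := hw.2
  rw [polar_smul_left, H.hab, smul_eq_mul, mul_one] at this
  rw [this, zero_smul]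

theorem InW.pr {a b w : ι → F} (H : HPair Q a b) (hw : InW Q a b w) (hQ : Q w = 0) (hw0 : w ≠ 0) : Pr Q a w :=
  Pr.of_not_mem H.a_ne H.ha hQ hw.ax fun hm => hw0 (hw.eq_zero_of_mem H hm)

theorem mem_perp_pair {a b x : ι → F} : x ∈ perpF Q ![a, b] ↔ InW Q a b x := by
  rw [mem_perpF]
  exact ⟨fun h => ⟨h 0, h 1⟩, fun h i => by fin_cases i; exacts [h.1, h.2]⟩

variable (hc : Pre Q) (p : ℕ) [Fact p.Prime] [CharP F p] [Fintype F] {β : MulAut (Cfsg.POmega F ⇑Q)} {a b : ι → F}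
  (H : HPair Q a b)
include hc p H

theorem sgA_inj {w w' : ι → F} (hw : InW Q a b w) (hw' : InW Q a b w')
    (h : mkO (sg Q a w) = mkO (sg Q a w')) : w = w' := by
  have e := eq_of_mkO_eq hc p (sg_pow hc p (hw.isSg H)) (sg_pow hc p (hw'.isSg H)) h
  have h1 := sg_inj hc (hw.isSg H) (hw'.isSg H) H.a_ne e
  refine sub_eq_zero.1 ((show InW Q a b (w - w') from ?_).eq_zero_of_mem H h1)
  rw [sub_eq_add_neg, ← neg_one_smul F w']
  exact hw.add (hw'.smul _)

theorem exists_phi (hβ : PtMaps β a a) : ∃ φ, IsPhi β a b φ := by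
  classical
  have key : ∀ w, InW Q a b w → ∃ w', InW Q a b w' ∧ β (mkO (sg Q a w)) = mkO (sg Q a w') := by
    intro w hw
    obtain ⟨a₁, b₁, -, -, h₁, -, i₁, j₁, -⟩ := hc.exists_pairs H
    refine singular_induction (U := perpF Q ![a, b])
      (P := fun w => ∃ w', InW Q a b w' ∧ β (mkO (sg Q a w)) = mkO (sg Q a w')) h₁ (mem_perp_pair.2 i₁)
      (mem_perp_pair.2 j₁) ?_ ?_ (mem_perp_pair.2 hw)
    · rintro x hx y hy ⟨x', hx', ex⟩ ⟨y', hy', ey⟩
      refine ⟨x' + y', hx'.add hy', ?_⟩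
      rw [← sg_mul hc ((mem_perp_pair.1 hx).isSg H) ((mem_perp_pair.1 hy).isSg H), map_mul, map_mul, ex, ey,
        ← map_mul, sg_mul hc (hx'.isSg H) (hy'.isSg H)]
    · intro x hx hQx
      rw [mem_perp_pair] at hx
      by_cases hx0 : x = 0
      · refine ⟨0, inW_zero, ?_⟩
        rw [hx0, sg_zero hc H.ha, map_one, map_one]
      have hp := hx.pr H hQx hx0
      obtain ⟨M, hM⟩ := maps_exists hc p (⟨a, x, hp, rfl⟩ : IsLine Q (ln a x)) β
      obtain ⟨s', hs', es⟩ := hM.2.2 _ ((InX.iff_param hc hp).2 ⟨1, rfl⟩)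
      obtain ⟨z, hz, hpz, hMe⟩ := hM.2.1.exists_pr ((hβ.2.2.2.2 _ _ hM).1 (left_mem_ln a x)) H.a_ne
      rw [hMe, InX.iff_param hc hpz] at hs'
      obtain ⟨t, rfl⟩ := hs'
      rw [one_smul] at es
      refine ⟨proj Q a b (t • z), H.proj_mem _, es.trans (congrArg mkO ?_)⟩
      have h1 : IsSg Q a (proj Q a b (t • z)) := (H.proj_mem _).isSg H
      rw [← sg_add_smul hc h1 (polar (⇑Q) (t • z) b)]
      congr 1
      have h2 : polar (⇑Q) (t • z) a = 0 := by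
        rw [polar_smul_left, polar_comm, hpz.hev, smul_zero]
      conv_lhs => rw [eq_proj (Q := Q) a b (t • z), h2]
      rw [zero_smul, add_zero, add_comm]
  choose! φ h1 h2 using key
  exact ⟨φ, fun w hw => ⟨h1 w hw, h2 w hw⟩⟩

variable {φ : (ι → F) → ι → F} (hφ : IsPhi β a b φ)
include hφ

theorem IsPhi.add {x y : ι → F} (hx : InW Q a b x) (hy : InW Q a b y) : φ (x + y) = φ x + φ y := by
  refine sgA_inj hc p H (hφ _ (hx.add hy)).1 ((hφ x hx).1.add (hφ y hy).1) ?_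
  rw [← (hφ _ (hx.add hy)).2, ← sg_mul hc (hx.isSg H) (hy.isSg H), map_mul, map_mul, (hφ x hx).2, (hφ y hy).2,
    ← map_mul, sg_mul hc ((hφ x hx).1.isSg H) ((hφ y hy).1.isSg H)]

theorem IsPhi.inj {x y : ι → F} (hx : InW Q a b x) (hy : InW Q a b y) (h : φ x = φ y) : x = y :=
  sgA_inj hc p H hx hy (β.injective ((hφ x hx).2.trans (by rw [h, ← (hφ y hy).2])))

theorem IsPhi.zero : φ 0 = 0 := by
  have := hφ.add hc p H (inW_zero (Q := Q) (a := a) (b := b)) inW_zero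
  rw [add_zero] at this
  exact left_eq_add.1 this

theorem IsPhi.ne_zero {x : ι → F} (hx : InW Q a b x) (hx0 : x ≠ 0) : φ x ≠ 0 := fun h =>
  hx0 (hφ.inj hc p H hx inW_zero (h.trans (hφ.zero hc p H).symm))

variable (hβ : PtMaps β a a)
include hβ

/-- Singular lines of the radical go to singular lines. -/
theorem IsPhi.line {x : ι → F} (hx : InW Q a b x) (hQ : Q x = 0) (hx0 : x ≠ 0) :
    Q (φ x) = 0 ∧ ∀ t : F, ∃ c : F, φ (t • x) = c • φ x := by
  have hp := hx.pr H hQ hx0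
  obtain ⟨M, hM⟩ := maps_exists hc p (⟨a, x, hp, rfl⟩ : IsLine Q (ln a x)) β
  have haM := (hβ.2.2.2.2 _ _ hM).1 (left_mem_ln a x)
  have hmem : ∀ t : F, φ (t • x) ∈ M := fun t => by
    by_cases ht : t = 0
    · rw [ht, zero_smul, hφ.zero hc p H]; exact M.zero_mem
    obtain ⟨s', hs', es⟩ := hM.2.2 _ ((InX.iff_param hc hp).2 ⟨t, rfl⟩)
    have hw := (hx.smul t)
    have hne : φ (t • x) ∉ Submodule.span F {a} := fun hm =>
      hφ.ne_zero hc p H hw (smul_ne_zero ht hx0) ((hφ _ hw).1.eq_zero_of_mem H hm)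
    obtain ⟨c, d, hcM, hdM, rfl⟩ := hs'
    have e := eq_of_mkO_eq hc p (sg_pow hc p ((hφ _ hw).1.isSg H)) (sg_pow hc p (hM.2.1.isSg hcM hdM))
      ((hφ _ hw).2.symm.trans es)
    exact (Submodule.span_le.2 (by rintro z (rfl | rfl) <;> assumption) : ln c d ≤ M)
      (sg_eq_ln hc ((hφ _ hw).1.isSg H) ((LinearIndependent.pair_iff' H.a_ne).2 fun r hr =>
        hne (Submodule.mem_span_singleton.2 ⟨r, hr⟩)) (hM.2.1.isSg hcM hdM) e (right_mem_ln _ _))
  have h1 : φ x ∈ M := by simpa using hmem 1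
  have hpr : Pr Q a (φ x) := (hφ x hx).1.pr H (hM.2.1.singular h1) (hφ.ne_zero hc p H hx hx0)
  refine ⟨hM.2.1.singular h1, fun t => ?_⟩
  have h2 := hmem t
  rw [hM.2.1.eq_ln haM h1 hpr] at h2
  obtain ⟨r, s, hrs⟩ := mem_ln.1 h2
  have hr : r = 0 := by
    have h3 := congrArg (fun z => polar (⇑Q) z b) hrs
    simpa [polar_add_left, polar_smul_left, H.hab, (hφ x hx).1.2, (hφ _ (hx.smul t)).1.2] using h3
  rw [hr, zero_smul, zero_add] at hrs
  exact ⟨s, hrs.symm⟩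

/-- Semilinearity and the multiplier. -/
theorem IsPhi.semilinear : ∃ (θ : F ≃+* F) (c : F), c ≠ 0 ∧
    ∀ w, InW Q a b w → Q (φ w) = c * θ (Q w) ∧ ∀ t : F, φ (t • w) = θ t • φ w := by
  classical
  choose! θ hθ using fun x (h : InW Q a b x ∧ Q x = 0 ∧ x ≠ 0) => (hφ.line hc p H hβ h.1 h.2.1 h.2.2).2
  have hsurj : ∀ x, InW Q a b x ∧ Q x = 0 ∧ x ≠ 0 → Function.Surjective (θ x) := fun x hx =>
    Finite.surjective_of_injective fun s t hst => by
      have h1 : φ (s • x) = φ (t • x) := by rw [hθ x hx, hθ x hx, hst]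
      exact smul_left_injective F hx.2.2 (hφ.inj hc p H (hx.1.smul s) (hx.1.smul t) h1)
  have hadj : ∀ x y, InW Q a b x ∧ Q x = 0 ∧ x ≠ 0 → InW Q a b y ∧ Q y = 0 ∧ y ≠ 0 → polar (⇑Q) x y = 0 →
      y ∉ Submodule.span F {x} → θ x = θ y := by
    intro x y hx hy hxy hm
    have hxy' : InW Q a b (x + y) ∧ Q (x + y) = 0 ∧ x + y ≠ 0 :=
      ⟨hx.1.add hy.1, by rw [Quad.map_add', hx.2.1, hy.2.1, hxy]; ring,
        fun h => hm (Submodule.mem_span_singleton.2 ⟨-1, by rw [neg_one_smul, eq_neg_of_add_eq_zero_right h]⟩)⟩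
    funext t
    have h1 := hθ (x + y) hxy' t
    rw [smul_add, hφ.add hc p H (hx.1.smul t) (hy.1.smul t), hθ x hx, hθ y hy, hφ.add hc p H hx.1 hy.1] at h1
    have hind : ∀ r s : F, r • φ x + s • φ y = 0 → r = 0 ∧ s = 0 := fun r s h => by
      have hs : s = 0 := by
        by_contra hs
        obtain ⟨u, hu⟩ := hsurj x hx (-(s⁻¹ * r))
        have h2 : φ y = φ (u • x) := by
          rw [hθ x hx, hu, neg_smul, mul_smul, show r • φ x = -(s • φ y) from eq_neg_of_add_eq_zero_left h, smul_neg,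
            neg_neg, inv_smul_smul₀ hs]
        exact hm (Submodule.mem_span_singleton.2 ⟨u, (hφ.inj hc p H hy.1 (hx.1.smul u) h2).symm⟩)
      rw [hs, zero_smul, add_zero] at h
      exact ⟨(smul_eq_zero.1 h).resolve_right (hφ.ne_zero hc p H hx.1 hx.2.2), hs⟩
    obtain ⟨h2, h3⟩ := hind (θ x t - θ (x + y) t) (θ y t - θ (x + y) t)
      (by rw [sub_smul, sub_smul]; linear_combination (norm := module) h1)
    rw [sub_eq_zero.1 h2, sub_eq_zero.1 h3]
  have hnon : ∀ x y, InW Q a b x ∧ Q x = 0 ∧ x ≠ 0 → InW Q a b y ∧ Q y = 0 ∧ y ≠ 0 → polar (⇑Q) x y ≠ 0 →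
      θ x = θ y := by
    intro x y hx hy hxy
    obtain ⟨z, hz0, hz, hzp⟩ := exists_singular_perp (Q := Q) ![a, b, x, y] (by have := hc.seven; omega)
    have z1 : polar (⇑Q) z x = 0 := hzp 2
    have z2 : polar (⇑Q) z y = 0 := hzp 3
    have hz' : InW Q a b z ∧ Q z = 0 ∧ z ≠ 0 := ⟨⟨hzp 0, hzp 1⟩, hz, hz0⟩
    have k : ∀ {x y : ι → F}, polar (⇑Q) x y ≠ 0 → polar (⇑Q) z y = 0 → z ∉ Submodule.span F {x} := fun hxy hzy hm => by
      obtain ⟨c, rfl⟩ := Submodule.mem_span_singleton.1 hm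
      rw [polar_smul_left, smul_eq_mul] at hzy
      exact hz0 (by rw [(mul_eq_zero.1 hzy).resolve_right hxy, zero_smul])
    rw [hadj x z hx hz' (by rw [polar_comm, z1]) (k hxy z2),
      hadj y z hy hz' (by rw [polar_comm, z2]) (k (by rwa [polar_comm]) z1)]
  have hall : ∀ x y, InW Q a b x ∧ Q x = 0 ∧ x ≠ 0 → InW Q a b y ∧ Q y = 0 ∧ y ≠ 0 → θ x = θ y := by
    intro x y hx hy
    by_cases hxy : polar (⇑Q) x y = 0
    swap
    · exact hnon x y hx hy hxy
    by_cases hm : y ∈ Submodule.span F {x}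
    swap
    · exact hadj x y hx hy hxy hm
    obtain ⟨r, rfl⟩ := Submodule.mem_span_singleton.1 hm
    obtain ⟨g, -, hg⟩ := exists_hyp_pair hc.nondeg hx.2.2 hx.2.1
    have hg' : polar (⇑Q) x (proj Q a b g) = 1 := by
      rw [proj, polar_sub_right, polar_sub_right, polar_smul_right, polar_smul_right, hg, hx.1.1, hx.1.2]
      simp
    set v := proj Q a b g + (-Q (proj Q a b g)) • x with hv
    have hv' : InW Q a b v ∧ Q v = 0 ∧ polar (⇑Q) x v = 1 :=
      ⟨(H.proj_mem g).add (hx.1.smul _), by rw [hv, map_add_smul, hx.2.1, polar_comm, hg']; ring,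
        by rw [hv, polar_add_right, polar_smul_right, polar_singular hx.2.1, hg', smul_zero, add_zero]⟩
    have hv0 : v ≠ 0 := fun h => by
      have := hv'.2.2
      rw [h, polar_zero_right] at this
      exact one_ne_zero this.symm
    have hr : r ≠ 0 := fun h => hy.2.2 (by rw [h, zero_smul])
    rw [hnon x v hx ⟨hv'.1, hv'.2.1, hv0⟩ (by rw [hv'.2.2]; exact one_ne_zero),
      hnon (r • x) v hy ⟨hv'.1, hv'.2.1, hv0⟩ (by rw [polar_smul_left, hv'.2.2, smul_eq_mul, mul_one]; exact hr)]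
  obtain ⟨a₁, b₁, a₂, b₂, h₁, h₂, i₁, j₁, i₂, j₂, k₂, l₂⟩ := hc.exists_pairs H
  have ha₁ : InW Q a b a₁ ∧ Q a₁ = 0 ∧ a₁ ≠ 0 := ⟨i₁, h₁.ha, h₁.a_ne⟩
  set τ := θ a₁ with hτ
  have hs : ∀ x, InW Q a b x → Q x = 0 → ∀ t : F, φ (t • x) = τ t • φ x := fun x hx hQx t => by
    by_cases hx0 : x = 0
    · rw [hx0, smul_zero, hφ.zero hc p H, smul_zero]
    · rw [hθ x ⟨hx, hQx, hx0⟩, hall x a₁ ⟨hx, hQx, hx0⟩ ha₁]
  have hne : φ a₁ ≠ 0 := hφ.ne_zero hc p H i₁ h₁.a_ne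
  have hτadd : ∀ s t, τ (s + t) = τ s + τ t := fun s t => smul_left_injective F hne (by
    show τ (s + t) • φ a₁ = (τ s + τ t) • φ a₁
    rw [← hs a₁ i₁ h₁.ha, add_smul, add_smul, hφ.add hc p H (i₁.smul s) (i₁.smul t), hs a₁ i₁ h₁.ha,
      hs a₁ i₁ h₁.ha])
  have hτmul : ∀ s t, τ (s * t) = τ s * τ t := fun s t => smul_left_injective F hne (by
    show τ (s * t) • φ a₁ = (τ s * τ t) • φ a₁
    rw [← hs a₁ i₁ h₁.ha, mul_smul, hs _ (i₁.smul t) (by rw [Quad.map_smul', h₁.ha, mul_zero]), hs a₁ i₁ h₁.ha,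
      smul_smul])
  let Θ : F ≃+* F :=
    { Equiv.ofBijective τ ⟨(Finite.injective_iff_surjective).2 (hsurj a₁ ha₁), hsurj a₁ ha₁⟩ with
      map_mul' := hτmul
      map_add' := hτadd }
  have hsl : ∀ w, InW Q a b w → ∀ t : F, φ (t • w) = Θ t • φ w := fun w hw =>
    singular_induction (U := perpF Q ![a, b]) (P := fun w => ∀ t : F, φ (t • w) = Θ t • φ w) h₁
      (mem_perp_pair.2 i₁) (mem_perp_pair.2 j₁)
      (fun x hx y hy ex ey t => by
        rw [mem_perp_pair] at hx hy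
        rw [smul_add, hφ.add hc p H (hx.smul t) (hy.smul t), ex, ey, hφ.add hc p H hx hy, smul_add])
      (fun x hx hQx t => hs x (mem_perp_pair.1 hx) hQx t) (mem_perp_pair.2 hw)
  -- the quadratic form pulled back
  have hsing : ∀ x, InW Q a b x → Q x = 0 → Q (φ x) = 0 := fun x hx hQx => by
    by_cases hx0 : x = 0
    · rw [hx0, hφ.zero hc p H, QuadraticMap.map_zero]
    · exact (hφ.line hc p H hβ hx hQx hx0).1
  set c := polar (⇑Q) (φ a₁) (φ b₁) with hcdef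
  have hW' : ∀ u ∈ perpF Q ![a, b, a₁, b₁], InW Q a b u ∧ InW Q a₁ b₁ u := fun u hu =>
    ⟨⟨mem_perpF.1 hu 0, mem_perpF.1 hu 1⟩, mem_perpF.1 hu 2, mem_perpF.1 hu 3⟩
  have hW'mem : ∀ u, InW Q a b u → InW Q a₁ b₁ u → u ∈ perpF Q ![a, b, a₁, b₁] := fun u h h' =>
    mem_perpF.2 fun i => by fin_cases i; exacts [h.1, h.2, h'.1, h'.2]
  have hbil : ∀ v, InW Q a b v → Q v = 0 → InW Q a₁ b₁ v → ∀ e ∈ ({a₁, b₁} : Set (ι → F)),
      polar (⇑Q) (φ e) (φ v) = 0 := fun v hv hQv hv' e he => by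
    have he' : InW Q a b e ∧ Q e = 0 ∧ polar (⇑Q) e v = 0 := by
      rcases he with rfl | rfl
      exacts [⟨i₁, h₁.ha, hv'.ax⟩, ⟨j₁, h₁.hb, hv'.bx⟩]
    have := hsing (e + v) (he'.1.add hv) (by rw [Quad.map_add', he'.2.1, hQv, he'.2.2]; ring)
    rw [hφ.add hc p H he'.1 hv, Quad.map_add', hsing e he'.1 he'.2.1, hsing v hv hQv] at this
    linear_combination this
  have hbil' : ∀ u, InW Q a b u → InW Q a₁ b₁ u → ∀ e ∈ ({a₁, b₁} : Set (ι → F)),
      polar (⇑Q) (φ e) (φ u) = 0 := fun u hu hu' e he =>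
    singular_induction (U := perpF Q ![a, b, a₁, b₁]) (P := fun u => polar (⇑Q) (φ e) (φ u) = 0) h₂
      (hW'mem _ i₂ k₂) (hW'mem _ j₂ l₂)
      (fun x hx y hy ex ey => by rw [hφ.add hc p H (hW' x hx).1 (hW' y hy).1, polar_add_right, ex, ey, add_zero])
      (fun x hx hQx => hbil x (hW' x hx).1 hQx (hW' x hx).2 e he) (hW'mem u hu hu')
  have hmain : ∀ (s t : F) u, InW Q a b u → InW Q a₁ b₁ u →
      Q (φ (s • a₁ + t • b₁ + u)) = Θ s * Θ t * c + Q (φ u) := fun s t u hu hu' => by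
    rw [hφ.add hc p H ((i₁.smul s).add (j₁.smul t)) hu, hφ.add hc p H (i₁.smul s) (j₁.smul t), hsl _ i₁, hsl _ j₁,
      Quad.map_add', Quad.map_add', Quad.map_smul', Quad.map_smul', hsing _ i₁ h₁.ha, hsing _ j₁ h₁.hb,
      polar_add_left, polar_smul_left, polar_smul_left, polar_smul_left, polar_smul_right,
      hbil' u hu hu' a₁ (Set.mem_insert _ _), hbil' u hu hu' b₁ (Set.mem_insert_of_mem _ rfl), ← hcdef]
    simp only [smul_eq_mul]
    ring
  have hu : ∀ u, InW Q a b u → InW Q a₁ b₁ u → Q (φ u) = c * Θ (Q u) := fun u hu hu' => by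
    have := hmain 1 (-Q u) u hu hu'
    rw [hsing _ (((i₁.smul _).add (j₁.smul _)).add hu) (by rw [h₁.map_comb hu']; ring), map_one, map_neg] at this
    linear_combination -this
  have hQ : ∀ w, InW Q a b w → Q (φ w) = c * Θ (Q w) := fun w hw => by
    have hu0 : InW Q a b (proj Q a₁ b₁ w) := by
      rw [proj, sub_eq_add_neg, sub_eq_add_neg, ← neg_smul, ← neg_smul]
      exact (hw.add (i₁.smul _)).add (j₁.smul _)
    conv_lhs => rw [eq_proj (Q := Q) a₁ b₁ w]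
    conv_rhs => rw [eq_proj (Q := Q) a₁ b₁ w, h₁.map_comb (h₁.proj_mem w), map_add, map_mul]
    rw [hmain _ _ _ hu0 (h₁.proj_mem w), hu _ hu0 (h₁.proj_mem w)]
    ring
  refine ⟨Θ, c, fun hc0 => ?_, fun w hw => ⟨hQ w hw, hsl w hw⟩⟩
  have hbW : ∀ w, InW Q a b w → Q (φ w) = 0 := fun w hw => by rw [hQ w hw, hc0, zero_mul]
  -- the image is the whole radical, which is not totally singular
  let f : perpF Q ![a, b] → perpF Q ![a, b] := fun w => ⟨φ w, mem_perp_pair.2 (hφ w (mem_perp_pair.1 w.2)).1⟩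
  have hf : Function.Surjective f := Finite.surjective_of_injective fun x y h =>
    Subtype.ext (hφ.inj hc p H (mem_perp_pair.1 x.2) (mem_perp_pair.1 y.2) (congrArg Subtype.val h))
  have hs0 : ∀ w, InW Q a b w → Q w = 0 := fun w hw => by
    obtain ⟨u, hu⟩ := hf ⟨w, mem_perp_pair.2 hw⟩
    have e : φ u = w := congrArg Subtype.val hu
    rw [← e]; exact hbW _ (mem_perp_pair.1 u.2)
  have h01 : (0 : F) = 1 := by
    rw [← hs0 ((1 : F) • a₁ + (1 : F) • b₁ + 0) (((i₁.smul 1).add (j₁.smul 1)).add inW_zero), h₁.map_comb inW_zero]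
    simp
  exact zero_ne_one h01

end Cfsg.Agent.AutPOmega
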