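import Cfsg.Agent.AutPOmega.Basic

/-!
Totally singular lines, their root groups, the centre, lifting of p-elements.
-/

set_option autoImplicit false

namespace Cfsg.Agent.AutPOmega

open Module QuadraticMap Classical Classical.Quad Matrix

variable {ι : Type} [Fintype ι] [DecidableEq ι] {F : Type*} [Field F] {Q : QuadraticForm F (ι → F)}

/-- A basis of a totally singular line. -/
structure Pr (Q : QuadraticForm F (ι → F)) (e v : ι → F) : Prop where
  he : Q e = 0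
  hv : Q v = 0
  hev : polar (⇑Q) e v = 0
  li : LinearIndependent F ![e, v]

/-- The span of two vectors. -/
abbrev ln (e v : ι → F) : Submodule F (ι → F) := Submodule.span F {e, v}

/-- A totally singular line. -/
def IsLine (Q : QuadraticForm F (ι → F)) (L : Submodule F (ι → F)) : Prop := ∃ e v, Pr Q e v ∧ L = ln e v

/-- The root group of a line. -/
def InX (L : Submodule F (ι → F)) (s : Om Q) : Prop := ∃ a b, a ∈ L ∧ b ∈ L ∧ s = sg Q a b

theorem mem_ln {e v x : ι → F} : x ∈ ln e v ↔ ∃ s t : F, s • e + t • v = x := Submodule.mem_span_pair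

theorem left_mem_ln (e v : ι → F) : e ∈ ln e v := Submodule.subset_span (Set.mem_insert e _)

theorem right_mem_ln (e v : ι → F) : v ∈ ln e v := Submodule.subset_span (Set.mem_insert_of_mem e rfl)

theorem Pr.symm {e v : ι → F} (h : Pr Q e v) : Pr Q v e :=
  ⟨h.hv, h.he, by rw [polar_comm, h.hev], LinearIndependent.pair_symm_iff.1 h.li⟩

theorem Pr.isSg {e v : ι → F} (h : Pr Q e v) (t : F) : IsSg Q e (t • v) := (IsSg.smul ⟨h.he, h.hev⟩ t)

theorem Pr.e_ne {e v : ι → F} (h : Pr Q e v) : e ≠ 0 := h.li.ne_zero 0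

theorem Pr.v_ne {e v : ι → F} (h : Pr Q e v) : v ≠ 0 := h.li.ne_zero 1

theorem Pr.indep {e v : ι → F} (h : Pr Q e v) {s t : F} (h' : s • e + t • v = 0) : s = 0 ∧ t = 0 :=
  LinearIndependent.pair_iff.1 h.li s t h'

theorem Pr.not_mem {e v : ι → F} (h : Pr Q e v) : v ∉ Submodule.span F {e} := fun hm => by
  obtain ⟨c, hc⟩ := Submodule.mem_span_singleton.1 hm
  exact one_ne_zero (neg_eq_zero.1 (h.indep (s := c) (t := -1) (by rw [hc, neg_one_smul, add_neg_cancel])).2)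

theorem Pr.of_not_mem {e v : ι → F} (he0 : e ≠ 0) (he : Q e = 0) (hv : Q v = 0) (hev : polar (⇑Q) e v = 0)
    (hm : v ∉ Submodule.span F {e}) : Pr Q e v :=
  ⟨he, hv, hev, (LinearIndependent.pair_iff' he0).2 fun c hc => hm (Submodule.mem_span_singleton.2 ⟨c, hc⟩)⟩

theorem Pr.singular {e v x : ι → F} (h : Pr Q e v) (hx : x ∈ ln e v) : Q x = 0 := by
  obtain ⟨s, t, rfl⟩ := mem_ln.1 hx
  rw [Quad.map_add', Quad.map_smul', Quad.map_smul', h.he, h.hv, polar_smul_left, polar_smul_right, h.hev]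
  simp

theorem Pr.polar_mem {e v x y : ι → F} (h : Pr Q e v) (hx : x ∈ ln e v) (hy : y ∈ ln e v) :
    polar (⇑Q) x y = 0 := by
  simp only [polar, h.singular hx, h.singular hy, h.singular (add_mem hx hy)]
  ring

theorem IsLine.singular {L : Submodule F (ι → F)} (hL : IsLine Q L) {x : ι → F} (hx : x ∈ L) : Q x = 0 := by
  obtain ⟨e, v, h, rfl⟩ := hL; exact h.singular hx

theorem IsLine.polar_mem {L : Submodule F (ι → F)} (hL : IsLine Q L) {x y : ι → F} (hx : x ∈ L) (hy : y ∈ L) :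
    polar (⇑Q) x y = 0 := by
  obtain ⟨e, v, h, rfl⟩ := hL; exact h.polar_mem hx hy

theorem IsLine.finrank {L : Submodule F (ι → F)} (hL : IsLine Q L) : finrank F L = 2 := by
  obtain ⟨e, v, h, rfl⟩ := hL
  have := finrank_span_eq_card h.li
  rwa [Matrix.range_cons_cons_empty, Fintype.card_fin] at this

theorem IsLine.isSg {L : Submodule F (ι → F)} (hL : IsLine Q L) {a b : ι → F} (ha : a ∈ L) (hb : b ∈ L) :
    IsSg Q a b := ⟨hL.singular ha, hL.polar_mem ha hb⟩

theorem IsLine.eq_of_le {L M : Submodule F (ι → F)} (hL : IsLine Q L) (hM : IsLine Q M) (h : L ≤ M) : L = M :=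
  Submodule.eq_of_le_of_finrank_eq h (by rw [hL.finrank, hM.finrank])

theorem IsLine.eq_ln {L : Submodule F (ι → F)} (hL : IsLine Q L) {a b : ι → F} (ha : a ∈ L) (hb : b ∈ L)
    (h : Pr Q a b) : L = ln a b :=
  ((show IsLine Q (ln a b) from ⟨a, b, h, rfl⟩).eq_of_le hL (Submodule.span_le.2 (by
    rintro x (rfl | rfl) <;> assumption))).symm

theorem IsLine.exists_pr {L : Submodule F (ι → F)} (hL : IsLine Q L) {a : ι → F} (ha : a ∈ L) (ha0 : a ≠ 0) :
    ∃ b ∈ L, Pr Q a b ∧ L = ln a b := by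
  obtain ⟨b, hb, hba⟩ : ∃ b ∈ L, b ∉ Submodule.span F {a} := by
    by_contra h
    push Not at h
    have h1 := Submodule.finrank_mono (show L ≤ Submodule.span F {a} from h)
    rw [hL.finrank, finrank_span_singleton ha0] at h1
    omega
  have h := Pr.of_not_mem ha0 (hL.singular ha) (hL.singular hb) (hL.polar_mem ha hb) hba
  exact ⟨b, hb, h, hL.eq_ln ha hb h⟩

theorem exists_functional {k : ℕ} (hQ : (polarBilin Q).Nondegenerate) {u : ι → F} (v : Fin k → ι → F)
    (hu : u ∉ Submodule.span F (Set.range v)) :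
    ∃ x, polar (⇑Q) x u = 1 ∧ ∀ i, polar (⇑Q) x (v i) = 0 := by
  obtain ⟨w, hw, hw1⟩ := exists_perp hQ hu
  exact ⟨w, by rw [polar_comm, hw1], fun i => by rw [polar_comm, hw _ (Submodule.subset_span ⟨i, rfl⟩)]⟩

variable (hc : Pre Q)
include hc

theorem InX.iff_param {e v : ι → F} (h : Pr Q e v) {s : Om Q} : InX (ln e v) s ↔ ∃ t : F, s = sg Q e (t • v) := by
  constructor
  · rintro ⟨a, b, ha, hb, rfl⟩
    obtain ⟨α, β, rfl⟩ := mem_ln.1 ha
    obtain ⟨γ, δ, rfl⟩ := mem_ln.1 hb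
    refine ⟨α * δ - β * γ, om_ext_mulVec fun x => ?_⟩
    have hab : IsSg Q (α • e + β • v) (γ • e + δ • v) :=
      ⟨h.singular (mem_ln.2 ⟨_, _, rfl⟩), h.polar_mem (mem_ln.2 ⟨_, _, rfl⟩) (mem_ln.2 ⟨_, _, rfl⟩)⟩
    rw [sg_mulVec hc hab, sg_mulVec hc (h.isSg _), sgMap, sgMap, h.singular (mem_ln.2 ⟨γ, δ, rfl⟩),
      Quad.map_smul', h.hv]
    simp only [polar_add_right, polar_smul_right, smul_eq_mul]
    module
  · rintro ⟨t, rfl⟩
    exact ⟨e, t • v, left_mem_ln e v, Submodule.smul_mem _ t (right_mem_ln e v), rfl⟩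

theorem sg_moved {e w : ι → F} (h : IsSg Q e w) (x : ι → F) : mat (sg Q e w) *ᵥ x - x ∈ ln e w := by
  rw [sg_mulVec hc h, mem_ln]
  exact ⟨polar (⇑Q) x w - Q w * polar (⇑Q) x e, -polar (⇑Q) x e, by rw [sgMap]; module⟩

theorem sg_moved_surj {e w : ι → F} (h : IsSg Q e w) (hli : LinearIndependent F ![e, w]) {z : ι → F}
    (hz : z ∈ ln e w) : ∃ x, mat (sg Q e w) *ᵥ x - x = z := by
  have hd : ∀ i : Fin 2, ![e, w] i ∉ Submodule.span F (Set.range ![![e, w] (1 - i)]) := fun i hm => by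
    rw [Set.range_unique, Submodule.mem_span_singleton] at hm
    obtain ⟨c, hc'⟩ := hm
    fin_cases i
    · have := LinearIndependent.pair_iff.1 hli (-1) c (by simp at hc'; rw [hc', neg_one_smul, neg_add_cancel])
      exact one_ne_zero (neg_eq_zero.1 this.1)
    · have := LinearIndependent.pair_iff.1 hli c (-1) (by simp at hc'; rw [hc', neg_one_smul, add_neg_cancel])
      exact one_ne_zero (neg_eq_zero.1 this.2)
  obtain ⟨xe, h1, h2⟩ := exists_functional hc.nondeg _ (hd 1)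
  obtain ⟨xw, h3, h4⟩ := exists_functional hc.nondeg _ (hd 0)
  have h2' : polar (⇑Q) xe e = 0 := h2 0
  have h4' : polar (⇑Q) xw w = 0 := h4 0
  simp at h1 h3
  obtain ⟨s, t, rfl⟩ := mem_ln.1 hz
  refine ⟨(s - Q w * t) • xe + (-t) • xw, ?_⟩
  rw [sg_mulVec hc h, sgMap]
  simp only [polar_add_left, polar_smul_left, h1, h2', h3, h4', smul_eq_mul]
  module

theorem sg_eq_ln {e w e' w' : ι → F} (h : IsSg Q e w) (hli : LinearIndependent F ![e, w]) (h' : IsSg Q e' w')
    (heq : sg Q e w = sg Q e' w') : ln e w ≤ ln e' w' := fun z hz => by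
  obtain ⟨x, rfl⟩ := sg_moved_surj hc h hli hz
  rw [heq]
  exact sg_moved hc h' x

theorem sg_eq_one {e w : ι → F} (h : IsSg Q e w) (he : e ≠ 0) (h1 : sg Q e w = 1) : w ∈ Submodule.span F {e} := by
  by_contra hw
  have hli : LinearIndependent F ![e, w] :=
    (LinearIndependent.pair_iff' he).2 fun c hc => hw (Submodule.mem_span_singleton.2 ⟨c, hc⟩)
  obtain ⟨x, hx⟩ := sg_moved_surj hc h hli (left_mem_ln e w)
  rw [h1, mat_one_mulVec, sub_self] at hx
  exact he hx.symm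

theorem sg_inj {e w w' : ι → F} (h : IsSg Q e w) (h' : IsSg Q e w') (he : e ≠ 0)
    (heq : sg Q e w = sg Q e w') : w - w' ∈ Submodule.span F {e} := by
  refine sg_eq_one hc (by rw [sub_eq_add_neg, ← neg_one_smul F w']; exact h.add (h'.smul _)) he ?_
  have h2 : IsSg Q e ((-1 : F) • w') := h'.smul _
  rw [sub_eq_add_neg, ← neg_one_smul F w', ← sg_mul hc h h2, heq, sg_mul hc h' h2, neg_one_smul, add_neg_cancel,
    sg_zero hc h.1]

theorem Pr.sg_ne_one {e v : ι → F} (h : Pr Q e v) {t : F} (ht : t ≠ 0) : sg Q e (t • v) ≠ 1 := fun h1 => by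
  have := sg_eq_one hc (h.isSg t) h.e_ne h1
  exact h.not_mem (by simpa [ht] using Submodule.smul_mem _ t⁻¹ this)

theorem IsLine.eq_of_sg {L M : Submodule F (ι → F)} (hL : IsLine Q L) (hM : IsLine Q M) {s : Om Q} (hs : InX L s)
    (hs' : InX M s) (h1 : s ≠ 1) : L = M := by
  obtain ⟨e, v, h, rfl⟩ := hL
  obtain ⟨t, rfl⟩ := (InX.iff_param hc h).1 hs
  obtain ⟨a, b, ha, hb, hab⟩ := hs'
  have ht : t ≠ 0 := fun h0 => h1 (by rw [h0, zero_smul, sg_zero hc h.he])
  have hli : LinearIndependent F ![e, t • v] := (LinearIndependent.pair_iff' h.e_ne).2 fun c hc' =>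
    h.not_mem (Submodule.mem_span_singleton.2 ⟨t⁻¹ * c, by rw [mul_smul, hc', inv_smul_smul₀ ht]⟩)
  have h2 := (sg_eq_ln hc (h.isSg t) hli (hM.isSg ha hb) hab).trans
    (Submodule.span_le.2 (by rintro x (rfl | rfl) <;> assumption))
  refine (IsLine.eq_of_le ⟨e, v, h, rfl⟩ hM (Submodule.span_le.2 ?_))
  rintro x (rfl | rfl)
  · exact h2 (left_mem_ln _ _)
  · simpa [ht] using Submodule.smul_mem _ t⁻¹ (h2 (right_mem_ln _ _))

/-- Every non-zero singular vector lies on two lines meeting in its point. -/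
theorem exists_two_lines {e : ι → F} (he0 : e ≠ 0) (he : Q e = 0) :
    ∃ u v, Pr Q e u ∧ Pr Q e v ∧ polar (⇑Q) u v = 1 ∧ ∀ x ∈ ln e u, x ∈ ln e v → x ∈ Submodule.span F {e} := by
  obtain ⟨f, hf, hef⟩ := exists_hyp_pair hc.nondeg he0 he
  have H : HPair Q e f := ⟨he, hf, hef⟩
  obtain ⟨a₁, b₁, a₂, b₂, h₁, h₂, i₁, j₁, i₂, j₂, k₂, l₂⟩ := hc.exists_pairs H
  have pr : ∀ {u : ι → F}, u ≠ 0 → Q u = 0 → InW Q e f u → Pr Q e u := fun {u} hu0 hu hw =>
    Pr.of_not_mem he0 he hu hw.ax fun hm => by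
      obtain ⟨c, rfl⟩ := Submodule.mem_span_singleton.1 hm
      have h3 := hw.2
      rw [polar_smul_left, hef, smul_eq_mul, mul_one] at h3
      exact hu0 (by rw [h3, zero_smul])
  refine ⟨a₁, b₁, pr h₁.a_ne h₁.ha i₁, pr h₁.b_ne h₁.hb j₁, h₁.hab, fun x hx hx' => ?_⟩
  obtain ⟨s, t, rfl⟩ := mem_ln.1 hx
  obtain ⟨s', t', hx''⟩ := mem_ln.1 hx'
  have h3 := congrArg (fun y => polar (⇑Q) y b₁) hx''
  simp [polar_add_left, polar_smul_left, h₁.hab, h₁.bb, j₁.ax] at h3
  rw [← h3, zero_smul, add_zero]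
  exact Submodule.smul_mem _ _ (Submodule.mem_span_singleton_self e)

/-- Two singular points have a common neighbour different from both. -/
theorem exists_nbr [Finite F] {e e' : ι → F} (he0 : e ≠ 0) (he : Q e = 0) (he0' : e' ≠ 0) (he' : Q e' = 0) :
    ∃ z, Pr Q e z ∧ Pr Q e' z := by
  obtain ⟨f, -, hef⟩ := exists_hyp_pair hc.nondeg he0 he
  obtain ⟨f', -, hef'⟩ := exists_hyp_pair hc.nondeg he0' he'
  obtain ⟨z, hz0, hz, hzp⟩ := exists_singular_perp (Q := Q) ![e, e', f, f'] (by have := hc.seven; omega)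
  have key : ∀ {a g : ι → F}, polar (⇑Q) a g = 1 → polar (⇑Q) z g = 0 → z ∉ Submodule.span F {a} := fun hag hzg hm => by
    obtain ⟨c, rfl⟩ := Submodule.mem_span_singleton.1 hm
    rw [polar_smul_left, hag, smul_eq_mul, mul_one] at hzg
    exact hz0 (by rw [hzg, zero_smul])
  exact ⟨z, Pr.of_not_mem he0 he hz (by rw [polar_comm]; exact hzp 0) (key hef (hzp 2)),
    Pr.of_not_mem he0' he' hz (by rw [polar_comm]; exact hzp 1) (key hef' (hzp 3))⟩

/-- An element fixing every line is scalar. -/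
theorem scalar_of_fix [Finite F] {z : Om Q} (h : ∀ e v, Pr Q e v → mat z *ᵥ e ∈ ln e v) :
    ∃ c : F, ∀ x, mat z *ᵥ x = c • x := by
  have hpt : ∀ e, e ≠ 0 → Q e = 0 → ∃ c : F, mat z *ᵥ e = c • e := fun e he0 he => by
    obtain ⟨u, v, hu, hv, -, hint⟩ := exists_two_lines hc he0 he
    obtain ⟨c, hc'⟩ := Submodule.mem_span_singleton.1 (hint _ (h e u hu) (h e v hv))
    exact ⟨c, hc'.symm⟩
  have hadj : ∀ {e v : ι → F} {c d : F}, Pr Q e v → mat z *ᵥ e = c • e → mat z *ᵥ v = d • v → c = d :=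
    fun {e v c d} hp h1 h2 => by
      have hne : e + v ≠ 0 := fun h0 => one_ne_zero (hp.indep (s := 1) (t := 1) (by simpa using h0)).1
      obtain ⟨r, hr⟩ := hpt _ hne (hp.singular (add_mem (left_mem_ln e v) (right_mem_ln e v)))
      rw [Matrix.mulVec_add, h1, h2, smul_add] at hr
      have := hp.indep (s := c - r) (t := d - r) (by rw [sub_smul, sub_smul]; linear_combination (norm := module) hr)
      rw [sub_eq_zero.1 this.1, sub_eq_zero.1 this.2]
  obtain ⟨a, b, hp, -⟩ := hc.pairs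
  obtain ⟨c, hca⟩ := hpt _ (hp 0).a_ne (hp 0).ha
  refine ⟨c, fun x => singular_induction (U := ⊤) (hp 0) trivial trivial
    (P := fun x => mat z *ᵥ x = c • x) (fun x _ y _ hx hy => by rw [Matrix.mulVec_add, hx, hy, smul_add])
    (fun x _ hx => ?_) trivial⟩
  by_cases hx0 : x = 0
  · rw [hx0, Matrix.mulVec_zero, smul_zero]
  obtain ⟨d, hd⟩ := hpt x hx0 hx
  obtain ⟨w, hw1, hw2⟩ := exists_nbr hc (hp 0).a_ne (hp 0).ha hx0 hx
  obtain ⟨r, hr⟩ := hpt w hw1.v_ne hw1.hv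
  rw [hd, hadj hw1 hca hr, hadj hw2 hd hr]

theorem mem_center_of_scalar {z : Om Q} {a : F} (h : ∀ v, mat z *ᵥ v = a • v) : z ∈ Subgroup.center (Om Q) := by
  rw [Subgroup.mem_center_iff]
  intro g
  exact om_ext_mulVec fun v => by rw [mat_mul_mulVec, mat_mul_mulVec, h, h, Matrix.mulVec_smul]

theorem center_scalar [Finite F] {z : Om Q} (hz : z ∈ Subgroup.center (Om Q)) :
    ∃ a : F, ∀ v, mat z *ᵥ v = a • v := by
  refine scalar_of_fix hc fun e v h => ?_
  have h1 : z * sg Q e v * z⁻¹ = sg Q e v := by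
    rw [← Subgroup.mem_center_iff.1 hz (sg Q e v), mul_inv_cancel_right]
  rw [conj_sg hc ⟨h.he, h.hev⟩] at h1
  have hs : IsSg Q e v := ⟨h.he, h.hev⟩
  have hli : LinearIndependent F ![mat z *ᵥ e, mat z *ᵥ v] := LinearIndependent.pair_iff.2 fun s t hst =>
    h.indep (mat_injective z (by rw [Matrix.mulVec_add, Matrix.mulVec_smul, Matrix.mulVec_smul, hst,
      Matrix.mulVec_zero]))
  exact sg_eq_ln hc (hs.conj z) hli hs h1 (left_mem_ln _ _)

variable (p : ℕ) [Fact p.Prime] [CharP F p] [Finite F]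
include p

theorem center_pow_p_eq_one {z : Om Q} (hz : z ∈ Subgroup.center (Om Q)) {k : ℕ} (hk : z ^ p ^ k = 1) :
    z = 1 := by
  obtain ⟨a, ha⟩ := center_scalar hc hz
  have hpow : ∀ (j : ℕ) (v : ι → F), mat (z ^ j) *ᵥ v = a ^ j • v := fun j => by
    induction j with
    | zero => intro v; rw [pow_zero, pow_zero, one_smul, mat_one_mulVec]
    | succ j ih =>
      intro v
      rw [pow_succ z j, mat_mul_mulVec, ha, ih, smul_smul, pow_succ]
  obtain ⟨A, B, hp, -⟩ := hc.pairs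
  have h1 := hpow (p ^ k) (A 0)
  rw [hk, mat_one_mulVec] at h1
  have h2 : a ^ p ^ k = 1 := by
    have h0 : (a ^ p ^ k - 1) • A 0 = 0 := by rw [sub_smul, one_smul, ← h1, sub_self]
    exact sub_eq_zero.1 ((smul_eq_zero.1 h0).resolve_right (hp 0).a_ne)
  have h3 : (a - 1) ^ p ^ k = 0 := by rw [sub_pow_char_pow, h2, one_pow, sub_self]
  exact om_ext_mulVec fun v => by
    rw [ha, sub_eq_zero.1 (eq_zero_of_pow_eq_zero h3), one_smul, mat_one_mulVec]

theorem eq_of_mkO_eq {a b : Om Q} {k l : ℕ} (ha : a ^ p ^ k = 1) (hb : b ^ p ^ l = 1) (h : mkO a = mkO b) :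
    a = b := by
  have hz : a⁻¹ * b ∈ Subgroup.center (Om Q) := mkO_eq_one_iff.1 (by rw [map_mul, map_inv, h, inv_mul_cancel])
  have hc' : Commute a⁻¹ b := by
    have h1 : a * (a⁻¹ * b) = a⁻¹ * b * a := (Subgroup.mem_center_iff.1 hz) a
    rw [mul_inv_cancel_left] at h1
    show a⁻¹ * b = b * a⁻¹
    calc a⁻¹ * b = a⁻¹ * b * a * a⁻¹ := (mul_inv_cancel_right _ _).symm
      _ = b * a⁻¹ := by rw [← h1]
  have h2 : (a⁻¹ * b) ^ p ^ (k + l) = 1 := by
    rw [hc'.mul_pow, pow_add, pow_mul, inv_pow, ha, inv_one, one_pow, one_mul, mul_comm, pow_mul, hb, one_pow]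
  exact eq_of_inv_mul_eq_one (center_pow_p_eq_one hc p hz h2)

theorem commute_of_mkO {a b : Om Q} {k : ℕ} (ha : a ^ p ^ k = 1) (h : Commute (mkO a) (mkO b)) : Commute a b := by
  have h1 : b * a * b⁻¹ = a := eq_of_mkO_eq hc p (by rw [conj_pow, ha, mul_one, mul_inv_cancel]) ha
    (by rw [map_mul, map_mul, map_inv, ← h.eq, mul_inv_cancel_right])
  show a * b = b * a
  calc a * b = b * a * b⁻¹ * b := by rw [h1]
    _ = b * a := inv_mul_cancel_right _ _

omit [Finite F] in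
theorem sg_pow {e w : ι → F} (h : IsSg Q e w) : sg Q e w ^ p ^ 1 = 1 := by
  have hpow : ∀ j : ℕ, sg Q e w ^ j = sg Q e ((j : F) • w) := fun j => by
    induction j with
    | zero => rw [pow_zero, Nat.cast_zero, zero_smul, sg_zero hc h.1]
    | succ j ih => rw [pow_succ, ih, sg_mul hc (h.smul _) h, Nat.cast_succ, add_smul, one_smul]
  rw [pow_one, hpow, CharP.cast_eq_zero F p, zero_smul, sg_zero hc h.1]

end Cfsg.Agent.AutPOmega
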