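import Cfsg.Agent.AutPOmega.ParityChar
import Cfsg.Agent.AutPOmega.Forms
import Cfsg.Agent.Classical.OrthMat

/-!
The plus space: its standard singular subspace, coordinate swaps, the twisted model with one elliptic plane.
-/

set_option autoImplicit false

namespace Cfsg.Agent.AutPOmega

open Module QuadraticMap Classical.Quad Matrix

variable (F : Type*) [Field F] (m : ℕ)

/-- The first half of the coordinates. -/
def plusU : Submodule F (Fin m ⊕ Fin m → F) :=
  LinearMap.ker (LinearMap.funLeft F F (Sum.inr : Fin m → Fin m ⊕ Fin m))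

variable {F m}

theorem mem_plusU {v : Fin m ⊕ Fin m → F} : v ∈ plusU F m ↔ ∀ j, v (.inr j) = 0 := by
  rw [plusU, LinearMap.mem_ker, funext_iff]; rfl

theorem isMS_plusU : IsMS (qPlus F m) m (plusU F m) := by
  refine ⟨fun u hu => ?_, ?_⟩
  · rw [qPlus_apply, Cfsg.quadFormPlus]
    exact Finset.sum_eq_zero fun j _ => by rw [mem_plusU.1 hu j, mul_zero]
  · let e : plusU F m ≃ₗ[F] (Fin m → F) :=
      { toFun := fun u j => u.1 (.inl j)
        map_add' := fun _ _ => rfl
        map_smul' := fun _ _ => rfl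
        invFun := fun x => ⟨Sum.elim x 0, mem_plusU.2 fun _ => rfl⟩
        left_inv := fun u => Subtype.ext (funext fun l => by
          rcases l with j | j
          · rfl
          · exact (mem_plusU.1 u.2 j).symm)
        right_inv := fun _ => rfl }
    rw [e.finrank_eq, Module.finrank_fin_fun]

theorem nondeg_qPlus : (polarBilin (qPlus F m)).Nondegenerate :=
  Iso.nondeg (Q := hyp (zeroForm F) m) ⟨(plusCoord m).symm, fun x => by
    rw [qPlus_apply, ← plusCoord_map, LinearEquiv.apply_symm_apply]⟩ (nondeg_hyp nondeg_zeroForm m)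

theorem hyp_plus (hm : 3 ≤ m) : Hyp (qPlus F m) m (plusU F m) where
  nondeg := nondeg_qPlus
  big := hm
  dim := by simp; ring
  ms := isMS_plusU

theorem ofGal_par [Finite F] (hm : 3 ≤ m) (σ : F ≃+* F) :
    (Semi.ofGal σ (qPlus_gal (m := m) σ)).par m (plusU F m) = 1 := by
  have e : (Semi.ofGal σ (qPlus_gal (m := m) σ)).mapSub (plusU F m) = plusU F m := by
    ext x
    obtain ⟨y, rfl⟩ : ∃ y, (Semi.ofGal σ (qPlus_gal (m := m) σ)).app y = x := ⟨_, Semi.app_inv _ x⟩
    rw [Semi.app_mem_mapSub, mem_plusU, mem_plusU, Semi.ofGal_app]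
    exact forall_congr' fun j => (map_eq_zero σ).symm
  rw [Semi.par, e]
  exact psign_self (hyp_plus (F := F) hm).ms.2

/-- The transposition of one pair of coordinates. -/
noncomputable def swapIso (j : Fin m) : Cfsg.isometryGroup F ⇑(qPlus F m) :=
  (oEquiv (qPlus F m)).symm ⟨LinearEquiv.funCongrLeft F F (Equiv.swap (Sum.inl j) (Sum.inr j)), fun v => by
    rw [qPlus_apply, qPlus_apply]
    refine Finset.sum_congr rfl fun l _ => ?_
    show v (Equiv.swap _ _ (Sum.inl l)) * v (Equiv.swap _ _ (Sum.inr l)) = _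
    rcases eq_or_ne l j with rfl | h
    · rw [Equiv.swap_apply_left, Equiv.swap_apply_right, mul_comm]
    · rw [Equiv.swap_apply_of_ne_of_ne (by simp [h]) (by simp), Equiv.swap_apply_of_ne_of_ne (by simp) (by simp [h])]⟩

theorem swapIso_mulVec (j : Fin m) (v : Fin m ⊕ Fin m → F) (l : Fin m ⊕ Fin m) :
    ((swapIso (F := F) j).1.1 *ᵥ v) l = v (Equiv.swap (Sum.inl j) (Sum.inr j) l) := by
  rw [← oEquiv_apply, swapIso, MulEquiv.apply_symm_apply]
  rfl

theorem oEquiv_swapIso (j : Fin m) :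
    oEquiv (qPlus F m) (swapIso j) = rO (v := (Pi.single (Sum.inl j) 1 - Pi.single (Sum.inr j) 1 : Fin m ⊕ Fin m → F))
      (by rw [qPlus_apply, Cfsg.quadFormPlus, Finset.sum_eq_single j (fun l _ hl => by simp [hl])
        (fun h => absurd (Finset.mem_univ j) h)]; simp) := by
  refine ext_oG fun v => funext fun l => ?_
  rw [oEquiv_apply, swapIso_mulVec, rO_apply]
  have hp : polar (⇑(qPlus F m)) v (Pi.single (Sum.inl j) 1 - Pi.single (Sum.inr j) 1) = v (.inr j) - v (.inl j) := by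
    have h1 : ∀ x y : Fin m ⊕ Fin m → F, polar (⇑(qPlus F m)) x y =
        ∑ i, (x (.inl i) * y (.inr i) + y (.inl i) * x (.inr i)) := fun x y => by
      simp only [polar, qPlus_apply, Cfsg.quadFormPlus, ← Finset.sum_sub_distrib, Pi.add_apply]
      exact Finset.sum_congr rfl fun i _ => by ring
    rw [h1, Finset.sum_eq_single j (fun i _ hi => by simp [hi]) (fun h => absurd (Finset.mem_univ j) h)]
    simp; ring
  have hq : qPlus F m (Pi.single (Sum.inl j) 1 - Pi.single (Sum.inr j) 1) = -1 := by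
    rw [qPlus_apply, Cfsg.quadFormPlus, Finset.sum_eq_single j (fun i _ hi => by simp [hi])
      (fun h => absurd (Finset.mem_univ j) h)]
    simp
  rw [hp, hq]
  rcases l with i | i
  · rcases eq_or_ne i j with rfl | h
    · simp; ring
    · rw [Equiv.swap_apply_of_ne_of_ne (by simp [h]) (by simp)]; simp [h]
  · rcases eq_or_ne i j with rfl | h
    · simp; ring
    · rw [Equiv.swap_apply_of_ne_of_ne (by simp) (by simp [h])]; simp [h]

theorem parG_swap [Finite F] (hm : 3 ≤ m) (j : Fin m) : (hyp_plus (F := F) hm).parG (isoToSim (swapIso j)) = -1 := by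
  rw [Hyp.parG_iso, oEquiv_swapIso, dickson_rO]

/-! ### The model with one elliptic plane -/

variable {k : ℕ}

/-- Coordinates of the twisted model. -/
def twCoord : (Fin (k + 1) ⊕ Fin (k + 1) → F) ≃ₗ[F] ((Fin k → F) × (Fin k → F)) × (F × F) where
  toFun v := ((fun i => v (.inl i.castSucc), fun i => v (.inr i.castSucc)),
    (v (.inl (Fin.last k)), v (.inr (Fin.last k))))
  map_add' _ _ := rfl
  map_smul' _ _ := rfl
  invFun x := Sum.elim (Fin.snoc x.1.1 x.2.1) (Fin.snoc x.1.2 x.2.2)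
  left_inv v := by
    funext l
    rcases l with i | i <;> induction i using Fin.lastCases <;> simp
  right_inv x := by simp

/-- The twisted model. -/
def qTw (a b : F) : QuadraticForm F (Fin (k + 1) ⊕ Fin (k + 1) → F) :=
  (hyp (binForm a b) k).comp (twCoord (F := F)).toLinearMap

theorem qTw_apply (a b : F) (v : Fin (k + 1) ⊕ Fin (k + 1) → F) :
    qTw a b v = (∑ i : Fin k, v (.inl i.castSucc) * v (.inr i.castSucc)) +
      (v (.inl (Fin.last k)) ^ 2 + a * v (.inl (Fin.last k)) * v (.inr (Fin.last k)) +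
        b * v (.inr (Fin.last k)) ^ 2) := by
  rw [qTw, QuadraticMap.comp_apply, hyp_apply, binForm_apply]
  rfl

theorem qTw_map {K : Type*} [Field K] (i : F →+* K) (a b : F) (v : Fin (k + 1) ⊕ Fin (k + 1) → F) :
    qTw (i a) (i b) (fun j => i (v j)) = i (qTw a b v) := by
  simp [qTw_apply, map_sum]

theorem nondeg_qTw [Finite F] {a b : F}
    (hab : ∀ z₁ z₂ : F, z₁ ^ 2 + a * z₁ * z₂ + b * z₂ ^ 2 = 0 → z₁ = 0 ∧ z₂ = 0) :
    (polarBilin (qTw (k := k) a b)).Nondegenerate :=
  Iso.nondeg (Q := hyp (binForm a b) k) ⟨(twCoord (F := F)).symm, fun x => by simp [qTw]⟩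
    (nondeg_hyp (nondeg_binForm hab) k)

/-- An elliptic twisted model is not similar to the plus form. -/
theorem not_similar_tw [Finite F] {a b : F}
    (hab : ∀ z₁ z₂ : F, z₁ ^ 2 + a * z₁ * z₂ + b * z₂ ^ 2 = 0 → z₁ = 0 ∧ z₂ = 0) {H : GL (Fin (k + 1) ⊕ Fin (k + 1)) F}
    {c : F} (hc : c ≠ 0) : ¬ ∀ v, qPlus F (k + 1) (H.1 *ᵥ v) = c * qTw a b v := fun h => by
  refine not_iso_plus_minus hab k ?_
  have e1 : Nat.card {v : Fin (k + 1) ⊕ Fin (k + 1) → F // qPlus F (k + 1) v = 0} =
      zcard (hyp (zeroForm F) (k + 1)) := card_zeros_eq (plusCoord (k + 1)) (plusCoord_map (k + 1))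
  have e2 : Nat.card {v : Fin (k + 1) ⊕ Fin (k + 1) → F // qTw a b v = 0} = zcard (hyp (binForm a b) k) :=
    card_zeros_eq (twCoord (F := F)) fun v => rfl
  rw [← e1, ← e2]
  exact (Nat.card_congr ((glLin H).toEquiv.subtypeEquiv fun v => by
    show qTw a b v = 0 ↔ qPlus F (k + 1) (glLin H v) = 0
    rw [glLin_apply, h, mul_eq_zero, or_iff_right hc])).symm

/-- Splitting the elliptic plane by a root. -/
theorem exists_split {a b ρ ρ' : F} (h1 : ρ + ρ' = -a) (h2 : ρ * ρ' = b) (hne : ρ ≠ ρ') :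
    ∃ J : (Fin (k + 1) ⊕ Fin (k + 1) → F) ≃ₗ[F] (Fin (k + 1) ⊕ Fin (k + 1) → F),
      (∀ v, qPlus F (k + 1) (J v) = qTw a b v) ∧ ∀ v,
        J v (.inl (Fin.last k)) = v (.inl (Fin.last k)) - ρ * v (.inr (Fin.last k)) ∧
        J v (.inr (Fin.last k)) = v (.inl (Fin.last k)) - ρ' * v (.inr (Fin.last k)) ∧
        ∀ i : Fin k, J v (.inl i.castSucc) = v (.inl i.castSucc) ∧ J v (.inr i.castSucc) = v (.inr i.castSucc) := by
  have hd : ρ' - ρ ≠ 0 := sub_ne_zero.2 hne.symm
  let B : (F × F) ≃ₗ[F] (F × F) :=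
    { toFun := fun z => (z.1 - ρ * z.2, z.1 - ρ' * z.2)
      map_add' := fun x y => by ext <;> simp <;> ring
      map_smul' := fun c x => by ext <;> simp <;> ring
      invFun := fun z => ((ρ' * z.1 - ρ * z.2) / (ρ' - ρ), (z.1 - z.2) / (ρ' - ρ))
      left_inv := fun z => by ext <;> simp <;> field_simp <;> ring
      right_inv := fun z => by ext <;> simp <;> field_simp <;> ring }
  let J := ((twCoord (F := F) (k := k)).trans ((LinearEquiv.refl F _).prodCongr B)).trans
    (twCoord (F := F) (k := k)).symm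
  have hJ : ∀ v, J v (.inl (Fin.last k)) = v (.inl (Fin.last k)) - ρ * v (.inr (Fin.last k)) ∧
        J v (.inr (Fin.last k)) = v (.inl (Fin.last k)) - ρ' * v (.inr (Fin.last k)) ∧
        ∀ i : Fin k, J v (.inl i.castSucc) = v (.inl i.castSucc) ∧ J v (.inr i.castSucc) = v (.inr i.castSucc) :=
    fun v => ⟨by simp [J, B, twCoord], by simp [J, B, twCoord], fun i => ⟨by simp [J, B, twCoord], by simp [J, B, twCoord]⟩⟩
  refine ⟨J, fun v => ?_, hJ⟩
  obtain ⟨e1, e2, e3⟩ := hJ v
  rw [qPlus_apply, Cfsg.quadFormPlus, Fin.sum_univ_castSucc, e1, e2, qTw_apply,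
    Finset.sum_congr rfl fun i (_ : i ∈ Finset.univ) => by rw [(e3 i).1, (e3 i).2], ← h2,
    show a = -(ρ + ρ') by rw [h1, neg_neg]]
  ring

end Cfsg.Agent.AutPOmega
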