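import Cfsg.Agent.AutPOmega.Transport
import Cfsg.Agent.AutPOmega.Plus

/-!
The minus space: the parity character read over a quadratic extension, the inner-diagonal group.
-/

set_option autoImplicit false

namespace Cfsg.Agent.AutPOmega

open Module QuadraticMap Classical.Quad Matrix

section General

variable {ι : Type} [Fintype ι] [DecidableEq ι] {F : Type*} [Field F]

/-- Non-degeneracy is kept by extension of the field. -/
theorem nondeg_map {K : Type*} [Field K] (i : F →+* K) {Q : QuadraticForm F (ι → F)} {Q' : QuadraticForm K (ι → K)}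
    (hQ : (polarBilin Q).Nondegenerate) (h : ∀ v : ι → F, Q' (fun j => i (v j)) = i (Q v)) :
    (polarBilin Q').Nondegenerate := by
  refine nondeg_of fun x hx => ?_
  let G : Matrix ι ι F := Matrix.of fun l j => polar (⇑Q) (Pi.single j 1) (Pi.single l 1)
  have hdet : G.det ≠ 0 := fun h0 => by
    obtain ⟨y, hy0, hy⟩ := Matrix.exists_mulVec_eq_zero_iff.2 h0
    refine hy0 (eq_zero_of_polar hQ fun z => ?_)
    have h1 : ∀ l, polar (⇑Q) y (Pi.single l 1) = (G *ᵥ y) l := fun l => by
      show polarBilin Q y (Pi.single l 1) = _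
      conv_lhs => rw [pi_eq_sum_univ' y]
      simp [Matrix.mulVec, dotProduct, G, map_sum, LinearMap.sum_apply, mul_comm]
    have h2 : polarBilin Q y = 0 := (Pi.basisFun F ι).ext fun l => by
      rw [Pi.basisFun_apply, LinearMap.zero_apply]
      exact (h1 l).trans (congrFun hy l)
    exact LinearMap.congr_fun h2 z
  have hz : G.map i *ᵥ x = 0 := funext fun l => by
    have h1 : polar (⇑Q') x (Pi.single l 1) = (G.map i *ᵥ x) l := by
      show polarBilin Q' x (Pi.single l 1) = _
      conv_lhs => rw [pi_eq_sum_univ' x]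
      have e : ∀ j, (Pi.single j 1 : ι → K) = fun k => i ((Pi.single j 1 : ι → F) k) := fun j => by
        funext k
        by_cases hk : k = j <;> simp [hk]
      have e' : ∀ j, polarBilin Q' (Pi.single j 1) (Pi.single l 1) = i (G l j) := fun j => by
        rw [e j, e l]
        exact polar_map_sub h _ _
      simp only [map_sum, LinearMap.sum_apply, map_smul, LinearMap.smul_apply, smul_eq_mul, e']
      simp [Matrix.mulVec, dotProduct, mul_comm]
    exact h1.symm.trans (hx _)
  exact Matrix.eq_zero_of_mulVec_eq_zero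
    (fun h0 => hdet (i.injective (by rw [map_zero, RingHom.map_det, RingHom.mapMatrix_apply]; exact h0))) hz

/-- Base change of a similitude. -/
def Sim.map {K : Type*} [Field K] (i : F →+* K) {P Q : QuadraticForm F (ι → F)} {P' Q' : QuadraticForm K (ι → K)}
    (e : Sim P Q) (hP : ∀ v : ι → F, P' (fun j => i (v j)) = i (P v))
    (hQ : ∀ v : ι → F, Q' (fun j => i (v j)) = i (Q v)) : Sim P' Q' where
  H := Matrix.GeneralLinearGroup.map i e.H
  c := i e.c
  c_ne := (map_ne_zero i).2 e.c_ne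
  map_Q v := by
    have h := qf_ext_sub i (Q₁ := Q'.comp (Matrix.toLin' (e.H.1.map i))) (Q₂ := i e.c • P') fun w => by
      show Q' (e.H.1.map i *ᵥ fun j => i (w j)) = i e.c • P' (fun j => i (w j))
      rw [mulVec_map_apply, hQ, e.map_Q, hP, map_mul, smul_eq_mul]
    exact QuadraticMap.congr_fun h v

theorem Sim.go_mapGO {K : Type*} [Field K] (i : F →+* K) {P Q : QuadraticForm F (ι → F)}
    {P' Q' : QuadraticForm K (ι → K)} (e : Sim P Q) (hP : ∀ v : ι → F, P' (fun j => i (v j)) = i (P v))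
    (hQ : ∀ v : ι → F, Q' (fun j => i (v j)) = i (Q v)) (g : Geo.quadSimilarityGroup (F := F) (⇑P)) :
    mapGO hQ (e.go g) = (e.map i hP hQ).go (mapGO hP g) := Subtype.ext (by
  show Matrix.GeneralLinearGroup.map i (e.H * g.1 * e.H⁻¹) = _
  rw [map_mul, map_mul, map_inv]
  rfl)

variable [Finite F]

/-- The parity is kept by similitudes. -/
theorem Hyp.parG_go {P Q : QuadraticForm F (ι → F)} {m : ℕ} {U W : Submodule F (ι → F)} (hP : Hyp P m U)
    (hQ : Hyp Q m W) (e : Sim P Q) (g : Geo.quadSimilarityGroup (F := F) (⇑P)) : hQ.parG (e.go g) = hP.parG g := by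
  set L := Matrix.toLin' e.H.1
  have hL : Function.Injective L := fun x y hxy => by
    have := congrArg ((e.H⁻¹).1 *ᵥ ·) hxy
    simpa [L, Matrix.mulVec_mulVec] using this
  have hQ' : Hyp Q m (U.map L) := ⟨hQ.nondeg, hQ.big, hQ.dim, by
    rintro _ ⟨u, hu, rfl⟩
    show Q (e.H.1 *ᵥ u) = 0
    rw [e.map_Q, hP.ms.1 u hu, mul_zero],
    by rw [LinearEquiv.finrank_eq (U.equivMapOfInjective L hL).symm, hP.ms.2]⟩
  have heq : hQ.parG (e.go g) = hQ'.parG (e.go g) := by
    have h1 := (hQ.preserves_iff (e.go g)).symm.trans (hQ'.preserves_iff (e.go g))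
    rcases Int.units_eq_one_or (hQ.parG (e.go g)) with h | h <;>
      rcases Int.units_eq_one_or (hQ'.parG (e.go g)) with h' | h'
    · rw [h, h']
    · exact h.trans (h1.1 h).symm
    · exact (h1.2 h').trans h'.symm
    · rw [h, h']
  rw [heq, hQ'.parG_eq_psign, hP.parG_eq_psign, ← Submodule.map_comp]
  have hc : (Matrix.toLin' (e.go g).1.1).comp L = L.comp (Matrix.toLin' g.1.1) := LinearMap.ext fun v => e.go_app g v
  rw [hc, Submodule.map_comp]
  exact psign_map_map m U _ hL

end General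

section Minus

variable {F : Type*} [Field F] {m : ℕ}

/-- Multiplication by an element of the quadratic algebra, completed by a dilation of half of the pairs. -/
def cLin (a b : F) (w : F × F) : ((Fin m ⊕ Fin m) ⊕ Fin 2 → F) →ₗ[F] ((Fin m ⊕ Fin m) ⊕ Fin 2 → F) where
  toFun v := Sum.elim (Sum.elim (fun j => binForm a b w * v (.inl (.inl j))) (fun j => v (.inl (.inr j))))
    ![w.1 * v (.inr 0) - b * w.2 * v (.inr 1), w.2 * v (.inr 0) + (w.1 + a * w.2) * v (.inr 1)]
  map_add' u v := by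
    funext l
    rcases l with (j | j) | j
    · simp [mul_add]
    · simp
    · fin_cases j <;> simp <;> ring
  map_smul' r v := by
    funext l
    rcases l with (j | j) | j
    · simp; ring
    · simp
    · fin_cases j <;> simp <;> ring

theorem cLin_map {K : Type*} [Field K] (i : F →+* K) (a b : F) (w : F × F) (v : (Fin m ⊕ Fin m) ⊕ Fin 2 → F) :
    cLin (i a) (i b) (i w.1, i w.2) (fun j => i (v j)) = fun j => i (cLin a b w v j) := by
  funext l
  rcases l with (j | j) | j
  · simp [cLin, binForm_apply]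
  · simp [cLin]
  · fin_cases j <;> simp [cLin]

theorem qMinus_cLin (a b : F) (w : F × F) (v : (Fin m ⊕ Fin m) ⊕ Fin 2 → F) :
    qMinus F m a b (cLin a b w v) = binForm a b w * qMinus F m a b v := by
  simp [qMinus_apply, Cfsg.quadFormMinus, cLin, binForm_apply, mul_add, Finset.mul_sum, mul_assoc]
  ring

/-- The singular half over a field where the binary part has a root. -/
def minusU (ρ : F) : Submodule F ((Fin m ⊕ Fin m) ⊕ Fin 2 → F) where
  carrier := {v | (∀ j, v (.inl (.inr j)) = 0) ∧ v (.inr 0) = ρ * v (.inr 1)}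
  zero_mem' := ⟨fun _ => rfl, by simp⟩
  add_mem' {u v} hu hv := ⟨fun j => by simp [hu.1 j, hv.1 j], by simp [hu.2, hv.2, mul_add]⟩
  smul_mem' r v hv := ⟨fun j => by simp [hv.1 j], by simp [hv.2]; ring⟩

theorem isMS_minusU {a b ρ : F} (hρ : ρ ^ 2 + a * ρ + b = 0) : IsMS (qMinus F m a b) (m + 1) (minusU ρ) := by
  refine ⟨fun u hu => ?_, ?_⟩
  · rw [qMinus_apply, Cfsg.quadFormMinus]
    simp only [hu.1, mul_zero, Finset.sum_const_zero, zero_add, hu.2]
    linear_combination (u (.inr 1)) ^ 2 * hρ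
  · let e : minusU (m := m) ρ ≃ₗ[F] ((Fin m → F) × F) :=
      { toFun := fun u => (fun j => u.1 (.inl (.inl j)), u.1 (.inr 1))
        map_add' := fun _ _ => rfl
        map_smul' := fun _ _ => rfl
        invFun := fun x => ⟨Sum.elim (Sum.elim x.1 0) ![ρ * x.2, x.2], fun _ => rfl, by simp⟩
        left_inv := fun u => Subtype.ext (funext fun l => by
          rcases l with (j | j) | j
          · rfl
          · exact (u.2.1 j).symm
          · fin_cases j
            · simpa using u.2.2.symm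
            · rfl)
        right_inv := fun x => by simp }
    rw [e.finrank_eq, Module.finrank_prod, Module.finrank_fin_fun, Module.finrank_self]

theorem hyp_minusK {K : Type*} [Field K] (hm : 3 ≤ m) (i : F →+* K) {a b : F}
    (hQ : (polarBilin (qMinus F m a b)).Nondegenerate) {ρ : K} (hρ : ρ ^ 2 + i a * ρ + i b = 0) :
    Hyp (qMinus K m (i a) (i b)) (m + 1) (minusU ρ) where
  nondeg := nondeg_map i hQ (qMinus_map i a b)
  big := by omega
  dim := by simp; ring
  ms := isMS_minusU hρ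

/-- A root of the binary part in a quadratic extension. -/
theorem exists_root {K : Type*} [Field K] [Algebra F K] [Finite K] (h : finrank F K = 2) {a b : F}
    (hab : ∀ z₁ z₂ : F, z₁ ^ 2 + a * z₁ * z₂ + b * z₂ ^ 2 = 0 → z₁ = 0 ∧ z₂ = 0) :
    ∃ ρ : K, ρ ^ 2 + algebraMap F K a * ρ + algebraMap F K b = 0 := by
  haveI : Fact (∀ r : F, r ^ 2 ≠ -b + -a * r) :=
    ⟨fun r hr => one_ne_zero (hab r 1 (by linear_combination hr)).2⟩
  obtain ⟨f⟩ := FiniteField.nonempty_algHom_of_finrank_dvd (F := F) (K := QuadraticAlgebra F (-b) (-a)) (L := K)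
    (by rw [QuadraticAlgebra.finrank_eq_two, h])
  refine ⟨f QuadraticAlgebra.omega, ?_⟩
  have := congrArg f (QuadraticAlgebra.omega_mul_omega_eq_algebraMap (a := -b) (b := -a))
  rw [map_mul, map_add, map_mul, f.commutes, f.commutes, map_neg, map_neg] at this
  linear_combination this

/-- Being multiplication by an element of the quadratic algebra. -/
def IsCanon (a b : F) (g : Geo.quadSimilarityGroup (F := F) (⇑(qMinus F m a b))) : Prop :=
  ∃ w, binForm a b w ≠ 0 ∧ ∀ v, g.1.1 *ᵥ v = cLin a b w v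

theorem isCanon_map {K : Type*} [Field K] (i : F →+* K) {a b : F}
    {g : Geo.quadSimilarityGroup (F := F) (⇑(qMinus F m a b))} (hg : IsCanon a b g) :
    IsCanon (i a) (i b) (mapGO (qMinus_map (m := m) i a b) g) := by
  obtain ⟨w, hw, h⟩ := hg
  refine ⟨(i w.1, i w.2), ?_, fun v => ?_⟩
  · rw [binForm_apply] at hw ⊢
    rw [← map_pow, ← map_pow, ← map_mul, ← map_mul, ← map_mul, ← map_add, ← map_add]
    exact (map_ne_zero i).2 hw
  · have e : g.1.1.map i = LinearMap.toMatrix' (cLin (m := m) (i a) (i b) (i w.1, i w.2)) :=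
      Matrix.ext_of_mulVec_single fun l => by
        have e1 : (Pi.single l 1 : _ → K) = fun j => i ((Pi.single l 1 : _ → F) j) := by
          funext j
          by_cases hj : j = l <;> simp [hj]
        rw [LinearMap.toMatrix'_mulVec, e1, mulVec_map_apply, cLin_map, h]
    rw [mat_mapGO, e, LinearMap.toMatrix'_mulVec]

theorem parG_canon [Finite F] (hm : 3 ≤ m) {a b ρ : F} (hρ : ρ ^ 2 + a * ρ + b = 0)
    (hH : Hyp (qMinus F m a b) (m + 1) (minusU ρ))
    {g : Geo.quadSimilarityGroup (F := F) (⇑(qMinus F m a b))} (hg : IsCanon a b g) : hH.parG g = 1 := by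
  obtain ⟨w, hw, h⟩ := hg
  have hinj : Function.Injective (Matrix.toLin' g.1.1) := fun x y hxy => by
    have := congrArg ((g.1⁻¹).1 *ᵥ ·) hxy
    simpa [Matrix.mulVec_mulVec] using this
  have hmap : (minusU (m := m) ρ).map (Matrix.toLin' g.1.1) = minusU ρ := by
    refine Submodule.eq_of_le_of_finrank_le ?_ (LinearEquiv.finrank_eq
      (Submodule.equivMapOfInjective _ hinj (minusU (m := m) ρ))).le
    rintro _ ⟨u, ⟨hu1, hu2⟩, rfl⟩
    rw [Matrix.toLin'_apply, h]
    refine ⟨fun j => by simp [cLin, hu1], ?_⟩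
    simp only [cLin, LinearMap.coe_mk, AddHom.coe_mk, Sum.elim_inr, Matrix.cons_val_zero, Matrix.cons_val_one,
      Matrix.cons_val_fin_one, hu2]
    linear_combination -(w.2 * u (.inr 1)) * hρ
  rw [hH.parG_eq_psign, hmap, psign_self hH.ms.2]

variable [Finite F] (hm : 3 ≤ m) {a b : F}
  (hab : ∀ z₁ z₂ : F, z₁ ^ 2 + a * z₁ * z₂ + b * z₂ ^ 2 = 0 → z₁ = 0 ∧ z₂ = 0)
include hm hab

theorem hexM : Nat.card F ≠ 2 ∨ finrank F ((Fin m ⊕ Fin m) ⊕ Fin 2 → F) ≠ 4 := Or.inr (by simp; omega)

omit hm in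
theorem exists_binForm_eq (c : Fˣ) : ∃ w, binForm a b w = (c : F) := by
  by_cases h2 : (2 : F) = 0
  · haveI := CharTwo.of_one_ne_zero_of_two_eq_zero one_ne_zero h2
    obtain ⟨s, hs⟩ := FiniteField.isSquare_of_char_two (ringChar.eq F 2) (c : F)
    exact ⟨(s, 0), by rw [binForm_apply, hs]; ring⟩
  · exact exists_value (nondeg_binForm hab) h2 (by rw [Module.finrank_prod, Module.finrank_self]) c.ne_zero

theorem exists_canon_mult (c : Fˣ) : ∃ g, IsCanon a b g ∧ mult (ctx_minus hm hab) g = c := by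
  obtain ⟨w, hw⟩ := exists_binForm_eq hab c
  have hw0 : binForm a b w ≠ 0 := hw ▸ c.ne_zero
  have hinj : Function.Injective (cLin (m := m) a b w) := (injective_iff_map_eq_zero _).2 fun v hv => by
    have e : ∀ l, cLin a b w v l = 0 := fun l => congrFun hv l
    have e0 := e (.inr 0)
    have e1 := e (.inr 1)
    simp only [cLin, LinearMap.coe_mk, AddHom.coe_mk, Sum.elim_inr, Matrix.cons_val_zero, Matrix.cons_val_one,
      Matrix.cons_val_fin_one] at e0 e1
    have h0 : binForm a b w * binForm a b (v (.inr 0), v (.inr 1)) = 0 := by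
      rw [binForm_apply, binForm_apply]
      linear_combination (w.1 * v (.inr 0) - b * w.2 * v (.inr 1) + a * (w.2 * v (.inr 0) + (w.1 + a * w.2) * v (.inr 1))) * e0 +
        b * (w.2 * v (.inr 0) + (w.1 + a * w.2) * v (.inr 1)) * e1
    rw [mul_eq_zero, or_iff_right hw0, binForm_apply] at h0
    obtain ⟨z0, z1⟩ := hab _ _ h0
    funext l
    rcases l with (j | j) | j
    · simpa [cLin, hw0] using e (.inl (.inl j))
    · simpa [cLin] using e (.inl (.inr j))
    · fin_cases j
      · exact z0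
      · exact z1
  let g : GL ((Fin m ⊕ Fin m) ⊕ Fin 2) F := Matrix.GeneralLinearGroup.mkOfDetNeZero
    (LinearMap.toMatrix' (cLin a b w)) fun h0 => by
      obtain ⟨v, hv0, hv⟩ := Matrix.exists_mulVec_eq_zero_iff.2 h0
      rw [LinearMap.toMatrix'_mulVec] at hv
      exact hv0 (hinj (hv.trans (map_zero _).symm))
  have hg : ∀ v, g.1 *ᵥ v = cLin a b w v := fun v => LinearMap.toMatrix'_mulVec _ _
  refine ⟨⟨g, c, fun v => by rw [hg, qMinus_cLin, hw]⟩, ⟨w, hw0, hg⟩, mult_eq _ fun v => ?_⟩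
  show qMinus F m a b (g.1 *ᵥ v) = _
  rw [hg, qMinus_cLin, hw]

/-- The two properties that determine the parity. -/
def IsParM (χ : Geo.quadSimilarityGroup (F := F) (⇑(qMinus F m a b)) →* ℤˣ) : Prop :=
  (∀ s, χ (isoToSim s) = dickson (ctx_minus hm hab).nondeg (hexM hm hab) (oEquiv _ s)) ∧ ∀ g, IsCanon a b g → χ g = 1

theorem isParM_unique {χ χ' : Geo.quadSimilarityGroup (F := F) (⇑(qMinus F m a b)) →* ℤˣ}
    (h : IsParM hm hab χ) (h' : IsParM hm hab χ') : χ = χ' := MonoidHom.ext fun g => by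
  obtain ⟨k, hk, hkm⟩ := exists_canon_mult hm hab (mult (ctx_minus hm hab) g)
  have : k⁻¹ * g ∈ (mult (ctx_minus hm hab)).ker := by rw [MonoidHom.mem_ker, map_mul, map_inv, hkm, inv_mul_cancel]
  rw [ker_mult] at this
  obtain ⟨s, hs⟩ := this
  rw [show g = k * isoToSim s by rw [hs, mul_inv_cancel_left], map_mul, map_mul, h.1, h'.1, h.2 k hk, h'.2 k hk]

theorem isParM_ext {K : Type*} [Field K] [Finite K] (i : F →+* K) {ρ : K} (hρ : ρ ^ 2 + i a * ρ + i b = 0) :
    IsParM hm hab ((hyp_minusK hm i (ctx_minus hm hab).nondeg hρ).parG.comp (mapGO (qMinus_map i a b))) := by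
  set hH := hyp_minusK hm i (ctx_minus hm hab).nondeg hρ
  refine ⟨fun s => ?_, fun g hg => parG_canon hm hρ hH (isCanon_map i hg)⟩
  rw [MonoidHom.comp_apply, show mapGO (qMinus_map (m := m) i a b) (isoToSim s) = isoToSim (mapI (qMinus_map i a b) s)
    from Subtype.ext rfl, hH.parG_iso, dickson_mapI]

theorem exists_parM : ∃ χ, IsParM hm hab χ := by
  haveI : Fact (∀ r : F, r ^ 2 ≠ -b + -a * r) :=
    ⟨fun r hr => one_ne_zero (hab r 1 (by linear_combination hr)).2⟩
  haveI : Finite (QuadraticAlgebra F (-b) (-a)) :=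
    Finite.of_equiv _ (QuadraticAlgebra.equivProd (-b) (-a)).symm
  obtain ⟨ρ, hρ⟩ := exists_root (F := F) (K := QuadraticAlgebra F (-b) (-a)) (QuadraticAlgebra.finrank_eq_two (R := F) (-b) (-a)) hab
  exact ⟨_, isParM_ext hm hab _ hρ⟩

/-- The parity of a similarity of the minus space. -/
noncomputable def parM : Geo.quadSimilarityGroup (F := F) (⇑(qMinus F m a b)) →* ℤˣ := (exists_parM hm hab).choose

theorem isParM_parM : IsParM hm hab (parM hm hab) := (exists_parM hm hab).choose_spec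

theorem parM_eq {K : Type*} [Field K] [Finite K] (i : F →+* K) {ρ : K} (hρ : ρ ^ 2 + i a * ρ + i b = 0)
    (g : Geo.quadSimilarityGroup (F := F) (⇑(qMinus F m a b))) :
    (hyp_minusK hm i (ctx_minus hm hab).nondeg hρ).parG (mapGO (qMinus_map i a b) g) = parM hm hab g :=
  DFunLike.congr_fun (isParM_unique hm hab (isParM_ext hm hab i hρ) (isParM_parM hm hab)) g

theorem parM_iso (s : Cfsg.isometryGroup F ⇑(qMinus F m a b)) :
    parM hm hab (isoToSim s) = dickson (ctx_minus hm hab).nondeg (hexM hm hab) (oEquiv _ s) :=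
  (isParM_parM hm hab).1 s

/-- The parity is kept by base change. -/
theorem parM_mapGO {K : Type*} [Field K] [Finite K] (i : F →+* K)
    (habK : ∀ z₁ z₂ : K, z₁ ^ 2 + i a * z₁ * z₂ + i b * z₂ ^ 2 = 0 → z₁ = 0 ∧ z₂ = 0)
    (g : Geo.quadSimilarityGroup (F := F) (⇑(qMinus F m a b))) :
    parM hm habK (mapGO (qMinus_map i a b) g) = parM hm hab g := by
  refine DFunLike.congr_fun (isParM_unique hm hab (χ := (parM hm habK).comp (mapGO (qMinus_map i a b)))
    ⟨fun s => ?_, fun g hg => (isParM_parM hm habK).2 _ (isCanon_map i hg)⟩ (isParM_parM hm hab)) g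
  rw [MonoidHom.comp_apply, show mapGO (qMinus_map (m := m) i a b) (isoToSim s) = isoToSim (mapI (qMinus_map i a b) s)
    from Subtype.ext rfl, parM_iso, dickson_mapI]

/-- Preserving the classes over a quadratic extension means trivial parity. -/
theorem preservesMinus_iff (g : Geo.quadSimilarityGroup (F := F) (⇑(qMinus F m a b))) :
    Cfsg.PreservesSingularClassesMinus m a b g.1.1 ↔ parM hm hab g = 1 := by
  constructor
  · rintro ⟨K, hfK, hA, h2, h⟩
    haveI : Module.Finite F K := Module.finite_of_finrank_pos (by omega)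
    haveI : Finite K := Module.finite_of_finite F
    obtain ⟨ρ, hρ⟩ := exists_root h2 hab
    rw [← parM_eq hm hab (algebraMap F K) hρ]
    exact ((hyp_minusK hm _ (ctx_minus hm hab).nondeg hρ).preserves_iff (mapGO (qMinus_map (algebraMap F K) a b) g)).1 h
  · intro h
    haveI : Fact (∀ r : F, r ^ 2 ≠ -b + -a * r) :=
      ⟨fun r hr => one_ne_zero (hab r 1 (by linear_combination hr)).2⟩
    haveI : Finite (QuadraticAlgebra F (-b) (-a)) :=
      Finite.of_equiv _ (QuadraticAlgebra.equivProd (-b) (-a)).symm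
    obtain ⟨ρ, hρ⟩ := exists_root (F := F) (K := QuadraticAlgebra F (-b) (-a)) (QuadraticAlgebra.finrank_eq_two (R := F) (-b) (-a)) hab
    refine ⟨QuadraticAlgebra F (-b) (-a), inferInstance, inferInstance, QuadraticAlgebra.finrank_eq_two (R := F) (-b) (-a), ?_⟩
    rw [← parM_eq hm hab _ hρ] at h
    exact ((hyp_minusK hm _ (ctx_minus hm hab).nondeg hρ).preserves_iff (mapGO (qMinus_map _ a b) g)).2 h

/-- The inner-diagonal group of the minus space. -/
theorem inndiag_minus : Cfsg.inndiagPOmegaMinus m F a b = (parM hm hab).ker.map conjA := by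
  refine le_antisymm ((Subgroup.closure_le _).2 ?_) ?_
  · rintro β ⟨g, hg, hp, hi⟩
    exact ⟨⟨g, hg⟩, (preservesMinus_iff hm hab ⟨g, hg⟩).1 hp, ((Semi.ofSim ⟨g, hg⟩).induced_iff.1 hi).symm⟩
  · rintro _ ⟨g, hg, rfl⟩
    exact Subgroup.subset_closure ⟨g.1, g.2, (preservesMinus_iff hm hab g).2 hg, (Semi.ofSim g).induced_iff.2 rfl⟩

/-- The parity is kept by similitudes. -/
theorem parM_go {a' b' : F} (hab' : ∀ z₁ z₂ : F, z₁ ^ 2 + a' * z₁ * z₂ + b' * z₂ ^ 2 = 0 → z₁ = 0 ∧ z₂ = 0)
    (e : Sim (qMinus F m a' b') (qMinus F m a b)) (g : Geo.quadSimilarityGroup (F := F) (⇑(qMinus F m a' b'))) :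
    parM hm hab (e.go g) = parM hm hab' g := by
  haveI : Fact (∀ r : F, r ^ 2 ≠ -b + -a * r) :=
    ⟨fun r hr => one_ne_zero (hab r 1 (by linear_combination hr)).2⟩
  haveI : Finite (QuadraticAlgebra F (-b) (-a)) :=
    Finite.of_equiv _ (QuadraticAlgebra.equivProd (-b) (-a)).symm
  obtain ⟨ρ, hρ⟩ := exists_root (F := F) (K := QuadraticAlgebra F (-b) (-a)) (QuadraticAlgebra.finrank_eq_two (R := F) (-b) (-a)) hab
  obtain ⟨ρ', hρ'⟩ := exists_root (F := F) (K := QuadraticAlgebra F (-b) (-a)) (QuadraticAlgebra.finrank_eq_two (R := F) (-b) (-a)) hab'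
  rw [← parM_eq hm hab _ hρ, ← parM_eq hm hab' _ hρ', e.go_mapGO _ (qMinus_map _ a' b') (qMinus_map _ a b),
    Hyp.parG_go]

end Minus

end Cfsg.Agent.AutPOmega
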