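import Cfsg.Agent.AutPOmega.ClassCoincide
import Cfsg.Agent.AutPOmega.MinusGraph
import Cfsg.Agent.Classical.OrthChar

/-!
Minus spaces of odd characteristic: inner, special and inner-diagonal classes of elements of odd prime order coincide.
-/

set_option autoImplicit false

namespace Cfsg.Agent.AutPOmega

open Module QuadraticMap Classical Classical.Quad Matrix

variable {F : Type*} [Field F] [Fintype F] {m : ℕ} (hm : 3 ≤ m) {a b : F}
  (hab : ∀ z₁ z₂ : F, z₁ ^ 2 + a * z₁ * z₂ + b * z₂ ^ 2 = 0 → z₁ = 0 ∧ z₂ = 0)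
  (hodd : Odd (Fintype.card F))
include hm hab hodd

theorem inn_le_pso_minus :
    Cfsg.Inn (Cfsg.POmega F ⇑(qMinus F m a b)) ≤ Cfsg.psoAut F ⇑(qMinus F m a b) := by
  rw [pso_eq hm hab hodd, inn_eq]
  rintro _ ⟨_, ⟨s, rfl⟩, rfl⟩
  refine ⟨s.1, ?_, rfl⟩
  rw [SetLike.mem_coe, MonoidHom.mem_ker, MonoidHom.comp_apply, parM_iso]
  exact Abelianization.commutator_subset_ker _ ((mem_omega_iff s.1).1 s.2)

theorem pso_le_inndiagM : Cfsg.psoAut F ⇑(qMinus F m a b) ≤ inndiagM hm hab := by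
  rw [pso_eq hm hab hodd]
  rintro _ ⟨s, hs, rfl⟩
  exact ⟨isoToSim s, hs, rfl⟩

theorem minus_coincide {x : MulAut (Cfsg.POmega F ⇑(qMinus F m a b))}
    (hx : x ∈ Cfsg.pgoAut F ⇑(qMinus F m a b)) {r : ℕ} (hro : Odd r) (hrF : (r : F) ≠ 0) (hxr : orderOf x = r) :
    (∀ y, (Cfsg.IsConjUnder (Cfsg.Inn (Cfsg.POmega F ⇑(qMinus F m a b))) x y ↔
        Cfsg.IsConjUnder (inndiagM hm hab) x y) ∧
      (Cfsg.IsConjUnder (Cfsg.psoAut F ⇑(qMinus F m a b)) x y ↔ Cfsg.IsConjUnder (inndiagM hm hab) x y)) ∧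
    ∀ y, Cfsg.IsConjUnder (Cfsg.poAut F ⇑(qMinus F m a b)) x y ↔
      Cfsg.IsConjUnder (Cfsg.pgoAut F ⇑(qMinus F m a b)) x y := by
  classical
  have hc := ctx_minus hm hab
  have h2 := two_ne_zero_of_odd hodd
  have hn : 5 ≤ finrank F ((Fin m ⊕ Fin m) ⊕ Fin 2 → F) := by simp; omega
  obtain ⟨hcard8, hcard⟩ := card_quots hm hab hodd
  rw [pgoAut_eq] at hx ⊢
  obtain ⟨s, hsΩ, rfl, hsr⟩ := exists_omega_lift hc.nondeg h2 hn hx (by
    show Nat.card ((conjA (Q := qMinus F m a b)).range ⧸ (Cfsg.Inn (Cfsg.POmega F ⇑(qMinus F m a b))).subgroupOf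
      (conjA (Q := qMinus F m a b)).range) ∣ 8
    rw [hcard8]; split_ifs <;> norm_num) hro hxr
  obtain ⟨u, hu0, hu⟩ := exists_qs_neg (F := F) h2
  obtain ⟨g, hgs, hgQ, hdet⟩ := exists_central_sim hc.nondeg h2 hn hro hrF hsr (n := m + 1)
    (by simp; omega) (Units.mk0 u hu0)
  have hmu : mult hc g = Units.mk0 u hu0 := mult_eq hc hgQ
  have hgp : parM hm hab g = 1 := by
    have h := det_parM hm hab g
    rw [hdet, hmu] at h
    rcases Int.units_eq_one_or (parM hm hab g) with e | e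
    · exact e
    · exfalso
      rw [e] at h
      simp at h
      exact h2 ((mul_eq_zero.1 (by linear_combination h : (2 : F) * (u : F) ^ (m + 1) = 0)).resolve_right
        (pow_ne_zero _ hu0))
  set d := conjA g
  have hdG : d ∈ inndiagM hm hab := ⟨g, hgp, rfl⟩
  have hdC : d ∈ Subgroup.centralizer {conjA (isoToSim s)} := by
    rw [Subgroup.mem_centralizer_singleton_iff, ← map_mul, ← map_mul, hgs]
  have hdP : d ∉ Cfsg.psoAut F ⇑(qMinus F m a b) := fun hmem => by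
    rw [pso_eq hm hab hodd] at hmem
    obtain ⟨t, -, ht⟩ := hmem
    have h1 : (isoToSim t)⁻¹ * g ∈ (conjA (Q := qMinus F m a b)).ker := by
      rw [MonoidHom.mem_ker, map_mul, map_inv]
      exact inv_mul_eq_one.2 ht
    have h3 := (ker_conjA_le hm hab).2 _ h1
    rw [map_mul, map_inv, show mult hc (isoToSim t) = 1 by rw [← MonoidHom.mem_ker, ker_mult hc]; exact ⟨_, rfl⟩,
      inv_one, one_mul, hmu, Units.val_mk0, ← qs_eq_one, hu] at h3
    exact absurd h3 (by decide)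
  set J := Cfsg.Inn (Cfsg.POmega F ⇑(qMinus F m a b)) ⊔
    (inndiagM hm hab ⊓ Subgroup.centralizer {conjA (isoToSim s)})
  have hKJ : Cfsg.Inn (Cfsg.POmega F ⇑(qMinus F m a b)) ≤ J := le_sup_left
  have hJG : J ≤ inndiagM hm hab := sup_le (inn_le_inndiagM hm hab) inf_le_left
  have hdJ : d ∈ J := Subgroup.mem_sup_right ⟨hdG, hdC⟩
  have hgen : inndiagM hm hab ≤ J := by
    by_cases hz : Fintype.card F ^ (m + 1) % 4 = 3
    · rw [if_pos hz] at hcard hcard8
      obtain ⟨d₀, -, hdd₀, -⟩ := exists_gen_mk hm hab hz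
      refine gen_of_cyclic_four (quot_cyclic_four (inn_le_inndiagM hm hab) hcard d₀.2 hdd₀)
        (inn_le_pso_minus hm hab hodd) (pso_le_inndiagM hm hab hodd) ?_ hKJ hJG hdJ hdP
      have h1 := Subgroup.relIndex_mul_relIndex _ _ _ (inn_le_pso_minus hm hab hodd)
        ((pso_le_inndiagM hm hab hodd).trans (show inndiagM hm hab ≤ (conjA (Q := qMinus F m a b)).range by
          rintro _ ⟨g, -, rfl⟩; exact ⟨g, rfl⟩))
      obtain ⟨φ, hs, hk⟩ := pgo_pso hm hab hodd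
      have h4 : (Cfsg.psoAut F ⇑(qMinus F m a b)).relIndex (Cfsg.pgoAut F ⇑(qMinus F m a b)) = 4 := by
        show ((Cfsg.psoAut F ⇑(qMinus F m a b)).subgroupOf _).index = 4
        rw [← hk, Subgroup.index_ker, MonoidHom.range_eq_top.2 hs, Subgroup.card_top]
        simp [Nat.card_eq_fintype_card]
      rw [pgoAut_eq] at h4
      have h8 : (Cfsg.Inn (Cfsg.POmega F ⇑(qMinus F m a b))).relIndex (conjA (Q := qMinus F m a b)).range = 8 :=
        hcard8
      rw [h4, h8] at h1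
      omega
    · rw [if_neg hz] at hcard
      exact gen_of_two hcard hKJ hJG hdJ fun h => hdP (inn_le_pso_minus hm hab hodd h)
  refine classes_coincide (inn_le_pso_minus hm hab hodd) (pso_le_inndiagM hm hab hodd) ?_ ?_ ?_ ?_ hgen
  · rw [inn_eq]
    rintro _ ⟨_, ⟨t, rfl⟩, rfl⟩
    exact Subgroup.subset_closure ⟨t.1.1, t.1.2, (Semi.ofSim (isoToSim t.1)).induced_iff.2 rfl⟩
  · rintro _ ⟨k, -, rfl⟩; exact ⟨k, rfl⟩
  · refine (Subgroup.closure_le _).2 ?_
    rintro β ⟨k, hk, hi⟩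
    exact ⟨isoToSim ⟨k, hk⟩, ((Semi.ofSim (isoToSim ⟨k, hk⟩)).induced_iff.1 hi).symm⟩
  · rintro _ ⟨k, rfl⟩
    rcases Int.units_eq_one_or (parM hm hab k) with e | e
    · exact Or.inl ⟨k, e, rfl⟩
    · let v₀ : (Fin m ⊕ Fin m) ⊕ Fin 2 → F := Pi.single (.inr 0) 1
      have hv₀ : qMinus F m a b v₀ ≠ 0 := by simp [v₀, qMinus_apply, Cfsg.quadFormMinus]
      set σ := (oEquiv (qMinus F m a b)).symm (rO hv₀)
      refine Or.inr ⟨conjA (isoToSim σ),
        Subgroup.subset_closure ⟨σ.1, σ.2, (Semi.ofSim (isoToSim σ)).induced_iff.2 rfl⟩,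
        (isoToSim σ)⁻¹ * k, ?_, by rw [map_mul, map_inv]⟩
      rw [SetLike.mem_coe, MonoidHom.mem_ker, map_mul, map_inv, parM_iso, MulEquiv.apply_symm_apply, dickson_rO, e]
      decide

end Cfsg.Agent.AutPOmega
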