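import Cfsg.Agent.AutPOmega.MinusOut

/-!
The outer automorphism group of a minus group in the dihedral case.
-/

set_option autoImplicit false

namespace Cfsg.Agent.AutPOmega

open Module QuadraticMap Classical.Quad Matrix

variable {F : Type*} [Field F] [Fintype F] {m : ℕ}

/-- A vector of the elliptic plane. -/
abbrev bin (c : Fin 2 → F) : (Fin m ⊕ Fin m) ⊕ Fin 2 → F := Sum.elim (0 : Fin m ⊕ Fin m → F) c

omit [Fintype F] in
theorem polar_binary (x : (Fin m ⊕ Fin m) ⊕ Fin 2 → F) (c : Fin 2 → F) :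
    polar (⇑(qMinus F m 0 1)) x (bin (m := m) c) = 2 * (c 0 * x (.inr 0) + c 1 * x (.inr 1)) := by
  simp [polar, bin, qMinus_apply, Cfsg.quadFormMinus]
  ring

theorem q_binary (c : Fin 2 → F) : qMinus F m 0 1 (bin (m := m) c) = c 0 ^ 2 + c 1 ^ 2 := by
  simp [qMinus_apply, Cfsg.quadFormMinus]

theorem not_isSquare_neg_one (h4 : Fintype.card F % 4 = 3) : ¬ IsSquare (-1 : F) := fun h => by
  rw [FiniteField.isSquare_neg_one_iff] at h
  exact h h4

theorem model_aniso (h4 : Fintype.card F % 4 = 3) :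
    ∀ z₁ z₂ : F, z₁ ^ 2 + 0 * z₁ * z₂ + 1 * z₂ ^ 2 = 0 → z₁ = 0 ∧ z₂ = 0 := fun z₁ z₂ h => by
  rw [zero_mul, zero_mul, add_zero, one_mul] at h
  by_cases h2 : z₂ = 0
  · subst h2; exact ⟨by simpa using h, rfl⟩
  · exact absurd ⟨z₁ / z₂, by field_simp; linear_combination -h⟩ (not_isSquare_neg_one h4)

variable (hm : 3 ≤ m)
include hm

/-- The two generators in the model. -/
theorem exists_model_gens (h4 : Fintype.card F % 4 = 3) (hz : Fintype.card F ^ (m + 1) % 4 = 3) :
    ∃ (g : Geo.quadSimilarityGroup (F := F) (⇑(qMinus F m 0 1))) (s : Cfsg.isometryGroup F ⇑(qMinus F m 0 1)),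
      parM hm (model_aniso h4) g = 1 ∧ parM hm (model_aniso h4) (isoToSim s) = -1 ∧ s * s = 1 ∧
      conjA g * conjA g ∉ Cfsg.Inn (Cfsg.POmega F ⇑(qMinus F m 0 1)) ∧
      conjA (isoToSim s) * conjA g * conjA (isoToSim s) * conjA g ∈ Cfsg.Inn (Cfsg.POmega F ⇑(qMinus F m 0 1)) := by
  classical
  have hab := model_aniso h4
  have hc := ctx_minus hm hab
  have hodd : Odd (Fintype.card F) := Nat.odd_iff.2 (by omega)
  have h2 := two_ne_zero_of_odd hodd
  have hn2 : 2 ≤ finrank F ((Fin m ⊕ Fin m) ⊕ Fin 2 → F) := by simp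
  obtain ⟨g, hg, hgm⟩ := exists_canon_mult hm hab (-1)
  have hgp : parM hm hab g = 1 := (isParM_parM hm hab).2 g hg
  obtain ⟨w, hw0, hw⟩ := hg
  have hwN : binForm (0 : F) 1 w = -1 := by
    have h := mult_eq hc (g := g) (c := Units.mk0 _ hw0) fun v => by rw [hw, qMinus_cLin]; rfl
    rw [hgm] at h
    exact (congrArg Units.val h).symm
  have hN : w.1 ^ 2 + w.2 ^ 2 = -1 := by rw [binForm_apply] at hwN; linear_combination hwN
  have hu : qMinus F m 0 1 (bin (m := m) ![1, 0]) ≠ 0 := by rw [q_binary]; simp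
  have hu' : qMinus F m 0 1 (bin (m := m) ![0, 1]) ≠ 0 := by rw [q_binary]; simp
  have hv : qMinus F m 0 1 (bin (m := m) ![-w.2, w.1]) ≠ 0 := by
    rw [q_binary]
    intro h
    refine one_ne_zero (α := F) ?_
    simp only [Matrix.cons_val_zero, Matrix.cons_val_one, Matrix.cons_val_fin_one] at h
    linear_combination -1 * h + hN
  have hsp : ∀ (c : Fin 2 → F) (hc' : qMinus F m 0 1 (bin (m := m) c) ≠ 0),
      spin (qMinus F m 0 1) (rO hc') = if IsSquare (c 0 ^ 2 + c 1 ^ 2) then -1 else 1 := fun c hc' => by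
    rw [spin_rO h2, q_binary]; congr 1
  set s := (oEquiv (qMinus F m 0 1)).symm (rO hu) with hs
  have hR : ∀ (c : Fin 2 → F) (hc' : qMinus F m 0 1 (bin (m := m) c) ≠ 0) x,
      (rO hc').1 x = x - (2 * (c 0 * x (.inr 0) + c 1 * x (.inr 1)) / (c 0 ^ 2 + c 1 ^ 2)) • bin (m := m) c :=
    fun c hc' x => by rw [rO_apply, polar_binary, q_binary]
  have hsx : ∀ x, s.1.1 *ᵥ x = (rO hu).1 x := fun x => by
    rw [hs, ← oEquiv_apply, MulEquiv.apply_symm_apply]
  refine ⟨g, s, hgp, by rw [parM_iso, hs, MulEquiv.apply_symm_apply, dickson_rO],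
    by rw [hs, ← map_mul, rO_mul_self, map_one], ?_, ?_⟩
  · intro hmem
    set t := (oEquiv (qMinus F m 0 1)).symm (rO hv * rO hu) with ht
    have e : g * g = isoToSim t := Subtype.ext (Units.ext (Matrix.ext_of_mulVec_single fun l => by
      show (g.1.1 * g.1.1) *ᵥ _ = t.1.1 *ᵥ _
      generalize (Pi.single l 1 : (Fin m ⊕ Fin m) ⊕ Fin 2 → F) = x
      rw [← Matrix.mulVec_mulVec, hw, hw, ht, ← oEquiv_apply, MulEquiv.apply_symm_apply]
      show _ = (rO hv).1 ((rO hu).1 x)
      rw [hR, hR]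
      funext l
      rcases l with (j | j) | j
      · simp [cLin, hwN]
      · simp [cLin]
      · fin_cases j <;> simp [cLin, show w.2 ^ 2 + w.1 ^ 2 = -1 by linear_combination hN, neg_div] <;> grind))
    rw [← map_mul, e] at hmem
    obtain ⟨σ, c, hcc, hσ⟩ := exists_scalar_of_mem_inn hc hmem
    have htd : dickson hc.nondeg (hex_of_two h2 _) (oEquiv _ t) = 1 ∧ spin (qMinus F m 0 1) (oEquiv _ t) = -1 := by
      rw [ht, MulEquiv.apply_symm_apply, map_mul, map_mul, dickson_rO, dickson_rO, hsp, hsp]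
      refine ⟨by decide, ?_⟩
      rw [if_neg, if_pos]
      · decide
      · exact ⟨1, by simp⟩
      · simp only [Matrix.cons_val_zero, Matrix.cons_val_one, Matrix.cons_val_fin_one]
        rw [show (-w.2) ^ 2 + w.1 ^ 2 = -1 by linear_combination hN]
        exact not_isSquare_neg_one h4
    have hmemO : t ∈ Cfsg.Omega F ⇑(qMinus F m 0 1) := by
      rcases mul_self_eq_one_iff.1 hcc with rfl | rfl
      · rw [show t = σ.1 from Subtype.ext (Units.ext (by rw [hσ, one_smul]))]
        exact σ.2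
      · obtain ⟨n₀, hn₀, hn₁⟩ : ∃ n : Cfsg.isometryGroup F ⇑(qMinus F m 0 1), n ∈ Cfsg.Omega F ⇑(qMinus F m 0 1) ∧
            ((n : GL ((Fin m ⊕ Fin m) ⊕ Fin 2) F) :
              Matrix ((Fin m ⊕ Fin m) ⊕ Fin 2) ((Fin m ⊕ Fin m) ⊕ Fin 2) F) = -1 :=
          (neg_one_mem_iff hm hab hodd).2 hz
        rw [show t = n₀ * σ.1 from Subtype.ext (Units.ext (by
          show _ = n₀.1.1 * mat σ
          rw [hσ, hn₁, neg_smul, one_smul, Matrix.neg_mul, Matrix.one_mul]))]
        exact mul_mem hn₀ σ.2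
    have := ((mem_commutator_iff hc.nondeg h2 hn2 _).1 ((mem_omega_iff t).1 hmemO)).2
    rw [htd.2] at this
    exact absurd this (by decide)
  · set t := (oEquiv (qMinus F m 0 1)).symm (rO hu' * rO hu) with ht
    have e : isoToSim s * g * isoToSim s * g = isoToSim t :=
      Subtype.ext (Units.ext (Matrix.ext_of_mulVec_single fun l => by
        show (s.1.1 * g.1.1 * s.1.1 * g.1.1) *ᵥ _ = t.1.1 *ᵥ _
        generalize (Pi.single l 1 : (Fin m ⊕ Fin m) ⊕ Fin 2 → F) = x
        rw [← Matrix.mulVec_mulVec, ← Matrix.mulVec_mulVec, ← Matrix.mulVec_mulVec, hw, hw, hsx, hsx, ht,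
          ← oEquiv_apply, MulEquiv.apply_symm_apply]
        show _ = (rO hu').1 ((rO hu).1 x)
        rw [hR, hR, hR, hR]
        funext l
        rcases l with (j | j) | j
        · simp [cLin, hwN]
        · simp [cLin]
        · fin_cases j <;> simp [cLin] <;> grind))
    rw [← map_mul, ← map_mul, ← map_mul, e]
    refine mem_inn_of_omega ((mem_omega_iff _).2 ((mem_commutator_iff hc.nondeg h2 hn2 _).2 ⟨?_, ?_⟩))
    · rw [ht, MulEquiv.apply_symm_apply, map_mul, dickson_rO, dickson_rO]; decide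
    · rw [ht, MulEquiv.apply_symm_apply, map_mul, hsp, hsp, if_pos ⟨1, by simp⟩, if_pos ⟨1, by simp⟩]; decide

omit hm in
theorem card_mod_four (hz : Fintype.card F ^ (m + 1) % 4 = 3) : Fintype.card F % 4 = 3 ∧ Odd (m + 1) := by
  have h := hz
  rw [Nat.pow_mod] at h
  have hlt : Fintype.card F % 4 < 4 := Nat.mod_lt _ (by norm_num)
  interval_cases hc : Fintype.card F % 4
  · simp at h
  · simp at h
  · rcases Nat.eq_zero_or_pos m with rfl | hm0
    · simp at h
    · obtain ⟨j, hj⟩ : ∃ j, m + 1 = j + 2 := ⟨m - 1, by omega⟩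
      rw [hj, pow_add, Nat.mul_mod] at h
      norm_num at h
  · refine ⟨rfl, Nat.not_even_iff_odd.1 fun ⟨i, hi⟩ => ?_⟩
    rw [hi, ← two_mul, pow_mul, Nat.pow_mod] at h
    norm_num at h

variable {a b : F} (hab : ∀ z₁ z₂ : F, z₁ ^ 2 + a * z₁ * z₂ + b * z₂ ^ 2 = 0 → z₁ = 0 ∧ z₂ = 0)
include hab

/-- The two generators. -/
theorem exists_gens (hz : Fintype.card F ^ (m + 1) % 4 = 3) :
    ∃ d s : MulAut (Cfsg.POmega F ⇑(qMinus F m a b)), d ∈ inndiagM hm hab ∧ s ∉ inndiagM hm hab ∧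
      galOf (ctx_minus hm hab) s = 1 ∧ galOf (ctx_minus hm hab) d = 1 ∧ s * s = 1 ∧
      d * d ∉ Cfsg.Inn (Cfsg.POmega F ⇑(qMinus F m a b)) ∧
      s * d * s * d ∈ Cfsg.Inn (Cfsg.POmega F ⇑(qMinus F m a b)) := by
  have h4 := (card_mod_four hz).1
  obtain ⟨g, s, hg, hs, hss, hdd, hsd⟩ := exists_model_gens hm h4 hz
  obtain ⟨e⟩ := exists_sim_minus m hab (model_aniso h4)
  have hmem : ∀ y, y ∈ Cfsg.Inn (Cfsg.POmega F ⇑(qMinus F m 0 1)) ↔
      e.autIso y ∈ Cfsg.Inn (Cfsg.POmega F ⇑(qMinus F m a b)) := fun y => by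
    rw [← e.map_inn]
    exact (Subgroup.mem_map_iff_mem (f := e.autIso.toMonoidHom) e.autIso.injective).symm
  refine ⟨conjA (e.go g), conjA (e.go (isoToSim s)),
    ⟨_, (parM_go hm hab (model_aniso h4) e g).trans hg, rfl⟩, ?_, galOf_conjA _ _, galOf_conjA _ _, ?_, ?_, ?_⟩
  · rintro ⟨k, hk, he⟩
    have h := parM_eq_of_conjA_eq hm hab he
    rw [MonoidHom.mem_ker.1 hk, parM_go hm hab (model_aniso h4), hs] at h
    exact absurd h (by decide)
  · rw [← map_mul, ← map_mul, ← map_mul, hss, map_one, map_one, map_one]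
  · rw [← e.autIso_conjA, ← map_mul, ← hmem]
    exact hdd
  · rw [← e.autIso_conjA, ← e.autIso_conjA, ← map_mul, ← map_mul, ← map_mul, ← hmem]
    exact hsd

/-- The dihedral case. -/
theorem out_minus_dihedral {p f : ℕ} [Fact p.Prime] (hf : 1 ≤ f) (hF : Fintype.card F = p ^ f)
    (hz : Fintype.card F ^ (m + 1) % 4 = 3) :
    Nonempty (Cfsg.Out (Cfsg.POmega F ⇑(qMinus F m a b)) ≃* DihedralGroup 4 × Multiplicative (ZMod f)) := by
  classical
  set G := Cfsg.Out (Cfsg.POmega F ⇑(qMinus F m a b))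
  have hc := ctx_minus hm hab
  have h4 := (card_mod_four hz).1
  have hodd : Odd (Fintype.card F) := Nat.odd_iff.2 (by omega)
  have hfo : Odd f := by
    rcases Nat.even_or_odd f with ⟨i, hi⟩ | h
    · exfalso
      rw [hF, hi, ← two_mul, pow_mul, Nat.pow_mod] at h4
      have hp : p % 2 = 1 := by
        rw [hF, Nat.odd_pow_iff (by omega)] at hodd
        exact Nat.odd_iff.1 hodd
      have : p ^ 2 % 4 = 1 := by
        rw [Nat.pow_mod]
        rcases (show p % 4 = 1 ∨ p % 4 = 3 by omega) with h | h <;> rw [h] <;> norm_num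
      rw [this] at h4
      norm_num at h4
    · exact h
  obtain ⟨K, _, _, _, L, hLs, hcyc, hcard, hker, hres⟩ := exists_outHom hm hab hf hF
  haveI : Finite (K ≃+* K) := Finite.of_injective (fun σ : K ≃+* K => (σ : K → K)) DFunLike.coe_injective
  obtain ⟨hgcyc, hgal⟩ := AutPSL.card_gal (F := F) hf hF
  have hG : Nat.card G = f * 8 := by
    have h := card_out_minus hm hab
    rwa [if_pos hodd, if_pos hz, hgal] at h
  haveI : Finite G := Nat.finite_of_card_ne_zero (by rw [hG]; omega)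
  haveI : Finite (F ≃+* F) := Finite.of_injective (fun σ : F ≃+* F => (σ : F → F)) DFunLike.coe_injective
  let π : G →* (F ≃+* F) := QuotientGroup.lift _ (galOf hc) (by rw [ker_galOf hc]; exact inn_le_pgo)
  have hπs : Function.Surjective π := fun σ => by
    obtain ⟨x, hx⟩ := gal_surjective_minus hm hab σ
    exact ⟨QuotientGroup.mk' _ x, hx⟩
  have hπL : ∀ g : G, π g = res F K (L g) := fun g => by
    obtain ⟨x, rfl⟩ := QuotientGroup.mk'_surjective _ g
    exact (hres x).symm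
  have hH8 : Nat.card π.ker = 8 := by
    have h1 := π.ker.card_eq_card_quotient_mul_card_subgroup
    rw [Nat.card_congr (QuotientGroup.quotientKerEquivOfSurjective π hπs).toEquiv, hG, hgal] at h1
    exact (Nat.eq_of_mul_eq_mul_left (by omega) h1).symm
  have hD4 : Nat.card L.ker = 4 := by
    have h1 := L.ker.card_eq_card_quotient_mul_card_subgroup
    rw [Nat.card_congr (QuotientGroup.quotientKerEquivOfSurjective L hLs).toEquiv, hG, hcard] at h1
    nlinarith
  obtain ⟨d₀, s₀, hd₀, hs₀, hgs₀, hgd₀, hss₀, hdd₀, hsd₀⟩ := exists_gens hm hab hz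
  obtain ⟨d, hdL, hd2, s, hsL, hπd, hπs', hss, hsd⟩ : ∃ d : G, L d = 1 ∧ d ^ 2 ≠ 1 ∧ ∃ s : G, L s ≠ 1 ∧
      π d = 1 ∧ π s = 1 ∧ s * s = 1 ∧ s * d * s * d = 1 := by
    refine ⟨QuotientGroup.mk' _ d₀, (hker _).2 hd₀, ?_, QuotientGroup.mk' _ s₀, fun h => hs₀ ((hker _).1 h),
      hgd₀, hgs₀, by rw [← map_mul, hss₀, map_one], ?_⟩
    · rw [pow_two, ← map_mul]
      exact fun h => hdd₀ ((QuotientGroup.eq_one_iff _).1 h)
    · rw [← map_mul, ← map_mul, ← map_mul]
      exact (QuotientGroup.eq_one_iff _).2 hsd₀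
  have hd4 : d ^ 4 = 1 := by
    have h := pow_card_eq_one' (G := L.ker) (x := ⟨d, hdL⟩)
    rw [hD4] at h
    exact congrArg Subtype.val h
  have hdne : ∀ k, s ≠ d ^ k := fun k h => hsL (by rw [h, map_pow, hdL, one_pow])
  have hod : orderOf d = 4 := by
    haveI : Fact (Nat.Prime 2) := ⟨Nat.prime_two⟩
    exact orderOf_eq_prime_pow (p := 2) (n := 1) (by simpa using hd2) (by simpa using hd4)
  have hDz : L.ker = Subgroup.zpowers d := (Subgroup.eq_of_le_of_card_ge ((Subgroup.zpowers_le).2 hdL)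
    (by rw [hD4, Nat.card_zpowers, hod])).symm
  obtain ⟨eH⟩ : Nonempty (π.ker ≃* DihedralGroup 4) := dihedral_four hH8 (d := ⟨d, hπd⟩) (s := ⟨s, hπs'⟩)
    (Subtype.ext hd4) (fun h => hd2 (congrArg Subtype.val h)) (Subtype.ext hss) (Subtype.ext hsd)
    fun k h => hdne k (congrArg Subtype.val h)
  obtain ⟨t, ht⟩ := hgcyc.exists_generator
  have hot : orderOf t = f := by rw [orderOf_eq_card_of_forall_mem_zpowers ht, hgal]
  obtain ⟨k, hk⟩ : ∃ k, f + 1 = 2 * k := by obtain ⟨j, hj⟩ := hfo; exact ⟨j + 1, by omega⟩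
  obtain ⟨y₀, hy₀⟩ := hπs t
  obtain ⟨y, hy⟩ : ∃ y, y = ((y₀ ^ (2 * k)) ^ (2 * k)) ^ (2 * k) := ⟨_, rfl⟩
  have htk : t ^ (2 * k) = t := by rw [← hk, pow_succ, ← hot, pow_orderOf_eq_one, one_mul]
  have hπy : π y = t := by rw [hy, map_pow, map_pow, map_pow, hy₀, htk, htk, htk]
  have hyf : y ^ f = 1 := by
    have hm' : y₀ ^ f ∈ π.ker := by rw [MonoidHom.mem_ker, map_pow, hy₀, ← hot, pow_orderOf_eq_one]
    have h8 := congrArg Subtype.val (pow_card_eq_one' (G := π.ker) (x := ⟨_, hm'⟩))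
    rw [hH8] at h8
    rw [hy, ← pow_mul, ← pow_mul, ← pow_mul, show 2 * k * (2 * k * (2 * k * f)) = f * 8 * (k * k * k) by ring,
      pow_mul y₀, pow_mul y₀]
    rw [show (y₀ ^ f) ^ 8 = 1 from h8, one_pow]
  have hyd : Commute y d := by
    have hmem : y * d * y⁻¹ ∈ L.ker := by
      rw [MonoidHom.mem_ker, map_mul, map_mul, map_inv, hdL, mul_one, mul_inv_cancel]
    rw [hDz, mem_zpowers_iff_mem_range_orderOf, hod, Finset.mem_image] at hmem
    obtain ⟨i, hi, hid⟩ := hmem
    rw [Finset.mem_range] at hi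
    have hord' : orderOf (d ^ i) = 4 := by
      rw [show d ^ i = y * d * y⁻¹ from hid, AutPSL.orderOf_conj_eq, hod]
    have h2 : y * y * d = d * (y * y) := by
      have hc2 : y * y * d * (y * y)⁻¹ = d := by
        calc y * y * d * (y * y)⁻¹ = y * (y * d * y⁻¹) * y⁻¹ := by group
          _ = (y * d * y⁻¹) ^ i := by rw [conj_pow, ← hid]
          _ = d ^ (i * i) := by rw [← hid, ← pow_mul]
          _ = d := by
            rw [← pow_mod_orderOf, hod]
            have h1 : i = 1 ∨ i = 3 := by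
              interval_cases i
              · simp at hord'
              · omega
              · exfalso
                have h3 : orderOf (d ^ 2) ∣ 2 := orderOf_dvd_of_pow_eq_one (by rw [← pow_mul]; exact hd4)
                rw [hord'] at h3
                omega
              · omega
            rcases h1 with rfl | rfl <;> simp
      calc y * y * d = y * y * d * (y * y)⁻¹ * (y * y) := by group
        _ = d * (y * y) := by rw [hc2]
    have hyk : y = (y * y) ^ k := by rw [← pow_two, ← pow_mul, ← hk, pow_succ, hyf, one_mul]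
    rw [hyk]
    exact Commute.pow_left h2 k
  have hyD : ∀ e ∈ L.ker, Commute y e := fun e he => by
    rw [hDz] at he
    obtain ⟨i, rfl⟩ := he
    exact hyd.zpow_right i
  have hys : Commute y s := by
    have hmem : s * y * s⁻¹ * y⁻¹ ∈ L.ker := by
      rw [MonoidHom.mem_ker, map_mul, map_mul, map_mul, map_inv, map_inv, (gal_comm' (L s) (L y)).eq]
      group
    set e := s * y * s⁻¹ * y⁻¹ with he
    have h1 : s * y * s⁻¹ = e * y := by rw [he]; group
    have h2 := congrArg (· ^ f) h1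
    simp only [conj_pow, hyf, mul_one, mul_inv_cancel, (hyD e hmem).symm.mul_pow] at h2
    have h3 : e ^ 4 = 1 := by
      have h := pow_card_eq_one' (G := L.ker) (x := ⟨e, hmem⟩)
      rw [hD4] at h
      exact congrArg Subtype.val h
    have h5 : e = 1 := orderOf_eq_one_iff.1 (Nat.eq_one_of_dvd_coprimes
      ((hfo.coprime_two_right).pow_right 2) (orderOf_dvd_of_pow_eq_one h2.symm) (orderOf_dvd_of_pow_eq_one h3))
    rw [h5, one_mul, mul_inv_eq_iff_eq_mul] at h1
    exact h1.symm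
  have hcent : ∀ n ∈ π.ker, Commute n y := by
    let C : Subgroup π.ker := (Subgroup.centralizer {y}).subgroupOf π.ker
    have hC : C = ⊤ := by
      have hle : (Subgroup.zpowers d).subgroupOf π.ker ≤ C := fun n hn => by
        rw [Subgroup.mem_subgroupOf] at hn ⊢
        rw [Subgroup.mem_centralizer_singleton_iff]
        exact ((hyD _ (hDz ▸ hn)).symm).eq
      have hc4 : Nat.card ((Subgroup.zpowers d).subgroupOf π.ker) = 4 := by
        rw [Nat.card_congr (Subgroup.subgroupOfEquivOfLe ((Subgroup.zpowers_le).2 hπd)).toEquiv, Nat.card_zpowers,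
          hod]
      have hsC : (⟨s, hπs'⟩ : π.ker) ∈ C := by
        rw [Subgroup.mem_subgroupOf, Subgroup.mem_centralizer_singleton_iff]
        exact hys.symm.eq
      refine Subgroup.eq_top_of_card_eq _ ?_
      have h1 := Subgroup.card_dvd_of_le hle
      have h2 := C.card_subgroup_dvd_card
      rw [hc4] at h1
      rw [hH8] at h2
      have h3 : Nat.card C ≠ 4 := fun h => by
        have := Subgroup.eq_of_le_of_card_ge hle (by rw [h, hc4])
        rw [← this, Subgroup.mem_subgroupOf, Subgroup.mem_zpowers_iff] at hsC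
        obtain ⟨i, hi⟩ := hsC
        exact hsL (by rw [← show d ^ i = s from hi, map_zpow, hdL, _root_.one_zpow])
      obtain ⟨c, hcc⟩ := h1
      rw [hH8]
      have h5' : 0 < Nat.card C := Nat.card_pos
      have h4' : Nat.card C ≤ 8 := Nat.le_of_dvd (by norm_num) h2
      omega
    intro n hn
    have := hC ▸ Subgroup.mem_top (⟨n, hn⟩ : π.ker)
    exact Subgroup.mem_centralizer_singleton_iff.1 this
  obtain ⟨sec, hsy, hsec⟩ := exists_section_of_lift π ht hπy (hot.symm ▸ hyf)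
  obtain ⟨e⟩ := nonempty_prod_of_central_section π sec hsec fun h n hn => by
    obtain ⟨i, rfl⟩ := ht h
    rw [map_zpow, hsy]
    exact (hcent n hn).zpow_right i
  have h3 := zmodCyclicMulEquiv hgcyc
  rw [hgal] at h3
  exact ⟨e.trans (MulEquiv.prodCongr eH h3.symm)⟩

end Cfsg.Agent.AutPOmega
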