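import Cfsg.Agent.AutPOmega.Lang
import Cfsg.Agent.Classical.OrthMat
import Cfsg.Agent.AutPSL.Classes

/-!
Similarities over a subfield: the embedding, its compatibility with the Dickson invariant, the centralizer of a
standard field automorphism.
-/

set_option autoImplicit false

namespace Cfsg.Agent.AutPOmega

open Module QuadraticMap Classical.Quad Matrix

variable {ι : Type} [Fintype ι] [DecidableEq ι] {F F₀ : Type*} [Field F] [Field F₀] {Q : QuadraticForm F (ι → F)}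
  {Q₀ : QuadraticForm F₀ (ι → F₀)} {i : F₀ →+* F} (hQ : ∀ v : ι → F₀, Q (fun j => i (v j)) = i (Q₀ v))
include hQ

theorem map_sim_eq {g : GL ι F₀} {c : F₀} (hg : ∀ v, Q₀ (g.1 *ᵥ v) = c * Q₀ v) (v : ι → F) :
    Q (g.1.map i *ᵥ v) = i c * Q v := by
  have h := qf_ext_sub i (Q₁ := Q.comp (Matrix.toLin' (g.1.map i))) (Q₂ := i c • Q) fun w => by
    show Q (g.1.map i *ᵥ fun j => i (w j)) = i c • Q (fun j => i (w j))
    rw [mulVec_map_apply, hQ, hg, hQ, map_mul, smul_eq_mul]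
  exact QuadraticMap.congr_fun h v

/-- Similarities over a subfield. -/
def mapGO : Geo.quadSimilarityGroup (F := F₀) (⇑Q₀) →* Geo.quadSimilarityGroup (F := F) (⇑Q) :=
  ((Matrix.GeneralLinearGroup.map i).comp (Geo.quadSimilarityGroup (F := F₀) (⇑Q₀)).subtype).codRestrict _
    fun g => by
      obtain ⟨c, hc⟩ := g.2
      exact ⟨Units.map (i : F₀ →* F) c, map_sim_eq hQ hc⟩

omit hQ in
theorem mat_mapGO (hQ : ∀ v : ι → F₀, Q (fun j => i (v j)) = i (Q₀ v))
    (g : Geo.quadSimilarityGroup (F := F₀) (⇑Q₀)) : (mapGO hQ g).1.1 = g.1.1.map i := rfl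

/-- Isometries over a subfield. -/
def mapI : Cfsg.isometryGroup F₀ ⇑Q₀ →* Cfsg.isometryGroup F ⇑Q :=
  ((Matrix.GeneralLinearGroup.map i).comp (Cfsg.isometryGroup F₀ ⇑Q₀).subtype).codRestrict _
    fun g => mem_isometryGroup_iff.2 fun v => by
      rw [← one_mul (Q v), ← map_one i]
      exact map_sim_eq hQ (c := 1) (fun w => by rw [one_mul]; exact mem_isometryGroup_iff.1 g.2 w) v

theorem mat_mapI (g : Cfsg.isometryGroup F₀ ⇑Q₀) : (mapI hQ g).1.1 = g.1.1.map i := rfl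

theorem polar_map_sub (x y : ι → F₀) : polar (⇑Q) (fun j => i (x j)) (fun j => i (y j)) = i (polar (⇑Q₀) x y) := by
  rw [polar, show (fun j => i (x j)) + (fun j => i (y j)) = fun j => i ((x + y) j) from funext fun j => by simp,
    hQ, hQ, hQ, polar, map_sub, map_sub]

theorem mapI_rO {v : ι → F₀} (hv : Q₀ v ≠ 0) :
    oEquiv Q (mapI hQ ((oEquiv Q₀).symm (rO hv))) =
      rO (v := fun j => i (v j)) (show Q (fun j => i (v j)) ≠ 0 by rw [hQ]; exact (map_ne_zero i).2 hv) := by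
  have hne : Q (fun j => i (v j)) ≠ 0 := by rw [hQ]; exact (map_ne_zero i).2 hv
  have hm : ((oEquiv Q₀).symm (rO hv)).1.1 = Cfsg.reflectionMatrix (⇑Q₀) v :=
    (matrix_eq_reflection_iff hv).2 ((oEquiv Q₀).apply_symm_apply _)
  refine (matrix_eq_reflection_iff hne).1 (Matrix.ext_of_mulVec_single fun l => ?_)
  have e : (Pi.single l 1 : ι → F) = fun j => i ((Pi.single l 1 : ι → F₀) j) := by
    funext j
    by_cases hj : j = l <;> simp [hj]
  rw [mat_mapI, hm, e, mulVec_map_apply, reflectionMatrix_mulVec, reflectionMatrix_mulVec, polar_map_sub hQ, hQ]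
  funext j
  simp

variable [Finite F] [Finite F₀]

/-- The Dickson invariant is preserved. -/
theorem dickson_mapI (h₀ : (polarBilin Q₀).Nondegenerate) (h : (polarBilin Q).Nondegenerate)
    (hex₀ : Nat.card F₀ ≠ 2 ∨ finrank F₀ (ι → F₀) ≠ 4) (hex : Nat.card F ≠ 2 ∨ finrank F (ι → F) ≠ 4)
    (g : Cfsg.isometryGroup F₀ ⇑Q₀) :
    dickson h hex (oEquiv Q (mapI hQ g)) = dickson h₀ hex₀ (oEquiv Q₀ g) := by
  have e : ((dickson h hex).comp (oEquiv Q).toMonoidHom).comp ((mapI hQ).comp (oEquiv Q₀).symm.toMonoidHom) =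
      dickson h₀ hex₀ := by
    refine MonoidHom.eq_of_eqOn_dense (closure_reflSet h₀ hex₀) ?_
    rintro _ ⟨v, hv, rfl⟩
    simp only [MonoidHom.comp_apply, MulEquiv.coe_toMonoidHom]
    rw [mapI_rO hQ hv, dickson_rO, dickson_rO]
  have := DFunLike.congr_fun e (oEquiv Q₀ g)
  simpa using this

theorem conjA_mapGO_eq_one (hc : Ctx Q) (hc₀ : Ctx Q₀) (g : Geo.quadSimilarityGroup (F := F₀) (⇑Q₀)) :
    conjA (mapGO hQ g) = 1 ↔ conjA g = 1 := by
  rw [conjA_eq_one_iff hc, conjA_eq_one_iff hc₀, Geo.mem_scalars_iff, Geo.mem_scalars_iff, mat_mapGO hQ]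
  obtain ⟨a, b, hp, -⟩ := hc₀.pairs
  obtain ⟨j, hj⟩ := Function.ne_iff.1 (hp 0).a_ne
  constructor
  · rintro ⟨c, hcg⟩
    have h1 : ∀ x y, i (g.1.1 x y) = if x = y then (c : F) else 0 := fun x y => by
      have := congrFun (congrFun hcg x) y
      simpa [Matrix.map_apply, Matrix.one_apply] using this
    have hd : g.1.1 j j ≠ 0 := fun h0 => c.ne_zero (by
      have := h1 j j
      rw [h0, map_zero, if_pos rfl] at this
      exact this.symm)
    refine ⟨Units.mk0 _ hd, Matrix.ext fun x y => i.injective ?_⟩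
    rw [h1, Units.val_mk0, Matrix.smul_apply, smul_eq_mul, map_mul, h1, if_pos rfl, Matrix.one_apply]
    by_cases hxy : x = y <;> simp [hxy]
  · rintro ⟨c, hcg⟩
    refine ⟨Units.map (i : F₀ →* F) c, Matrix.ext fun x y => ?_⟩
    rw [Matrix.map_apply, hcg]
    by_cases hxy : x = y <;> simp [Matrix.one_apply, hxy]

/-- The similarities commuting with a standard field automorphism come from the fixed field. -/
theorem centralizer_std (hc : Ctx Q) (hc₀ : Ctx Q₀) {σ : F ≃+* F} (hσ : ∀ v, Q (fun j => σ (v j)) = σ (Q v))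
    (hi : ∀ x : F, σ x = x ↔ x ∈ i.range) :
    (conjA (Q := Q)).range ⊓ Subgroup.centralizer {(Semi.ofGal σ hσ).aut} = (mapGO hQ).range.map conjA := by
  ext x
  constructor
  · intro hx
    obtain ⟨⟨g, rfl⟩, hcomm⟩ := Subgroup.mem_inf.1 hx
    rw [Subgroup.mem_centralizer_singleton_iff, conjA_apply, ← Semi.aut_comp, ← Semi.aut_comp] at hcomm
    obtain ⟨-, a, ha, hav⟩ := Semi.aut_eq_aut hc hcomm
    have : Nonempty ι := Fintype.card_pos_iff.1 (by have := hc.seven; omega)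
    obtain ⟨x₀, y₀, hxy⟩ : ∃ x y, g.1.1 x y ≠ 0 := by
      by_contra h
      push Not at h
      exact (Matrix.GeneralLinearGroup.det_ne_zero g.1) (Matrix.det_eq_zero_of_row_eq_zero
        (Classical.arbitrary ι) (h _) )
    have hent : ∀ x y, g.1.1 x y = a * σ (g.1.1 x y) := fun x y => by
      have h1 := congrFun (hav (Pi.single y 1)) x
      rw [Semi.app_comp, Semi.app_comp, Semi.ofSim_app, Semi.ofSim_app, Semi.ofGal_app, Semi.ofGal_app] at h1
      have hs : (fun j => σ ((Pi.single y 1 : ι → F) j)) = Pi.single y 1 := by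
        funext j
        by_cases hj : j = y <;> simp [hj]
      rw [hs, Matrix.mulVec_single_one] at h1
      simpa using h1
    set u := g.1.1 x₀ y₀
    have hfix : ∀ x y, σ (u⁻¹ * g.1.1 x y) = u⁻¹ * g.1.1 x y := fun x y => by
      have hσu : σ u ≠ 0 := (map_ne_zero σ).2 hxy
      rw [map_mul, map_inv₀]
      conv_rhs => rw [hent x y, show u = a * σ u from hent x₀ y₀]
      rw [mul_inv, mul_comm a⁻¹, mul_assoc, inv_mul_cancel_left₀ ha]
    choose M hM using fun x y => (hi _).1 (hfix x y)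
    let M' : Matrix ι ι F₀ := M
    have hMmap : M'.map i = u⁻¹ • g.1.1 := Matrix.ext hM
    have hdet : M'.det ≠ 0 := fun h0 => by
      have h1 := RingHom.map_det i M'
      rw [h0, map_zero, RingHom.mapMatrix_apply, hMmap, Matrix.det_smul] at h1
      exact mul_ne_zero (pow_ne_zero _ (inv_ne_zero hxy)) (Matrix.GeneralLinearGroup.det_ne_zero g.1) h1.symm
    let g₀ : GL ι F₀ := Matrix.GeneralLinearGroup.mkOfDetNeZero M' hdet
    obtain ⟨c, hcg⟩ := g.2
    obtain ⟨v₁, hv₁⟩ := exists_value_one hc₀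
    have hg₀ : ∀ v, i (Q₀ (g₀.1 *ᵥ v)) = u⁻¹ * u⁻¹ * c * i (Q₀ v) := fun v => by
      rw [← hQ, ← hQ, ← mulVec_map_apply, show g₀.1.map i = u⁻¹ • g.1.1 from hMmap, Matrix.smul_mulVec,
        Classical.Quad.map_smul', hcg]
      ring
    set c₀ := Q₀ (g₀.1 *ᵥ v₁)
    have hc₀' : i c₀ = u⁻¹ * u⁻¹ * c := by
      have := hg₀ v₁
      rwa [hv₁, map_one, mul_one] at this
    have hc0 : c₀ ≠ 0 := fun h0 => by
      rw [h0, map_zero] at hc₀'
      exact mul_ne_zero (mul_ne_zero (inv_ne_zero hxy) (inv_ne_zero hxy)) c.ne_zero hc₀'.symm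
    let G₀ : Geo.quadSimilarityGroup (F := F₀) (⇑Q₀) := ⟨g₀, Units.mk0 c₀ hc0, fun v => i.injective (by
      rw [hg₀, map_mul, Units.val_mk0, hc₀'])⟩
    refine ⟨mapGO hQ G₀, ⟨G₀, rfl⟩, Semi.aut_congr _ _ (inv_ne_zero hxy) fun v => ?_⟩
    rw [Semi.ofSim_app, Semi.ofSim_app, mat_mapGO hQ, show G₀.1.1.map i = u⁻¹ • g.1.1 from hMmap,
      Matrix.smul_mulVec]
  · rintro ⟨_, ⟨g, rfl⟩, rfl⟩
    refine Subgroup.mem_inf.2 ⟨⟨_, rfl⟩, ?_⟩
    rw [Subgroup.mem_centralizer_singleton_iff, conjA_apply, ← Semi.aut_comp, ← Semi.aut_comp]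
    refine Semi.aut_congr _ _ one_ne_zero fun v => ?_
    rw [one_smul, Semi.app_comp, Semi.app_comp, Semi.ofSim_app, Semi.ofSim_app, Semi.ofGal_app, Semi.ofGal_app,
      mat_mapGO hQ]
    funext x
    rw [show σ ((g.1.1.map i *ᵥ v) x) = ((g.1.1.map i).map σ *ᵥ fun j => σ (v j)) x from
      RingHom.map_mulVec (σ : F →+* F) _ v x, show (g.1.1.map i).map σ = g.1.1.map i from
        Matrix.ext fun a b => (hi _).2 ⟨_, rfl⟩]

/-- A subgroup of similarities over the fixed field and its image. -/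
theorem image_iso (hc : Ctx Q) (hc₀ : Ctx Q₀) (S : Subgroup (Geo.quadSimilarityGroup (F := F₀) (⇑Q₀))) :
    Nonempty ((S.map (mapGO hQ)).map conjA ≃* S.map conjA) := by
  let f₁ : S →* MulAut (Cfsg.POmega F ⇑Q) := (conjA.comp (mapGO hQ)).comp S.subtype
  let f₂ : S →* MulAut (Cfsg.POmega F₀ ⇑Q₀) := conjA.comp S.subtype
  have hker : f₁.ker = f₂.ker := Subgroup.ext fun g => conjA_mapGO_eq_one hQ hc hc₀ g.1
  have h1 : f₁.range = (S.map (mapGO hQ)).map conjA := by
    rw [MonoidHom.range_comp, Subgroup.range_subtype, Subgroup.map_map]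
  have h2 : f₂.range = S.map conjA := by rw [MonoidHom.range_comp, Subgroup.range_subtype]
  exact ⟨(MulEquiv.subgroupCongr h1.symm).trans (((QuotientGroup.quotientKerEquivRange f₁).symm.trans
    (QuotientGroup.quotientMulEquivOfEq hker)).trans ((QuotientGroup.quotientKerEquivRange f₂).trans
      (MulEquiv.subgroupCongr h2)))⟩

end Cfsg.Agent.AutPOmega
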