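import Cfsg.Agent.AutPOmega.OddLang
import Cfsg.Agent.AutPOmega.Subfield

/-!
Field automorphisms of odd dimension: centralizers in the inner-diagonal group and splitting of their classes.
-/

set_option autoImplicit false

namespace Cfsg.Agent.AutPOmega

open Module QuadraticMap Classical.Quad Matrix

section General

variable {ι : Type} [Fintype ι] [DecidableEq ι] {F : Type*} [Field F] {Q : QuadraticForm F (ι → F)}

theorem mem_inn_of_omega [Finite F] {g : Cfsg.isometryGroup F ⇑Q} (hg : g ∈ Cfsg.Omega F ⇑Q) :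
    conjA (isoToSim g) ∈ Cfsg.Inn (Cfsg.POmega F ⇑Q) := by
  rw [inn_eq]
  exact ⟨_, ⟨⟨g, hg⟩, rfl⟩, rfl⟩

theorem exists_scalar_of_mem_inn [Finite F] (hc : Ctx Q) {g : Cfsg.isometryGroup F ⇑Q}
    (hg : conjA (isoToSim g) ∈ Cfsg.Inn (Cfsg.POmega F ⇑Q)) :
    ∃ (s : Om Q) (a : F), a * a = 1 ∧ g.1.1 = a • mat s := by
  rw [inn_eq] at hg
  obtain ⟨_, ⟨s, rfl⟩, e⟩ := hg
  rw [conjA_apply, conjA_apply] at e
  obtain ⟨-, a, ha, hav⟩ := Semi.aut_eq_aut hc e.symm
  refine ⟨s, a, ?_, Matrix.ext_of_mulVec_single fun j => ?_⟩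
  · obtain ⟨v, hv⟩ := exists_value_one hc
    have h1 : g.1.1 *ᵥ v = a • (mat s *ᵥ v) := hav v
    have h2 := congrArg (⇑Q) h1
    rw [Classical.Quad.map_smul', Q_mat, mem_isometryGroup_iff.1 g.2 v, hv, mul_one] at h2
    exact h2.symm
  · rw [Matrix.smul_mulVec]
    exact hav (Pi.single j 1)

end General

variable {F F₀ : Type*} [Field F] [Field F₀] [Fintype F] [Fintype F₀] {m : ℕ} (hm : 3 ≤ m)
  (hodd : Odd (Fintype.card F)) (hodd₀ : Odd (Fintype.card F₀)) (i : F₀ →+* F)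
include hm hodd hodd₀

theorem dickson_neg_one_odd {g : Cfsg.isometryGroup F ⇑(qOdd F m)}
    (hg : (g.1 : Matrix (Unit ⊕ (Fin m ⊕ Fin m)) (Unit ⊕ (Fin m ⊕ Fin m)) F) = -1) :
    dickson (ctx_odd hodd hm).nondeg (hex_of_two (two_ne_zero_of_odd hodd) _) (oEquiv _ g) = -1 := by
  have h := det_eq_dickson (ctx_odd hodd hm).nondeg (hex_of_two (two_ne_zero_of_odd hodd) _) g
  rcases Int.units_eq_one_or (dickson (ctx_odd hodd hm).nondeg (hex_of_two (two_ne_zero_of_odd hodd) _)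
    (oEquiv _ g)) with h1 | h1
  · rw [h1, hg, Matrix.det_neg, Matrix.det_one, mul_one] at h
    simp [Fintype.card_sum, ← two_mul, pow_add, pow_mul] at h
    exact absurd (by linear_combination -h) (two_ne_zero_of_odd hodd)
  · exact h1

/-- If every element of the subfield is a square, the subfield similarities induce inner automorphisms. -/
theorem map_le_inn_odd (hsq : ∀ x : F₀, IsSquare (i x)) :
    (mapGO (Q := qOdd F m) (Q₀ := qOdd F₀ m) (qOdd_map i)).range.map conjA ≤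
      Cfsg.Inn (Cfsg.POmega F ⇑(qOdd F m)) := by
  have hc := ctx_odd hodd hm
  have hc₀ := ctx_odd hodd₀ hm
  have h2 := two_ne_zero_of_odd hodd
  have h2₀ := two_ne_zero_of_odd hodd₀
  rintro _ ⟨_, ⟨g, rfl⟩, rfl⟩
  obtain ⟨b, hb⟩ : mult hc₀ g ∈ (powMonoidHom 2 : F₀ˣ →* F₀ˣ).range := by
    rw [← range_mult_odd hodd₀ hm]; exact ⟨g, rfl⟩
  have hker : scalarSim b⁻¹ * g ∈ (mult hc₀).ker := by
    rw [MonoidHom.mem_ker, map_mul, mult_scalarSim, ← hb, powMonoidHom_apply, ← mul_pow, inv_mul_cancel, one_pow]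
  rw [ker_mult hc₀] at hker
  obtain ⟨t, ht⟩ := hker
  let neg : Cfsg.isometryGroup F₀ ⇑(qOdd F₀ m) := ⟨(scalarSim (Q := qOdd F₀ m) (-1)).1,
    mem_isometryGroup_iff.2 fun v => by
      rw [scalarSim_mulVec, Units.val_neg, Units.val_one, neg_one_smul, QuadraticMap.map_neg]⟩
  have hneg : conjA (isoToSim neg) = 1 := (conjA_eq_one_iff hc₀).2 ⟨-1, rfl⟩
  have hneg1 : (neg.1 : Matrix (Unit ⊕ (Fin m ⊕ Fin m)) (Unit ⊕ (Fin m ⊕ Fin m)) F₀) = -1 :=
    Matrix.ext_of_mulVec_single fun j => by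
      show (scalarSim (Q := qOdd F₀ m) (-1)).1.1 *ᵥ _ = _
      rw [scalarSim_mulVec, Units.val_neg, Units.val_one, neg_one_smul, Matrix.neg_mulVec, Matrix.one_mulVec]
  let D := dickson hc₀.nondeg (hex_of_two h2₀ (finrank F₀ (Unit ⊕ (Fin m ⊕ Fin m) → F₀)))
  obtain ⟨s, hs1, hs⟩ : ∃ s, conjA (isoToSim s) = conjA g ∧ D (oEquiv _ s) = 1 := by
    have hg : conjA (isoToSim t) = conjA g := by rw [ht, map_mul, conjA_scalarSim hc₀, one_mul]
    rcases Int.units_eq_one_or (D (oEquiv _ t)) with h | h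
    · exact ⟨t, hg, h⟩
    · refine ⟨neg * t, by rw [map_mul, map_mul, hneg, one_mul, hg], ?_⟩
      rw [map_mul, map_mul, h, show D (oEquiv _ neg) = -1 from dickson_neg_one_odd hm hodd₀ hodd₀ hneg1]
      decide
  have he : conjA (mapGO (qOdd_map i) g) = conjA (isoToSim (mapI (qOdd_map i) s)) := by
    have h1 : conjA (mapGO (qOdd_map i) (g⁻¹ * isoToSim s)) = 1 := by
      rw [conjA_mapGO_eq_one _ hc hc₀, map_mul, map_inv, hs1, inv_mul_cancel]
    rw [map_mul, map_mul, map_inv, map_inv, inv_mul_eq_one] at h1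
    exact h1.trans (congrArg conjA (Subtype.ext rfl))
  rw [he]
  refine mem_inn_of_omega ((mem_omega_iff _).2 ((mem_commutator_iff hc.nondeg h2 (by simp; omega) _).2 ⟨?_, ?_⟩))
  · rw [dickson_mapI _ hc₀.nondeg hc.nondeg (hex_of_two h2₀ _), hs]
  · have e : ((spin (qOdd F m)).comp (oEquiv _).toMonoidHom).comp
        ((mapI (qOdd_map i)).comp (oEquiv (qOdd F₀ m)).symm.toMonoidHom) = D := by
      refine MonoidHom.eq_of_eqOn_dense (closure_reflSet hc₀.nondeg (hex_of_two h2₀ _)) ?_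
      rintro _ ⟨v, hv, rfl⟩
      simp only [MonoidHom.comp_apply, MulEquiv.coe_toMonoidHom]
      rw [mapI_rO _ hv, spin_rO h2, dickson_rO, if_pos]
      rw [qOdd_map]
      exact hsq _
    have := DFunLike.congr_fun e (oEquiv _ s)
    simp only [MonoidHom.comp_apply, MulEquiv.coe_toMonoidHom, MulEquiv.symm_apply_apply] at this
    rw [this, hs]

/-- If some non-square of the subfield stays a non-square, a subfield similarity induces an outer automorphism. -/
theorem map_not_le_inn_odd {n : F₀} (hn : ¬ IsSquare (i n)) :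
    ¬ (mapGO (Q := qOdd F m) (Q₀ := qOdd F₀ m) (qOdd_map i)).range.map conjA ≤
      Cfsg.Inn (Cfsg.POmega F ⇑(qOdd F m)) := by
  intro hle
  have hc := ctx_odd hodd hm
  have hc₀ := ctx_odd hodd₀ hm
  have h2 := two_ne_zero_of_odd hodd
  have h2₀ := two_ne_zero_of_odd hodd₀
  obtain ⟨u, hu⟩ := exists_value_one hc₀
  obtain ⟨w, hw⟩ := exists_value hc₀.nondeg h2₀ (by simp; omega) (c := n)
    (fun h0 => hn (by rw [h0, map_zero]; exact IsSquare.zero))
  have hu0 : qOdd F₀ m u ≠ 0 := by rw [hu]; exact one_ne_zero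
  have hw0 : qOdd F₀ m w ≠ 0 := fun h0 => hn (by rw [← hw, h0, map_zero]; exact IsSquare.zero)
  set X := (oEquiv (qOdd F₀ m)).symm (rO hu0) * (oEquiv (qOdd F₀ m)).symm (rO hw0) with hX
  have hmem : conjA (isoToSim (mapI (qOdd_map i) X)) ∈ Cfsg.Inn (Cfsg.POmega F ⇑(qOdd F m)) :=
    hle ⟨_, ⟨isoToSim X, rfl⟩, congrArg conjA (Subtype.ext rfl)⟩
  obtain ⟨s, a, ha, hs⟩ := exists_scalar_of_mem_inn hc hmem
  have hchar := (mem_commutator_iff hc.nondeg h2 (by simp; omega) _).1 ((mem_omega_iff s.1).1 s.2)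
  have hd : dickson hc.nondeg (hex_of_two h2 _) (oEquiv _ (mapI (qOdd_map i) X)) = 1 := by
    rw [hX, map_mul, map_mul, mapI_rO _ hu0, mapI_rO _ hw0, map_mul, dickson_rO, dickson_rO]
    decide
  have ha1 : a = 1 := by
    have h3 := det_eq_dickson hc.nondeg (hex_of_two h2 _) (mapI (qOdd_map i) X)
    rw [hd, hs, Matrix.det_smul, det_eq_dickson hc.nondeg (hex_of_two h2 _) s.1, hchar.1] at h3
    simp [Fintype.card_sum, ← two_mul, pow_add, pow_mul] at h3
    rw [show a ^ 2 = 1 by rw [pow_two, ha]] at h3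
    simpa using h3
  have heq : mapI (qOdd_map i) X = s.1 := Subtype.ext (Units.ext (by rw [hs, ha1, one_smul]))
  have hsp := hchar.2
  rw [← heq, hX, map_mul, map_mul, mapI_rO _ hu0, mapI_rO _ hw0, map_mul, spin_rO h2, spin_rO h2,
    if_pos (by rw [qOdd_map, hu, map_one]; exact IsSquare.one), if_neg (by rw [qOdd_map, hw]; exact hn)] at hsp
  exact absurd hsp (by decide)

omit hm hodd hodd₀ in
theorem not_isSquare_of_odd {σ : F ≃+* F} (hi : ∀ x : F, σ x = x ↔ x ∈ i.range) {r : ℕ} (hr : orderOf σ = r)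
    (hro : Odd r) {n : F₀} (hn : ¬ IsSquare n) : ¬ IsSquare (i n) := by
  rintro ⟨y, hy⟩
  have hσn : σ (i n) = i n := (hi _).2 ⟨n, rfl⟩
  rw [hy, map_mul] at hσn
  have hfix : σ y = y := by
    rcases mul_self_eq_mul_self_iff.1 hσn with h | h
    · exact h
    · have hk : ∀ k : ℕ, (σ ^ k) y = (-1) ^ k * y := fun k => by
        induction k with
        | zero => simp
        | succ k ih =>
          rw [pow_succ', pow_succ]
          show σ ((σ ^ k) y) = _
          rw [ih, map_mul, map_pow, map_neg, map_one, h]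
          ring
      have := hk r
      rw [← hr, pow_orderOf_eq_one, hr, hro.neg_one_pow] at this
      rw [h]
      simpa using this.symm
  obtain ⟨z, hz⟩ := (hi y).1 hfix
  exact hn ⟨z, i.injective (by rw [map_mul, hz, hy])⟩

omit hm hodd₀ in
theorem isSquare_of_two (hF : Fintype.card F = Fintype.card F₀ ^ 2) (x : F₀) : IsSquare (i x) := by
  rcases eq_or_ne x 0 with rfl | hx
  · rw [map_zero]; exact IsSquare.zero
  have hchar : ringChar F ≠ 2 := fun h => two_ne_zero_of_odd hodd (by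
    have : CharP F 2 := h ▸ ringChar.charP F
    exact CharTwo.two_eq_zero)
  rw [FiniteField.isSquare_iff hchar ((map_ne_zero i).2 hx), ← map_pow]
  have h1 : (Fintype.card F₀ - 1) ∣ Fintype.card F / 2 := by
    set q := Fintype.card F₀
    rw [hF]
    have hq : q % 2 = 1 := by
      have := Nat.odd_iff.1 hodd
      rw [hF, Nat.pow_mod] at this
      rcases Nat.mod_two_eq_zero_or_one q with h | h
      · rw [h] at this; simp at this
      · exact h
    obtain ⟨k, hk⟩ : ∃ k, q = 2 * k + 1 := ⟨q / 2, by omega⟩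
    rw [hk, show (2 * k + 1) ^ 2 = 2 * ((2 * k) * (k + 1)) + 1 by ring]
    refine ⟨k + 1, ?_⟩
    rw [Nat.add_sub_cancel]
    omega
  obtain ⟨k, hk⟩ := h1
  rw [hk, pow_mul, FiniteField.pow_card_sub_one_eq_one x hx, one_pow, map_one]

theorem split_odd {σ : F ≃+* F} (hi : ∀ x : F, σ x = x ↔ x ∈ i.range) {r : ℕ} (hr : orderOf σ = r)
    (hF : Fintype.card F = Fintype.card F₀ ^ r) :
    (Odd r → Cfsg.splitClassCount (conjA (Q := qOdd F m)).range (Cfsg.Inn (Cfsg.POmega F ⇑(qOdd F m)))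
      (Semi.ofGal σ (qOdd_gal σ)).aut = 1) ∧
    (r = 2 → Cfsg.splitClassCount (conjA (Q := qOdd F m)).range (Cfsg.Inn (Cfsg.POmega F ⇑(qOdd F m)))
      (Semi.ofGal σ (qOdd_gal σ)).aut = 2) := by
  have hc := ctx_odd hodd hm
  have hc₀ := ctx_odd hodd₀ hm
  rw [AutPSL.splitClassCount_eq_relIndex _ _ inn_le_pgo,
    centralizer_std (qOdd_map i) hc hc₀ (qOdd_gal σ) hi]
  set C := (mapGO (Q := qOdd F m) (Q₀ := qOdd F₀ m) (qOdd_map i)).range.map conjA
  have hC : C ≤ (conjA (Q := qOdd F m)).range := by rintro _ ⟨g, -, rfl⟩; exact ⟨g, rfl⟩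
  constructor
  · intro hro
    obtain ⟨n, hn⟩ := FiniteField.exists_nonsquare (F := F₀) fun h => two_ne_zero_of_odd hodd₀ (by
      have : CharP F₀ 2 := h ▸ ringChar.charP F₀
      exact CharTwo.two_eq_zero)
    have hnot := map_not_le_inn_odd hm hodd hodd₀ i (not_isSquare_of_odd i hi hr hro hn)
    have hmul := Subgroup.relIndex_mul_relIndex _ _ _ (le_sup_left : Cfsg.Inn _ ≤ Cfsg.Inn _ ⊔ C)
      (sup_le inn_le_pgo hC)
    rw [relIndex_inn_odd hodd hm] at hmul
    rcases (Nat.dvd_prime Nat.prime_two).1 ⟨_, hmul.symm⟩ with h | h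
    · exact absurd (le_trans le_sup_right (Subgroup.relIndex_eq_one.1 h)) hnot
    · rw [h] at hmul; omega
  · intro h2
    subst h2
    rw [sup_eq_left.2 (map_le_inn_odd hm hodd hodd₀ i (isSquare_of_two hodd i hF)), relIndex_inn_odd hodd hm]

/-- The statement on field automorphisms of prime order in odd dimension. -/
theorem field_odd_main {p f : ℕ} [Fact p.Prime] (hF : Fintype.card F = p ^ f) (hf : 1 ≤ f)
    (x : MulAut (Cfsg.POmega F ⇑(qOdd F m))) (hne : galOf (ctx_odd hodd hm) x ≠ 1) {r : ℕ} (hr : r.Prime)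
    (hxr : x ^ r = 1) (hF₀ : Fintype.card F₀ = p ^ (f / r)) :
    r ∣ f ∧ Nonempty (↥((conjA (Q := qOdd F m)).range ⊓ Subgroup.centralizer {x}) ≃*
        ↥(conjA (Q := qOdd F₀ m)).range) ∧
      (Odd r → Cfsg.splitClassCount (conjA (Q := qOdd F m)).range (Cfsg.Inn (Cfsg.POmega F ⇑(qOdd F m))) x = 1) ∧
      (r = 2 → Cfsg.splitClassCount (conjA (Q := qOdd F m)).range (Cfsg.Inn (Cfsg.POmega F ⇑(qOdd F m))) x = 2) := by
  have hc := ctx_odd (F := F) hodd hm
  have hc₀ := ctx_odd (F := F₀) hodd₀ hm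
  have hord := orderOf_gal hc hr hxr hne
  have hconj := normal_odd hodd hm hr hxr hne
  set σ := galOf hc x
  obtain ⟨hcyc, hgal⟩ := AutPSL.card_gal (F := F) hf hF
  have hrf : r ∣ f := by rw [← hgal, ← hord]; exact orderOf_dvd_natCard σ
  obtain ⟨j, hi⟩ := AutPSL.exists_fixed_embedding hF hord hrf F₀ hF₀
  refine ⟨hrf, ?_, ?_⟩
  · obtain ⟨e1⟩ := AutPSL.centralizer_inf_congr hconj
    rw [centralizer_std (qOdd_map j) hc hc₀ (qOdd_gal σ) hi] at e1
    obtain ⟨e2⟩ := image_iso (qOdd_map (m := m) j) hc hc₀ ⊤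
    rw [← MonoidHom.range_eq_map, ← MonoidHom.range_eq_map] at e2
    exact ⟨e1.trans e2⟩
  · have h := split_odd hm hodd hodd₀ j hi hord (by rw [hF, hF₀, ← pow_mul, Nat.div_mul_cancel hrf])
    rw [← AutPSL.splitClassCount_conj _ hconj] at h
    exact h

end Cfsg.Agent.AutPOmega
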