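import Cfsg.Agent.AutPOmega.MinusLang
import Cfsg.Agent.AutPOmega.OddField

/-!
Field automorphisms of the minus groups: centralizers in the inner-diagonal group, splitting of their classes.
-/

set_option autoImplicit false

namespace Cfsg.Agent.AutPOmega

open Module QuadraticMap Classical.Quad Matrix

section General

variable {ι : Type} [Fintype ι] [DecidableEq ι] {F F₀ : Type*} [Field F] [Field F₀]
  {Q : QuadraticForm F (ι → F)} {Q₀ : QuadraticForm F₀ (ι → F₀)} {i : F₀ →+* F}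

theorem mult_mapGO (hQ : ∀ v : ι → F₀, Q (fun j => i (v j)) = i (Q₀ v)) (hc : Ctx Q) (hc₀ : Ctx Q₀)
    (g : Geo.quadSimilarityGroup (F := F₀) (⇑Q₀)) :
    mult hc (mapGO hQ g) = Units.map (i : F₀ →* F) (mult hc₀ g) :=
  mult_eq hc fun v => by
    rw [mat_mapGO hQ]
    exact map_sim_eq hQ (mult_spec hc₀ g) v

theorem isSquare_mul_of_not {K : Type*} [Field K] [Finite K] (h2 : (2 : K) ≠ 0) {a b : K} (ha : ¬ IsSquare a)
    (hb : ¬ IsSquare b) : IsSquare (a * b) := by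
  have := Fintype.ofFinite K
  have hc : ringChar K ≠ 2 := fun h => h2 (by
    have : CharP K 2 := h ▸ ringChar.charP K
    exact CharTwo.two_eq_zero)
  have ha0 : a ≠ 0 := fun h => ha (h ▸ IsSquare.zero)
  have hb0 : b ≠ 0 := fun h => hb (h ▸ IsSquare.zero)
  have key : ∀ x : K, x ≠ 0 → ¬ IsSquare x → x ^ (Fintype.card K / 2) = -1 := fun x hx0 hx =>
    (FiniteField.pow_dichotomy hc hx0).resolve_left fun h => hx ((FiniteField.isSquare_iff hc hx0).2 h)
  rw [FiniteField.isSquare_iff hc (mul_ne_zero ha0 hb0), mul_pow, key a ha0 ha, key b hb0 hb]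
  ring

end General

variable {F : Type*} [Field F] [Finite F] {m : ℕ} (hm : 3 ≤ m) {a b : F}
  (hab : ∀ z₁ z₂ : F, z₁ ^ 2 + a * z₁ * z₂ + b * z₂ ^ 2 = 0 → z₁ = 0 ∧ z₂ = 0)
include hm hab

/-- The inner-diagonal group, on the quadratic form. -/
noncomputable def inndiagM : Subgroup (MulAut (Cfsg.POmega F ⇑(qMinus F m a b))) := (parM hm hab).ker.map conjA

theorem parM_scalar (c : Fˣ) : parM hm hab (scalarSim c) = 1 := by
  haveI : Fact (∀ r : F, r ^ 2 ≠ -b + -a * r) :=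
    ⟨fun r hr => one_ne_zero (hab r 1 (by linear_combination hr)).2⟩
  haveI : Finite (QuadraticAlgebra F (-b) (-a)) :=
    Finite.of_equiv _ (QuadraticAlgebra.equivProd (-b) (-a)).symm
  obtain ⟨ρ, hρ⟩ := exists_root (F := F) (K := QuadraticAlgebra F (-b) (-a))
    (QuadraticAlgebra.finrank_eq_two (R := F) (-b) (-a)) hab
  rw [← parM_eq hm hab _ hρ]
  refine (Semi.par_congr (S := Semi.ofSim 1) ((map_ne_zero (algebraMap F (QuadraticAlgebra F (-b) (-a)))).2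
    c.ne_zero) fun v => ?_).trans (map_one (hyp_minusK hm _ (ctx_minus hm hab).nondeg hρ).parG)
  have e : (mapGO (qMinus_map (m := m) (algebraMap F (QuadraticAlgebra F (-b) (-a))) a b) (scalarSim c)).1.1 =
      algebraMap F (QuadraticAlgebra F (-b) (-a)) (c : F) • (1 : Matrix _ _ _) := by
    rw [mat_mapGO]
    refine Matrix.ext fun x y => ?_
    show algebraMap F _ ((Matrix.scalar _ (c : F)) x y) = _
    by_cases hxy : x = y <;> simp [Matrix.one_apply, hxy]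
  rw [Semi.ofSim_app, Semi.ofSim_app, e, Matrix.smul_mulVec]
  rfl

theorem parM_eq_of_conjA_eq {g k : Geo.quadSimilarityGroup (F := F) (⇑(qMinus F m a b))} (h : conjA g = conjA k) :
    parM hm hab g = parM hm hab k := by
  have h1 : conjA (k⁻¹ * g) = 1 := by rw [map_mul, map_inv, h, inv_mul_cancel]
  rw [conjA_eq_one_iff (ctx_minus hm hab)] at h1
  obtain ⟨c, hc⟩ := h1
  have e : k⁻¹ * g = scalarSim c := Subtype.ext hc.symm
  rw [show g = k * scalarSim c by rw [← e, mul_inv_cancel_left], map_mul, parM_scalar, mul_one]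

variable {F₀ : Type*} [Field F₀] [Finite F₀] (i : F₀ →+* F) {a₀ b₀ : F₀}
  (hab₀ : ∀ z₁ z₂ : F₀, z₁ ^ 2 + a₀ * z₁ * z₂ + b₀ * z₂ ^ 2 = 0 → z₁ = 0 ∧ z₂ = 0)

omit hab in
/-- The centralizer of a standard field automorphism in the inner-diagonal group. -/
theorem inndiag_centralizer_std
    (habi : ∀ z₁ z₂ : F, z₁ ^ 2 + i a₀ * z₁ * z₂ + i b₀ * z₂ ^ 2 = 0 → z₁ = 0 ∧ z₂ = 0)
    (hab₀ : ∀ z₁ z₂ : F₀, z₁ ^ 2 + a₀ * z₁ * z₂ + b₀ * z₂ ^ 2 = 0 → z₁ = 0 ∧ z₂ = 0)
    {σ : F ≃+* F} (hi : ∀ x : F, σ x = x ↔ x ∈ i.range)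
    (hσ : ∀ v : (Fin m ⊕ Fin m) ⊕ Fin 2 → F, qMinus F m (i a₀) (i b₀) (fun j => σ (v j)) =
      σ (qMinus F m (i a₀) (i b₀) v)) :
    inndiagM hm habi ⊓ Subgroup.centralizer {(Semi.ofGal σ hσ).aut} =
      ((parM hm hab₀).ker.map (mapGO (qMinus_map (m := m) i a₀ b₀))).map conjA := by
  have hcs := centralizer_std (qMinus_map (m := m) i a₀ b₀) (ctx_minus hm habi) (ctx_minus hm hab₀) hσ hi
  refine le_antisymm ?_ ?_
  · intro x hx
    obtain ⟨h1, h2⟩ := Subgroup.mem_inf.1 hx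
    rw [inndiagM] at h1
    obtain ⟨k, hk, rfl⟩ := h1
    have h3 : conjA k ∈ ((mapGO (qMinus_map (m := m) i a₀ b₀)).range.map conjA) := by
      rw [← hcs]; exact Subgroup.mem_inf.2 ⟨⟨k, rfl⟩, h2⟩
    obtain ⟨_, ⟨g, rfl⟩, hg⟩ := h3
    refine ⟨_, ⟨g, ?_, rfl⟩, hg⟩
    rw [SetLike.mem_coe, MonoidHom.mem_ker, ← parM_mapGO hm hab₀ i habi g, parM_eq_of_conjA_eq hm habi hg]
    exact hk
  · rintro _ ⟨_, ⟨g, hg, rfl⟩, rfl⟩
    have h3 : conjA (mapGO (qMinus_map (m := m) i a₀ b₀) g) ∈ (mapGO (qMinus_map (m := m) i a₀ b₀)).range.map conjA :=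
      ⟨_, ⟨g, rfl⟩, rfl⟩
    rw [← hcs] at h3
    refine Subgroup.mem_inf.2 ⟨?_, (Subgroup.mem_inf.1 h3).2⟩
    rw [inndiagM]
    exact ⟨_, by rw [SetLike.mem_coe, MonoidHom.mem_ker, parM_mapGO hm hab₀ i habi]; exact hg, rfl⟩

omit hab in
/-- Inner automorphisms and the subfield generate the inner-diagonal group when the degree is odd. -/
theorem inndiag_le_sup
    (habi : ∀ z₁ z₂ : F, z₁ ^ 2 + i a₀ * z₁ * z₂ + i b₀ * z₂ ^ 2 = 0 → z₁ = 0 ∧ z₂ = 0)
    (hab₀ : ∀ z₁ z₂ : F₀, z₁ ^ 2 + a₀ * z₁ * z₂ + b₀ * z₂ ^ 2 = 0 → z₁ = 0 ∧ z₂ = 0)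
    (hns : ∀ n : F₀, ¬ IsSquare n → ¬ IsSquare (i n)) :
    inndiagM hm habi ≤ Cfsg.Inn (Cfsg.POmega F ⇑(qMinus F m (i a₀) (i b₀))) ⊔
      ((parM hm hab₀).ker.map (mapGO (qMinus_map (m := m) i a₀ b₀))).map conjA := by
  classical
  haveI := Fintype.ofFinite F
  haveI := Fintype.ofFinite F₀
  set hc := ctx_minus hm habi
  set hc₀ := ctx_minus hm hab₀
  set C := ((parM hm hab₀).ker.map (mapGO (qMinus_map (m := m) i a₀ b₀))).map conjA
  rw [inndiagM]
  rintro _ ⟨k, hk, rfl⟩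
  have hk' : parM hm habi k = 1 := hk
  obtain ⟨n, d, hnd⟩ : ∃ (n : F₀ˣ) (d : Fˣ), mult hc k = Units.map (i : F₀ →* F) n * d ^ 2 := by
    by_cases hs : IsSquare ((mult hc k : Fˣ) : F)
    · obtain ⟨d, hd⟩ := hs
      have hd0 : d ≠ 0 := fun h => (mult hc k).ne_zero (by rw [hd, h, mul_zero])
      exact ⟨1, Units.mk0 d hd0, Units.ext (by simp [hd, pow_two])⟩
    · have hc2 : ringChar F ≠ 2 := fun h => hs (FiniteField.isSquare_of_char_two h _)
      have h2 : (2 : F) ≠ 0 := Ring.two_ne_zero hc2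
      obtain ⟨n, hn⟩ := FiniteField.exists_nonsquare (F := F₀) fun h => by
        have : CharP F₀ 2 := h ▸ ringChar.charP F₀
        exact h2 (by rw [← map_ofNat i 2, CharTwo.two_eq_zero, map_zero])
      have hn0 : n ≠ 0 := fun h => hn (h ▸ IsSquare.zero)
      obtain ⟨e, he⟩ := isSquare_mul_of_not h2 hs (hns n hn)
      have hin : i n ≠ 0 := (map_ne_zero i).2 hn0
      have he0 : e / i n ≠ 0 := div_ne_zero (fun h => mul_ne_zero (mult hc k).ne_zero hin (by rw [he, h, mul_zero])) hin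
      refine ⟨Units.mk0 n hn0, Units.mk0 (e / i n) he0, Units.ext ?_⟩
      simp only [Units.val_mul, Units.coe_map, Units.val_pow_eq_pow_val, Units.val_mk0, MonoidHom.coe_coe]
      field_simp
      linear_combination he
  obtain ⟨g₀, hg₀, hg₀m⟩ := exists_canon_mult hm hab₀ n
  have hg₀p : parM hm hab₀ g₀ = 1 := (isParM_parM hm hab₀).2 _ hg₀
  set g₁ := scalarSim d * mapGO (qMinus_map (m := m) i a₀ b₀) g₀
  have hg₁m : mult hc g₁ = mult hc k := by
    rw [map_mul, mult_scalarSim, mult_mapGO _ hc hc₀, hg₀m, hnd, mul_comm]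
  have hker : g₁⁻¹ * k ∈ (mult hc).ker := by rw [MonoidHom.mem_ker, map_mul, map_inv, hg₁m, inv_mul_cancel]
  rw [ker_mult] at hker
  obtain ⟨s, hs⟩ := hker
  have hsd : dickson hc.nondeg (hexM hm habi) (oEquiv _ s) = 1 := by
    rw [← parM_iso hm habi, hs, map_mul, map_inv, map_mul, parM_scalar, parM_mapGO hm hab₀ i habi, hg₀p, hk']
    decide
  rw [show k = g₁ * isoToSim s by rw [hs, mul_inv_cancel_left], map_mul, map_mul, conjA_scalarSim hc, one_mul]
  refine mul_mem (Subgroup.mem_sup_right ⟨_, ⟨g₀, hg₀p, rfl⟩, rfl⟩) ?_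
  have homega : ∀ s' : Cfsg.isometryGroup F ⇑(qMinus F m (i a₀) (i b₀)), oEquiv _ s' ∈ commutator (oG _) →
      conjA (isoToSim s') ∈ Cfsg.Inn (Cfsg.POmega F ⇑(qMinus F m (i a₀) (i b₀))) := fun s' h =>
    mem_inn_of_omega ((mem_omega_iff _).2 h)
  by_cases h2 : (2 : F) = 0
  · haveI := CharTwo.of_one_ne_zero_of_two_eq_zero one_ne_zero h2
    refine Subgroup.mem_sup_left (homega s ?_)
    rw [(commutator_eq_ker_dickson hc.nondeg (hexM hm habi) (by simp)).1]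
    exact hsd
  · have h2₀ : (2 : F₀) ≠ 0 := fun h => h2 (by rw [← map_ofNat i 2, h, map_zero])
    have hn2 : 2 ≤ finrank F ((Fin m ⊕ Fin m) ⊕ Fin 2 → F) := by simp
    rcases Int.units_eq_one_or (spin _ (oEquiv _ s)) with hsp | hsp
    · exact Subgroup.mem_sup_left (homega s ((mem_commutator_iff hc.nondeg h2 hn2 _).2 ⟨hsd, hsp⟩))
    · obtain ⟨u, hu⟩ := exists_value_one hc₀
      obtain ⟨n', hn'⟩ := FiniteField.exists_nonsquare (F := F₀) fun h => by
        have : CharP F₀ 2 := h ▸ ringChar.charP F₀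
        exact h2₀ CharTwo.two_eq_zero
      obtain ⟨w, hw⟩ := exists_value hc₀.nondeg h2₀ (by simp) (c := n') fun h0 => hn' (h0 ▸ IsSquare.zero)
      have hu0 : qMinus F₀ m a₀ b₀ u ≠ 0 := by rw [hu]; exact one_ne_zero
      have hw0 : qMinus F₀ m a₀ b₀ w ≠ 0 := fun h0 => hn' (by rw [← hw, h0]; exact IsSquare.zero)
      obtain ⟨X, hX⟩ : ∃ X, X = (oEquiv (qMinus F₀ m a₀ b₀)).symm (rO hu0) *
          (oEquiv (qMinus F₀ m a₀ b₀)).symm (rO hw0) := ⟨_, rfl⟩
      have hX1 : parM hm hab₀ (isoToSim X) = 1 := by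
        rw [parM_iso, hX, map_mul, map_mul, MulEquiv.apply_symm_apply, MulEquiv.apply_symm_apply, dickson_rO,
          dickson_rO]
        decide
      have hXd : dickson hc.nondeg (hexM hm habi) (oEquiv _ (mapI (qMinus_map i a₀ b₀) X)) = 1 := by
        rw [dickson_mapI _ hc₀.nondeg hc.nondeg (hexM hm hab₀), ← parM_iso hm hab₀, hX1]
      have hXs : spin (qMinus F m (i a₀) (i b₀)) (oEquiv _ (mapI (qMinus_map i a₀ b₀) X)) = -1 := by
        rw [hX, map_mul, map_mul, mapI_rO _ hu0, mapI_rO _ hw0, map_mul, spin_rO h2, spin_rO h2,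
          if_pos (by rw [qMinus_map, hu, map_one]; exact IsSquare.one),
          if_neg (by rw [qMinus_map, hw]; exact hns n' hn')]
        decide
      have e : conjA (isoToSim s) = conjA (mapGO (qMinus_map (m := m) i a₀ b₀) (isoToSim X)) *
          conjA (isoToSim ((mapI (qMinus_map i a₀ b₀) X)⁻¹ * s)) := by
        rw [← map_mul]
        refine congrArg conjA ?_
        rw [map_mul, map_inv, show mapGO (qMinus_map (m := m) i a₀ b₀) (isoToSim X) =
          isoToSim (mapI (qMinus_map i a₀ b₀) X) from Subtype.ext rfl, mul_inv_cancel_left]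
      rw [e]
      refine mul_mem (Subgroup.mem_sup_right ⟨_, ⟨_, hX1, rfl⟩, rfl⟩) (Subgroup.mem_sup_left (homega _ ?_))
      refine (mem_commutator_iff hc.nondeg h2 hn2 _).2 ⟨?_, ?_⟩
      · rw [map_mul, map_mul, map_inv, map_inv, hXd, hsd]; decide
      · rw [map_mul, map_mul, map_inv, map_inv, hXs, hsp]; decide

theorem map_inndiag_minus {a' b' : F}
    (hab' : ∀ z₁ z₂ : F, z₁ ^ 2 + a' * z₁ * z₂ + b' * z₂ ^ 2 = 0 → z₁ = 0 ∧ z₂ = 0)
    (e : Sim (qMinus F m a' b') (qMinus F m a b)) :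
    (inndiagM hm hab').map e.autIso.toMonoidHom = inndiagM hm hab := by
  rw [inndiagM, inndiagM]
  refine le_antisymm ?_ ?_
  · rintro _ ⟨_, ⟨g, hg, rfl⟩, rfl⟩
    exact ⟨e.go g, (parM_go hm hab hab' e g).trans hg, (e.autIso_conjA g).symm⟩
  · rintro _ ⟨g, hg, rfl⟩
    obtain ⟨g', rfl⟩ := e.go_surjective g
    exact ⟨_, ⟨g', (parM_go hm hab hab' e g').symm.trans hg, rfl⟩, e.autIso_conjA g'⟩

/-- The statement on field automorphisms of prime order of the minus groups. -/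
theorem field_minus_main {F' : Type*} [Field F'] [Fintype F'] {p f : ℕ} [Fact p.Prime]
    (hF : Nat.card F = p ^ f) (hf : 1 ≤ f) {x : MulAut (Cfsg.POmega F ⇑(qMinus F m a b))}
    (hne : galOf (ctx_minus hm hab) x ≠ 1) {r : ℕ} (hr : r.Prime) (hxr : x ^ r = 1)
    (hF' : Fintype.card F' = p ^ (f / r)) :
    Odd r ∧ r ∣ f ∧ (∃ a₀ b₀ : F', (∀ z₁ z₂ : F', z₁ ^ 2 + a₀ * z₁ * z₂ + b₀ * z₂ ^ 2 = 0 → z₁ = 0 ∧ z₂ = 0) ∧
        Nonempty (↥(inndiagM hm hab ⊓ Subgroup.centralizer {x}) ≃*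
          ↥(Cfsg.inndiagPOmegaMinus m F' a₀ b₀))) ∧
      Cfsg.splitClassCount (inndiagM hm hab) (Cfsg.Inn (Cfsg.POmega F ⇑(qMinus F m a b))) x = 1 := by
  haveI := Fintype.ofFinite F
  rw [Nat.card_eq_fintype_card] at hF
  have hord := orderOf_gal (ctx_minus hm hab) hr hxr hne
  obtain ⟨hcyc, hgal⟩ := AutPSL.card_gal (F := F) hf hF
  have hrf : r ∣ f := by rw [← hgal, ← hord]; exact orderOf_dvd_natCard _
  obtain ⟨j, hi⟩ := AutPSL.exists_fixed_embedding hF hord hrf F' hF'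
  obtain ⟨ζ, hζ⟩ := exists_rootfree (F := F')
  obtain ⟨hro, habP, e, hx⟩ := normal_minus hm hab hr hxr hne j hi hζ
  have hab' := rootfree_aniso hζ
  have hσ := qMinus_gal (m := m) (galOf (ctx_minus hm hab) x) ((hi _).2 ⟨1, rfl⟩) ((hi _).2 ⟨ζ, rfl⟩)
  have hinn : (Cfsg.Inn (Cfsg.POmega F ⇑(qMinus F m (j 1) (j ζ)))).map e.autIso.toMonoidHom =
      Cfsg.Inn (Cfsg.POmega F ⇑(qMinus F m a b)) := e.map_inn
  have hcent := inndiag_centralizer_std hm j habP hab' hi hσ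
  refine ⟨hro, hrf, ⟨1, ζ, hab', ?_⟩, ?_⟩
  · obtain ⟨e2⟩ := image_iso (qMinus_map (m := m) j 1 ζ) (ctx_minus hm habP) (ctx_minus hm hab') (parM hm hab').ker
    have e1 := (inndiagM hm habP ⊓ Subgroup.centralizer
      {(Semi.ofGal _ hσ).aut}).equivMapOfInjective e.autIso.toMonoidHom e.autIso.injective
    have h1 := map_inf_centralizer e.autIso (inndiagM hm habP) (Semi.ofGal _ hσ).aut
    rw [map_inndiag_minus hm hab habP e, ← hx] at h1
    exact ⟨(MulEquiv.subgroupCongr h1.symm).trans (e1.symm.trans ((MulEquiv.subgroupCongr hcent).trans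
      (e2.trans (MulEquiv.subgroupCongr (inndiag_minus hm hab').symm))))⟩
  · rw [← map_inndiag_minus hm hab habP e, ← hinn, hx, splitClassCount_map,
      AutPSL.splitClassCount_eq_relIndex _ _ (by
        rw [inndiagM, inn_eq]
        rintro _ ⟨_, ⟨s, rfl⟩, rfl⟩
        refine ⟨omToSim s, ?_, rfl⟩
        rw [SetLike.mem_coe, MonoidHom.mem_ker]
        show parM hm habP (isoToSim s.1) = 1
        rw [parM_iso]
        exact Abelianization.commutator_subset_ker _ ((mem_omega_iff s.1).1 s.2)), hcent, Subgroup.relIndex_eq_one]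
    exact inndiag_le_sup hm j habP hab' fun n hn => not_isSquare_of_odd j hi hord hro hn

end Cfsg.Agent.AutPOmega
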