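import Cfsg.Agent.AutPOmega.Minus
import Cfsg.Agent.AutPOmega.OddLang

/-!
Field automorphisms of prime order of the minus groups: normal form under the inner-diagonal group.
-/

set_option autoImplicit false

namespace Cfsg.Agent.AutPOmega

open Module QuadraticMap Classical.Quad Matrix

variable {F : Type*} [Field F] {m : ℕ}

theorem no_ms_minus [Finite F] {a b : F} (hab : ∀ z₁ z₂ : F, z₁ ^ 2 + a * z₁ * z₂ + b * z₂ ^ 2 = 0 → z₁ = 0 ∧ z₂ = 0)
    (U : Submodule F ((Fin m ⊕ Fin m) ⊕ Fin 2 → F)) : ¬ IsMS (qMinus F m a b) (m + 1) U := fun hU => by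
  have h := (minus_index hab m).2 U fun u hu => hU.1 u hu
  rw [hU.2] at h
  omega

theorem isMS_sim {ι : Type} [Fintype ι] [DecidableEq ι] {P Q : QuadraticForm F (ι → F)} (e : Sim P Q) {k : ℕ}
    {U : Submodule F (ι → F)} (hU : IsMS P k U) : IsMS Q k (U.map (glLin e.H).toLinearMap) :=
  ⟨by rintro _ ⟨u, hu, rfl⟩; show Q (glLin e.H u) = 0; rw [glLin_apply, e.map_Q, hU.1 u hu, mul_zero],
    by rw [LinearEquiv.finrank_map_eq, hU.2]⟩

theorem exists_sim_minus [Finite F] (m : ℕ) {a b a' b' : F}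
    (hab : ∀ z₁ z₂ : F, z₁ ^ 2 + a * z₁ * z₂ + b * z₂ ^ 2 = 0 → z₁ = 0 ∧ z₂ = 0)
    (hab' : ∀ z₁ z₂ : F, z₁ ^ 2 + a' * z₁ * z₂ + b' * z₂ ^ 2 = 0 → z₁ = 0 ∧ z₂ = 0) :
    Nonempty (Sim (qMinus F m a' b') (qMinus F m a b)) := by
  obtain ⟨ζ, hζ⟩ := exists_rootfree (F := F)
  obtain ⟨L, hL⟩ := iso_hyp ((iso_binForm hab' hζ).symm.trans (iso_binForm hab hζ)) m
  let E := ((minusCoord (F := F) m).trans L).trans (minusCoord m).symm
  refine ⟨⟨⟨LinearMap.toMatrix' E.toLinearMap, LinearMap.toMatrix' E.symm.toLinearMap,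
    by rw [← LinearMap.toMatrix'_comp, LinearEquiv.comp_symm, LinearMap.toMatrix'_id],
    by rw [← LinearMap.toMatrix'_comp, LinearEquiv.symm_comp, LinearMap.toMatrix'_id]⟩, 1, one_ne_zero, fun v => ?_⟩⟩
  show qMinus F m a b (LinearMap.toMatrix' E.toLinearMap *ᵥ v) = _
  rw [LinearMap.toMatrix'_mulVec, one_mul, qMinus_apply, qMinus_apply, ← minusCoord_map, ← minusCoord_map]
  simp [E, hL]

theorem finrank_of_involution {F₀ : Type*} [Field F₀] (i : F₀ →+* F) {σ : F ≃+* F} (hσ : σ ^ 2 = 1)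
    (hne : σ ≠ 1) (hi : ∀ x : F, σ x = x ↔ x ∈ i.range) :
    letI := i.toAlgebra
    finrank F₀ F = 2 := by
  letI := i.toAlgebra
  obtain ⟨y, hy⟩ : ∃ y, σ y ≠ y := by
    by_contra h
    push Not at h
    exact hne (RingEquiv.ext h)
  have hσσ : ∀ z, σ (σ z) = z := fun z => RingEquiv.congr_fun (show σ * σ = 1 by rw [← pow_two, hσ]) z
  have hd : y - σ y ≠ 0 := sub_ne_zero.2 (Ne.symm hy)
  let L : F₀ × F₀ →ₗ[F₀] F :=
    (LinearMap.toSpanSingleton F₀ F 1).coprod (LinearMap.toSpanSingleton F₀ F y)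
  have hL : ∀ c, L c = i c.1 + i c.2 * y := fun c => by simp [L, Algebra.smul_def, RingHom.algebraMap_toAlgebra]
  have hbij : Function.Bijective L := by
    constructor
    · refine (injective_iff_map_eq_zero L).2 fun c hc => ?_
      rw [hL] at hc
      by_cases h2 : c.2 = 0
      · rw [h2, map_zero, zero_mul, add_zero, map_eq_zero] at hc
        exact Prod.ext hc h2
      · refine absurd ((hi y).2 ⟨-c.1 / c.2, ?_⟩) hy
        have : i c.2 ≠ 0 := (map_ne_zero i).2 h2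
        rw [map_div₀, map_neg, div_eq_iff this]
        linear_combination -hc
    · intro x
      obtain ⟨c₁, hc₁⟩ := (hi ((x - σ x) / (y - σ y))).1 (by
        rw [map_div₀, map_sub, map_sub, hσσ, hσσ, ← neg_sub x (σ x), ← neg_sub y (σ y), neg_div_neg_eq])
      obtain ⟨c₀, hc₀⟩ := (hi (x - i c₁ * y)).1 (by
        rw [map_sub, map_mul, (hi (i c₁)).2 ⟨c₁, rfl⟩]
        have h := hc₁
        rw [eq_div_iff hd] at h
        linear_combination h)
      exact ⟨(c₀, c₁), by rw [hL, hc₀]; ring⟩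
  rw [← (LinearEquiv.ofBijective L hbij).finrank_eq, Module.finrank_prod, Module.finrank_self]

variable [Finite F] (hm : 3 ≤ m) {a b : F}
  (hab : ∀ z₁ z₂ : F, z₁ ^ 2 + a * z₁ * z₂ + b * z₂ ^ 2 = 0 → z₁ = 0 ∧ z₂ = 0)
include hm hab

theorem normal_minus {x : MulAut (Cfsg.POmega F ⇑(qMinus F m a b))} {r : ℕ} (hr : r.Prime) (hxr : x ^ r = 1)
    (hne : galOf (ctx_minus hm hab) x ≠ 1) {F₀ : Type*} [Field F₀] [Finite F₀] (i : F₀ →+* F)
    (hi : ∀ y : F, galOf (ctx_minus hm hab) x y = y ↔ y ∈ i.range) {ζ : F₀} (hζ : ∀ t : F₀, t ^ 2 + t + ζ ≠ 0) :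
    Odd r ∧ (∀ z₁ z₂ : F, z₁ ^ 2 + i 1 * z₁ * z₂ + i ζ * z₂ ^ 2 = 0 → z₁ = 0 ∧ z₂ = 0) ∧
      ∃ e : Sim (qMinus F m (i 1) (i ζ)) (qMinus F m a b), x = e.autIso
        (Semi.ofGal (galOf (ctx_minus hm hab) x)
          (qMinus_gal (m := m) (galOf (ctx_minus hm hab) x) ((hi _).2 ⟨1, rfl⟩) ((hi _).2 ⟨ζ, rfl⟩))).aut := by
  set hc := ctx_minus hm hab
  obtain ⟨T, rfl⟩ := exists_semi hc x
  set σ := galOf hc T.aut with hσdef
  have hσT : T.σ = σ := (galOf_aut hc T).symm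
  have hord : orderOf T.σ = r := hσT ▸ orderOf_gal hc hr hxr hne
  obtain ⟨k₁, α₀, α, G₀, ha, hα, hG₀, hk, hT⟩ := exists_descent hc T hord hxr i (fun y => by rw [hσT]; exact hi y)
  have hfix : ∀ y : F₀, T.σ (i y) = i y := fun y => by rw [hσT]; exact (hi _).2 ⟨y, rfl⟩
  rcases even_cases hG₀ (m := m + 1) (by rw [finrank_fintype_fun_eq_card]; simp; ring) with ⟨E, hE⟩ | ⟨-, hmin⟩
  · exfalso
    let ε : (Fin m ⊕ Fin m) ⊕ Fin 2 ≃ Fin (m + 1) ⊕ Fin (m + 1) := Fintype.equivOfCardEq (by simp; ring)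
    let R₀ : ((Fin m ⊕ Fin m) ⊕ Fin 2 → F₀) ≃ₗ[F₀] (Fin (m + 1) ⊕ Fin (m + 1) → F₀) :=
      LinearEquiv.funCongrLeft F₀ F₀ ε.symm
    let R : ((Fin m ⊕ Fin m) ⊕ Fin 2 → F) ≃ₗ[F] (Fin (m + 1) ⊕ Fin (m + 1) → F) :=
      LinearEquiv.funCongrLeft F F ε.symm
    obtain ⟨H, c, hc', hH, -⟩ := exists_normal_form hc T i ha hα hfix hk hT
      (R₀.trans ((plusCoord (m + 1)).trans E)) one_ne_zero (P₀ := (qPlus F₀ (m + 1)).comp R₀.toLinearMap)
      (P := (qPlus F (m + 1)).comp R.toLinearMap) (fun v => by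
        show G₀ (E (plusCoord (m + 1) (R₀ v))) = _
        rw [hE, plusCoord_map, one_mul]
        rfl) (fun v => qPlus_map i (R₀ v))
    refine no_ms_minus hab _ (isMS_sim (⟨H, c, hc', hH⟩ : Sim ((qPlus F (m + 1)).comp R.toLinearMap) _)
      (U := (plusU F (m + 1)).map R.symm.toLinearMap) ⟨?_, ?_⟩)
    · rintro _ ⟨u, hu, rfl⟩
      show qPlus F (m + 1) (R (R.symm u)) = 0
      rw [R.apply_symm_apply]
      exact isMS_plusU.1 u hu
    · rw [LinearEquiv.finrank_map_eq]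
      exact isMS_plusU.2
  · have hab₀ := rootfree_aniso hζ
    obtain ⟨E, hE⟩ := hmin 1 ζ hab₀
    obtain ⟨H, c, hc', hH, hTH⟩ := exists_normal_form hc T i ha hα hfix hk hT
      ((minusCoord (F := F₀) m).trans E) one_ne_zero (P₀ := qMinus F₀ m 1 ζ) (P := qMinus F m (i 1) (i ζ))
      (fun v => by
        show G₀ (E (minusCoord m v)) = _
        rw [hE, one_mul, qMinus_apply]
        exact minusCoord_map 1 ζ m v) (fun v => qMinus_map i 1 ζ v)
    let e : Sim (qMinus F m (i 1) (i ζ)) (qMinus F m a b) := ⟨H, c, hc', hH⟩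
    have hnoroot : ∀ ρ : F, ρ ^ 2 + i 1 * ρ + i ζ ≠ 0 := fun ρ hρ =>
      no_ms_minus hab _ (isMS_sim e (isMS_minusU hρ))
    refine ⟨?_, ?_, e, ?_⟩
    · refine hr.odd_of_ne_two fun h2 => ?_
      letI := i.toAlgebra
      have h := finrank_of_involution i (σ := σ) (by
        have h3 := pow_orderOf_eq_one T.σ
        rwa [hord, h2, hσT] at h3) hne hi
      obtain ⟨ρ, hρ⟩ := exists_root (F := F₀) (K := F) h hab₀
      exact hnoroot ρ hρ
    · rw [map_one] at hnoroot ⊢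
      exact rootfree_aniso fun t => by simpa using hnoroot t
    · rw [e.autIso_aut]
      refine Semi.aut_congr _ _ ha fun v => ?_
      obtain ⟨u, rfl⟩ : ∃ u, e.H.1 *ᵥ u = v := ⟨_, e.H_inv v⟩
      rw [e.semi_app, Semi.ofGal_app, hTH, hσT]

/-- Elements of prime order with the same field automorphism are conjugate under the inner-diagonal group. -/
theorem conjUnder_minus {x y : MulAut (Cfsg.POmega F ⇑(qMinus F m a b))} {r : ℕ} (hr : r.Prime)
    (hxr : x ^ r = 1) (hyr : y ^ r = 1) (hne : galOf (ctx_minus hm hab) x ≠ 1)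
    (hg : galOf (ctx_minus hm hab) y = galOf (ctx_minus hm hab) x) :
    Cfsg.IsConjUnder (Cfsg.inndiagPOmegaMinus m F a b) x y := by
  set hc := ctx_minus hm hab
  set σ := galOf hc x with hσdef
  let K : Subfield F := (σ : F →+* F).eqLocusField (RingHom.id F)
  have hi : ∀ y : F, σ y = y ↔ y ∈ K.subtype.range := fun y =>
    ⟨fun h => ⟨⟨y, h⟩, rfl⟩, fun ⟨z, hz⟩ => hz ▸ z.2⟩
  obtain ⟨ζ, hζ⟩ := exists_rootfree (F := K)
  obtain ⟨-, habP, ex, hx⟩ := normal_minus hm hab hr hxr hne K.subtype hi hζ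
  obtain ⟨-, -, ey, hy⟩ := normal_minus hm hab hr hyr (hg ▸ hne) K.subtype (fun z => by rw [hg]; exact hi z) hζ
  let P := qMinus F m (K.subtype 1) (K.subtype ζ)
  have hP : ∀ v, P (fun j => σ (v j)) = σ (P v) := qMinus_gal σ ((hi _).2 ⟨1, rfl⟩) ((hi _).2 ⟨ζ, rfl⟩)
  have hyv : y = ey.autIso (Semi.ofGal σ hP).aut := by
    refine hy.trans (congrArg ey.autIso (Semi.aut_congr _ _ one_ne_zero fun v => ?_))
    rw [one_smul, Semi.ofGal_app, Semi.ofGal_app, hg]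
  have hxv : x = ex.autIso (Semi.ofGal σ hP).aut := hx
  obtain ⟨g, -, hgc⟩ := ex.change ey
  have hyg : y = conjA g * x * (conjA g)⁻¹ := by rw [hyv, hgc, ← hxv]
  let j₀ : Fin m := ⟨0, by omega⟩
  let v₀ : (Fin m ⊕ Fin m) ⊕ Fin 2 → F := Pi.single (.inl (.inl j₀)) 1 + Pi.single (.inl (.inr j₀)) 1
  have hv₀ : P v₀ ≠ 0 := by
    rw [qMinus_apply, Cfsg.quadFormMinus, Finset.sum_eq_single j₀ (fun l _ hl => by simp [v₀, hl])
      (fun h => absurd (Finset.mem_univ _) h)]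
    simp [v₀]
  let s₀ : Cfsg.isometryGroup F ⇑P := (oEquiv P).symm (rO hv₀)
  have hs : parM hm hab (ex.go (isoToSim s₀)) = -1 := by
    rw [parM_go hm hab habP, parM_iso, MulEquiv.apply_symm_apply, dickson_rO]
  have hcomm : Commute (conjA (ex.go (isoToSim s₀))) x := by
    rw [hxv, ← ex.autIso_conjA]
    refine Commute.map ?_ ex.autIso.toMonoidHom
    show _ * _ = _ * _
    rw [conjA_apply, ← Semi.aut_comp, ← Semi.aut_comp]
    refine Semi.aut_congr _ _ one_ne_zero fun v => ?_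
    have happ : ∀ w, s₀.1.1 *ᵥ w = w - (polar (⇑P) w v₀ / P v₀) • v₀ := fun w => by
      rw [← oEquiv_apply, MulEquiv.apply_symm_apply, rO_apply]
    have hfv : (fun j => σ (v₀ j)) = v₀ := by
      funext j
      show σ ((Pi.single _ 1 : _ → F) j + (Pi.single _ 1 : _ → F) j) = _
      rw [map_add]
      by_cases h1 : j = .inl (.inl j₀) <;> by_cases h2 : j = .inl (.inr j₀) <;> simp [v₀, h1, h2]
    rw [one_smul, Semi.app_comp, Semi.app_comp, Semi.ofSim_app, Semi.ofSim_app, Semi.ofGal_app, Semi.ofGal_app]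
    show s₀.1.1 *ᵥ (fun j => σ (v j)) = fun j => σ ((s₀.1.1 *ᵥ v) j)
    rw [happ, happ]
    have hpol : polar (⇑P) (fun j => σ (v j)) v₀ = σ (polar (⇑P) v v₀) := by
      conv_lhs => rw [← hfv]
      exact polar_map_sub (i := (σ : F →+* F)) hP v v₀
    have hPv : σ (P v₀) = P v₀ := by
      conv_rhs => rw [← hfv, hP]
    funext j
    simp only [Pi.sub_apply, Pi.smul_apply, smul_eq_mul, map_sub, map_mul, map_div₀, hpol, hPv]
    rw [show σ (v₀ j) = v₀ j from congrFun hfv j]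
  rw [inndiag_minus hm hab]
  rcases Int.units_eq_one_or (parM hm hab g) with h | h
  · exact ⟨conjA g, ⟨g, h, rfl⟩, hyg⟩
  · have e1 : conjA (ex.go (isoToSim s₀)) * x * (conjA (ex.go (isoToSim s₀)))⁻¹ = x := by
      rw [hcomm.eq, mul_inv_cancel_right]
    have e2 : y = conjA g * conjA (ex.go (isoToSim s₀)) * x * (conjA g * conjA (ex.go (isoToSim s₀)))⁻¹ := by
      rw [hyg]
      conv_lhs => rw [← e1]
      group
    exact ⟨_, ⟨g * ex.go (isoToSim s₀), by rw [SetLike.mem_coe, MonoidHom.mem_ker, map_mul, h, hs]; rfl,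
      map_mul conjA _ _⟩, e2⟩

theorem galOf_fieldClass_minus {x : MulAut (Cfsg.POmega F ⇑(qMinus F m a b))}
    (hx : Cfsg.IsFieldAutClassPOmegaMinus m x) : galOf (ctx_minus hm hab) x ≠ 1 := by
  obtain ⟨a', b', ψ, σ, hab', hσ, ha', hb', hφ⟩ := hx
  obtain ⟨e⟩ := exists_sim_minus m hab hab'
  let ψ' : Cfsg.POmega F ⇑(qMinus F m a b) ≃* Cfsg.POmega F ⇑(qMinus F m a' b') := ψ
  let χ : MulAut (Cfsg.POmega F ⇑(qMinus F m a' b')) := e.pom.trans ψ'
  have hφ' : MulAut.congr ψ' x = (Semi.ofGal σ (qMinus_gal σ ha' hb')).aut :=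
    (Semi.isFieldAut_iff σ (qMinus_gal (m := m) σ ha' hb')).1 hφ
  have he : χ * e.autIso.symm x * χ⁻¹ = MulAut.congr ψ' x := MulEquiv.ext fun z => by
    show ψ' (e.pom (e.pom.symm (x (e.pom (e.pom.symm (ψ'.symm z)))))) = ψ' (x (ψ'.symm z))
    rw [e.pom.apply_symm_apply, e.pom.apply_symm_apply]
  have h1 := e.galOf_autIso (ctx_minus hm hab') (ctx_minus hm hab) (e.autIso.symm x)
  rw [MulEquiv.apply_symm_apply] at h1
  rw [h1, ← galOf_conj (ctx_minus hm hab') χ, he, hφ', galOf_aut]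
  exact hσ

theorem coset_minus {x δ : MulAut (Cfsg.POmega F ⇑(qMinus F m a b))} (hx : Cfsg.IsFieldAutClassPOmegaMinus m x)
    {r : ℕ} (hr : r.Prime) (hxr : orderOf x = r) (hδ : δ ∈ Cfsg.inndiagPOmegaMinus m F a b) :
    orderOf (δ * x) = r ↔ Cfsg.IsConjUnder (Cfsg.inndiagPOmegaMinus m F a b) x (δ * x) := by
  constructor
  · intro h
    rw [inndiag_minus hm hab] at hδ
    obtain ⟨g, -, rfl⟩ := hδ
    exact conjUnder_minus hm hab hr (hxr ▸ pow_orderOf_eq_one x) (h ▸ pow_orderOf_eq_one (conjA g * x))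
      (galOf_fieldClass_minus hm hab hx) (by rw [map_mul, galOf_conjA, one_mul])
  · rintro ⟨h, -, e⟩
    exact (congrArg orderOf e).trans ((AutPSL.orderOf_conj_eq h x).trans hxr)

end Cfsg.Agent.AutPOmega
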