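import Cfsg.Agent.AutPOmega.MinusPar
import Cfsg.Agent.AutPOmega.Odd
import Cfsg.Agent.S0791

/-!
Order of the automorphism group of a minus group and the structure of its outer automorphism group.
-/

set_option autoImplicit false

namespace Cfsg.Agent.AutPOmega

universe u

open Module QuadraticMap Classical.Quad Matrix

section Groups

variable {G H : Type*} [Group G] [Group H]

theorem nonempty_prod_of_central_section (π : G →* H) (s : H →* G) (hs : ∀ h, π (s h) = h)
    (hc : ∀ h, ∀ n ∈ π.ker, Commute n (s h)) : Nonempty (G ≃* π.ker × H) := by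
  let φ : π.ker × H →* G := MonoidHom.noncommCoprod π.ker.subtype s fun n h => hc h n n.2
  have hb : Function.Bijective φ := by
    refine ⟨(injective_iff_map_eq_one φ).2 fun ⟨n, h⟩ hnh => ?_, fun g => ⟨(⟨g * (s (π g))⁻¹, ?_⟩, π g), ?_⟩⟩
    · have h1 : (n : G) * s h = 1 := hnh
      have h2 : h = 1 := by
        have := congrArg π h1
        rwa [map_mul, MonoidHom.mem_ker.1 n.2, one_mul, hs, map_one] at this
      subst h2
      rw [map_one, mul_one] at h1
      exact Prod.ext (Subtype.ext h1) rfl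
    · rw [MonoidHom.mem_ker, map_mul, map_inv, hs, mul_inv_cancel]
    · exact inv_mul_cancel_right _ _
  exact ⟨(MulEquiv.ofBijective φ hb).symm⟩

theorem exists_section_of_lift (π : G →* H) {t : H} (ht : ∀ x, x ∈ Subgroup.zpowers t) {y : G} (hy : π y = t)
    (hord : y ^ orderOf t = 1) : ∃ s : H →* G, s t = y ∧ ∀ h, π (s h) = h := by
  refine ⟨monoidHomOfForallMemZpowers ht (orderOf_dvd_of_pow_eq_one hord), monoidHomOfForallMemZpowers_apply_gen _ _,
    fun h => ?_⟩
  obtain ⟨k, rfl⟩ := ht h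
  rw [map_zpow, map_zpow, monoidHomOfForallMemZpowers_apply_gen, hy]

/-- A group of order 8 with an element of order four inverted by an involution outside. -/
theorem dihedral_four [Finite G] (h8 : Nat.card G = 8) {d s : G} (hd4 : d ^ 4 = 1) (hd2 : d ^ 2 ≠ 1)
    (hs : s * s = 1) (hsd : s * d * s * d = 1) (hout : ∀ k : ℕ, s ≠ d ^ k) : Nonempty (G ≃* DihedralGroup 4) := by
  let e : ZMod 4 → G := fun i => d ^ i.val
  have he : ∀ i j : ZMod 4, e (i + j) = e i * e j := fun i j => by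
    show d ^ (i + j).val = d ^ i.val * d ^ j.val
    rw [← pow_add, ZMod.val_add, ← pow_eq_pow_mod _ hd4]
  have e0 : e 0 = 1 := pow_zero _
  have hsds : s * d * s = d⁻¹ := eq_inv_of_mul_eq_one_left hsd
  have hcomm : ∀ i, s * e i * s = e (-i) := fun i => by
    have h1 : e (-i) = (e i)⁻¹ := eq_inv_of_mul_eq_one_left (by rw [← he, neg_add_cancel, e0])
    rw [h1]
    show s * d ^ i.val * s = (d ^ i.val)⁻¹
    have hsi : s⁻¹ = s := inv_eq_of_mul_eq_one_right hs
    calc s * d ^ i.val * s = (s * d * s⁻¹) ^ i.val := by rw [conj_pow, hsi]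
      _ = (d ^ i.val)⁻¹ := by rw [hsi, hsds, inv_pow]
  have hes : ∀ i, e i * s = s * e (-i) := fun i => by
    rw [← hcomm, ← mul_assoc, ← mul_assoc, hs, one_mul]
  let f : DihedralGroup 4 → G := fun x => match x with
    | .r i => e i
    | .sr i => s * e i
  let φ : DihedralGroup 4 →* G := MonoidHom.mk' f (by
    rintro (i | i) (j | j)
    · exact he i j
    · show s * e (j - i) = e i * (s * e j)
      rw [← mul_assoc, hes, mul_assoc, ← he, neg_add_eq_sub]
    · show s * e (i + j) = s * e i * e j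
      rw [he, mul_assoc]
    · show e (j - i) = s * e i * (s * e j)
      rw [← mul_assoc, hcomm, ← he, neg_add_eq_sub])
  have hinj : Function.Injective φ := (injective_iff_map_eq_one φ).2 fun x hx => by
    rcases x with i | i
    · have hx' : d ^ i.val = 1 := hx
      have hlt := ZMod.val_lt i
      have hord : orderOf d = 4 := by
        haveI : Fact (Nat.Prime 2) := ⟨Nat.prime_two⟩
        exact orderOf_eq_prime_pow (p := 2) (n := 1) (by simpa using hd2) (by simpa using hd4)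
      have hdvd := orderOf_dvd_of_pow_eq_one hx'
      rw [hord] at hdvd
      have : i.val = 0 := by omega
      rw [(ZMod.val_eq_zero i).1 this]
      rfl
    · exfalso
      have hx' : s * e i = 1 := hx
      refine hout (-i).val ?_
      rw [eq_inv_of_mul_eq_one_left hx']
      show (e i)⁻¹ = e (-i)
      exact inv_eq_of_mul_eq_one_right (by rw [← he, add_neg_cancel, e0])
  exact ⟨(MulEquiv.ofBijective φ ((Nat.bijective_iff_injective_and_card φ).2
    ⟨hinj, by rw [h8, DihedralGroup.nat_card]⟩)).symm⟩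

end Groups

variable {F : Type u} [Field F] [Fintype F] {m : ℕ} (hm : 3 ≤ m) {a b : F}
  (hab : ∀ z₁ z₂ : F, z₁ ^ 2 + a * z₁ * z₂ + b * z₂ ^ 2 = 0 → z₁ = 0 ∧ z₂ = 0)
include hm hab

theorem gal_surjective_minus : Function.Surjective (galOf (ctx_minus hm hab)) := fun σ => by
  have hab' : ∀ z₁ z₂ : F, z₁ ^ 2 + σ a * z₁ * z₂ + σ b * z₂ ^ 2 = 0 → z₁ = 0 ∧ z₂ = 0 := fun z₁ z₂ h => by
    have h' := congrArg σ.symm h
    simp only [map_add, map_mul, map_pow, σ.symm_apply_apply, map_zero] at h'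
    obtain ⟨h1, h2⟩ := hab _ _ h'
    exact ⟨(map_eq_zero σ.symm).1 h1, (map_eq_zero σ.symm).1 h2⟩
  obtain ⟨e⟩ := exists_sim_minus m hab hab'
  let T : Semi (qMinus F m a b) := ⟨e.H, σ, e.c, e.c_ne, fun v =>
    (e.map_Q _).trans (congrArg (e.c * ·) (qMinus_map (σ : F →+* F) a b v))⟩
  exact ⟨T.aut, galOf_aut _ T⟩

theorem range_mult_minus : (mult (ctx_minus hm hab)).range = ⊤ :=
  eq_top_iff.2 fun c _ => by obtain ⟨g, -, h⟩ := exists_canon_mult hm hab c; exact ⟨g, h⟩

theorem card_pgo_minus :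
    Nat.card (conjA (Q := qMinus F m a b)).range = Nat.card (Cfsg.isometryGroup F ⇑(qMinus F m a b)) := by
  have h := card_pgo (ctx_minus hm hab)
  rw [range_mult_minus hm hab, Subgroup.card_top, Nat.card_units] at h
  refine Nat.eq_of_mul_eq_mul_right (show 0 < Nat.card F - 1 by have := Finite.one_lt_card (α := F); omega) ?_
  rw [h, mul_comm]

theorem neg_one_mem_iff (hodd : Odd (Fintype.card F)) :
    (∃ g : Cfsg.isometryGroup F ⇑(qMinus F m a b), g ∈ Cfsg.Omega F ⇑(qMinus F m a b) ∧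
      ((g : GL ((Fin m ⊕ Fin m) ⊕ Fin 2) F) : Matrix ((Fin m ⊕ Fin m) ⊕ Fin 2) ((Fin m ⊕ Fin m) ⊕ Fin 2) F) = -1) ↔
    Fintype.card F ^ (m + 1) % 4 = 3 := by
  have h := S0791.result (F := F) rfl hodd (m + 1) (by omega) a b hab
  exact h

/-- The index of POmega in the image of the similarities. -/
theorem card_iso_minus : Nat.card (Cfsg.isometryGroup F ⇑(qMinus F m a b)) =
    (if Odd (Fintype.card F) then (if Fintype.card F ^ (m + 1) % 4 = 3 then 8 else 4) else 2) *
      Nat.card (Cfsg.POmega F ⇑(qMinus F m a b)) := by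
  have hc := ctx_minus hm hab
  have hn : 5 ≤ finrank F ((Fin m ⊕ Fin m) ⊕ Fin 2 → F) := by simp; omega
  have h3 := card_pomega_mul (Q := qMinus F m a b)
  rw [index_omega] at h3
  obtain ⟨hz1, hz2⟩ := card_center_omega hc.nondeg hn
  by_cases hodd : Odd (Fintype.card F)
  · have h2 := two_ne_zero_of_odd hodd
    rw [index_commutator_odd hc.nondeg h2 (by omega)] at h3
    rw [if_pos hodd, ← h3]
    split_ifs with h
    · rw [hz1 ⟨(neg_one_mem_iff hm hab hodd).2 h, h2⟩]; ring
    · rw [hz2 (Or.inl (mt (neg_one_mem_iff hm hab hodd).1 h))]; ring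
  · have hc2 : ringChar F = 2 := by
      by_contra h
      exact hodd (Nat.odd_iff.2 (FiniteField.odd_card_of_char_ne_two h))
    haveI : CharP F 2 := hc2 ▸ ringChar.charP F
    rw [(commutator_eq_ker_dickson hc.nondeg (hexM hm hab) (by omega)).2, hz2 (Or.inr CharTwo.two_eq_zero),
      mul_one] at h3
    rw [if_neg hodd, h3]

theorem card_aut_minus : Nat.card (MulAut (Cfsg.POmega F ⇑(qMinus F m a b))) = Nat.card (F ≃+* F) *
    ((if Odd (Fintype.card F) then (if Fintype.card F ^ (m + 1) % 4 = 3 then 8 else 4) else 2) *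
      Nat.card (Cfsg.POmega F ⇑(qMinus F m a b))) := by
  rw [card_aut _ (gal_surjective_minus hm hab), card_pgo_minus hm hab, card_iso_minus hm hab]

theorem card_out_minus : Nat.card (Cfsg.Out (Cfsg.POmega F ⇑(qMinus F m a b))) = Nat.card (F ≃+* F) *
    (if Odd (Fintype.card F) then (if Fintype.card F ^ (m + 1) % 4 = 3 then 8 else 4) else 2) := by
  have h := (Cfsg.Inn (Cfsg.POmega F ⇑(qMinus F m a b))).card_eq_card_quotient_mul_card_subgroup
  rw [card_inn (ctx_minus hm hab), card_aut_minus hm hab, ← mul_assoc] at h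
  exact (Nat.eq_of_mul_eq_mul_right Nat.card_pos h).symm

theorem inn_le_inndiagM : Cfsg.Inn (Cfsg.POmega F ⇑(qMinus F m a b)) ≤ inndiagM hm hab := by
  rw [inndiagM, inn_eq]
  rintro _ ⟨_, ⟨s, rfl⟩, rfl⟩
  refine ⟨omToSim s, ?_, rfl⟩
  rw [SetLike.mem_coe, MonoidHom.mem_ker]
  show parM hm hab (isoToSim s.1) = 1
  rw [parM_iso]
  exact Abelianization.commutator_subset_ker _ ((mem_omega_iff s.1).1 s.2)

/-- The lifted field automorphism on outer automorphisms. -/
theorem exists_outHom {p f : ℕ} [Fact p.Prime] (hf : 1 ≤ f) (hF : Fintype.card F = p ^ f) :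
    ∃ (K : Type u) (_ : Field K) (_ : Finite K) (_ : Algebra F K)
      (L : Cfsg.Out (Cfsg.POmega F ⇑(qMinus F m a b)) →* (K ≃+* K)),
      Function.Surjective L ∧ IsCyclic (K ≃+* K) ∧ Nat.card (K ≃+* K) = 2 * f ∧
      (∀ x, L (QuotientGroup.mk' _ x) = 1 ↔ x ∈ inndiagM hm hab) ∧
      ∀ x, res F K (L (QuotientGroup.mk' _ x)) = galOf (ctx_minus hm hab) x := by
  haveI : Fact (∀ r : F, r ^ 2 ≠ -b + -a * r) :=
    ⟨fun r hr => one_ne_zero (hab r 1 (by linear_combination hr)).2⟩
  haveI : Finite (QuadraticAlgebra F (-b) (-a)) :=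
    Finite.of_equiv _ (QuadraticAlgebra.equivProd (-b) (-a)).symm
  have hK := QuadraticAlgebra.finrank_eq_two (R := F) (-b) (-a)
  obtain ⟨ρ, hρ⟩ := exists_root (F := F) (K := QuadraticAlgebra F (-b) (-a)) hK hab
  obtain ⟨L, hL1, hL2, hL3⟩ := exists_liftHom hm hab hK hρ hf (by rw [Nat.card_eq_fintype_card, hF])
  refine ⟨QuadraticAlgebra F (-b) (-a), inferInstance, inferInstance, inferInstance,
    QuotientGroup.lift _ L (by rw [hL2]; exact inn_le_inndiagM hm hab), ?_, ?_, ?_, fun x => ?_, hL1⟩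
  · intro τ
    obtain ⟨x, hx⟩ := hL3 (gal_surjective_minus hm hab) τ
    exact ⟨QuotientGroup.mk' _ x, hx⟩
  all_goals
    haveI := Fintype.ofFinite (QuadraticAlgebra F (-b) (-a))
  · exact (AutPSL.card_gal (f := 2 * f) (by omega)
      (by rw [Module.card_eq_pow_finrank (K := F), hK, hF, ← pow_mul, mul_comm])).1
  · exact (AutPSL.card_gal (f := 2 * f) (by omega)
      (by rw [Module.card_eq_pow_finrank (K := F), hK, hF, ← pow_mul, mul_comm])).2
  · show L x = 1 ↔ _
    rw [← MonoidHom.mem_ker, hL2]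

/-- Characteristic two. -/
theorem out_minus_two {f : ℕ} (hf : 1 ≤ f) (hF : Fintype.card F = 2 ^ f) :
    IsCyclic (Cfsg.Out (Cfsg.POmega F ⇑(qMinus F m a b))) ∧
      Nat.card (Cfsg.Out (Cfsg.POmega F ⇑(qMinus F m a b))) = 2 * f := by
  haveI : Fact (Nat.Prime 2) := ⟨Nat.prime_two⟩
  obtain ⟨K, _, _, _, L, hs, hcyc, hcard, -, -⟩ := exists_outHom hm hab hf hF
  have hev : ¬ Odd (Fintype.card F) := by
    rw [hF, Nat.not_odd_iff_even]; exact Even.pow_of_ne_zero even_two (by omega)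
  have h := card_out_minus hm hab
  rw [if_neg hev, (AutPSL.card_gal (F := F) hf hF).2, mul_comm] at h
  have hb : Function.Bijective L := (Nat.bijective_iff_surjective_and_card L).2 ⟨hs, by rw [h, hcard]⟩
  exact ⟨isCyclic_of_surjective (MulEquiv.ofBijective L hb).symm (MulEquiv.surjective _), h⟩

/-- A reflection as an outer automorphism. -/
theorem exists_refl_out :
    ∃ s, s ∉ inndiagM hm hab ∧ s * s = 1 ∧ galOf (ctx_minus hm hab) s = 1 := by
  let v₀ : (Fin m ⊕ Fin m) ⊕ Fin 2 → F := Pi.single (.inr 0) 1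
  have hv₀ : qMinus F m a b v₀ ≠ 0 := by simp [v₀, qMinus_apply, Cfsg.quadFormMinus]
  refine ⟨conjA (isoToSim ((oEquiv _).symm (rO hv₀))), ?_, ?_, galOf_conjA _ _⟩
  · rintro ⟨g, hg, he⟩
    have h := parM_eq_of_conjA_eq hm hab he
    rw [parM_iso, MulEquiv.apply_symm_apply, dickson_rO, MonoidHom.mem_ker.1 hg] at h
    exact absurd h (by decide)
  · rw [← map_mul, ← map_mul, ← map_mul, rO_mul_self, map_one, map_one, map_one]

/-- Odd order, non-dihedral case. -/
theorem out_minus_split {p f : ℕ} [Fact p.Prime] (hf : 1 ≤ f) (hF : Fintype.card F = p ^ f)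
    (hodd : Odd (Fintype.card F)) (hz : ¬ Fintype.card F ^ (m + 1) % 4 = 3) :
    Nonempty (Cfsg.Out (Cfsg.POmega F ⇑(qMinus F m a b)) ≃* Multiplicative (ZMod 2 × ZMod (2 * f))) := by
  set G := Cfsg.Out (Cfsg.POmega F ⇑(qMinus F m a b))
  obtain ⟨K, _, _, _, L, hs, hcyc, hcard, hker, -⟩ := exists_outHom hm hab hf hF
  have hG := card_out_minus hm hab
  rw [if_pos hodd, if_neg hz, (AutPSL.card_gal (F := F) hf hF).2] at hG
  haveI : Finite (K ≃+* K) := Finite.of_injective (fun σ : K ≃+* K => (σ : K → K)) DFunLike.coe_injective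
  haveI : Finite G := Nat.finite_of_card_ne_zero (by rw [hG]; omega)
  have hk2 : Nat.card L.ker = 2 := by
    have h1 := L.ker.card_eq_card_quotient_mul_card_subgroup
    rw [Nat.card_congr (QuotientGroup.quotientKerEquivOfSurjective L hs).toEquiv, hG, hcard] at h1
    nlinarith
  obtain ⟨t, ht⟩ := hcyc.exists_generator
  have hot : orderOf t = 2 * f := by rw [orderOf_eq_card_of_forall_mem_zpowers ht, hcard]
  obtain ⟨y, hy⟩ := hs t
  have hy1 : y ^ (2 * f) = 1 := by
    have hmem : y ^ (2 * f) ∈ L.ker := by rw [MonoidHom.mem_ker, map_pow, hy, ← hot, pow_orderOf_eq_one]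
    by_contra hne
    obtain ⟨s, hs1, hs2, -⟩ := exists_refl_out hm hab
    set s' : G := QuotientGroup.mk' _ s with hs'
    have hs'2 : s' * s' = 1 := by rw [hs', ← map_mul, hs2, map_one]
    have hgen : ∀ g : G, g ∈ Subgroup.zpowers y := fun g => by
      obtain ⟨k, hk⟩ := ht (L g)
      have hk' : (y ^ k)⁻¹ * g ∈ L.ker := by
        rw [MonoidHom.mem_ker, map_mul, map_inv, map_zpow, hy, show t ^ k = L g from hk, inv_mul_cancel]
      obtain ⟨z, -, hu⟩ := (Nat.card_eq_two_iff' (1 : L.ker)).1 hk2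
      by_cases h : (y ^ k)⁻¹ * g = 1
      · exact ⟨k, inv_mul_eq_one.1 h⟩
      · have e1 := hu ⟨_, hk'⟩ fun h0 => h (congrArg Subtype.val h0)
        have e2 := hu ⟨_, hmem⟩ fun h0 => hne (congrArg Subtype.val h0)
        have e3 : (y ^ k)⁻¹ * g = y ^ (2 * f) := congrArg Subtype.val (e1.trans e2.symm)
        rw [inv_mul_eq_iff_eq_mul] at e3
        exact e3 ▸ mul_mem (zpow_mem (Subgroup.mem_zpowers y) k) (pow_mem (Subgroup.mem_zpowers y) _)
    have hoy : orderOf y = 4 * f := by rw [orderOf_eq_card_of_forall_mem_zpowers hgen, hG, mul_comm]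
    obtain ⟨k, hk : y ^ k = s'⟩ := hgen s'
    rw [← hk, ← _root_.zpow_add, ← orderOf_dvd_iff_zpow_eq_one, hoy] at hs'2
    have : L s' = 1 := by
      rw [← hk, map_zpow, hy, ← orderOf_dvd_iff_zpow_eq_one, hot]
      obtain ⟨c, hc⟩ := hs'2
      exact ⟨c, by push_cast at hc ⊢; linarith⟩
    exact hs1 ((hker s).1 this)
  obtain ⟨sec, -, hsec⟩ := exists_section_of_lift L ht hy (hot.symm ▸ hy1)
  obtain ⟨e⟩ := nonempty_prod_of_split L sec hsec hk2
  haveI : Fact (Nat.Prime 2) := ⟨Nat.prime_two⟩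
  have h2 := zmodCyclicMulEquiv (isCyclic_of_prime_card hk2)
  rw [hk2] at h2
  have h3 := zmodCyclicMulEquiv hcyc
  rw [hcard] at h3
  exact ⟨e.trans ((MulEquiv.prodCongr h2.symm h3.symm).trans (MulEquiv.prodMultiplicative _ _).symm)⟩

end Cfsg.Agent.AutPOmega
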