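import Cfsg.Agent.AutPOmega.MinusField

/-!
The field automorphism over the quadratic extension attached to an automorphism of a minus group: the lift of its
field automorphism under which the two classes of maximal singular subspaces are preserved.
-/

set_option autoImplicit false

namespace Cfsg.Agent.AutPOmega

open Module QuadraticMap Classical.Quad Matrix

section Lift

variable (F K : Type*) [Field F] [Field K] [Finite K] [Algebra F K]

theorem exists_res (τ : K ≃+* K) (x : F) : ∃ y : F, algebraMap F K y = τ (algebraMap F K x) := by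
  haveI : Finite F := Finite.of_injective _ (algebraMap F K).injective
  haveI : Module.Finite F K := Module.Finite.of_finite
  haveI : IsGalois F K := inferInstance
  refine (IsGalois.mem_range_algebraMap_iff_fixed _).2 fun φ => ?_
  exact (RingEquiv.congr_fun (gal_comm' φ.toRingEquiv τ).eq (algebraMap F K x)).trans (congrArg τ (φ.commutes x))

/-- Restriction of automorphisms to the subfield. -/
noncomputable def res : (K ≃+* K) →* (F ≃+* F) :=
  haveI : Finite F := Finite.of_injective _ (algebraMap F K).injective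
  MonoidHom.mk' (fun τ => RingEquiv.ofBijective
    ({ toFun := fun x => (exists_res F K τ x).choose
       map_one' := (algebraMap F K).injective (by rw [(exists_res F K τ 1).choose_spec, map_one, map_one])
       map_zero' := (algebraMap F K).injective (by rw [(exists_res F K τ 0).choose_spec, map_zero, map_zero])
       map_add' := fun x y => (algebraMap F K).injective ((exists_res F K τ (x + y)).choose_spec.trans (by
        rw [map_add, map_add, map_add, (exists_res F K τ x).choose_spec, (exists_res F K τ y).choose_spec]))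
       map_mul' := fun x y => (algebraMap F K).injective ((exists_res F K τ (x * y)).choose_spec.trans (by
        rw [map_mul, map_mul, map_mul, (exists_res F K τ x).choose_spec, (exists_res F K τ y).choose_spec])) } : F →+* F)
    ⟨RingHom.injective _, Finite.injective_iff_surjective.1 (RingHom.injective _)⟩) fun τ τ' =>
    RingEquiv.ext fun x => (algebraMap F K).injective (by
      show algebraMap F K (exists_res F K (τ * τ') x).choose =
        algebraMap F K (exists_res F K τ (exists_res F K τ' x).choose).choose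
      rw [(exists_res F K _ _).choose_spec, (exists_res F K _ _).choose_spec, (exists_res F K _ _).choose_spec]
      rfl)

theorem res_spec (τ : K ≃+* K) (x : F) : τ (algebraMap F K x) = algebraMap F K (res F K τ x) :=
  (exists_res F K τ x).choose_spec.symm

variable (hK : finrank F K = 2)
include hK

theorem ker_res : ∃ φ : K ≃+* K, φ ≠ 1 ∧ res F K φ = 1 ∧ ∀ ψ, res F K ψ = 1 → ψ = 1 ∨ ψ = φ := by
  haveI : Finite F := Finite.of_injective _ (algebraMap F K).injective
  haveI : Module.Finite F K := Module.Finite.of_finite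
  obtain ⟨φ, hφ, huniq⟩ := (Nat.card_eq_two_iff' (1 : K ≃ₐ[F] K)).1
    ((IsGalois.card_aut_eq_finrank F K).trans hK)
  refine ⟨φ.toRingEquiv, fun h => hφ (AlgEquiv.ext fun z => RingEquiv.congr_fun h z), RingEquiv.ext fun x =>
    (algebraMap F K).injective ((res_spec F K _ x).symm.trans (φ.commutes x)), fun ψ hψ => ?_⟩
  let ψ' : K ≃ₐ[F] K := AlgEquiv.ofRingEquiv (f := ψ) fun x => by rw [res_spec F K ψ x, hψ]; rfl
  by_cases h : ψ' = 1
  · exact Or.inl (RingEquiv.ext fun z => AlgEquiv.congr_fun h z)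
  · exact Or.inr (RingEquiv.ext fun z => AlgEquiv.congr_fun (huniq ψ' h) z)

theorem res_surjective {p f : ℕ} [Fact p.Prime] [Fintype F] (hf : 1 ≤ f) (hF : Fintype.card F = p ^ f) :
    Function.Surjective (res F K) := by
  haveI := Fintype.ofFinite K
  have hcK : Fintype.card K = p ^ (2 * f) := by
    rw [Module.card_eq_pow_finrank (K := F) (V := K), hK, hF, ← pow_mul, mul_comm]
  obtain ⟨-, hgK⟩ := AutPSL.card_gal (F := K) (f := 2 * f) (by omega) hcK
  obtain ⟨-, hgF⟩ := AutPSL.card_gal (F := F) hf hF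
  haveI : Finite (F ≃+* F) := Finite.of_injective (fun σ : F ≃+* F => (σ : F → F)) DFunLike.coe_injective
  haveI : Finite (K ≃+* K) := Finite.of_injective (fun σ : K ≃+* K => (σ : K → K)) DFunLike.coe_injective
  obtain ⟨φ, hφ, hφ1, hu⟩ := ker_res F K hK
  have hker : Nat.card (res F K).ker = 2 := (Nat.card_eq_two_iff' 1).2
    ⟨⟨φ, hφ1⟩, fun h => hφ (congrArg Subtype.val h), fun ψ hψ => Subtype.ext
      ((hu ψ.1 ψ.2).resolve_left fun h => hψ (Subtype.ext h))⟩
  rw [← MonoidHom.range_eq_top]
  refine Subgroup.eq_top_of_card_eq _ ?_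
  have h1 := Subgroup.card_eq_card_quotient_mul_card_subgroup (res F K).ker
  rw [Nat.card_congr (QuotientGroup.quotientKerEquivRange (res F K)).toEquiv, hker, hgK] at h1
  rw [hgF]
  omega

end Lift

variable {F : Type*} [Field F] {m : ℕ} {a b : F}

section Ext

variable {K : Type*} [Field K]

/-- A semisimilarity read over a larger field with a chosen extension of its field automorphism. -/
def Semi.ext (i : F →+* K) (T : Semi (qMinus F m a b)) (τ : K ≃+* K) (hτ : ∀ x, τ (i x) = i (T.σ x)) :
    Semi (qMinus K m (i a) (i b)) where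
  g := Matrix.GeneralLinearGroup.map i T.g
  σ := τ
  c := i T.c
  c_ne := (map_ne_zero i).2 T.c_ne
  map_Q v := by
    let e : Sim (qMinus F m (T.σ a) (T.σ b)) (qMinus F m a b) := ⟨T.g, T.c, T.c_ne, fun w => by
      obtain ⟨u, rfl⟩ : ∃ u, (fun j => T.σ (u j)) = w := ⟨fun j => T.σ.symm (w j), funext fun j => T.σ.apply_symm_apply _⟩
      rw [T.map_Q]
      exact congrArg (T.c * ·) (qMinus_map (T.σ : F →+* F) a b u).symm⟩
    refine ((e.map i (qMinus_map i _ _) (qMinus_map i _ _)).map_Q fun j => τ (v j)).trans (congrArg (i T.c * ·) ?_)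
    have h := qMinus_map (m := m) (τ : K →+* K) (i a) (i b) v
    simp only [RingEquiv.coe_toRingHom, hτ] at h
    exact h

theorem Semi.ext_congr (i : F →+* K) {T S : Semi (qMinus F m a b)} {τ : K ≃+* K} (hT : ∀ x, τ (i x) = i (T.σ x))
    (hS : ∀ x, τ (i x) = i (S.σ x)) {c : F} (h : ∀ v, T.app v = c • S.app v) (v : (Fin m ⊕ Fin m) ⊕ Fin 2 → K) :
    (T.ext i τ hT).app v = i c • (S.ext i τ hS).app v := by
  have e : T.g.1 = c • S.g.1 := Matrix.ext_of_mulVec_single fun j => by
    have h1 := h (Pi.single j 1)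
    rw [Semi.app, Semi.app] at h1
    have hs : ∀ σ : F ≃+* F, (fun l => σ ((Pi.single j 1 : _ → F) l)) = Pi.single j 1 := fun σ => by
      funext l
      by_cases hl : l = j <;> simp [hl]
    rw [hs, hs] at h1
    rw [Matrix.smul_mulVec]
    exact h1
  show T.g.1.map i *ᵥ _ = i c • (S.g.1.map i *ᵥ _)
  rw [e, ← Matrix.smul_mulVec]
  congr 1
  ext x y
  simp

theorem Semi.ext_comp (i : F →+* K) {T S : Semi (qMinus F m a b)} {τ τ' : K ≃+* K} (hT : ∀ x, τ (i x) = i (T.σ x))
    (hS : ∀ x, τ' (i x) = i (S.σ x)) (hTS : ∀ x, (τ * τ') (i x) = i ((T.comp S).σ x))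
    (v : (Fin m ⊕ Fin m) ⊕ Fin 2 → K) :
    ((T.comp S).ext i (τ * τ') hTS).app v = ((T.ext i τ hT).comp (S.ext i τ' hS)).app v := by
  show ((T.g * Matrix.GeneralLinearGroup.map (T.σ : F →+* F) S.g).1.map i) *ᵥ _ =
    (Matrix.GeneralLinearGroup.map i T.g *
      Matrix.GeneralLinearGroup.map (τ : K →+* K) (Matrix.GeneralLinearGroup.map i S.g)).1 *ᵥ _
  congr 1
  show (T.g.1 * S.g.1.map T.σ).map i = T.g.1.map i * (S.g.1.map i).map τ
  rw [Matrix.map_mul]
  congr 1
  ext x y
  exact (hT _).symm

/-- The parity of a semisimilarity with a chosen extension of its field automorphism. -/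
noncomputable def Semi.parExt (T : Semi (qMinus F m a b)) (i : F →+* K) (ρ : K) (τ : K ≃+* K)
    (hτ : ∀ x, τ (i x) = i (T.σ x)) : ℤˣ := (T.ext i τ hτ).par (m + 1) (minusU ρ)

end Ext

variable [Finite F] (hm : 3 ≤ m) (hab : ∀ z₁ z₂ : F, z₁ ^ 2 + a * z₁ * z₂ + b * z₂ ^ 2 = 0 → z₁ = 0 ∧ z₂ = 0)
  {K : Type*} [Field K] [Finite K] [Algebra F K] (hK : finrank F K = 2)
  {ρ : K} (hρ : ρ ^ 2 + algebraMap F K a * ρ + algebraMap F K b = 0)
include hm hab hK hρ

/-- The conjugation of the quadratic extension interchanges the classes. -/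
theorem parExt_conj {φ : K ≃+* K} (hφ : φ ≠ 1) (hφ1 : res F K φ = 1) {T : Semi (qMinus F m a b)} {τ : K ≃+* K}
    (hτ : ∀ x, τ (algebraMap F K x) = algebraMap F K (T.σ x))
    (hτφ : ∀ x, (τ * φ) (algebraMap F K x) = algebraMap F K (T.σ x)) :
    T.parExt (algebraMap F K) ρ (τ * φ) hτφ = -T.parExt (algebraMap F K) ρ τ hτ := by
  set i := algebraMap F K
  have hH := hyp_minusK hm i (ctx_minus hm hab).nondeg hρ
  have hfix : ∀ x, φ (i x) = i x := fun x => by rw [res_spec F K φ x, hφ1]; rfl
  have hQ : ∀ v, qMinus K m (i a) (i b) (fun j => φ (v j)) = φ (qMinus K m (i a) (i b) v) :=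
    qMinus_gal φ (hfix a) (hfix b)
  have e1 : ∀ v, (T.ext i (τ * φ) hτφ).app v = (1 : K) • ((T.ext i τ hτ).comp (Semi.ofGal φ hQ)).app v := fun v => by
    rw [one_smul, Semi.app_comp, Semi.ofGal_app]
    rfl
  have e2 : (Semi.ofGal φ hQ).par (m + 1) (minusU ρ) = -1 := by
    have hne : φ ρ ≠ ρ := fun h => by
      haveI : Module.Finite F K := Module.Finite.of_finite
      obtain ⟨y, hy⟩ := (IsGalois.mem_range_algebraMap_iff_fixed (F := F) ρ).2 fun g => by
        obtain ⟨φ', -, -, hu⟩ := ker_res F K hK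
        have hg : res F K g.toRingEquiv = 1 := RingEquiv.ext fun x =>
          (algebraMap F K).injective ((res_spec F K _ x).symm.trans (g.commutes x))
        rcases hu _ hg with e | e
        · exact RingEquiv.congr_fun e ρ
        · rcases hu φ hφ1 with e' | e'
          · exact absurd e' hφ
          · exact (RingEquiv.congr_fun (e.trans e'.symm) ρ).trans h
      exact one_ne_zero (hab y 1 (i.injective (by
        rw [map_zero, map_add, map_add, map_mul, map_mul, map_mul, map_pow, map_pow, map_one, hy]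
        linear_combination hρ))).2
    let U' : Submodule K ((Fin m ⊕ Fin m) ⊕ Fin 2 → K) :=
      { carrier := {v | (∀ j, v (.inl (.inr j)) = 0) ∧ ∀ l, v (.inr l) = 0}
        zero_mem' := ⟨fun _ => rfl, fun _ => rfl⟩
        add_mem' := fun {u v} hu hv => ⟨fun j => by simp [hu.1 j, hv.1 j], fun l => by simp [hu.2 l, hv.2 l]⟩
        smul_mem' := fun r v hv => ⟨fun j => by simp [hv.1 j], fun l => by simp [hv.2 l]⟩ }
    have hinf : minusU ρ ⊓ (Semi.ofGal φ hQ).mapSub (minusU ρ) = U' := by
      ext v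
      obtain ⟨u, rfl⟩ : ∃ u, (Semi.ofGal φ hQ).app u = v := ⟨_, Semi.app_inv _ v⟩
      rw [Submodule.mem_inf, Semi.app_mem_mapSub, Semi.ofGal_app]
      constructor
      · rintro ⟨⟨h1, h2⟩, ⟨h3, h4⟩⟩
        refine ⟨h1, ?_⟩
        have h5 : φ (u (.inr 1)) * (φ ρ - ρ) = 0 := by
          have := congrArg φ h4
          rw [map_mul] at this
          linear_combination h2 - this
        have h6 : φ (u (.inr 1)) = 0 := (mul_eq_zero.1 h5).resolve_right (sub_ne_zero.2 hne)
        intro l
        fin_cases l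
        · exact h2.trans (by show ρ * φ (u (.inr 1)) = 0; rw [h6, mul_zero])
        · exact h6
      · rintro ⟨h1, h2⟩
        exact ⟨⟨h1, by rw [h2 0, h2 1, mul_zero]⟩, fun j => (map_eq_zero φ).1 (h1 j),
          by rw [(map_eq_zero φ).1 (h2 0), (map_eq_zero φ).1 (h2 1), mul_zero]⟩
    have hU' : finrank K U' = m := by
      let e : U' ≃ₗ[K] (Fin m → K) :=
        { toFun := fun u j => u.1 (.inl (.inl j))
          map_add' := fun _ _ => rfl
          map_smul' := fun _ _ => rfl
          invFun := fun x => ⟨Sum.elim (Sum.elim x 0) 0, fun _ => rfl, fun _ => rfl⟩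
          left_inv := fun u => Subtype.ext (funext fun l => by
            rcases l with (j | j) | j
            · rfl
            · exact (u.2.1 j).symm
            · exact (u.2.2 j).symm)
          right_inv := fun _ => rfl }
      rw [e.finrank_eq, Module.finrank_fin_fun]
    rw [Semi.par, psign, hinf, hU']
    exact Odd.neg_one_pow ⟨m, by ring⟩
  show (T.ext i (τ * φ) hτφ).par (m + 1) (minusU ρ) = -(T.ext i τ hτ).par (m + 1) (minusU ρ)
  rw [Semi.par_congr one_ne_zero e1, hH.par_comp, e2, mul_neg_one]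

/-- Exactly one extension of the field automorphism keeps the classes. -/
theorem exists_unique_lift {p f : ℕ} [Fact p.Prime] (hf : 1 ≤ f) (hF : Nat.card F = p ^ f)
    (T : Semi (qMinus F m a b)) :
    ∃ τ : K ≃+* K, ∃ hτ : ∀ x, τ (algebraMap F K x) = algebraMap F K (T.σ x),
      T.parExt (algebraMap F K) ρ τ hτ = 1 ∧
      ∀ τ' hτ', T.parExt (algebraMap F K) ρ τ' hτ' = 1 → τ' = τ := by
  haveI := Fintype.ofFinite F
  rw [Nat.card_eq_fintype_card] at hF
  obtain ⟨φ, hφ, hφ1, hu⟩ := ker_res F K hK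
  obtain ⟨τ₀, hτ₀⟩ := res_surjective F K hK hf hF T.σ
  have h0 : ∀ x, τ₀ (algebraMap F K x) = algebraMap F K (T.σ x) := fun x => by rw [res_spec F K τ₀ x, hτ₀]
  have h1 : ∀ x, (τ₀ * φ) (algebraMap F K x) = algebraMap F K (T.σ x) := fun x => by
    rw [res_spec F K _ x, map_mul, hφ1, mul_one, hτ₀]
  have key := parExt_conj hm hab hK hρ hφ hφ1 h0 h1
  have only : ∀ τ' (_ : ∀ x, τ' (algebraMap F K x) = algebraMap F K (T.σ x)), τ' = τ₀ ∨ τ' = τ₀ * φ :=
    fun τ' hτ' => by
      have hr : res F K (τ₀⁻¹ * τ') = 1 := by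
        rw [map_mul, map_inv, hτ₀, show res F K τ' = T.σ from RingEquiv.ext fun x =>
          (algebraMap F K).injective ((res_spec F K _ x).symm.trans (hτ' x)), inv_mul_cancel]
      rcases hu _ hr with e | e
      · exact Or.inl (inv_mul_eq_one.1 e).symm
      · exact Or.inr (by rw [← e, mul_inv_cancel_left])
  rcases Int.units_eq_one_or (T.parExt (algebraMap F K) ρ τ₀ h0) with h | h
  · refine ⟨τ₀, h0, h, fun τ' hτ' h' => ?_⟩
    rcases only τ' hτ' with rfl | rfl
    · rfl
    · rw [key, h] at h'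
      exact absurd h' (by decide)
  · refine ⟨τ₀ * φ, h1, by rw [key, h, neg_neg], fun τ' hτ' h' => ?_⟩
    rcases only τ' hτ' with rfl | rfl
    · rw [h] at h'
      exact absurd h' (by decide)
    · rfl

/-- The lifted field automorphism as a homomorphism onto the automorphisms of the quadratic extension. -/
theorem exists_liftHom {p f : ℕ} [Fact p.Prime] (hf : 1 ≤ f) (hF : Nat.card F = p ^ f) :
    ∃ L : MulAut (Cfsg.POmega F ⇑(qMinus F m a b)) →* (K ≃+* K),
      (∀ x, res F K (L x) = galOf (ctx_minus hm hab) x) ∧ L.ker = inndiagM hm hab ∧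
      ((∀ σ, ∃ x, galOf (ctx_minus hm hab) x = σ) → Function.Surjective L) := by
  set hc := ctx_minus hm hab
  have hH := hyp_minusK hm (algebraMap F K) hc.nondeg hρ
  choose lf hlf hlf1 hlf2 using exists_unique_lift hm hab hK hρ hf hF
  have hcongr : ∀ T S : Semi (qMinus F m a b), T.aut = S.aut → lf T = lf S := fun T S h => by
    obtain ⟨hσ, c, hc0, hv⟩ := Semi.aut_eq_aut hc h
    refine hlf2 S _ (fun x => by rw [hlf T, hσ]) ?_
    rw [← hlf1 T]
    exact (Semi.par_congr ((map_ne_zero (algebraMap F K)).2 hc0)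
      (Semi.ext_congr (algebraMap F K) (hlf T) _ hv)).symm
  have hcomp : ∀ T S : Semi (qMinus F m a b), lf (T.comp S) = lf T * lf S := fun T S => by
    have h : ∀ x, (lf T * lf S) (algebraMap F K x) = algebraMap F K ((T.comp S).σ x) := fun x => by
      show lf T (lf S _) = _
      rw [hlf S, hlf T]; rfl
    refine (hlf2 _ _ h ?_).symm
    rw [Semi.parExt, Semi.par_congr (S := (T.ext _ _ (hlf T)).comp (S.ext _ _ (hlf S))) one_ne_zero
      (fun v => by rw [one_smul]; exact Semi.ext_comp _ (hlf T) (hlf S) h v), hH.par_comp]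
    exact (congrArg₂ (· * ·) (hlf1 T) (hlf1 S)).trans (mul_one 1)
  have hres : ∀ T : Semi (qMinus F m a b), res F K (lf T) = T.σ := fun T => RingEquiv.ext fun x =>
    (algebraMap F K).injective ((res_spec F K _ x).symm.trans (hlf T x))
  let L : MulAut (Cfsg.POmega F ⇑(qMinus F m a b)) →* (K ≃+* K) :=
    MonoidHom.mk' (fun x => lf (exists_semi hc x).choose) fun x y => by
      rw [← hcomp]
      refine hcongr _ _ ?_
      rw [Semi.aut_comp, (exists_semi hc x).choose_spec, (exists_semi hc y).choose_spec,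
        (exists_semi hc (x * y)).choose_spec]
  have hL : ∀ T : Semi (qMinus F m a b), L T.aut = lf T := fun T => hcongr _ _ (exists_semi hc T.aut).choose_spec
  have hLres : ∀ x, res F K (L x) = galOf hc x := fun x => by
    obtain ⟨T, rfl⟩ := exists_semi hc x
    rw [hL, hres, galOf_aut]
  have hsim : ∀ g, L (conjA g) = 1 ↔ parM hm hab g = 1 := fun g => by
    rw [conjA_apply, hL]
    have h1 : ∀ x, (1 : K ≃+* K) (algebraMap F K x) = algebraMap F K ((Semi.ofSim g).σ x) := fun x => rfl
    have e : (Semi.ofSim g).parExt (algebraMap F K) ρ 1 h1 = parM hm hab g := by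
      rw [← parM_eq hm hab _ hρ]
      refine Semi.par_congr one_ne_zero fun v => ?_
      rw [one_smul]
      rfl
    constructor
    · intro h
      rw [← e]
      have h2 := hlf1 (Semi.ofSim g)
      simp only [h] at h2
      exact h2
    · intro h
      exact (hlf2 _ _ h1 (e.trans h)).symm
  refine ⟨L, hLres, le_antisymm (fun x hx => ?_) ?_, fun hs τ => ?_⟩
  · have hg : x ∈ (galOf hc).ker := by
      rw [MonoidHom.mem_ker, ← hLres, MonoidHom.mem_ker.1 hx, map_one]
    rw [ker_galOf hc] at hg
    obtain ⟨g, rfl⟩ := hg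
    exact ⟨g, (hsim g).1 hx, rfl⟩
  · rintro _ ⟨g, hg, rfl⟩
    exact (hsim g).2 hg
  · obtain ⟨x, hx⟩ := hs (res F K τ)
    obtain ⟨φ, hφ, hφ1, hu⟩ := ker_res F K hK
    rcases hu ((L x)⁻¹ * τ) (by rw [map_mul, map_inv, hLres, hx, inv_mul_cancel]) with e | e
    · exact ⟨x, inv_mul_eq_one.1 e⟩
    · let j₀ : Fin m := ⟨0, by omega⟩
      let v₀ : (Fin m ⊕ Fin m) ⊕ Fin 2 → F := Pi.single (.inr 0) 1
      have hv₀ : qMinus F m a b v₀ ≠ 0 := by simp [v₀, qMinus_apply, Cfsg.quadFormMinus]
      let s : Geo.quadSimilarityGroup (F := F) (⇑(qMinus F m a b)) :=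
        isoToSim ((oEquiv _).symm (rO hv₀))
      have hs1 : L (conjA s) ≠ 1 := fun h => by
        rw [hsim, parM_iso, MulEquiv.apply_symm_apply, dickson_rO] at h
        exact absurd h (by decide)
      have hs2 : L (conjA s) = φ := (hu _ (by rw [hLres, galOf_conjA])).resolve_left hs1
      exact ⟨x * conjA s, by rw [map_mul, hs2, ← e, mul_inv_cancel_left]⟩

end Cfsg.Agent.AutPOmega
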