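import Mathlib

/-!
Norm map of a finite reduced commutative ring with an involution that has an invertible skew element: Hilbert 90
and surjectivity onto the fixed units.
-/

set_option autoImplicit false

namespace Cfsg.Agent.AutPOmega

variable {E : Type*} [CommRing E] [Finite E] [IsReduced E]

/-- The idempotent of the annihilator of an element. -/
theorem exists_annih_idem (z : E) : ∃ e z' : E, e * e = e ∧ z * e = 0 ∧ z * z' = 1 - e := by
  obtain ⟨i, j, hne, hij⟩ := Finite.exists_ne_map_eq_of_infinite (fun k : ℕ => z ^ k)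
  wlog hlt : i < j generalizing i j with H
  · exact H j i (Ne.symm hne) hij.symm (by omega)
  obtain ⟨k, rfl⟩ : ∃ k, j = i + (k + 1) := ⟨j - i - 1, by omega⟩
  have hper : ∀ t a, z ^ (i + a) = z ^ (i + a + t * (k + 1)) := by
    intro t
    induction t with
    | zero => simp
    | succ t ih =>
      intro a
      rw [ih a, show i + a + (t + 1) * (k + 1) = i + (k + 1) + (a + t * (k + 1)) by ring, pow_add (m := i + (k + 1)),
        ← show z ^ i = z ^ (i + (k + 1)) from hij, ← pow_add]
      congr 1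
      ring
  set N := (k + 1) * (i + 1)
  obtain ⟨a, ha⟩ : ∃ a, N = i + a := ⟨(k + 1) * (i + 1) - i, by
    have : i ≤ (k + 1) * (i + 1) := by nlinarith
    omega⟩
  have hidem : z ^ N * z ^ N = z ^ N := by
    rw [← pow_add]
    conv_rhs => rw [ha, hper (i + 1) a]
    congr 1
    rw [← ha]
    ring
  have hpos : 0 < N := by positivity
  refine ⟨1 - z ^ N, z ^ (N - 1), ?_, ?_, ?_⟩
  · linear_combination hidem
  · refine IsReduced.eq_zero _ ⟨N + 1, ?_⟩
    have h0 : z ^ N * (1 - z ^ N) = 0 := by linear_combination -hidem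
    rw [mul_pow, pow_succ, pow_succ (1 - z ^ N)]
    linear_combination (z * (1 - z ^ N) ^ N) * h0
  · rw [← pow_succ', Nat.sub_add_cancel hpos]
    ring

variable (τ : E ≃+* E) (hτ : ∀ a, τ (τ a) = a) (h2 : IsUnit (2 : E)) {y : E} (hy : IsUnit y) (hyτ : τ y = -y)
include hτ h2 hy hyτ

/-- Hilbert 90. -/
theorem exists_hilbert90 {u : E} (hu : τ u * u = 1) : ∃ t : E, IsUnit t ∧ t = u * τ t := by
  obtain ⟨e, z', hee, hze, hzz⟩ := exists_annih_idem (1 + u)
  have hzτ : τ (1 + u) = τ u * (1 + u) := by rw [map_add, map_one]; linear_combination -hu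
  have h1 : (1 + u) * τ e = 0 := by
    calc (1 + u) * τ e = u * (τ (1 + u) * τ e) := by rw [hzτ]; linear_combination (-(1 + u) * τ e) * hu
      _ = 0 := by rw [← map_mul, hze, map_zero, mul_zero]
  have hτe : τ e = e := by
    have h2' : τ (1 + u) * τ z' = 1 - τ e := by rw [← map_mul, hzz, map_sub, map_one]
    have h3 : e * (1 - τ e) = 0 := by rw [← h2', hzτ]; linear_combination (τ u * τ z') * hze
    have h4 : τ e * (1 - e) = 0 := by rw [← hzz]; linear_combination z' * h1
    linear_combination h4 - h3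
  have hue : (1 + u) * e = 0 := hze
  obtain ⟨w, hw⟩ := hy.exists_right_inv
  obtain ⟨h, hh⟩ := h2.exists_right_inv
  refine ⟨(1 + u) + 2 * y * e, IsUnit.of_mul_eq_one (z' * (1 - e) + w * h * e) ?_, ?_⟩
  · linear_combination (1 - e) * hzz + w * h * hze + (2 - 2 * y * z') * hee + e * e * (2 * h) * hw + e * e * hh
  · rw [map_add, map_add, map_one, map_mul, map_mul, map_ofNat, hyτ, hτe]
    linear_combination -hu + 2 * y * hue

/-- Every fixed unit is a norm. -/
theorem exists_norm_eq {c : E} (hc : IsUnit c) (hcτ : τ c = c) : ∃ t : E, IsUnit t ∧ τ t * t = c := by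
  let T : Eˣ →* Eˣ := Units.map (τ : E →+* E).toMonoidHom
  have hT : ∀ t : Eˣ, (T t : E) = τ t := fun t => rfl
  let N : Eˣ →* Eˣ := MonoidHom.mk' (fun t => T t * t) fun a b => by rw [map_mul]; exact mul_mul_mul_comm _ _ _ _
  let D : Eˣ →* Eˣ := MonoidHom.mk' (fun t => t / T t) fun a b => by rw [map_mul]; exact (mul_div_mul_comm a b _ _)
  have hTT : ∀ t, T (T t) = t := fun t => Units.ext (hτ t)
  have hNle : N.range ≤ D.ker := by
    rintro _ ⟨t, rfl⟩
    rw [MonoidHom.mem_ker]
    show (T t * t) / T (T t * t) = 1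
    rw [map_mul, hTT, mul_comm (T t) t, div_self']
  have hker : N.ker ≤ D.range := by
    intro u hu
    have hu1 : T u * u = 1 := hu
    obtain ⟨t, ht, ht'⟩ := exists_hilbert90 τ hτ h2 hy hyτ (u := (u : E)) (congrArg Units.val hu1)
    refine ⟨ht.unit, div_eq_iff_eq_mul.2 (Units.ext ?_)⟩
    rw [Units.val_mul, hT]
    exact ht'
  have e1 := N.ker.card_mul_index
  rw [Subgroup.index_ker] at e1
  have e2 := D.ker.card_mul_index
  rw [Subgroup.index_ker] at e2
  have hle : Nat.card N.ker ≤ Nat.card D.range := Subgroup.card_le_of_le hker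
  have hge : Nat.card D.ker ≤ Nat.card N.range := by
    have hpos : 0 < Nat.card D.range := Nat.card_pos
    nlinarith
  have heq : N.range = D.ker := Subgroup.eq_of_le_of_card_ge hNle hge
  have hcD : hc.unit ∈ D.ker := by
    rw [MonoidHom.mem_ker]
    exact div_eq_one.2 (Units.ext (by rw [hT]; exact hcτ.symm))
  rw [← heq] at hcD
  obtain ⟨t, ht⟩ := hcD
  exact ⟨t, t.isUnit, congrArg Units.val ht⟩

end Cfsg.Agent.AutPOmega
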