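import Cfsg.Agent.Classical.OrthSimple

/-!
Odd-dimensional quadratic spaces: maps commuting with the Siegel transformations are scalar, and a group of
isometries of odd order modulo scalars normalised by the Siegel transformations is scalar.
-/

set_option autoImplicit false

namespace Cfsg.Agent.AutPOmega

open Module QuadraticMap Classical.Quad Projectivization
open scoped LinearAlgebra.Projectivization

variable {F V : Type*} [Field F] [AddCommGroup V] [Module F V] [FiniteDimensional F V] [Finite F]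
  {Q : QuadraticForm F V} (hQ : (polarBilin Q).Nondegenerate) (h2 : (2 : F) ≠ 0) (hn : 3 ≤ finrank F V)
include hQ

omit [Finite F] in
/-- The common fixed vectors of the Siegel transformations at a singular point. -/
theorem mem_span_of_fix {e x : V} (he0 : e ≠ 0) (he : Q e = 0) (hn : 3 ≤ finrank F V)
    (h : ∀ (w : V) (hw : polar Q e w = 0), (sO he hw).1 x = x) : x ∈ Submodule.span F {e} := by
  have key : ∀ w, polar Q e w = 0 →
      (polar Q x w - Q w * polar Q x e) • e = polar Q x e • w := fun w hw => by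
    have h' := h w hw
    rw [sO_apply] at h'
    linear_combination (norm := module) h'
  have hxe : polar Q x e = 0 := by
    by_contra hne
    have hle : LinearMap.ker (polarBilin Q e) ≤ Submodule.span F {e} := fun w hw => by
      refine Submodule.mem_span_singleton.2 ⟨(polar Q x e)⁻¹ * (polar Q x w - Q w * polar Q x e), ?_⟩
      rw [mul_smul, key w hw, inv_smul_smul₀ hne]
    have h1 := Submodule.finrank_mono hle
    have h2 := LinearMap.finrank_range_add_finrank_ker (polarBilin Q e)
    have h3 := Submodule.finrank_le (LinearMap.range (polarBilin Q e))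
    rw [Module.finrank_self] at h3
    rw [finrank_span_singleton he0] at h1
    omega
  by_contra hx
  obtain ⟨y, hy, hxy⟩ := exists_perp hQ hx
  have h' := key y (hy e (Submodule.mem_span_singleton_self e))
  rw [hxe, mul_zero, sub_zero, zero_smul, hxy, one_smul] at h'
  exact he0 h'

include h2 hn

/-- A semilinear map keeping every singular line is a scalar. -/
theorem scalar_of_lines {T : V → V} {τ : F → F} (hadd : ∀ x y, T (x + y) = T x + T y)
    (hsmul : ∀ (t : F) x, T (t • x) = τ t • T x) (hinj : Function.Injective T)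
    (h : ∀ x, x ≠ 0 → Q x = 0 → ∃ c : F, T x = c • x) :
    ∃ a : F, a ≠ 0 ∧ (∀ x, T x = a • x) ∧ ∀ t, τ t = t := by
  have hT0 : T 0 = 0 := by
    have := hadd 0 0
    rwa [add_zero, left_eq_add] at this
  have hneg : ∀ x, T (-x) = -T x := fun x =>
    eq_neg_of_add_eq_zero_left (by rw [← hadd, neg_add_cancel, hT0])
  obtain ⟨e, he0, he⟩ := exists_singular Q hn
  obtain ⟨f, hf, hef⟩ := exists_hyp_pair hQ he0 he
  have hf0 : f ≠ 0 := fun h => by simp [h, polar] at hef
  obtain ⟨a, ha⟩ := h e he0 he
  obtain ⟨b, hb⟩ := h f hf0 hf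
  have ha0 : a ≠ 0 := fun h0 => he0 (hinj (by rw [ha, h0, zero_smul, hT0]))
  have hfe : polar Q f e = 1 := by rw [polar_comm, hef]
  have hee : polar Q e e = 0 := by rw [polar_self', he, mul_zero]
  have hff : polar Q f f = 0 := by rw [polar_self', hf, mul_zero]
  have hU : ∀ u, polar Q e u = 0 → polar Q f u = 0 → T u = a • u := fun u heu hfu => by
    have hue : polar Q u e = 0 := by rw [polar_comm, heu]
    have huf : polar Q u f = 0 := by rw [polar_comm, hfu]
    by_cases hu0 : u = 0
    · rw [hu0, hT0, smul_zero]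
    have hz : ∀ ε : F, ε * ε = 1 → Q (e + (-Q u) • f + ε • u) = 0 := fun ε hε => by
      rw [map_add', map_add_smul, he, hf, hef, map_smul', hε, polar_smul_right, polar_add_left, polar_smul_left,
        heu, hfu]
      simp
    have hz0 : ∀ ε : F, e + (-Q u) • f + ε • u ≠ 0 := fun ε h0 => by
      have h' := congrArg (fun z => polar Q z f) h0
      simp [polar_add_left, polar_smul_left, hef, hff, huf, polar_zero_left] at h'
    obtain ⟨c, hc⟩ := h _ (hz0 1) (hz 1 (one_mul 1))
    obtain ⟨c', hc'⟩ := h _ (hz0 (-1)) (hz (-1) (by ring))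
    rw [one_smul, hadd, hadd, hsmul, ha, hb] at hc
    rw [neg_one_smul, hadd, hadd, hneg, hsmul, ha, hb] at hc'
    -- the sum
    have hs : (a + a - (c + c')) • e + ((τ (-Q u) * b) + (τ (-Q u) * b) + (c + c') * Q u) • f = (c - c') • u := by
      linear_combination (norm := module) hc + hc'
    have h1 := congrArg (fun z => polar Q z f) hs
    simp [polar_add_left, polar_smul_left, hef, hff, huf] at h1
    have h2' := congrArg (fun z => polar Q z e) hs
    simp [polar_add_left, polar_smul_left, hee, hfe, hue] at h2'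
    have hcc : c = c' := by
      have h3 : (c - c') • u = 0 := by rw [← hs, h1, h2', zero_smul, zero_smul, add_zero]
      exact sub_eq_zero.1 ((smul_eq_zero.1 h3).resolve_right hu0)
    have hca : c = a := mul_left_cancel₀ h2 (by linear_combination -h1 + hcc)
    have hbq : τ (-Q u) * b = -(a * Q u) := mul_left_cancel₀ h2 (by
      rw [hca] at hcc h2'; rw [← hcc] at h2'; linear_combination h2')
    rw [hca, smul_smul, hbq] at hc
    linear_combination (norm := module) hc
  obtain ⟨u, heu, hfu, hQu⟩ := exists_aniso_perp hQ hn he hf hef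
  have hu0 : u ≠ 0 := fun h0 => hQu (by rw [h0, map_zero])
  have hτ : ∀ t, τ t = t := fun t => by
    have h' := hU (t • u) (by rw [polar_smul_right, heu, smul_zero]) (by rw [polar_smul_right, hfu, smul_zero])
    rw [hsmul, hU u heu hfu, smul_comm] at h'
    exact smul_left_injective F hu0 ((smul_right_injective V ha0) h')
  have hba : b = a := by
    have hz : Q (e + (-Q u) • f + u) = 0 := by
      rw [map_add', map_add_smul, he, hf, hef, polar_add_left, polar_smul_left, heu, hfu]
      simp
    have hue : polar Q u e = 0 := by rw [polar_comm, heu]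
    have huf : polar Q u f = 0 := by rw [polar_comm, hfu]
    obtain ⟨c, hc⟩ := h _ (fun h0 => by
      have h' := congrArg (fun z => polar Q z f) h0
      simp [polar_add_left, polar_smul_left, hef, hff, huf, polar_zero_left] at h') hz
    rw [hadd, hadd, hsmul, ha, hb, hτ, hU u heu hfu] at hc
    have h1 := congrArg (fun z => polar Q z f) hc
    simp [polar_add_left, polar_smul_left, hef, hff, huf] at h1
    have h3 := congrArg (fun z => polar Q z e) hc
    simp [polar_add_left, polar_smul_left, hee, hfe, hue] at h3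
    exact mul_left_cancel₀ hQu (by linear_combination h3 + Q u * h1.symm)
  refine ⟨a, ha0, fun x => ?_, hτ⟩
  obtain ⟨⟨⟨s, t⟩, w⟩, rfl⟩ := (splitPair he hf hef).symm.surjective x
  have hw := mem_perpPair.1 w.2
  show T (s • e + t • f + (w : V)) = a • (s • e + t • f + (w : V))
  rw [hadd, hadd, hsmul, hsmul, ha, hb, hτ, hτ, hU _ hw.1 hw.2, hba]
  module

/-- A semilinear injection commuting with the Siegel transformations is a scalar. -/
theorem scalar_of_commute {T : V → V} {τ : F → F} (hadd : ∀ x y, T (x + y) = T x + T y)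
    (hsmul : ∀ (t : F) x, T (t • x) = τ t • T x) (hinj : Function.Injective T)
    (h : ∀ (e w : V) (he : Q e = 0) (hw : polar Q e w = 0) x, T ((sO he hw).1 x) = (sO he hw).1 (T x)) :
    ∃ a : F, a ≠ 0 ∧ (∀ x, T x = a • x) ∧ ∀ t, τ t = t := by
  refine scalar_of_lines hQ h2 hn hadd hsmul hinj fun x hx0 hx => ?_
  obtain ⟨c, hc⟩ := Submodule.mem_span_singleton.1 (mem_span_of_fix hQ hx0 hx hn fun w hw => by
    rw [← h x w hx hw, show (sO hx hw).1 x = x from
      siegel_fix hx hw (by rw [polar_self', hx, mul_zero]) hw])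
  exact ⟨c, hc.symm⟩

omit hn in
/-- The number of non-zero singular vectors in odd dimension. -/
theorem card_singular (hodd : Odd (finrank F V)) :
    ∃ k, 2 * k + 1 = finrank F V ∧ Nat.card {x : V // x ≠ 0 ∧ Q x = 0} + 1 = Nat.card F ^ (2 * k) := by
  obtain ⟨k, r, R, e, -, han, hr, hdim, he⟩ := exists_hyp_aniso (finrank F V) Q hQ rfl
  obtain ⟨j, hj⟩ := hodd
  have hr1 : r = 1 := by omega
  subst hr1
  refine ⟨k, by omega, ?_⟩
  have hz : zcard R = 1 := by
    rw [zcard, Nat.card_eq_one_iff_unique]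
    exact ⟨⟨fun a b => Subtype.ext ((han _ a.2).trans (han _ b.2).symm)⟩, ⟨⟨0, map_zero R⟩⟩⟩
  have h := zcard_hyp R k
  rw [hz, Nat.card_fun, Nat.card_fin, pow_one, mul_one, ← zcard_congr e he, ← pow_succ, ← pow_succ,
    add_comm (Nat.card F ^ (k + 1))] at h
  have hq := Nat.add_right_cancel h
  rw [pow_succ'] at hq
  have hz' : zcard Q = Nat.card F ^ (2 * k) := Nat.eq_of_mul_eq_mul_left Nat.card_pos hq
  haveI : Finite V := Module.finite_of_finite F
  classical
  rw [← hz', zcard]
  have e' : {x : V // Q x = 0} ≃ Option {x : V // x ≠ 0 ∧ Q x = 0} :=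
    { toFun := fun x => if hx : x.1 = 0 then none else some ⟨x.1, hx, x.2⟩
      invFun := fun y => y.elim ⟨0, map_zero Q⟩ fun z => ⟨z.1, z.2.2⟩
      left_inv := fun x => by
        by_cases hx : x.1 = 0
        · simp only [dif_pos hx]; exact Subtype.ext hx.symm
        · simp only [dif_neg hx]; rfl
      right_inv := fun y => by
        rcases y with _ | z
        · simp
        · simp [z.2.1] }
  rw [Nat.card_congr e', Finite.card_option]

omit hn in
/-- In odd dimension the number of singular points is even. -/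
theorem even_card_spt (hodd : Odd (finrank F V)) : Even (Nat.card (SPt Q)) := by
  classical
  obtain ⟨k, -, hcard⟩ := card_singular hQ h2 hodd
  haveI : Finite V := Module.finite_of_finite F
  let e : SPt Q × Fˣ ≃ {x : V // x ≠ 0 ∧ Q x = 0} := Equiv.ofBijective
    (fun pa => ⟨(pa.2 : F) • pa.1.1.rep, smul_ne_zero pa.2.ne_zero pa.1.1.rep_nonzero,
      by rw [Classical.Quad.map_smul', pa.1.2, mul_zero]⟩)
    ⟨fun pa pb hab => by
      obtain ⟨p, a⟩ := pa
      obtain ⟨p', a'⟩ := pb
      have hv : (a : F) • p.1.rep = (a' : F) • p'.1.rep := congrArg Subtype.val hab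
      have hp : p = p' := Subtype.ext (by
        rw [← mk_rep p.1, ← mk_rep p'.1]
        exact (mk_eq_mk_iff' F _ _ _ _).2 ⟨(a : F)⁻¹ * a', by rw [mul_smul, ← hv, inv_smul_smul₀ a.ne_zero]⟩)
      subst hp
      exact Prod.ext rfl (Units.ext (smul_left_injective F p.1.rep_nonzero hv)),
     fun x => by
      obtain ⟨c, hc⟩ := exists_smul_eq_mk_rep F x.1 x.2.1
      refine ⟨(spt x.1 x.2.1 x.2.2, c⁻¹), Subtype.ext ?_⟩
      show (↑c⁻¹ : F) • (mk F x.1 x.2.1).rep = x.1
      rw [← hc, Units.smul_def, smul_smul, Units.inv_mul, one_smul]⟩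
  have h1 := Nat.card_congr e
  rw [Nat.card_prod, Nat.card_units] at h1
  haveI := Fintype.ofFinite F
  have hq1 : 1 < Nat.card F := Finite.one_lt_card
  have hqodd : Odd (Nat.card F) := by
    rw [Nat.card_eq_fintype_card, Nat.odd_iff]
    refine FiniteField.odd_card_of_char_ne_two fun h => h2 ?_
    haveI : CharP F 2 := h ▸ ringChar.charP F
    exact CharTwo.two_eq_zero
  obtain ⟨w, hw⟩ : (Nat.card F ^ 2 - 1) ∣ Nat.card F ^ (2 * k) - 1 :=
    Nat.pow_sub_one_dvd_pow_sub_one _ (dvd_mul_right 2 k)
  have h3 : Nat.card (SPt Q) * (Nat.card F - 1) = (Nat.card F + 1) * w * (Nat.card F - 1) := by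
    have e2 : Nat.card F ^ 2 - 1 = (Nat.card F + 1) * (Nat.card F - 1) := by
      rw [← Nat.sq_sub_sq]
    rw [h1, show Nat.card {x : V // x ≠ 0 ∧ Q x = 0} = Nat.card F ^ (2 * k) - 1 by omega, hw, e2]
    ring
  rw [Nat.eq_of_mul_eq_mul_right (by omega) h3]
  exact (hqodd.add_one).mul_right _

/-- A group of odd order modulo scalars normalised by the Siegel transformations consists of scalars. -/
theorem scalar_of_normalized (hodd : Odd (finrank F V)) (N : Subgroup (oG Q))
    (hN : ∀ s ∈ eo Q, ∀ g ∈ N, s * g * s⁻¹ ∈ N)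
    (hord : ∀ g ∈ N, ∃ (k : ℕ) (c : F), Odd k ∧ ∀ x, (g ^ k).1 x = c • x) :
    ∀ g ∈ N, ∃ c : F, ∀ x, g.1 x = c • x := by
  classical
  haveI : Finite V := Module.finite_of_finite F
  haveI : Finite (ℙ F V) := inferInstanceAs (Finite (Quotient _))
  haveI : Finite (SPt Q) := inferInstanceAs (Finite {p : ℙ F V // _})
  -- the action of all isometries on the singular points
  let act : oG Q →* Equiv.Perm (SPt Q) :=
    { toFun := fun g =>
        { toFun := fun p => spt (g.1 p.1.rep) (by simpa using p.1.rep_nonzero) (by rw [g.2, p.2])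
          invFun := fun p => spt ((g⁻¹).1 p.1.rep) (by simpa using p.1.rep_nonzero) (by rw [(g⁻¹).2, p.2])
          left_inv := fun p => Subtype.ext (by
            conv_rhs => rw [← mk_rep p.1]
            refine (mk_eq_mk_iff' F _ _ _ _).2 ?_
            obtain ⟨c, hc⟩ := exists_smul_eq_mk_rep F (g.1 p.1.rep) (by simpa using p.1.rep_nonzero)
            exact ⟨c, by
              show (c : F) • p.1.rep = (g⁻¹).1 (mk F (g.1 p.1.rep) _).rep
              rw [← hc, Units.smul_def, map_smul, oG_inv_apply]⟩)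
          right_inv := fun p => Subtype.ext (by
            conv_rhs => rw [← mk_rep p.1]
            refine (mk_eq_mk_iff' F _ _ _ _).2 ?_
            obtain ⟨c, hc⟩ := exists_smul_eq_mk_rep F ((g⁻¹).1 p.1.rep) (by simpa using p.1.rep_nonzero)
            exact ⟨c, by
              show (c : F) • p.1.rep = g.1 (mk F ((g⁻¹).1 p.1.rep) _).rep
              rw [← hc, Units.smul_def, map_smul, oG_apply_inv]⟩) }
      map_one' := Equiv.ext fun p => Subtype.ext (mk_rep p.1)
      map_mul' := fun g h => Equiv.ext fun p => Subtype.ext (by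
        refine (mk_eq_mk_iff' F _ _ _ _).2 ?_
        obtain ⟨c, hc⟩ := exists_smul_eq_mk_rep F (h.1 p.1.rep) (by simpa using p.1.rep_nonzero)
        exact ⟨(↑c⁻¹ : F), by
          show (↑c⁻¹ : F) • g.1 (mk F (h.1 p.1.rep) _).rep = (g * h).1 p.1.rep
          rw [← hc, Units.smul_def, map_smul, smul_smul, Units.inv_mul, one_smul]; rfl⟩) }
  have hact : ∀ (g : oG Q) (u : V) (hu0 : u ≠ 0) (hu : Q u = 0),
      act g (spt u hu0 hu) = spt (g.1 u) (by simpa using hu0) (by rw [g.2, hu]) := fun g u hu0 hu => by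
    obtain ⟨c, hc⟩ := exists_smul_eq_mk_rep F u hu0
    refine (spt_eq_iff _ (by rw [g.2, (spt u hu0 hu).2]) _ _).2 ⟨c, ?_⟩
    show (c : F) • g.1 u = g.1 (mk F u hu0).rep
    rw [← hc, Units.smul_def, map_smul]
  have heo : ∀ (s : eo Q) p, s • p = act s.1 p := fun s p => by
    obtain ⟨u, hu0, hu, rfl⟩ := exists_spt p
    rw [smul_spt_eq, hact]
  let I := N.map act
  by_contra hcon
  push Not at hcon
  obtain ⟨g, hg, hgc⟩ := hcon
  obtain ⟨p, hp⟩ : ∃ p, act g p ≠ p := by
    by_contra hall
    push Not at hall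
    obtain ⟨a, -, ha, -⟩ := scalar_of_lines (τ := id) hQ h2 hn (fun x y => map_add g.1 x y)
      (fun t x => map_smul g.1 t x) g.1.injective fun x hx0 hx => by
        have := hall (spt x hx0 hx)
        rw [hact, spt_eq_iff] at this
        obtain ⟨c, hc⟩ := this
        exact ⟨c, hc.symm⟩
    obtain ⟨x, hx⟩ := hgc a
    exact hx (ha x)
  -- the orbit of `p` is everything
  let O : Set (SPt Q) := MulAction.orbit I p
  have hO : ∀ q, q ∈ O ↔ ∃ h ∈ N, act h p = q := fun q => by
    constructor
    · rintro ⟨⟨_, h, hh, rfl⟩, rfl⟩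
      exact ⟨h, hh, rfl⟩
    · rintro ⟨h, hh, rfl⟩
      exact ⟨⟨act h, h, hh, rfl⟩, rfl⟩
  have hpO : p ∈ O := MulAction.mem_orbit_self p
  have hgO : act g p ∈ O := (hO _).2 ⟨g, hg, rfl⟩
  have hmove : ∀ (s : eo Q) q, q ∈ O → s • q ∈ O → ∀ q' ∈ O, s • q' ∈ O := fun s q hq hsq q' hq' => by
    obtain ⟨h, hh, rfl⟩ := (hO _).1 hq
    obtain ⟨h', hh', rfl⟩ := (hO _).1 hq'
    rw [heo] at hsq ⊢
    obtain ⟨k, hk, hkq⟩ := (hO _).1 hsq
    refine (hO _).2 ⟨s.1 * (h' * h⁻¹) * (s.1)⁻¹ * k,
      mul_mem (hN _ s.2 _ (mul_mem hh' (inv_mem hh))) hk, ?_⟩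
    simp only [map_mul, map_inv, Equiv.Perm.mul_apply, hkq]
    simp
  have hfull : O = Set.univ := by
    by_cases h5 : 5 ≤ finrank F V
    · have hprim := isPreprimitive_eo hQ h5
      have hblock : MulAction.IsBlock (eo Q) O := by
        rw [MulAction.isBlock_iff_smul_eq_of_nonempty]
        intro s hne
        obtain ⟨x, ⟨q, hq, hqx⟩, hx⟩ := hne
        have hsq : s • q ∈ O := by
          change s • q = x at hqx
          rwa [hqx]
        refine Set.eq_of_subset_of_ncard_le (fun y hy => ?_) ?_
        · obtain ⟨q', hq', rfl⟩ := hy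
          exact hmove s q hq hsq q' hq'
        · show O.ncard ≤ ((fun x => s • x) '' O).ncard
          rw [Set.ncard_image_of_injective O (MulAction.injective s)]
      rcases hprim.isTrivialBlock_of_isBlock hblock with h | h
      · exact absurd (h hgO hpO) hp
      · exact h
    · refine Set.eq_univ_of_forall fun x => ?_
      obtain ⟨u, hu0, hu, rfl⟩ := exists_spt p
      obtain ⟨v, hv0, hv, hgv⟩ := exists_spt (act g (spt u hu0 hu))
      obtain ⟨y, hy0, hy, rfl⟩ := exists_spt x
      by_cases hyu : spt y hy0 hy = spt u hu0 hu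
      · exact hyu ▸ hpO
      have hperp : ∀ (z : V) (hz0 : z ≠ 0) (hz : Q z = 0), spt z hz0 hz ≠ spt u hu0 hu → polar Q u z ≠ 0 := by
        intro z hz0 hz hzne huz
        have hli : LinearIndependent F ![u, z] := (LinearIndependent.pair_iff' hu0).2 fun c hc => hzne
          ((spt_eq_iff hz0 hz hu0 hu).2 ⟨c, hc⟩)
        have hle := two_mul_finrank_le hQ (W := Submodule.span F (Set.range ![u, z])) fun w hw => by
          rw [Matrix.range_cons, Matrix.range_cons, Matrix.range_empty, Set.union_empty, Set.singleton_union,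
            Submodule.mem_span_pair] at hw
          obtain ⟨s, t, rfl⟩ := hw
          rw [map_add', Classical.Quad.map_smul', Classical.Quad.map_smul', hu, hz, polar_smul_left,
            polar_smul_right, huz]
          simp
        rw [finrank_span_eq_card hli, Fintype.card_fin] at hle
        obtain ⟨j, hj⟩ := hodd
        omega
      obtain ⟨s, hs1, hs2⟩ := stab_trans_spt hu0 hu hv0 hv hy0 hy
        (hperp v hv0 hv (by rw [hgv]; exact hp)) (hperp y hy0 hy hyu)
      rw [← hs2, hgv]
      exact hmove s _ hpO (hs1.symm ▸ hpO) _ hgO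
  -- parity
  have hIodd : Odd (Nat.card I) := by
    rw [← Nat.not_even_iff_odd, even_iff_two_dvd]
    intro hdvd
    haveI : Fact (Nat.Prime 2) := ⟨Nat.prime_two⟩
    obtain ⟨⟨_, h, hh, rfl⟩, hord2⟩ := exists_prime_orderOf_dvd_card' 2 hdvd
    replace hord2 : orderOf (act h) = 2 := (Subgroup.orderOf_mk ..).symm.trans hord2
    obtain ⟨k, c, hk, hkc⟩ := hord h hh
    have h1 : act h ^ k = 1 := by
      rw [← map_pow]
      refine Equiv.ext fun q => ?_
      obtain ⟨u, hu0, hu, rfl⟩ := exists_spt q
      rw [hact]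
      exact (spt_eq_iff _ _ _ hu).2 ⟨c, by rw [hkc]⟩
    have := orderOf_dvd_of_pow_eq_one h1
    rw [hord2] at this
    exact absurd (even_iff_two_dvd.2 this) (Nat.not_even_iff_odd.2 hk)
  have h1 : Nat.card O ∣ Nat.card I := ⟨_, (MulAction.orbitProdStabilizerEquivGroup I p).symm |> Nat.card_congr |>.trans (Nat.card_prod _ _)⟩
  rw [hfull, Nat.card_univ] at h1
  exact Nat.not_even_iff_odd.2 (hIodd.of_dvd_nat h1) (even_card_spt hQ h2 hodd)

end Cfsg.Agent.AutPOmega
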