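import Cfsg.Agent.AutPOmega.Structure
import Cfsg.Agent.Classical.OrthSpinor

/-!
The parity of two maximal totally singular subspaces of a hyperbolic space and the resulting character of the
semisimilarities.
-/

set_option autoImplicit false

namespace Cfsg.Agent.AutPOmega

open Module QuadraticMap Classical.Quad

section Abstract

variable {F V : Type*} [Field F] [AddCommGroup V] [Module F V] [FiniteDimensional F V] {Q : QuadraticForm F V}

/-- A totally singular subspace of dimension m. -/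
def IsMS (Q : QuadraticForm F V) (m : ℕ) (U : Submodule F V) : Prop := (∀ u ∈ U, Q u = 0) ∧ finrank F U = m

/-- The parity sign of two subspaces. -/
noncomputable def psign (m : ℕ) (U W : Submodule F V) : ℤˣ := (-1) ^ (m + finrank F (U ⊓ W : Submodule F V))

theorem psign_comm (m : ℕ) (U W : Submodule F V) : psign m U W = psign m W U := by rw [psign, psign, inf_comm]

theorem psign_self {m : ℕ} {U : Submodule F V} (h : finrank F U = m) : psign m U U = 1 := by
  rw [psign, inf_idem, h, ← two_mul, pow_mul, Int.units_sq, one_pow]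

theorem psign_eq_one_iff {m : ℕ} {U W : Submodule F V} (h : finrank F U = m) :
    psign m U W = 1 ↔ Even (finrank F U - finrank F (U ⊓ W : Submodule F V)) := by
  rw [psign, Nat.even_sub (Submodule.finrank_mono inf_le_left), h, neg_one_pow_eq_one_iff_even (by decide),
    Nat.even_add]

theorem IsMS.perp_eq {m : ℕ} (hQ : (polarBilin Q).Nondegenerate) (hd : finrank F V = 2 * m) {U : Submodule F V}
    (hU : IsMS Q m U) : LinearMap.BilinForm.orthogonal (polarBilin Q) U = U := by
  refine (Submodule.eq_of_le_of_finrank_le (fun x hx y hy => ?_) ?_).symm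
  · show polar Q y x = 0
    rw [polar, hU.1 _ (U.add_mem hy hx), hU.1 _ hy, hU.1 _ hx]
    ring
  · rw [LinearMap.BilinForm.finrank_orthogonal hQ, hd, hU.2]
    omega

theorem IsMS.map {m : ℕ} {U : Submodule F V} (hU : IsMS Q m U) (g : oG Q) :
    IsMS Q m (U.map (g.1 : V →ₗ[F] V)) :=
  ⟨by rintro _ ⟨u, hu, rfl⟩; rw [LinearEquiv.coe_coe, g.2]; exact hU.1 u hu,
    by rw [LinearEquiv.finrank_map_eq, hU.2]⟩

theorem psign_flip (hQ : (polarBilin Q).Nondegenerate) {m : ℕ} (hd : finrank F V = 2 * m) {U W : Submodule F V}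
    (hU : IsMS Q m U) (hW : IsMS Q m W) {v : V} (hv : Q v ≠ 0) :
    psign m U (W.map ((rO hv).1 : V →ₗ[F] V)) = -psign m U W := by
  have hperp : ∀ {X : Submodule F V}, IsMS Q m X → ∀ {x}, (∀ y ∈ X, polar Q y x = 0) → x ∈ X := fun hX x hx => by
    rw [← hX.perp_eq hQ hd]; exact hx
  have hz : ∀ {X : Submodule F V}, IsMS Q m X → ∀ {x y}, x ∈ X → y ∈ X → polar Q x y = 0 := fun hX x y hx hy => by
    rw [polar, hX.1 _ (Submodule.add_mem _ hx hy), hX.1 _ hx, hX.1 _ hy]; ring
  obtain ⟨w₁, hw₁W, hw₁⟩ : ∃ w ∈ W, polar Q w v = 1 := by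
    obtain ⟨w, hw, hne⟩ : ∃ w ∈ W, polar Q w v ≠ 0 := by
      by_contra h
      push Not at h
      exact hv (hW.1 v (hperp hW h))
    exact ⟨(polar Q w v)⁻¹ • w, W.smul_mem _ hw, by rw [polar_smul_left, smul_eq_mul, inv_mul_cancel₀ hne]⟩
  let φ : V →ₗ[F] F := (polarBilin Q).flip v
  set H := W ⊓ LinearMap.ker φ with hHdef
  have hH : ∀ {x}, x ∈ H ↔ x ∈ W ∧ polar Q x v = 0 := fun {x} => by
    rw [hHdef, Submodule.mem_inf, LinearMap.mem_ker]; rfl
  have hHd : finrank F H + 1 = m := by
    rw [hHdef, finrank_inf_ker_add_one φ (fun h => one_ne_zero (hw₁.symm.trans (h hw₁W))), hW.2]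
  set W' := W.map ((rO hv).1 : V →ₗ[F] V) with hW'def
  have hW' : IsMS Q m W' := hW.map _
  have hHW' : H ≤ W' := fun x hx => ⟨x, (hH.1 hx).1, by
    rw [LinearEquiv.coe_coe, rO_apply, (hH.1 hx).2]; simp⟩
  have hvW : v ∉ W := fun h => hv (hW.1 v h)
  have hWW' : ∀ {x}, x ∈ W → x ∈ W' → x ∈ H := fun {x} hx hx' => by
    obtain ⟨y, hy, hyx⟩ := hx'
    rw [LinearEquiv.coe_coe, rO_apply] at hyx
    have : (polar Q y v / Q v) • v ∈ W := by
      have := W.sub_mem hy hx
      rwa [← hyx, sub_sub_cancel] at this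
    rcases eq_or_ne (polar Q y v / Q v) 0 with h0 | h0
    · rw [h0, zero_smul, sub_zero] at hyx
      exact hH.2 ⟨hx, by rw [← hyx]; exact (div_eq_zero_iff.1 h0).resolve_right hv⟩
    · exact absurd ((Submodule.smul_mem_iff _ h0).1 this) hvW
  set e := finrank F (U ⊓ H : Submodule F V) with he
  have hbound : ∀ {X : Submodule F V}, H ≤ X → finrank F X = m →
      e ≤ finrank F (U ⊓ X : Submodule F V) ∧ finrank F (U ⊓ X : Submodule F V) ≤ e + 1 := fun {X} hX hXd => by
    refine ⟨Submodule.finrank_mono (inf_le_inf_left U hX), ?_⟩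
    have h1 := Submodule.finrank_sup_add_finrank_inf_eq (U ⊓ X) H
    have h2 : (U ⊓ X) ⊓ H = U ⊓ H := by rw [inf_assoc, inf_eq_right.2 hX]
    have h3 : finrank F (U ⊓ X ⊔ H : Submodule F V) ≤ m := hXd ▸ Submodule.finrank_mono (sup_le inf_le_right hX)
    rw [h2] at h1
    omega
  have b1 := hbound (inf_le_left : H ≤ W) hW.2
  have b2 := hbound hHW' hW'.2
  have hnot : ¬ (e < finrank F (U ⊓ W : Submodule F V) ∧ e < finrank F (U ⊓ W' : Submodule F V)) := by
    rintro ⟨l1, l2⟩
    obtain ⟨u, hu, huH⟩ : ∃ u ∈ U ⊓ W, u ∉ H := by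
      by_contra h
      push Not at h
      exact absurd (Submodule.finrank_mono (le_inf inf_le_left h : U ⊓ W ≤ U ⊓ H)) (by omega)
    obtain ⟨u', hu', huH'⟩ : ∃ u ∈ U ⊓ W', u ∉ H := by
      by_contra h
      push Not at h
      exact absurd (Submodule.finrank_mono (le_inf inf_le_left h : U ⊓ W' ≤ U ⊓ H)) (by omega)
    obtain ⟨w, hw, hwu⟩ := (Submodule.mem_inf.1 hu').2
    have hpu := hz hU (Submodule.mem_inf.1 hu).1 (Submodule.mem_inf.1 hu').1
    rw [← hwu, LinearEquiv.coe_coe, rO_apply, polar_sub_right, hz hW (Submodule.mem_inf.1 hu).2 hw,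
      polar_smul_right, zero_sub, neg_eq_zero, smul_eq_mul] at hpu
    have hn1 : polar Q u v ≠ 0 := fun h0 => huH (hH.2 ⟨(Submodule.mem_inf.1 hu).2, h0⟩)
    have hn2 : polar Q w v ≠ 0 := fun h0 => huH' (by
      have : w ∈ H := hH.2 ⟨hw, h0⟩
      rw [← hwu, LinearEquiv.coe_coe, rO_apply, h0]; simpa using this)
    exact mul_ne_zero (div_ne_zero hn2 hv) hn1 hpu
  have hyes : e < finrank F (U ⊓ W : Submodule F V) ∨ e < finrank F (U ⊓ W' : Submodule F V) := by
    by_contra hc
    push Not at hc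
    obtain ⟨u, hu, huH, huHp⟩ : ∃ u ∈ U, u ∉ H ∧ ∀ y ∈ H, polar Q y u = 0 := by
      by_contra h
      push Not at h
      have hle : U ⊓ LinearMap.BilinForm.orthogonal (polarBilin Q) H ≤ U ⊓ H := fun x hx => by
        obtain ⟨hxU, hxp⟩ := Submodule.mem_inf.1 hx
        refine Submodule.mem_inf.2 ⟨hxU, by_contra fun hxH => ?_⟩
        obtain ⟨y, hy, hne⟩ := h x hxU hxH
        exact hne (hxp y hy)
      have heq : U ⊓ LinearMap.BilinForm.orthogonal (polarBilin Q) H =
          LinearMap.BilinForm.orthogonal (polarBilin Q) (U ⊔ H) := by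
        refine le_antisymm (fun x hx y hy => ?_) fun x hx => ?_
        · obtain ⟨hxU, hxp⟩ := Submodule.mem_inf.1 hx
          obtain ⟨y1, hy1, y2, hy2, rfl⟩ := Submodule.mem_sup.1 hy
          show polar Q (y1 + y2) x = 0
          rw [polar_add_left, hz hU hy1 hxU, zero_add]
          exact hxp y2 hy2
        · refine Submodule.mem_inf.2 ⟨hperp hU fun y hy => hx y (Submodule.mem_sup_left hy), fun y hy => ?_⟩
          exact hx y (Submodule.mem_sup_right hy)
      have h1 := Submodule.finrank_mono hle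
      rw [heq, LinearMap.BilinForm.finrank_orthogonal hQ, hd] at h1
      have h2 := Submodule.finrank_sup_add_finrank_inf_eq U H
      rw [hU.2] at h2
      omega
    let t := polar Q u w₁
    have hxW : u - t • v ∈ W := hperp hW fun y hy => by
      have hy' : y - polar Q y v • w₁ ∈ H := hH.2 ⟨W.sub_mem hy (W.smul_mem _ hw₁W), by
        rw [polar_sub_left, polar_smul_left, hw₁, smul_eq_mul, mul_one, sub_self]⟩
      have h3 := huHp _ hy'
      rw [polar_sub_left, polar_smul_left, smul_eq_mul, polar_comm Q w₁ u] at h3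
      rw [polar_sub_right, polar_smul_right, smul_eq_mul]
      linear_combination h3
    have hsum : Q ((u - t • v) + t • v) = 0 := by rw [sub_add_cancel]; exact hU.1 u hu
    rw [Classical.Quad.map_add', hW.1 _ hxW, Classical.Quad.map_smul', polar_smul_right, smul_eq_mul] at hsum
    have hcase : u ∈ W ∨ u ∈ W' := by
      rcases mul_eq_zero.1 (show t * (polar Q (u - t • v) v + t * Q v) = 0 by linear_combination hsum) with h0 | h0
      · left
        rwa [h0, zero_smul, sub_zero] at hxW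
      · right
        refine ⟨u - t • v, hxW, ?_⟩
        rw [LinearEquiv.coe_coe, rO_apply, show polar Q (u - t • v) v / Q v = -t by
          rw [div_eq_iff hv]; linear_combination h0, neg_smul, sub_neg_eq_add, sub_add_cancel]
    have hlt : ∀ {X : Submodule F V}, H ≤ X → u ∈ X → e < finrank F (U ⊓ X : Submodule F V) := fun {X} hX hx =>
      Submodule.finrank_lt_finrank_of_lt (lt_of_le_of_ne (inf_le_inf_left U hX) fun heq =>
        huH ((Submodule.mem_inf.1 (heq.ge (Submodule.mem_inf.2 ⟨hu, hx⟩))).2))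
    rcases hcase with h | h
    · exact absurd (hlt inf_le_left h) (by omega)
    · exact absurd (hlt hHW' h) (by omega)
  have hd' : finrank F (U ⊓ W' : Submodule F V) = finrank F (U ⊓ W : Submodule F V) + 1 ∨
      finrank F (U ⊓ W' : Submodule F V) + 1 = finrank F (U ⊓ W : Submodule F V) := by omega
  rw [psign, psign]
  rcases hd' with h | h
  · rw [h, ← add_assoc, pow_succ, mul_neg_one]
  · rw [← h, ← add_assoc, pow_succ, mul_neg_one, neg_neg]

theorem psign_map_map (m : ℕ) (U W : Submodule F V) {g : V →ₗ[F] V} (hg : Function.Injective g) :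
    psign m (U.map g) (W.map g) = psign m U W := by
  rw [psign, psign, ← Submodule.map_inf g hg,
    (Submodule.equivMapOfInjective g hg (U ⊓ W)).finrank_eq]

variable [Finite F]

/-- The parity of a subspace and its image is the Dickson invariant. -/
theorem psign_map (hQ : (polarBilin Q).Nondegenerate) (hex : Nat.card F ≠ 2 ∨ finrank F V ≠ 4) {m : ℕ}
    (hd : finrank F V = 2 * m) {U : Submodule F V} (hU : IsMS Q m U) (g : oG Q) :
    psign m U (U.map (g.1 : V →ₗ[F] V)) = dsign g := by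
  have step : ∀ (g : oG Q) {v : V} (hv : Q v ≠ 0), psign m U (U.map ((g * rO hv).1 : V →ₗ[F] V)) =
      -psign m U (U.map (g.1 : V →ₗ[F] V)) := fun g v hv => by
    have hback : (U.map ((g⁻¹).1 : V →ₗ[F] V)).map (g.1 : V →ₗ[F] V) = U := by
      rw [← Submodule.map_comp]
      convert Submodule.map_id U
      exact LinearMap.ext fun x => oG_apply_inv g x
    have hcomp : U.map ((g * rO hv).1 : V →ₗ[F] V) = (U.map ((rO hv).1 : V →ₗ[F] V)).map (g.1 : V →ₗ[F] V) := by
      rw [← Submodule.map_comp]; rfl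
    rw [show psign m U (U.map ((g * rO hv).1 : V →ₗ[F] V)) = psign m ((U.map ((g⁻¹).1 : V →ₗ[F] V)).map
      (g.1 : V →ₗ[F] V)) ((U.map ((rO hv).1 : V →ₗ[F] V)).map (g.1 : V →ₗ[F] V)) by rw [hcomp, hback],
      psign_map_map m _ _ g.1.injective]
    rw [psign_flip hQ hd (hU.map _) hU hv, ← psign_map_map m _ U g.1.injective, hback]
  have hg : g ∈ Subgroup.closure (reflSet Q) := by rw [closure_reflSet hQ hex]; trivial
  induction hg using Subgroup.closure_induction_right with
  | one =>
    rw [dsign_one]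
    convert psign_self hU.2
    exact Submodule.map_id U
  | mul_right x _ y hy ih =>
    obtain ⟨v, hv, rfl⟩ := hy
    rw [step, dsign_mul_rO hQ _ hv, ih]
  | mul_inv_cancel x _ y hy ih =>
    obtain ⟨v, hv, rfl⟩ := hy
    rw [rO_inv, step, dsign_mul_rO hQ _ hv, ih]

omit [Finite F] in
theorem exists_map_eq (hQ : (polarBilin Q).Nondegenerate) {m : ℕ} {U W : Submodule F V} (hU : IsMS Q m U)
    (hW : IsMS Q m W) : ∃ g : oG Q, U.map (g.1 : V →ₗ[F] V) = W := by
  obtain ⟨g, hg, hgx⟩ := witt hQ U W (LinearEquiv.ofFinrankEq U W (hU.2.trans hW.2.symm)) fun x => by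
    rw [hU.1 _ x.2, hW.1 _ (Subtype.coe_prop _)]
  refine ⟨⟨g, hg⟩, Submodule.eq_of_le_of_finrank_le ?_ (by rw [LinearEquiv.finrank_map_eq, hU.2, hW.2])⟩
  rintro _ ⟨x, hx, rfl⟩
  rw [LinearEquiv.coe_coe, hgx ⟨x, hx⟩]
  exact Subtype.coe_prop _

/-- Parities compose. -/
theorem psign_trans (hQ : (polarBilin Q).Nondegenerate) (hex : Nat.card F ≠ 2 ∨ finrank F V ≠ 4) {m : ℕ}
    (hd : finrank F V = 2 * m) {U W X : Submodule F V} (hU : IsMS Q m U) (hW : IsMS Q m W) (hX : IsMS Q m X) :
    psign m U X = psign m U W * psign m W X := by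
  obtain ⟨g, rfl⟩ := exists_map_eq hQ hU hW
  obtain ⟨k, rfl⟩ := exists_map_eq hQ hW hX
  have h : (U.map (g.1 : V →ₗ[F] V)).map (k.1 : V →ₗ[F] V) = U.map ((k * g).1 : V →ₗ[F] V) := by
    rw [← Submodule.map_comp]; rfl
  rw [psign_map hQ hex hd hW k, h, psign_map hQ hex hd hU (k * g), psign_map hQ hex hd hU g, dsign_mul hQ hex,
    mul_comm]

omit [Finite F] in
theorem finrank_of_maximal (hQ : (polarBilin Q).Nondegenerate) {m : ℕ} (hd : finrank F V = 2 * m)
    {U₀ U : Submodule F V} (hU₀ : IsMS Q m U₀) (hU : ∀ u ∈ U, Q u = 0)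
    (hmax : ∀ W : Submodule F V, U ≤ W → (∀ w ∈ W, Q w = 0) → W = U) : finrank F U = m := by
  have h1 := two_mul_finrank_le hQ hU
  rw [hd] at h1
  rw [finrank_eq_of_maximal hQ hU hU₀.1 hmax (by rw [hU₀.2]; omega), hU₀.2]

end Abstract

section Semilinear

variable {ι : Type} [Fintype ι] [DecidableEq ι] {F : Type*} [Field F] {Q : QuadraticForm F (ι → F)}

/-- The image of a subspace under a semisimilarity. -/
def Semi.mapSub (T : Semi Q) (U : Submodule F (ι → F)) : Submodule F (ι → F) where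
  carrier := {x | T.appInv x ∈ U}
  add_mem' {x y} hx hy := by
    show T.appInv (x + y) ∈ U
    rw [show T.appInv (x + y) = T.appInv x + T.appInv y from
      T.app_injective (by rw [T.app_add, T.app_inv, T.app_inv, T.app_inv])]
    exact U.add_mem hx hy
  zero_mem' := by
    show T.appInv 0 ∈ U
    rw [show T.appInv 0 = 0 from T.app_injective (by rw [T.app_inv, T.app_zero])]
    exact U.zero_mem
  smul_mem' a x hx := by
    show T.appInv (a • x) ∈ U
    rw [show T.appInv (a • x) = T.σ.symm a • T.appInv x from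
      T.app_injective (by rw [T.app_smul, T.app_inv, T.app_inv, RingEquiv.apply_symm_apply])]
    exact U.smul_mem _ hx

theorem Semi.mem_mapSub {T : Semi Q} {U : Submodule F (ι → F)} {x : ι → F} :
    x ∈ T.mapSub U ↔ T.appInv x ∈ U := Iff.rfl

theorem Semi.app_mem_mapSub {T : Semi Q} {U : Submodule F (ι → F)} {x : ι → F} :
    T.app x ∈ T.mapSub U ↔ x ∈ U := by
  rw [Semi.mem_mapSub, show T.appInv (T.app x) = x from T.app_injective (T.app_inv _)]

theorem Semi.mapSub_ofSim (g : Geo.quadSimilarityGroup (F := F) (⇑Q)) (U : Submodule F (ι → F)) :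
    (Semi.ofSim g).mapSub U = U.map (Matrix.toLin' g.1.1) := by
  ext x
  constructor
  · intro hx
    exact ⟨_, hx, (Semi.ofSim g).app_inv x⟩
  · rintro ⟨y, hy, rfl⟩
    exact (Semi.app_mem_mapSub (T := Semi.ofSim g)).2 hy

theorem Semi.mapSub_comp (T S : Semi Q) (U : Submodule F (ι → F)) :
    (T.comp S).mapSub U = T.mapSub (S.mapSub U) := by
  ext x
  rw [Semi.mem_mapSub, Semi.mem_mapSub, Semi.mem_mapSub]
  rw [show (T.comp S).appInv x = S.appInv (T.appInv x) from
    (T.comp S).app_injective (by rw [Semi.app_inv, Semi.app_comp, Semi.app_inv, Semi.app_inv])]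

theorem Semi.mapSub_inf (T : Semi Q) (U W : Submodule F (ι → F)) :
    T.mapSub (U ⊓ W) = T.mapSub U ⊓ T.mapSub W := rfl

theorem Semi.mapSub_congr {T S : Semi Q} {a : F} (ha : a ≠ 0) (h : ∀ v, T.app v = a • S.app v)
    (U : Submodule F (ι → F)) : T.mapSub U = S.mapSub U := by
  ext x
  rw [← S.app_inv x]
  conv_rhs => rw [Semi.app_mem_mapSub]
  have : S.app (S.appInv x) = T.app ((T.σ.symm a⁻¹) • S.appInv x) := by
    rw [T.app_smul, h, RingEquiv.apply_symm_apply, smul_smul, inv_mul_cancel₀ ha, one_smul]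
  rw [this, Semi.app_mem_mapSub]
  exact Submodule.smul_mem_iff _ ((map_ne_zero T.σ.symm).2 (inv_ne_zero ha))

variable [Finite F]

theorem Semi.finrank_mapSub (T : Semi Q) (U : Submodule F (ι → F)) : finrank F (T.mapSub U) = finrank F U := by
  have h : Nat.card (T.mapSub U) = Nat.card U := Nat.card_congr
    { toFun := fun x => ⟨T.appInv x, x.2⟩
      invFun := fun x => ⟨T.app x, Semi.app_mem_mapSub.2 x.2⟩
      left_inv := fun x => Subtype.ext (T.app_inv x)
      right_inv := fun x => Subtype.ext (T.app_injective (T.app_inv _)) }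
  rw [Module.natCard_eq_pow_finrank (K := F), Module.natCard_eq_pow_finrank (K := F) (V := U)] at h
  exact Nat.pow_right_injective Finite.one_lt_card h

theorem Semi.isMS_mapSub (T : Semi Q) {m : ℕ} {U : Submodule F (ι → F)} (hU : IsMS Q m U) :
    IsMS Q m (T.mapSub U) :=
  ⟨fun x hx => by rw [← T.app_inv x, T.Q_app, hU.1 _ hx, map_zero, mul_zero], by rw [T.finrank_mapSub, hU.2]⟩

theorem Semi.psign_mapSub (T : Semi Q) (m : ℕ) (U W : Submodule F (ι → F)) :
    psign m (T.mapSub U) (T.mapSub W) = psign m U W := by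
  rw [psign, psign, ← T.mapSub_inf, T.finrank_mapSub]

end Semilinear

end Cfsg.Agent.AutPOmega
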