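import Cfsg.Agent.AutPOmega.Parity
import Cfsg.Agent.Classical.QuadMat

/-!
The parity character of the semisimilarities of a hyperbolic space.
-/

set_option autoImplicit false

namespace Cfsg.Agent.AutPOmega

open Module QuadraticMap Classical.Quad Matrix

/-- A hyperbolic space of rank m. -/
structure Hyp {ι : Type} [Fintype ι] [DecidableEq ι] {F : Type*} [Field F] (Q : QuadraticForm F (ι → F)) (m : ℕ)
    (U₀ : Submodule F (ι → F)) : Prop where
  nondeg : (polarBilin Q).Nondegenerate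
  big : 3 ≤ m
  dim : Fintype.card ι = 2 * m
  ms : IsMS Q m U₀

variable {ι : Type} [Fintype ι] [DecidableEq ι] {F : Type*} [Field F] [Finite F] {Q : QuadraticForm F (ι → F)}
  {m : ℕ} {U₀ : Submodule F (ι → F)}

/-- The parity of a semisimilarity. -/
noncomputable def Semi.par (T : Semi Q) (m : ℕ) (U₀ : Submodule F (ι → F)) : ℤˣ := psign m U₀ (T.mapSub U₀)

omit [Finite F] in
theorem Semi.par_congr {T S : Semi Q} {a : F} (ha : a ≠ 0) (h : ∀ v, T.app v = a • S.app v) :
    T.par m U₀ = S.par m U₀ := by rw [Semi.par, Semi.par, Semi.mapSub_congr ha h]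

variable (hH : Hyp Q m U₀)
include hH

omit [Finite F] in
theorem Hyp.finrank : finrank F (ι → F) = 2 * m := by rw [finrank_fintype_fun_eq_card, hH.dim]

theorem Hyp.hex : Nat.card F ≠ 2 ∨ Module.finrank F (ι → F) ≠ 4 :=
  Or.inr (by rw [hH.finrank]; have := hH.big; omega)

theorem Hyp.par_comp (T S : Semi Q) : (T.comp S).par m U₀ = T.par m U₀ * S.par m U₀ := by
  rw [Semi.par, Semi.par, Semi.par, Semi.mapSub_comp,
    psign_trans hH.nondeg hH.hex hH.finrank hH.ms (T.isMS_mapSub hH.ms) (T.isMS_mapSub (S.isMS_mapSub hH.ms)),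
    T.psign_mapSub]

/-- The parity as a character of the similarities. -/
noncomputable def Hyp.parG : Geo.quadSimilarityGroup (F := F) (⇑Q) →* ℤˣ :=
  MonoidHom.mk' (fun g => (Semi.ofSim g).par m U₀) fun g h => by
    rw [← hH.par_comp]
    refine Semi.par_congr one_ne_zero fun v => ?_
    rw [one_smul, Semi.app_comp, Semi.ofSim_app, Semi.ofSim_app, Semi.ofSim_app, Matrix.mulVec_mulVec]
    rfl

theorem Hyp.parG_apply (g : Geo.quadSimilarityGroup (F := F) (⇑Q)) : hH.parG g = (Semi.ofSim g).par m U₀ := rfl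

theorem Hyp.parG_eq_psign (g : Geo.quadSimilarityGroup (F := F) (⇑Q)) :
    hH.parG g = psign m U₀ (U₀.map (Matrix.toLin' g.1.1)) := by
  rw [hH.parG_apply, Semi.par, Semi.mapSub_ofSim]

/-- The parity of an isometry is its Dickson invariant. -/
theorem Hyp.parG_iso (g : Cfsg.isometryGroup F ⇑Q) :
    hH.parG (isoToSim g) = dickson hH.nondeg hH.hex (oEquiv Q g) := by
  rw [hH.parG_eq_psign]
  exact psign_map hH.nondeg hH.hex hH.finrank hH.ms (oEquiv Q g)

omit [Finite F] in
theorem Hyp.isMax_finrank {U : Submodule F (ι → F)} (h : Cfsg.IsMaxTotallySingular (⇑Q) U) : IsMS Q m U :=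
  ⟨h.1, finrank_of_maximal hH.nondeg hH.finrank hH.ms h.1 fun W hUW hW => h.2 W hW hUW⟩

omit [Finite F] in
theorem Hyp.isMax (U : Submodule F (ι → F)) (h : IsMS Q m U) : Cfsg.IsMaxTotallySingular (⇑Q) U := by
  refine ⟨h.1, fun W hW hUW => (Submodule.eq_of_le_of_finrank_le hUW ?_).symm⟩
  have := two_mul_finrank_le hH.nondeg hW
  rw [hH.finrank] at this
  rw [h.2]
  omega

/-- Preserving the two classes means trivial parity. -/
theorem Hyp.preserves_iff (g : Geo.quadSimilarityGroup (F := F) (⇑Q)) :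
    Cfsg.PreservesSingularClasses (⇑Q) g.1.1 ↔ hH.parG g = 1 := by
  have key : ∀ U, IsMS Q m U → (Cfsg.SameParityClass U (Cfsg.imageSubmodule g.1.1 U) ↔ hH.parG g = 1) := by
    intro U hU
    rw [Cfsg.SameParityClass, ← psign_eq_one_iff hU.2, Cfsg.imageSubmodule, ← Semi.mapSub_ofSim g U]
    set T := Semi.ofSim g
    have e := psign_trans hH.nondeg hH.hex hH.finrank hH.ms hU (T.isMS_mapSub hU)
    have e' := psign_trans hH.nondeg hH.hex hH.finrank hH.ms (T.isMS_mapSub hH.ms) (T.isMS_mapSub hU)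
    rw [T.psign_mapSub] at e'
    rw [hH.parG_apply, Semi.par]
    rw [e] at e'
    have : psign m U (T.mapSub U) = psign m U₀ (T.mapSub U₀) :=
      mul_left_cancel (e'.trans (mul_comm _ _))
    rw [this]
  exact ⟨fun h => (key U₀ hH.ms).1 (h U₀ (hH.isMax U₀ hH.ms)), fun h U hU => (key U (hH.isMax_finrank hU)).2 h⟩

variable (hc : Ctx Q)
include hc

/-- The parity of an automorphism. -/
noncomputable def Hyp.parA : MulAut (Cfsg.POmega F ⇑Q) →* ℤˣ :=
  MonoidHom.mk' (fun β => (exists_semi hc β).choose.par m U₀) fun β γ => by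
    rw [← hH.par_comp]
    obtain ⟨-, a, ha, h⟩ := Semi.aut_eq_aut hc (T := (exists_semi hc (β * γ)).choose)
      (S := (exists_semi hc β).choose.comp (exists_semi hc γ).choose) (by
        rw [Semi.aut_comp, (exists_semi hc β).choose_spec, (exists_semi hc γ).choose_spec,
          (exists_semi hc (β * γ)).choose_spec])
    exact Semi.par_congr ha h

theorem Hyp.parA_aut (T : Semi Q) : hH.parA hc T.aut = T.par m U₀ := by
  obtain ⟨-, a, ha, h⟩ := Semi.aut_eq_aut hc (exists_semi hc T.aut).choose_spec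
  exact Semi.par_congr ha h

theorem Hyp.parA_conjA (g : Geo.quadSimilarityGroup (F := F) (⇑Q)) : hH.parA hc (conjA g) = hH.parG g :=
  hH.parA_aut hc _

/-- The similarities preserving the classes. -/
theorem Hyp.map_ker_parG : (hH.parG.ker).map conjA = (galOf hc).ker ⊓ (hH.parA hc).ker := by
  ext x
  constructor
  · rintro ⟨g, hg, rfl⟩
    exact Subgroup.mem_inf.2 ⟨galOf_conjA hc g, (hH.parA_conjA hc g).trans hg⟩
  · intro hx
    obtain ⟨h1, h2⟩ := Subgroup.mem_inf.1 hx
    rw [ker_galOf hc] at h1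
    obtain ⟨g, rfl⟩ := h1
    exact ⟨g, (hH.parA_conjA hc g).symm.trans h2, rfl⟩

end Cfsg.Agent.AutPOmega
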