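import Cfsg.Agent.AutPOmega.PlusQuot

/-!
The quotients of the conformal and the inner-diagonal group of a plus space by the inner group, and the number
of classes of an involutory similarity graph automorphism.
-/

set_option autoImplicit false

namespace Cfsg.Agent.AutPOmega

open Module QuadraticMap Classical Classical.Quad Matrix
open scoped commutatorElement

theorem zmod4_inv_aux : ∀ a b : ZMod 4, a + a ≠ 0 → b + b ≠ 0 → a ≠ b → a + b = 0 := by decide

theorem ne_identity_index_two {X : Type*} [Group X] {H K : Subgroup X} [K.Normal] (hKH : K ≤ H)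
    (hcard : Nat.card (H ⧸ K.subgroupOf H) = 4) (hab : ∀ x ∈ H, ∀ y ∈ H, x * y * x⁻¹ * y⁻¹ ∈ K) {γ d s : X}
    (hd : d ∈ H) (hds : d * s * d⁻¹ * s⁻¹ ∉ K) (hsγ : s * γ ∈ H)
    (hx : ∃ x ∈ H, x * γ = γ * x ∧ x ∉ K) : (K ⊔ (H ⊓ Subgroup.centralizer {γ})).relIndex H = 2 := by
  set J := K ⊔ (H ⊓ Subgroup.centralizer {γ})
  have hmul := Subgroup.relIndex_mul_relIndex K J H le_sup_left (sup_le hKH inf_le_left)
  rw [show K.relIndex H = 4 from hcard] at hmul
  obtain ⟨x, hxH, hxγ, hxK⟩ := hx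
  have hJ1 : K.relIndex J ≠ 1 := fun h => hxK ((Subgroup.relIndex_eq_one.1 h) (Subgroup.mem_sup_right
    ⟨hxH, Subgroup.mem_centralizer_singleton_iff.2 hxγ⟩))
  have hJ2 : J.relIndex H ≠ 1 := fun h => by
    have hdJ : d ∈ J := (Subgroup.relIndex_eq_one.1 h) hd
    let π := QuotientGroup.mk' K
    have c1 : Commute (π d) (π γ) := by
      have hle : J ≤ (Subgroup.centralizer {π γ}).comap π := sup_le
        (fun z hz => by
          rw [Subgroup.mem_comap, Subgroup.mem_centralizer_singleton_iff,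
            show π z = 1 from (QuotientGroup.eq_one_iff z).2 hz]
          simp)
        (fun z hz => by
          rw [Subgroup.mem_comap, Subgroup.mem_centralizer_singleton_iff, ← map_mul, ← map_mul,
            Subgroup.mem_centralizer_singleton_iff.1 hz.2])
      exact Subgroup.mem_centralizer_singleton_iff.1 (hle hdJ)
    have c2 : Commute (π d) (π (s * γ)) := by
      have h1 : π (d * (s * γ) * d⁻¹ * (s * γ)⁻¹) = 1 := (QuotientGroup.eq_one_iff _).2 (hab d hd _ hsγ)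
      rw [map_mul, map_mul, map_mul, map_inv, map_inv, mul_inv_eq_one, mul_inv_eq_iff_eq_mul] at h1
      exact h1
    have c3 : Commute (π d) (π s) := by
      rw [map_mul] at c2
      have := c2.mul_right c1.inv_right
      rwa [mul_inv_cancel_right] at this
    refine hds ((QuotientGroup.eq_one_iff _).1 ?_)
    show π (d * s * d⁻¹ * s⁻¹) = 1
    rw [map_mul, map_mul, map_mul, map_inv, map_inv, c3.eq, mul_inv_cancel_right, mul_inv_cancel]
  have hle : J.relIndex H ≤ 4 := Nat.le_of_dvd (by norm_num) ⟨_, by rw [← hmul, mul_comm]⟩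
  interval_cases hh : J.relIndex H <;> omega

section Generic

variable {G : Type*} [Group G] {P M N : Subgroup G} [N.Normal]

theorem quot_mk_eq_one {x : G} (hx : x ∈ P) : (QuotientGroup.mk' (N.subgroupOf P) ⟨x, hx⟩ = 1) ↔ x ∈ N :=
  QuotientGroup.eq_one_iff _

theorem comm_mem_of_iso {A : Type*} [CommGroup A] (e : Nonempty (M ⧸ N.subgroupOf M ≃* A)) {x y : G} (hx : x ∈ M)
    (hy : y ∈ M) : x * y * x⁻¹ * y⁻¹ ∈ N := by
  obtain ⟨e⟩ := e
  let π := QuotientGroup.mk' (N.subgroupOf M)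
  have h : π ⟨x, hx⟩ * π ⟨y, hy⟩ = π ⟨y, hy⟩ * π ⟨x, hx⟩ := e.injective (by rw [map_mul, map_mul, mul_comm])
  have h1 : π (⟨x, hx⟩ * ⟨y, hy⟩ * ⟨x, hx⟩⁻¹ * ⟨y, hy⟩⁻¹) = 1 := by
    rw [map_mul, map_mul, map_mul, map_inv, map_inv, h, mul_inv_cancel_right, mul_inv_cancel]
  exact (quot_mk_eq_one (N := N) _).1 h1

theorem sq_mem_of_klein (e : Nonempty (M ⧸ N.subgroupOf M ≃* Multiplicative (ZMod 2 × ZMod 2))) {d : G} (hd : d ∈ M) :
    d * d ∈ N := by
  obtain ⟨e⟩ := e
  let π := QuotientGroup.mk' (N.subgroupOf M)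
  have h : π (⟨d, hd⟩ * ⟨d, hd⟩) = 1 := e.injective (by
    rw [map_mul, map_mul, map_one]
    generalize e _ = z
    revert z
    decide)
  exact (quot_mk_eq_one (N := N) _).1 h

theorem invert_of_cyclic_four (e : Nonempty (M ⧸ N.subgroupOf M ≃* Multiplicative (ZMod 4))) {d s : G} (hd : d ∈ M)
    (hn : s * d * s ∈ M) (hdd : d * d ∉ N) (hss : s * s = 1) (hne : d * s * d⁻¹ * s⁻¹ ∉ N) :
    s * d * s * d ∈ N := by
  obtain ⟨e⟩ := e
  have hsi : s⁻¹ = s := inv_eq_of_mul_eq_one_right hss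
  let π := QuotientGroup.mk' (N.subgroupOf M)
  have k1 : e (π ⟨d, hd⟩) * e (π ⟨d, hd⟩) ≠ 1 := fun h => hdd <| by
    rw [← map_mul, ← map_mul, MulEquiv.map_eq_one_iff] at h
    exact (quot_mk_eq_one (N := N) _).1 h
  have k2 : e (π ⟨_, hn⟩) * e (π ⟨_, hn⟩) ≠ 1 := fun h => hdd <| by
    rw [← map_mul, ← map_mul, MulEquiv.map_eq_one_iff] at h
    have h' : s * d * s * (s * d * s) ∈ N := (quot_mk_eq_one (N := N) _).1 h
    have h5 := (inferInstance : N.Normal).conj_mem _ h' s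
    have h6 : s * (s * d * s * (s * d * s)) * s⁻¹ = d * d := by
      have hss1 : ∀ x, s * (s * x) = x := fun x => by rw [← mul_assoc, hss, one_mul]
      simp only [hsi, mul_assoc, hss1, hss, mul_one]
    rwa [h6] at h5
  have k3 : e (π ⟨_, hn⟩) ≠ e (π ⟨d, hd⟩) := fun h => hne <| by
    have h' : π (⟨_, hn⟩⁻¹ * ⟨d, hd⟩) = 1 := by rw [map_mul, map_inv, e.injective h, inv_mul_cancel]
    have h5 := (inferInstance : N.Normal).conj_mem _ ((quot_mk_eq_one (N := N) _).1 h') d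
    have h6 : d * ((s * d * s)⁻¹ * d) * d⁻¹ = d * s * d⁻¹ * s⁻¹ := by
      simp only [_root_.mul_inv_rev, hsi, mul_assoc, mul_inv_cancel, mul_one]
    change d * ((s * d * s)⁻¹ * d) * d⁻¹ ∈ N at h5
    rwa [h6] at h5
  have k4 : e (π ⟨_, hn⟩) * e (π ⟨d, hd⟩) = 1 := zmod4_inv_aux _ _ k2 k1 k3
  rw [← map_mul, ← map_mul, MulEquiv.map_eq_one_iff] at k4
  exact (quot_mk_eq_one (N := N) _).1 k4

theorem dihedral_of_pair [Finite G] (h8 : Nat.card (P ⧸ N.subgroupOf P) = 8) {d s : G} (hd : d ∈ P) (hs : s ∈ P)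
    (hdd : d * d ∈ N) (hss : s * s ∈ N) (hne : d * s * d⁻¹ * s⁻¹ ∉ N) :
    Nonempty (P ⧸ N.subgroupOf P ≃* DihedralGroup 4) := by
  let π := QuotientGroup.mk' (N.subgroupOf P)
  have hdd' : π ⟨d, hd⟩ * π ⟨d, hd⟩ = 1 := by rw [← map_mul]; exact (quot_mk_eq_one (N := N) _).2 hdd
  have hss' : π ⟨s, hs⟩ * π ⟨s, hs⟩ = 1 := by rw [← map_mul]; exact (quot_mk_eq_one (N := N) _).2 hss
  have hnc : π ⟨d, hd⟩ * π ⟨s, hs⟩ ≠ π ⟨s, hs⟩ * π ⟨d, hd⟩ := fun e => hne <| by
    have e' : π (⟨d, hd⟩ * ⟨s, hs⟩ * ⟨d, hd⟩⁻¹ * ⟨s, hs⟩⁻¹) = 1 := by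
      rw [map_mul, map_mul, map_mul, map_inv, map_inv, e, mul_inv_cancel_right, mul_inv_cancel]
    exact (quot_mk_eq_one (N := N) _).1 e'
  generalize π ⟨d, hd⟩ = D at hdd' hnc
  generalize π ⟨s, hs⟩ = S at hss' hnc
  have hDi : D⁻¹ = D := inv_eq_of_mul_eq_one_right hdd'
  have hSi : S⁻¹ = S := inv_eq_of_mul_eq_one_right hss'
  have h4 : (D * S) ^ 4 = 1 := by
    have hp := pow_card_eq_one' (x := D * S)
    rw [h8] at hp
    by_contra h4
    have h : orderOf (D * S) = 8 := by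
      have : Fact (Nat.Prime 2) := ⟨Nat.prime_two⟩
      exact orderOf_eq_prime_pow (p := 2) (n := 2) (by simpa using h4) (by simpa using hp)
    have hz := Subgroup.eq_top_of_card_eq (Subgroup.zpowers (D * S)) (by rw [Nat.card_zpowers, h, h8])
    obtain ⟨i, hi⟩ := Subgroup.mem_zpowers_iff.1 (hz ▸ Subgroup.mem_top D)
    obtain ⟨j, hj⟩ := Subgroup.mem_zpowers_iff.1 (hz ▸ Subgroup.mem_top S)
    have hc := (Commute.zpow_zpow_self (D * S) i j).eq
    rw [hi, hj] at hc
    exact hnc hc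
  have h22 : (D * S) ^ 2 ≠ 1 := fun h => hnc (by
    rw [pow_two] at h
    have h' := eq_inv_of_mul_eq_one_left h
    rwa [_root_.mul_inv_rev, hDi, hSi] at h')
  refine dihedral_four h8 (d := D * S) (s := S) h4 h22 hss' ?_ fun k e => ?_
  · calc S * (D * S) * S * (D * S) = S * D * (S * S) * D * S := by group
      _ = S * (D * D) * S := by rw [hss']; group
      _ = 1 := by rw [hdd', mul_one, hss']
  · refine hnc ?_
    have h1 : Commute (D * S) S := by
      have h2 := Commute.self_pow (D * S) k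
      rwa [← e] at h2
    have h3 : D * S * S = S * D * S := by rw [h1.eq]; group
    exact mul_right_cancel h3

end Generic

variable {F : Type*} [Field F] [Fintype F] {m : ℕ} (hm : 3 ≤ m) (hodd : Odd (Fintype.card F))
include hm hodd

theorem exists_outer : ∃ (c : Fˣ) (s : MulAut (Cfsg.POmega F ⇑(qPlus F m))),
    ¬ IsSquare (c : F) ∧ s = conjA (isoToSim (swapIso (⟨0, by omega⟩ : Fin m))) ∧ s * s = 1 ∧
      s ∈ (conjA (Q := qPlus F m)).range ∧ s ∉ inndiagQ hm := by
  have h2 := two_ne_zero_of_odd hodd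
  obtain ⟨u, hu0, hu⟩ := exists_qs_neg (F := F) h2
  refine ⟨Units.mk0 u hu0, _, fun h => ?_, rfl, ?_, ⟨_, rfl⟩, ?_⟩
  · rw [Units.val_mk0, ← qs_eq_one, hu] at h
    exact absurd h (by decide)
  · rw [← map_mul, ← map_mul]
    convert (conjA (Q := qPlus F m)).map_one
    refine (map_eq_one_iff _ (Subgroup.inclusion_injective _)).2 ?_
    refine (map_eq_one_iff (oEquiv (qPlus F m)) (oEquiv _).injective).1 ?_
    rw [map_mul, oEquiv_swapIso, rO_mul_self]
  · rintro ⟨g, hg, he⟩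
    have h1 : (isoToSim (swapIso (⟨0, by omega⟩ : Fin m)))⁻¹ * g ∈ (conjA (Q := qPlus F m)).ker := by
      rw [MonoidHom.mem_ker, map_mul, map_inv, he, inv_mul_cancel]
    have h3 := (ker_conjA_plus hm hodd).1 h1
    rw [MonoidHom.mem_ker, map_mul, map_inv, MonoidHom.mem_ker.1 hg, mul_one, inv_eq_one,
      parP, parG_swap hm] at h3
    exact absurd h3 (by decide)

theorem commutator_dSim (hB : Fintype.card F ^ m % 4 = 1) {c : Fˣ} (hc : ¬ IsSquare (c : F)) :
    conjA (dSim (m := m) c) * conjA (isoToSim (swapIso (⟨0, by omega⟩ : Fin m))) * (conjA (dSim c))⁻¹ *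
      (conjA (isoToSim (swapIso (⟨0, by omega⟩ : Fin m))))⁻¹ ∉ Cfsg.Inn (Cfsg.POmega F ⇑(qPlus F m)) :=
  comm_swap hm hodd hB (by rwa [multP_dSim hm]) _

/-- The inner-diagonal group modulo the inner one. -/
theorem inndiag_inn_plus :
    (¬ Fintype.card F ^ m % 4 = 1 → Nonempty (↥(inndiagQ hm) ⧸
      (Cfsg.Inn (Cfsg.POmega F ⇑(qPlus F m))).subgroupOf (inndiagQ hm) ≃* Multiplicative (ZMod 2))) ∧
    (Fintype.card F ^ m % 4 = 1 → Odd m → Nonempty (↥(inndiagQ hm) ⧸
      (Cfsg.Inn (Cfsg.POmega F ⇑(qPlus F m))).subgroupOf (inndiagQ hm) ≃* Multiplicative (ZMod 4))) ∧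
    (Fintype.card F ^ m % 4 = 1 → Even m → Nonempty (↥(inndiagQ hm) ⧸
      (Cfsg.Inn (Cfsg.POmega F ⇑(qPlus F m))).subgroupOf (inndiagQ hm) ≃* Multiplicative (ZMod 2 × ZMod 2))) := by
  have h2 := two_ne_zero_of_odd hodd
  have hcard := (card_quots_plus hm hodd).2
  obtain ⟨c, -, hc, -, -, -, -⟩ := exists_outer hm hodd
  refine ⟨fun hA => ?_, fun hB hmo => ?_, fun hB hme => ?_⟩
  · rw [if_neg hA] at hcard
    exact cyclic_two hcard
  · rw [if_pos hB] at hcard
    exact quot_cyclic_four (inn_le_inndiagQ hm hodd) hcard ⟨_, parP_dSim hm c, rfl⟩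
      (dSim_sq_not_inn hm hodd hB hmo hc)
  · rw [if_pos hB] at hcard
    have hwp : parP (F := F) hm (wSim c) = 1 := by
      have hd := det_parP hm (wSim (m := m) c)
      have hmu : multP hm (wSim (m := m) c) = c := mult0_eq _ fun v => by
        show qPlus F m (Matrix.fromBlocks 0 ((c : F) • 1) 1 0 *ᵥ v) = _
        simp [qPlus_apply, Cfsg.quadFormPlus, Matrix.fromBlocks_mulVec, Matrix.smul_mulVec, Finset.mul_sum,
          mul_assoc, mul_comm (v (Sum.inl _))]
      have hdet : LinearMap.det (Matrix.toLin' (wSim (F := F) (m := m) c).1.1) = (-(c : F)) ^ m :=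
        det_of_sq_nonsquare (fun v => by
          simp only [Matrix.toLin'_apply, Matrix.mulVec_mulVec]
          rw [← scalarSim_mulVec (Q := qPlus F m) c v, ← wSim_sq]
          rfl) hc (by simp; omega)
      rw [LinearMap.det_toLin', hd, hmu, hme.neg_pow] at hdet
      rcases Int.units_eq_one_or (parP (F := F) hm (wSim c)) with e | e
      · exact e
      · exfalso
        rw [e] at hdet
        simp at hdet
        exact h2 ((mul_eq_zero.1 (by linear_combination -hdet : (2 : F) * (c : F) ^ m = 0)).resolve_right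
          (pow_ne_zero _ c.ne_zero))
    refine quot_klein (pso_le_inndiagQ hm hodd) (inn_le_pso_plus hm hodd) hcard (relIndex_inn_pso hm hodd hB)
      (s := conjA (wSim c)) ⟨_, hwp, rfl⟩ ?_ ?_
    · rw [← map_mul, wSim_sq, sim_aut_scalar nondeg_qPlus h2 (hn_plus hm)]
    · intro hmem
      rw [pso_plus_eq hm hodd] at hmem
      obtain ⟨s, -, hs⟩ := hmem
      have h1 : (isoToSim s)⁻¹ * wSim c ∈ (conjA (Q := qPlus F m)).ker := by
        rw [MonoidHom.mem_ker, map_mul, map_inv, ← hs]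
        exact inv_mul_cancel _
      have h3 := (ker_conjA_plus hm hodd).2 _ h1
      rw [map_mul, map_inv, mult0_isoToSim, inv_one, one_mul,
        show multP hm (wSim (m := m) c) = c from mult0_eq _ fun v => by
          show qPlus F m (Matrix.fromBlocks 0 ((c : F) • 1) 1 0 *ᵥ v) = _
          simp [qPlus_apply, Cfsg.quadFormPlus, Matrix.fromBlocks_mulVec, Matrix.smul_mulVec, Finset.mul_sum,
            mul_assoc, mul_comm (v (Sum.inl _))]] at h3
      exact hc h3

theorem inndiagQ_abelian : ∀ x ∈ inndiagQ (F := F) hm, ∀ y ∈ inndiagQ (F := F) hm,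
    x * y * x⁻¹ * y⁻¹ ∈ Cfsg.Inn (Cfsg.POmega F ⇑(qPlus F m)) := by
  intro x hx y hy
  obtain ⟨h1, h2, h3⟩ := inndiag_inn_plus hm hodd
  by_cases hB : Fintype.card F ^ m % 4 = 1
  · rcases Nat.even_or_odd m with he | ho
    · exact comm_mem_of_iso (h3 hB he) hx hy
    · exact comm_mem_of_iso (h2 hB ho) hx hy
  · exact comm_mem_of_iso (h1 hB) hx hy

/-- The conformal group modulo the inner one in the split case. -/
theorem pgo_inn_plus (hB : Fintype.card F ^ m % 4 = 1) :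
    Nonempty (↥(conjA (Q := qPlus F m)).range ⧸
      (Cfsg.Inn (Cfsg.POmega F ⇑(qPlus F m))).subgroupOf (conjA (Q := qPlus F m)).range ≃* DihedralGroup 4) := by
  have h2 := two_ne_zero_of_odd hodd
  obtain ⟨hcard8, hcard⟩ := card_quots_plus hm hodd
  rw [if_pos hB] at hcard8 hcard
  obtain ⟨c, s, hc, hs, hss, hsP, hsM⟩ := exists_outer hm hodd
  have hle : inndiagQ (F := F) hm ≤ (conjA (Q := qPlus F m)).range := inndiagQ_le hm
  have hne : conjA (dSim (m := m) c) * s * (conjA (dSim c))⁻¹ * s⁻¹ ∉ Cfsg.Inn (Cfsg.POmega F ⇑(qPlus F m)) := by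
    rw [hs]; exact commutator_dSim hm hodd hB hc
  have hsi : s⁻¹ = s := inv_eq_of_mul_eq_one_right hss
  set d := conjA (dSim (m := m) c) with hd_def
  have hd : d ∈ inndiagQ hm := ⟨_, parP_dSim hm c, rfl⟩
  rcases Nat.even_or_odd m with hme | hmo
  · exact dihedral_of_pair hcard8 (hle hd) hsP (sq_mem_of_klein ((inndiag_inn_plus hm hodd).2.2 hB hme) hd)
      (by rw [hss]; exact one_mem _) hne
  · have hdd := dSim_sq_not_inn hm hodd hB hmo hc
    have hnorm : s * d * s ∈ inndiagQ hm := by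
      obtain ⟨g, hg, hgd⟩ := hd
      refine ⟨isoToSim (swapIso ⟨0, by omega⟩) * g * isoToSim (swapIso ⟨0, by omega⟩), ?_, ?_⟩
      · rw [SetLike.mem_coe, MonoidHom.mem_ker, map_mul, map_mul, MonoidHom.mem_ker.1 hg, parP, parG_swap hm]
        decide
      · rw [map_mul, map_mul, hgd, hs]
    exact quot_dihedral hle (inn_le_inndiagQ hm hodd) hcard8 hcard hd hsP hdd hss hsM
      (invert_of_cyclic_four ((inndiag_inn_plus hm hodd).2.1 hB hmo) hd hnorm hdd hss hne)

end Cfsg.Agent.AutPOmega
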