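import Cfsg.Agent.AutPOmega.SemisimpleAlg
import Cfsg.Agent.Classical.QuadTypes

/-!
Similarities with any multiplier commuting with a semisimple isometry of odd order.
-/

set_option autoImplicit false

namespace Cfsg.Agent.AutPOmega

open Module QuadraticMap
open scoped IsMulCommutative

variable {F V : Type*} [Field F] [Finite F] [AddCommGroup V] [Module F V] [FiniteDimensional F V]
  {Q : QuadraticForm F V}

/-- Without fixed vectors: a commuting similarity with prescribed multiplier, of determinant a power of it. -/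
theorem exists_sim_fpf (hQ : (polarBilin Q).Nondegenerate) (h2 : (2 : F) ≠ 0) {S : Module.End F V}
    (hS : ∀ x, Q (S x) = Q x) {r : ℕ} (hr : Odd r) (hrF : (r : F) ≠ 0) (hSr : S ^ r = 1)
    (hfix : ∀ x, S x = x → x = 0) {c : F} (hc : c ≠ 0) :
    ∃ (t : Module.End F V) (k : ℕ), t * S = S * t ∧ (∀ x, Q (t x) = c * Q x) ∧ finrank F V = 2 * k ∧
      LinearMap.det t = c ^ k := by
  classical
  have hr0 : 0 < r := hr.pos
  obtain ⟨τ, hτ2, hτ⟩ := exists_adjEquiv hQ hS hr0 hSr
  obtain ⟨y, hy0, hy, hyτ⟩ := skew_adj hQ hS hr0 hSr h2 hr hrF hfix τ hτ hτ2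
  haveI : IsReduced (algS S) := algS_isReduced hrF hSr
  haveI : Finite (algS S) := algS_finite S
  have h2E : IsUnit (2 : algS S) := by
    have := (isUnit_iff_ne_zero.2 h2).map (algebraMap F (algS S))
    rwa [map_ofNat] at this
  have hτc : τ (algebraMap F (algS S) c) = algebraMap F (algS S) c :=
    Subtype.ext (adj_unique hQ (hτ _) fun u z => by
      show polar Q (c • u) z = polar Q u (c • z)
      rw [polar_smul_left, polar_smul_right])
  obtain ⟨t, -, ht⟩ := exists_norm_eq τ hτ2 h2E hy hyτ ((isUnit_iff_ne_zero.2 hc).map (algebraMap F (algS S))) hτc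
  have hpol : ∀ x z, polar Q ((t : Module.End F V) x) ((t : Module.End F V) z) = c * polar Q x z := fun x z => by
    rw [hτ, ← Module.End.mul_apply, ← MulMemClass.coe_mul, ht]
    show polar Q x (c • z) = _
    rw [polar_smul_right, smul_eq_mul]
  have hQt : ∀ x, Q ((t : Module.End F V) x) = c * Q x := fun x => by
    refine mul_left_cancel₀ h2 ?_
    have := hpol x x
    rw [polar_self, polar_self, two_smul, two_smul] at this
    linear_combination this
  let B : LinearMap.BilinForm F V := (polarBilin Q).compl₂ (y : Module.End F V)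
  have hB : ∀ x z, B x z = polar Q x ((y : Module.End F V) z) := fun x z => rfl
  have hA : B.IsAlt := fun x => by
    have h := hτ y x x
    rw [hyτ, show ((-y : algS S) : Module.End F V) x = -((y : Module.End F V) x) from rfl, polar_neg_right,
      polar_comm] at h
    rw [hB]
    exact (mul_eq_zero.1 (by linear_combination h : (2 : F) * polar Q x ((y : Module.End F V) x) = 0)).resolve_left h2
  have hBn : ∀ x, (∀ z, B x z = 0) → x = 0 := fun x hx => Classical.Quad.eq_zero_of_polar hQ fun z => by
    obtain ⟨w, hw⟩ := hy.exists_right_inv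
    have h := hx ((w : Module.End F V) z)
    rw [hB, ← Module.End.mul_apply, ← MulMemClass.coe_mul, hw] at h
    exact h
  obtain ⟨k, e, f, hb, hk⟩ := Classical.Alt.exists_sympBasis hA ⊤ fun w _ hw0 => by
    by_contra h
    push Not at h
    exact hw0 (hBn w fun z => h z trivial)
  rw [finrank_top] at hk
  refine ⟨t, k, ?_, hQt, hk, det_alt_similitude hA hBn hk _ hc fun x z => ?_⟩
  · exact congrArg Subtype.val (mul_comm t ⟨S, Algebra.self_mem_adjoin_singleton F S⟩)
  · rw [hB, hB, ← hpol]
    congr 1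
    exact LinearMap.congr_fun (congrArg Subtype.val (mul_comm y t)) z

/-- The averaging projection onto the fixed vectors. -/
theorem exists_avg (hQ : (polarBilin Q).Nondegenerate) {S : Module.End F V} (hS : ∀ x, Q (S x) = Q x) {r : ℕ}
    (hrF : (r : F) ≠ 0) (hSr : S ^ r = 1) :
    ∃ P : Module.End F V, (∀ x, S (P x) = P x) ∧ (∀ x, S x = x → P x = x) ∧ (∀ x, P (S x) = P x) ∧
      ∀ x z, polar Q (P x) z = polar Q (P x) (P z) := by
  let P : Module.End F V := (r : F)⁻¹ • ∑ i ∈ Finset.range r, S ^ i
  have hP : ∀ x, P x = (r : F)⁻¹ • ∑ i ∈ Finset.range r, (S ^ i) x := fun x => by simp [P]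
  have hsum : S * (∑ i ∈ Finset.range r, S ^ i) = ∑ i ∈ Finset.range r, S ^ i ∧
      (∑ i ∈ Finset.range r, S ^ i) * S = ∑ i ∈ Finset.range r, S ^ i := by
    constructor
    · have h := mul_geom_sum S r
      rw [hSr, sub_self, sub_mul, one_mul, sub_eq_zero] at h
      exact h
    · have h := geom_sum_mul S r
      rw [hSr, sub_self, mul_sub, mul_one, sub_eq_zero] at h
      exact h
  have h1 : ∀ x, S (P x) = P x := fun x => by
    show (S * P) x = P x
    rw [show S * P = P by simp only [P, mul_smul_comm, hsum.1]]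
  have h3 : ∀ x, P (S x) = P x := fun x => by
    show (P * S) x = P x
    rw [show P * S = P by simp only [P, smul_mul_assoc, hsum.2]]
  have h2 : ∀ x, S x = x → P x = x := fun x hx => by
    have hi : ∀ i, (S ^ i) x = x := fun i => by
      induction i with
      | zero => rfl
      | succ i ih => rw [pow_succ, Module.End.mul_apply, hx, ih]
    rw [hP, Finset.sum_congr rfl fun i _ => hi i, Finset.sum_const, Finset.card_range, ← Nat.cast_smul_eq_nsmul F,
      smul_smul, inv_mul_cancel₀ hrF, one_smul]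
  refine ⟨P, h1, h2, h3, fun x z => ?_⟩
  have hi : ∀ i, polar Q (P x) ((S ^ i) z) = polar Q (P x) z := fun i => by
    induction i with
    | zero => rfl
    | succ i ih =>
      rw [pow_succ', Module.End.mul_apply]
      conv_lhs => rw [← h1 x]
      rw [← ih]
      simp only [polar, ← map_add, hS]
  conv_rhs => rw [hP z, polar_smul_right, ← polarBilin_apply_apply, map_sum]
  rw [Finset.sum_congr rfl fun i _ => (polarBilin_apply_apply Q (P x) ((S ^ i) z)).trans (hi i), Finset.sum_const,
    Finset.card_range, smul_eq_mul, ← Nat.cast_smul_eq_nsmul F, smul_eq_mul, inv_mul_cancel_left₀ hrF]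

/-- In even dimension: a commuting similarity with prescribed multiplier; its determinant is known if nothing but
zero is fixed. -/
theorem exists_sim_commute (hQ : (polarBilin Q).Nondegenerate) (h2 : (2 : F) ≠ 0) {S : Module.End F V}
    (hS : ∀ x, Q (S x) = Q x) {r : ℕ} (hr : Odd r) (hrF : (r : F) ≠ 0) (hSr : S ^ r = 1) {n : ℕ}
    (hn : finrank F V = 2 * n) {c : F} (hc : c ≠ 0) :
    ∃ t : Module.End F V, t * S = S * t ∧ (∀ x, Q (t x) = c * Q x) ∧
      ((∀ x, S x = x → x = 0) → LinearMap.det t = c ^ n) ∧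
      ((∃ x, S x = x ∧ x ≠ 0) → ∃ u, Q u ≠ 0 ∧ S u = u) := by
  classical
  obtain ⟨P, hSP, hPS, hP3, hPsym⟩ := exists_avg hQ hS hrF hSr
  by_cases hfix : ∀ x, S x = x → x = 0
  · obtain ⟨t, k, h1, h2', hk, hd⟩ := exists_sim_fpf hQ h2 hS hr hrF hSr hfix hc
    obtain rfl : k = n := by omega
    exact ⟨t, h1, h2', fun _ => hd, fun ⟨x, hx, hx0⟩ => absurd (hfix x hx) hx0⟩
  have hPP : ∀ x, P (P x) = P x := fun x => hPS _ (hSP x)
  let W := LinearMap.range P
  let U := LinearMap.ker P
  have hW : ∀ w : W, S w.1 = w.1 ∧ P w.1 = w.1 := fun w => by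
    obtain ⟨x, hx⟩ := w.2
    rw [← hx]
    exact ⟨hSP x, hPP x⟩
  have hperp : ∀ (w : W) (u : U), polar Q w.1 u.1 = 0 := fun w u => by
    rw [← (hW w).2, hPsym, LinearMap.mem_ker.1 u.2, polar_zero_right]
  have hsplit : ∀ x, Q x = Q (P x) + Q (x - P x) := fun x => by
    have h := hperp ⟨P x, x, rfl⟩ ⟨x - P x, LinearMap.mem_ker.2 (by rw [map_sub, hPP, sub_self])⟩
    rw [polar, add_sub_cancel] at h
    linear_combination h
  have hQW : (polarBilin (Q.comp W.subtype)).Nondegenerate := Classical.Quad.nondeg_of fun w hw =>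
    Subtype.ext (Classical.Quad.eq_zero_of_polar hQ fun z => by
      rw [← (hW w).2, hPsym, (hW w).2]
      exact hw ⟨P z, z, rfl⟩)
  have hQU : (polarBilin (Q.comp U.subtype)).Nondegenerate := Classical.Quad.nondeg_of fun u hu =>
    Subtype.ext (Classical.Quad.eq_zero_of_polar hQ fun z => by
      have h1 : polar Q u.1 (P z) = 0 := by rw [polar_comm]; exact hperp ⟨P z, z, rfl⟩ u
      have h2 : polar Q u.1 (z - P z) = 0 :=
        hu ⟨z - P z, LinearMap.mem_ker.2 (by rw [map_sub, hPP, sub_self])⟩
      rw [← add_sub_cancel (P z) z, polar_add_right, h1, h2, add_zero])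
  have hSU : ∀ x ∈ U, S x ∈ U := fun x hx => LinearMap.mem_ker.2 (by rw [hP3, LinearMap.mem_ker.1 hx])
  let SU : Module.End F U := S.restrict hSU
  have hpow : ∀ (i : ℕ) (x : U), ((SU ^ i) x).1 = (S ^ i) x.1 := fun i => by
    induction i with
    | zero => exact fun x => rfl
    | succ i ih => exact fun x => by rw [pow_succ, pow_succ, Module.End.mul_apply, Module.End.mul_apply, ih]; rfl
  obtain ⟨tU, k, htU, htUQ, hk, -⟩ := exists_sim_fpf hQU h2 (S := SU) (fun x => hS x.1) hr hrF
    (LinearMap.ext fun x => Subtype.ext (by rw [hpow, hSr]; rfl))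
    (fun x hx => Subtype.ext (by
      rw [← hPS x.1 (congrArg Subtype.val hx)]
      exact LinearMap.mem_ker.1 x.2)) hc
  have hdim : finrank F W + finrank F U = 2 * n := by rw [← hn]; exact LinearMap.finrank_range_add_finrank_ker P
  obtain ⟨eW, heW⟩ : Classical.Quad.Iso (c • Q.comp W.subtype) (Q.comp W.subtype) :=
    Classical.Quad.iso_smul_even hQW (m := n - k) (by omega) hc
  let tW : W →ₗ[F] W := eW
  have htW : ∀ w : W, Q (tW w).1 = c * Q w.1 := fun w => by
    have h := heW w
    simp only [QuadraticMap.comp_apply, QuadraticMap.smul_apply, smul_eq_mul, Submodule.subtype_apply] at h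
    exact h
  let projW : V →ₗ[F] W := P.codRestrict W fun x => ⟨x, rfl⟩
  let projU : V →ₗ[F] U := (LinearMap.id - P).codRestrict U fun x => LinearMap.mem_ker.2 (by
    rw [LinearMap.sub_apply, LinearMap.id_apply, map_sub, hPP, sub_self])
  let t : Module.End F V := W.subtype ∘ₗ tW ∘ₗ projW + U.subtype ∘ₗ tU ∘ₗ projU
  have ht : ∀ x, t x = (tW (projW x)).1 + (tU (projU x)).1 := fun x => rfl
  refine ⟨t, LinearMap.ext fun x => ?_, fun x => ?_, fun h => absurd h hfix, fun _ => ?_⟩
  · rw [Module.End.mul_apply, Module.End.mul_apply, ht, ht, map_add, (hW _).1]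
    congr 1
    · rw [show projW (S x) = projW x from Subtype.ext (hP3 x)]
    · rw [show projU (S x) = SU (projU x) from Subtype.ext (by
        show S x - P (S x) = S (x - P x)
        rw [hP3, map_sub, hSP])]
      exact congrArg Subtype.val (LinearMap.congr_fun htU (projU x))
  · rw [ht, Classical.Quad.map_add', hperp, htW, show Q (tU (projU x)).1 = c * Q (projU x).1 from htUQ _, hsplit x]
    show c * Q (P x) + c * Q (x - P x) + 0 = _
    ring
  · push Not at hfix
    obtain ⟨x, hx, hx0⟩ := hfix
    by_contra hcon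
    push Not at hcon
    have hz : ∀ w : W, Q w.1 = 0 := fun w => by
      by_contra h
      exact hcon w.1 h (hW w).1
    have := Classical.Quad.eq_zero_of_polar hQW (x := ⟨x, x, hPS x hx⟩) fun z => by
      have h1 : Q (x + z.1) = 0 := hz (⟨x, x, hPS x hx⟩ + z)
      have h2 : Q x = 0 := hz ⟨x, x, hPS x hx⟩
      simp [polar, hz, h1, h2]
    exact hx0 (congrArg Subtype.val this)

end Cfsg.Agent.AutPOmega
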