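import Cfsg.Agent.AutPOmega.SemisimpleAlg
import Cfsg.Agent.AutPOmega.SemisimpleCent
import Cfsg.Agent.AutPOmega.AtomRing
import Cfsg.Agent.Classical.OrthChar
import Cfsg.Agent.Classical.OrthSpinor
import Cfsg.Agent.Classical.OrthIndex
import Cfsg.Agent.Classical.QuadStd
import Cfsg.Agent.Classical.QuadTypes

/-!
A fixed point free isometry of odd order commutes with a rotation of spinor norm minus one.
-/

set_option autoImplicit false

namespace Cfsg.Agent.AutPOmega

open Module QuadraticMap Classical.Quad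

variable {F : Type*} [Field F] [Finite F]

/-- The number of vectors of norm one in even dimension. -/
theorem card_normOne {V : Type*} [AddCommGroup V] [Module F V] [FiniteDimensional F V] {Q : QuadraticForm F V}
    (hQ : (polarBilin Q).Nondegenerate) {k : ℕ} (hV : finrank F V = 2 * (k + 1)) :
    Nat.card (NormOne Q) + Nat.card F ^ k = Nat.card F ^ (2 * k + 1) ∨
      Nat.card (NormOne Q) = Nat.card F ^ (2 * k + 1) + Nat.card F ^ k := by
  classical
  haveI : Finite V := Module.finite_of_finite F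
  haveI := Fintype.ofFinite F
  haveI := Fintype.ofFinite V
  set q := Nat.card F with hq
  have hqF : Fintype.card F = q := (Nat.card_eq_fintype_card).symm
  have hcls : ∀ a : F, a ≠ 0 → Nat.card {x : V // Q x = a} = Nat.card (NormOne Q) := fun a ha => by
    obtain ⟨e, he⟩ := iso_smul_even hQ hV (inv_ne_zero ha)
    refine Nat.card_congr (e.toEquiv.subtypeEquiv fun x => ?_)
    have h := he x
    rw [QuadraticMap.smul_apply, smul_eq_mul] at h
    show Q x = a ↔ Q (e x) = 1
    rw [h, inv_mul_eq_one₀ ha, eq_comm]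
  have hsum : zcard Q + (q - 1) * Nat.card (NormOne Q) = q ^ (2 * (k + 1)) := by
    have h1 : Nat.card V = ∑ a : F, Nat.card {x : V // Q x = a} := by
      rw [← Nat.card_sigma]
      exact Nat.card_congr (Equiv.sigmaFiberEquiv (fun x => Q x)).symm
    rw [← Finset.add_sum_erase _ _ (Finset.mem_univ 0),
      Finset.sum_congr rfl (fun a ha => hcls a (Finset.ne_of_mem_erase ha)), Finset.sum_const,
      Finset.card_erase_of_mem (Finset.mem_univ _), Finset.card_univ, hqF, smul_eq_mul,
      Module.natCard_eq_pow_finrank (K := F), hV] at h1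
    exact h1.symm
  have hq2 : 2 ≤ q := Finite.one_lt_card
  obtain ⟨p, hp⟩ : ∃ p, q = p + 1 := ⟨q - 1, by omega⟩
  obtain ⟨ζ, hζ⟩ := exists_rootfree (F := F)
  have hp0 : 0 < p := by omega
  rcases even_cases hQ hV with h | ⟨-, h⟩
  · left
    have hz := zcard_plus (F := F) (q := q) hqF k
    rw [h.zcard_eq] at hz
    refine Nat.eq_of_mul_eq_mul_left hp0 ?_
    rw [hp] at hsum hz ⊢
    simp only [Nat.add_sub_cancel, pow_succ, pow_mul, mul_add, two_mul, pow_add] at hsum hz ⊢
    nlinarith [hsum, hz]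
  · right
    have hz := zcard_minus (F := F) (q := q) (a := 1) (b := ζ) (rootfree_aniso hζ) hqF k
    have h' := h 1 ζ (rootfree_aniso hζ)
    rw [Nat.add_sub_cancel] at h'
    rw [h'.zcard_eq] at hz
    refine Nat.eq_of_mul_eq_mul_left hp0 ?_
    rw [hp] at hsum hz ⊢
    simp only [Nat.add_sub_cancel, pow_succ, pow_mul, mul_add, two_mul, pow_add] at hsum hz ⊢
    nlinarith [hsum, hz]

/-- A permutation all whose cycles have one even length. -/
theorem sign_free {X : Type*} [Fintype X] [DecidableEq X] (σ : Equiv.Perm X) {L : ℕ} (hL : 2 ≤ L) (hev : Even L)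
    (hσ : σ ^ L = 1) (hfree : ∀ j, 0 < j → j < L → ∀ x, (σ ^ j) x ≠ x) :
    ∃ k, Fintype.card X = k * L ∧ Equiv.Perm.sign σ = (-1) ^ k := by
  have hsupp : σ.support = Finset.univ := by
    refine Finset.eq_univ_of_forall fun x => Equiv.Perm.mem_support.2 fun h => ?_
    exact hfree 1 one_pos (by omega) x (by rwa [pow_one])
  have htype : ∀ c ∈ σ.cycleType, c = L := by
    intro c hc
    have hdvd : c ∣ L := (Equiv.Perm.dvd_of_mem_cycleType hc).trans (orderOf_dvd_of_pow_eq_one hσ)
    obtain ⟨g, τ, hgτ, hd, hg, hgc⟩ := Equiv.Perm.mem_cycleType_iff.1 hc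
    obtain ⟨x, hx⟩ := Finset.card_pos.1 (show 0 < g.support.card from
      Nat.lt_of_lt_of_le two_pos hg.two_le_card_support)
    have hτx : τ x = x := ((hd x).resolve_left (Equiv.Perm.mem_support.1 hx))
    have hxc : (σ ^ c) x = x := by
      rw [hgτ, hd.commute.mul_pow, Equiv.Perm.mul_apply, Equiv.Perm.pow_apply_eq_self_of_apply_eq_self hτx,
        ← hgc, ← hg.orderOf, pow_orderOf_eq_one, Equiv.Perm.one_apply]
    by_contra hne
    exact hfree c (by rw [← hgc]; exact Nat.lt_of_lt_of_le two_pos hg.two_le_card_support)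
      (lt_of_le_of_ne (Nat.le_of_dvd (by omega) hdvd) hne) x hxc
  have hrep : σ.cycleType = Multiset.replicate σ.cycleType.card L := Multiset.eq_replicate_card.2 htype
  have hsum : σ.cycleType.sum = σ.cycleType.card * L := by
    conv_lhs => rw [hrep]
    rw [Multiset.sum_replicate, smul_eq_mul]
  refine ⟨σ.cycleType.card, by rw [← hsum, Equiv.Perm.sum_cycleType, hsupp, Finset.card_univ], ?_⟩
  rw [Equiv.Perm.sign_of_cycleType, hsum, pow_add, (hev.mul_left _).neg_one_pow, one_mul]

variable {V : Type*} [AddCommGroup V] [Module F V] [FiniteDimensional F V] {Q : QuadraticForm F V}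

open scoped _root_.Classical in
/-- The spinor character of an isometry all whose orbits on the vectors of norm one have one even length. -/
theorem spin_free [Finite V] (g : oG Q) {L : ℕ} (hL : 2 ≤ L) (hev : Even L) (hg : g ^ L = 1)
    (hfree : ∀ j, 0 < j → j < L → ∀ x : NormOne Q, (g ^ j).1 x.1 ≠ x.1) :
    ∃ k, Nat.card (NormOne Q) = k * L ∧ spin Q g = (-1) ^ k := by
  let _ : Fintype (NormOne Q) := Fintype.ofFinite _
  obtain ⟨k, hk, hs⟩ := sign_free (permOne Q g) hL hev (by rw [← map_pow, hg, map_one]) fun j hj hjL x hx => by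
    rw [← map_pow] at hx
    exact hfree j hj hjL x (congrArg Subtype.val hx)
  exact ⟨k, by rw [Nat.card_eq_fintype_card, hk], hs⟩

/-- Isometries of a non-degenerate subspace, extended by the identity on its perp. -/
theorem exists_extend (hQ : (polarBilin Q).Nondegenerate) (h2 : (2 : F) ≠ 0) [Finite V] (B : Submodule F V)
    (hB : (polarBilin (Q.comp B.subtype)).Nondegenerate) :
    ∃ (π : V →ₗ[F] B) (φ : oG (Q.comp B.subtype) →* oG Q),
      (∀ x (b : B), polar Q (π x : V) b = polar Q x b) ∧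
      (∀ (x : V) (w : B), (∀ b : B, polar Q (w : V) b = polar Q x b) → π x = w) ∧
      (∀ g x, (φ g).1 x = (g.1 (π x) : V) + (x - (π x : V))) ∧
      ∀ g, dickson hQ (hex_of_two h2 _) (φ g) = dickson hB (hex_of_two h2 _) g ∧
        spin Q (φ g) = spin (Q.comp B.subtype) g := by
  classical
  let π : V →ₗ[F] B := (LinearMap.BilinForm.toDual (polarBilin (Q.comp B.subtype)) hB).symm.toLinearMap.comp
    (B.subtype.dualMap.comp (polarBilin Q))
  have hpol : ∀ b c : B, polar (Q.comp B.subtype) b c = polar Q (b : V) c := fun b c => rfl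
  have hπ : ∀ x (b : B), polar Q (π x : V) b = polar Q x b := fun x b => by
    rw [← hpol]
    exact LinearMap.BilinForm.apply_toDual_symm_apply (hB := hB) (f := B.subtype.dualMap (polarBilin Q x)) b
  have hπu : ∀ (x : V) (w : B), (∀ b : B, polar Q (w : V) b = polar Q x b) → π x = w := fun x w h => by
    refine sub_eq_zero.1 (eq_zero_of_polar hB fun b => ?_)
    rw [polar_sub_left, hpol, hpol, hπ, h, sub_self]
  have hperp : ∀ x (b : B), polar Q (b : V) (x - (π x : V)) = 0 := fun x b => by
    rw [polar_comm, polar_sub_left, hπ, sub_self]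
  have hQsplit : ∀ x, Q x = Q (π x : V) + Q (x - (π x : V)) := fun x => by
    conv_lhs => rw [← add_sub_cancel (π x : V) x, Classical.Quad.map_add', hperp, add_zero]
  have hπg : ∀ (g : oG (Q.comp B.subtype)) x, π ((g.1 (π x) : V) + (x - (π x : V))) = g.1 (π x) := fun g x => by
    refine hπu _ _ fun b => ?_
    rw [polar_add_left, polar_comm Q (x - (π x : V)), hperp, add_zero]
  obtain ⟨T, hTap⟩ : ∃ T : oG (Q.comp B.subtype) → (V →ₗ[F] V),
      ∀ g x, T g x = (g.1 (π x) : V) + (x - (π x : V)) :=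
    ⟨fun g => B.subtype.comp ((g.1 : B →ₗ[F] B).comp π) + (LinearMap.id - B.subtype.comp π), fun g x => rfl⟩
  have hTT : ∀ g h x, T g (T h x) = T (g * h) x := fun g h x => by
    rw [hTap g, hTap h, hπg, hTap]
    show (g.1 (h.1 (π x)) : V) + _ = (g.1 (h.1 (π x)) : V) + _
    abel
  have hT1 : ∀ x, T 1 x = x := fun x => by
    rw [hTap]
    exact add_sub_cancel _ _
  let φ : oG (Q.comp B.subtype) →* oG Q := MonoidHom.mk' (fun g => ⟨LinearEquiv.ofLinear (T g) (T g⁻¹)
      (LinearMap.ext fun x => by rw [LinearMap.comp_apply, hTT, mul_inv_cancel, hT1]; rfl)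
      (LinearMap.ext fun x => by rw [LinearMap.comp_apply, hTT, inv_mul_cancel, hT1]; rfl), fun x => by
    show Q (T g x) = Q x
    rw [hTap, Classical.Quad.map_add', hperp, add_zero, hQsplit x]
    congr 1
    exact g.2 (π x)⟩) fun g h => ext_oG fun x => (hTT g h x).symm
  refine ⟨π, φ, hπ, hπu, fun g x => hTap g x, fun g => ?_⟩
  have hrefl : ∀ (w : B) (hw : (Q.comp B.subtype) w ≠ 0),
      ∃ (v : V) (hv : Q v ≠ 0), Q v = (Q.comp B.subtype) w ∧ φ (rO hw) = rO hv := fun w hw => by
    have hw' : Q (w : V) ≠ 0 := hw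
    refine ⟨(w : V), hw', rfl, ext_oG fun x => ?_⟩
    show T (rO hw) x = (rO hw').1 x
    rw [hTap, rO_apply, rO_apply, hpol, hπ]
    show ((π x : V) - (polar Q x (w : V) / Q (w : V)) • (w : V)) + (x - (π x : V)) = _
    abel
  obtain ⟨h1, h2'⟩ := chars_of_refl_hom hB (hex_of_two h2 _) hQ (hex_of_two h2 _) φ hrefl g
  exact ⟨h1, h2' h2⟩

set_option maxHeartbeats 1000000 in
/-- The rotation of spinor norm minus one. -/
theorem exists_spin_fpf (hQ : (polarBilin Q).Nondegenerate) (h2 : (2 : F) ≠ 0) {S : Module.End F V}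
    (hS : ∀ x, Q (S x) = Q x) {r : ℕ} (hr : Odd r) (hrp : r.Prime) (hrF : (r : F) ≠ 0) (hSr : S ^ r = 1)
    (hfix : ∀ x, S x = x → x = 0) [Nontrivial V] [Finite V] :
    ∃ u : oG Q, dickson hQ (hex_of_two h2 _) u = 1 ∧ spin Q u = -1 ∧ ∀ x, u.1 (S x) = S (u.1 x) := by
  classical
  have hr0 : 0 < r := hr.pos
  obtain ⟨τ, hτ2, hτ⟩ := exists_adjEquiv hQ hS hr0 hSr
  obtain ⟨y, hy0, hy, hyτ⟩ := skew_adj hQ hS hr0 hSr h2 hr hrF hfix τ hτ hτ2
  haveI : IsReduced (algS S) := algS_isReduced hrF hSr
  haveI : Finite (algS S) := algS_finite S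
  have h2E : IsUnit (2 : algS S) := by
    have := (isUnit_iff_ne_zero.2 h2).map (algebraMap F (algS S))
    rwa [map_ofNat] at this
  obtain ⟨hh, hhh⟩ := h2E.exists_right_inv
  obtain ⟨yi, hyi⟩ := hy.exists_right_inv
  let s₀ : algS S := ⟨S, Algebra.self_mem_adjoin_singleton F S⟩
  -- a minimal fixed idempotent
  obtain ⟨e, ⟨hee, hτe, he0⟩, hmin⟩ : ∃ e : algS S, (e * e = e ∧ τ e = e ∧ e ≠ 0) ∧
      ∀ f : algS S, f * f = f → τ f = f → e * f = 0 ∨ e * f = e := by
    obtain ⟨e, he, hmin⟩ := Set.exists_min_image {f : algS S | f * f = f ∧ τ f = f ∧ f ≠ 0}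
      (fun f => Nat.card {a : algS S // f * a = a}) (Set.toFinite _) ⟨1, one_mul 1, map_one τ, one_ne_zero⟩
    refine ⟨e, he, fun f hf hfτ => or_iff_not_imp_left.2 fun hne => ?_⟩
    by_contra hne'
    refine (hmin (e * f) ⟨by rw [mul_mul_mul_comm, he.1, hf], by rw [map_mul, he.2.1, hfτ], hne⟩).not_gt ?_
    haveI := Fintype.ofFinite (algS S)
    rw [Nat.card_eq_fintype_card, Nat.card_eq_fintype_card, Fintype.card_subtype, Fintype.card_subtype]
    refine Finset.card_lt_card ((Finset.ssubset_iff_of_subset fun a ha => ?_).2 ⟨e, ?_, fun h => ?_⟩)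
    · simp only [Finset.mem_filter, Finset.mem_univ, true_and] at ha ⊢
      rw [← ha, ← mul_assoc, ← mul_assoc, he.1]
    · simpa using he.1
    · simp only [Finset.mem_filter, Finset.mem_univ, true_and] at h
      exact hne' (by linear_combination h - f * he.1)
  have hmulv : ∀ (a b : algS S) x, ((a * b : algS S) : Module.End F V) x = (a : Module.End F V) ((b : Module.End F V) x) :=
    fun _ _ _ => rfl
  -- the vectors of the pieces are singular
  have hsingQ : ∀ p : algS S, p * τ p = 0 → ∀ x, Q ((p : Module.End F V) x) = 0 := fun p hp x => by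
    have h : polar Q ((p : Module.End F V) x) ((p : Module.End F V) x) = 0 := by
      rw [hτ, ← hmulv, mul_comm (τ p), hp]
      exact polar_zero_right Q x
    rw [polar_self, two_smul] at h
    exact (mul_eq_zero.1 (by linear_combination h : (2 : F) * Q ((p : Module.End F V) x) = 0)).resolve_left h2
  -- the vector
  obtain ⟨v, hev, hv⟩ : ∃ v, (e : Module.End F V) v = v ∧ Q v ≠ 0 := by
    by_contra hcon
    push Not at hcon
    have hee' : ∀ x, (e : Module.End F V) ((e : Module.End F V) x) = (e : Module.End F V) x := fun x => by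
      rw [← hmulv, hee]
    refine he0 (Subtype.ext (LinearMap.ext fun x => eq_zero_of_polar hQ fun z => ?_))
    rw [← hee' x, hτ e, hτe]
    simp only [polar, hcon _ (hee' x), hcon _ (hee' z), ← map_add, hcon _ (hee' (x + z)), sub_zero]
  let ev : algS S →ₗ[F] V := (LinearMap.applyₗ v).comp (algS S).val.toLinearMap
  have hmul : ∀ a b : algS S, ev (a * b) = (a : Module.End F V) (ev b) := fun a b => rfl
  have he1 : ev e = v := hev
  have heva : ∀ a : algS S, ev a = ev (e * a) := fun a => by
    rw [mul_comm, hmul, he1]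
    rfl
  have hpv : ∀ a b : algS S, polar Q (ev a) (ev b) = polar Q v (ev (τ a * b)) := fun a b => by
    rw [hmul]
    exact hτ a v (ev b)
  have hinj : ∀ a : algS S, e * a = a → ev a = 0 → a = 0 := by
    intro a ha h
    by_contra ha0
    obtain ⟨p, z, -, -, -, haz, -, hp⟩ := atom_piece τ hτ2 hτe hmin ha ha0
    have hpv0 : ev p = 0 := by rw [← haz, mul_comm, hmul, h, map_zero]
    rcases hp with rfl | ⟨hp, hpe⟩
    · exact hv (by rw [← he1, hpv0, QuadraticMap.map_zero])
    · refine hv ?_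
      rw [← he1, ← hpe, map_add, hpv0, zero_add]
      exact hsingQ (τ p) (by rw [hτ2, mul_comm, hp]) v
  let B : Submodule F V := LinearMap.range ev
  have hBmem : ∀ w : B, ∃ a : algS S, e * a = a ∧ ev a = w.1 := fun w => by
    obtain ⟨a, ha⟩ := w.2
    exact ⟨e * a, by rw [← mul_assoc, hee], by rw [← heva, ha]⟩
  have hBpol : ∀ b c : B, polar (Q.comp B.subtype) b c = polar Q (b : V) c := fun b c => rfl
  have hBn : (polarBilin (Q.comp B.subtype)).Nondegenerate := nondeg_of fun w hw => by
    obtain ⟨a, ha, haw⟩ := hBmem w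
    refine Subtype.ext ?_
    by_contra hw0
    have ha0 : a ≠ 0 := fun h => hw0 (by rw [← haw, h, map_zero]; rfl)
    obtain ⟨p, z, -, -, -, haz, -, hp⟩ := atom_piece τ hτ2 hτe hmin ha ha0
    have key : polar Q v (ev (τ p)) = 0 := by
      rw [← haz, map_mul, ← hpv]
      have h := hw ⟨ev (τ z), _, rfl⟩
      rw [hBpol, ← haw] at h
      exact h
    have key' : polar Q v (ev e) = 0 := by
      rcases hp with rfl | ⟨-, hpe⟩
      · rwa [hτe] at key
      · rw [← hpe, map_add, polar_add_right, key, add_zero]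
        show polar Q v ((p : Module.End F V) v) = 0
        rw [polar_comm, hτ]
        exact key
    rw [he1, polar_self, two_smul] at key'
    exact hv ((mul_eq_zero.1 (by linear_combination key' : (2 : F) * Q v = 0)).resolve_left h2)
  -- dimension
  let SB : LinearMap.BilinForm F B := (polarBilin Q).compl₁₂ B.subtype
    ((y : Module.End F V).comp B.subtype)
  have hSB : ∀ w z : B, SB w z = polar Q w.1 ((y : Module.End F V) z.1) := fun w z => rfl
  obtain ⟨j, -, -, -, hj⟩ := Classical.Alt.exists_sympBasis (B := SB) (fun w => by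
    have h := hτ y w.1 w.1
    rw [hyτ, show ((-y : algS S) : Module.End F V) w.1 = -((y : Module.End F V) w.1) from rfl, polar_neg_right,
      polar_comm] at h
    rw [hSB]
    exact (mul_eq_zero.1 (by linear_combination h : (2 : F) * polar Q w.1 ((y : Module.End F V) w.1) = 0)).resolve_left h2)
    ⊤ (fun w _ hw0 => by
      by_contra h
      push Not at h
      refine hw0 (eq_zero_of_polar hBn fun z => ?_)
      obtain ⟨a, ha⟩ := z.2
      have h' := h ⟨ev (yi * a), _, rfl⟩ trivial
      rw [hSB] at h'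
      rw [hBpol, ← ha]
      rw [← hmul, ← mul_assoc, hyi, one_mul] at h'
      exact h')
  rw [finrank_top] at hj
  have hcardE : Nat.card {a : algS S // e * a = a} = Nat.card F ^ j * Nat.card F ^ j := by
    rw [← pow_add, ← two_mul, ← hj, ← Module.natCard_eq_pow_finrank]
    exact Nat.card_congr (Equiv.ofBijective (fun a => (⟨ev a.1, a.1, rfl⟩ : B)) ⟨fun a b h => Subtype.ext
      (sub_eq_zero.1 (hinj _ (by rw [mul_sub, a.2, b.2]) (by
        rw [map_sub, show ev a.1 = ev b.1 from congrArg Subtype.val h, sub_self]))), fun w => by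
        obtain ⟨a, ha, haw⟩ := hBmem w
        exact ⟨⟨a, ha⟩, Subtype.ext haw⟩⟩)
  obtain ⟨hn2, hL⟩ := card_atom τ hτ2 hee hτe hmin h2E hy hyτ he0 hcardE
  haveI : IsCyclic ↥(normKer τ ⊓ unitsUnder e) := isCyclic_atom τ hτ2 hee hτe hmin he0
  set C := normKer τ ⊓ unitsUnder e
  set L := Nat.card ↥C
  have hC1 : ∀ u : C, τ ((u.1 : (algS S)ˣ) : algS S) * (u.1 : algS S) = 1 := fun u => u.2.1
  have hC2 : ∀ u : C, ((u.1 : (algS S)ˣ) : algS S) * (1 - e) = 1 - e := fun u => u.2.2
  -- action on the block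
  have hCB : ∀ (a : algS S) (x : V), x ∈ B → (a : Module.End F V) x ∈ B := by
    rintro a _ ⟨b, rfl⟩
    exact ⟨_, hmul a b⟩
  have hCQ : ∀ (u : C) (x : V), Q (((u.1 : (algS S)ˣ) : algS S).1 x) = Q x := fun u x => by
    have h := hτ ((u.1 : (algS S)ˣ) : algS S) x (((u.1 : (algS S)ˣ) : algS S).1 x)
    rw [← hmulv, hC1 u, OneMemClass.coe_one, Module.End.one_apply, polar_self, polar_self, two_smul, two_smul] at h
    refine mul_left_cancel₀ h2 ?_
    linear_combination h
  let act : C →* oG (Q.comp B.subtype) := MonoidHom.mk' (fun u => ⟨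
    { toFun := fun x => ⟨((u.1 : (algS S)ˣ) : algS S).1 x.1, hCB _ x.1 x.2⟩
      invFun := fun x => ⟨((u.1⁻¹ : (algS S)ˣ) : algS S).1 x.1, hCB _ x.1 x.2⟩
      map_add' := fun x z => Subtype.ext (map_add _ _ _)
      map_smul' := fun c x => Subtype.ext (map_smul _ _ _)
      left_inv := fun x => Subtype.ext (by
        show ((u.1⁻¹ : (algS S)ˣ) : algS S).1 (((u.1 : (algS S)ˣ) : algS S).1 x.1) = x.1
        rw [← hmulv, Units.inv_mul]; rfl)
      right_inv := fun x => Subtype.ext (by
        show ((u.1 : (algS S)ˣ) : algS S).1 (((u.1⁻¹ : (algS S)ˣ) : algS S).1 x.1) = x.1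
        rw [← hmulv, Units.mul_inv]; rfl) }, fun x => hCQ u x.1⟩) fun u u' =>
    ext_oG fun x => Subtype.ext rfl
  have hact : ∀ (u : C) (x : B), (((act u).1 x : B) : V) = ((u.1 : (algS S)ˣ) : algS S).1 x.1 := fun _ _ => rfl
  have hfree : ∀ (u : C) (w : B), w ≠ 0 → (act u).1 w = w → u = 1 := by
    intro u w hw huw
    obtain ⟨a, ha, haw⟩ := hBmem w
    have ha0 : a ≠ 0 := fun h => hw (Subtype.ext (by rw [← haw, h, map_zero]; rfl))
    have h : ((u.1 : (algS S)ˣ) : algS S) * a = a := by
      refine sub_eq_zero.1 (hinj _ (by rw [mul_sub, mul_left_comm, ha]) ?_)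
      rw [map_sub, hmul, haw, ← hact, huw, sub_self]
    have := eq_one_of_fix τ hτ2 hτe hmin (hC1 u) ha ha0 h
    exact Subtype.ext (Units.ext (show ((u.1 : (algS S)ˣ) : algS S) = 1 by linear_combination this + hC2 u))
  -- the generator
  obtain ⟨g, hg⟩ := IsCyclic.exists_generator (α := C)
  have hordg : orderOf g = L := orderOf_eq_card_of_forall_mem_zpowers hg
  -- even and large
  have hLev : Even L := by
    let w : (algS S)ˣ := ⟨1 - 2 * e, 1 - 2 * e, by linear_combination 4 * hee, by linear_combination 4 * hee⟩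
    let u : C := ⟨w, show τ (1 - 2 * e) * (1 - 2 * e) = 1 by
        rw [map_sub, map_one, map_mul, map_ofNat, hτe]; linear_combination 4 * hee,
      show (1 - 2 * e) * (1 - e) = 1 - e by linear_combination 2 * hee⟩
    have hu1 : u ≠ 1 := fun h => he0 (by
      have h' : (1 - 2 * e : algS S) = 1 := congrArg (fun c : C => ((c.1 : (algS S)ˣ) : algS S)) h
      linear_combination (-hh) * h' - e * hhh)
    have hu2 : u ^ 2 = 1 := Subtype.ext (Units.ext (show (1 - 2 * e) ^ 2 = (1 : algS S) by
      linear_combination 4 * hee))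
    haveI : Fact (Nat.Prime 2) := ⟨Nat.prime_two⟩
    exact even_iff_two_dvd.2 (orderOf_eq_prime hu2 hu1 ▸ orderOf_dvd_natCard u)
  have hL3 : 3 ≤ L := by
    have hsr : s₀ ^ r = 1 := Subtype.ext (by simp [s₀, hSr])
    have hτs : τ s₀ = s₀ ^ (r - 1) := Subtype.ext (adj_unique hQ (hτ s₀) fun u z => by
      have h : (S * S ^ (r - 1)) z = z := by rw [← pow_succ', Nat.sub_add_cancel hr0, hSr]; rfl
      conv_lhs => rw [← h, Module.End.mul_apply]
      simp only [s₀, SubmonoidClass.coe_pow, SubmonoidClass.mk_pow, Module.End.mul_apply, polar, ← map_add, hS])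
    have hss : s₀ * τ s₀ = 1 := by rw [hτs, ← pow_succ', Nat.sub_add_cancel hr0, hsr]
    let w : (algS S)ˣ := ⟨s₀ * e + (1 - e), τ s₀ * e + (1 - e),
      by linear_combination (e * e) * hss + (2 - s₀ - τ s₀) * hee,
      by linear_combination (e * e) * hss + (2 - s₀ - τ s₀) * hee⟩
    let u : C := ⟨w, show τ (s₀ * e + (1 - e)) * (s₀ * e + (1 - e)) = 1 by
        rw [map_add, map_sub, map_one, map_mul, hτe]
        linear_combination (e * e) * hss + (2 - s₀ - τ s₀) * hee,
      show (s₀ * e + (1 - e)) * (1 - e) = 1 - e by linear_combination (1 - s₀) * hee⟩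
    have hu1 : u ≠ 1 := fun h => by
      have h' : s₀ * e + (1 - e) = 1 := congrArg (fun c : C => ((c.1 : (algS S)ˣ) : algS S)) h
      have h'' : S v = v := by
        have h3 : s₀ * e = e := by linear_combination h'
        calc S v = ev (s₀ * e) := by rw [hmul, he1]
          _ = v := by rw [h3, he1]
      exact hv (by rw [hfix v h'', QuadraticMap.map_zero])
    have hur : u ^ r = 1 := by
      refine Subtype.ext (Units.ext ?_)
      show (s₀ * e + (1 - e)) ^ r = 1
      have hi : ∀ i, (s₀ * e + (1 - e)) ^ i = s₀ ^ i * e + (1 - e) := fun i => by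
        induction i with
        | zero => simp
        | succ i ih => rw [pow_succ, ih, pow_succ]; linear_combination (s₀ ^ i * s₀ + 1 - s₀ ^ i - s₀) * hee
      rw [hi, hsr]; ring
    haveI : Fact r.Prime := ⟨hrp⟩
    have h := Nat.le_of_dvd Nat.card_pos (orderOf_eq_prime hur hu1 ▸ orderOf_dvd_natCard u)
    have := hrp.two_le
    obtain ⟨i, hi⟩ := hr
    omega
  have hg1 : g ≠ 1 := fun h => by rw [h, orderOf_one] at hordg; omega
  -- the characters on the block
  have hd : dickson hBn (hex_of_two h2 _) (act g) = 1 := by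
    show dsign (act g) = 1
    have : fixSub (act g) = ⊥ := (Submodule.eq_bot_iff _).2 fun w hw => by
      by_contra h0
      exact hg1 (hfree g w h0 (mem_fixSub.1 hw))
    rw [dsign, this, finrank_bot, add_zero, hj, pow_mul]
    simp
  have hsp : spin (Q.comp B.subtype) (act g) = -1 := by
    obtain ⟨K, hK, hsign⟩ := spin_free (act g) (by omega) hLev
      (by rw [← map_pow, ← hordg, pow_orderOf_eq_one, map_one]) fun i hi hiL x hx => by
        rw [← map_pow] at hx
        have hx0 : x.1 ≠ 0 := fun h => zero_ne_one (by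
          rw [← QuadraticMap.map_zero (Q.comp B.subtype), ← h]; exact x.2)
        have h3 := hfree (g ^ i) x.1 hx0 hx
        have := Nat.le_of_dvd hi (orderOf_dvd_of_pow_eq_one h3)
        omega
    obtain ⟨k, rfl⟩ : ∃ k, j = k + 1 := ⟨j - 1, by
      rcases Nat.eq_zero_or_pos j with rfl | h
      · rw [pow_zero] at hn2; omega
      · omega⟩
    have hN := card_normOne hBn hj
    rw [hK] at hN
    rw [hsign]
    set q := Nat.card F
    have hqodd : Odd q := by
      rw [Nat.odd_iff]
      by_contra hq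
      refine h2 ?_
      haveI := Fintype.ofFinite F
      have : ringChar F = 2 := FiniteField.even_card_iff_char_two.2 (by
        rw [← Nat.card_eq_fintype_card]; omega)
      haveI : CharP F 2 := this ▸ ringChar.charP F
      exact CharTwo.two_eq_zero
    have hqk : Odd (q ^ k) := hqodd.pow
    have hcop : Nat.Coprime L (q ^ k) := by
      refine Nat.Coprime.pow_right k (Nat.coprime_iff_gcd_eq_one.2 (Nat.eq_one_of_dvd_one ?_))
      have hn : Nat.gcd L q ∣ q ^ (k + 1) := (Nat.gcd_dvd_right L q).trans (dvd_pow_self q (by omega))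
      rcases hL with h | h
      · exact (Nat.dvd_add_right hn).1 (h ▸ Nat.gcd_dvd_left L q)
      · exact (Nat.dvd_add_right (Nat.gcd_dvd_left L q)).1 (h ▸ hn)
    refine Odd.neg_one_pow ?_
    rcases hN with hN | hN <;> rcases hL with h | h
    · exfalso
      have h' : L ∣ q ^ (k + 1) - 1 := hcop.dvd_of_dvd_mul_left (m := q ^ k) ⟨K, by
        rw [Nat.mul_sub_one, ← pow_add, mul_comm L, show k + (k + 1) = 2 * k + 1 by omega]; omega⟩
      have := Nat.le_of_dvd (by omega) h'
      omega
    · refine Nat.odd_mul.1 (?_ : Odd (K * 1)) |>.1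
      rw [mul_one]
      have : K = q ^ k := Nat.eq_of_mul_eq_mul_right (show 0 < L by omega) (by
        rw [show 2 * k + 1 = k + (k + 1) by omega, pow_add, ← h] at hN
        linarith)
      exact this ▸ hqk
    · have : K = q ^ k := Nat.eq_of_mul_eq_mul_right (show 0 < L by omega) (by
        rw [show 2 * k + 1 = k + (k + 1) by omega, pow_add] at hN
        rw [h] at hN ⊢; linarith)
      exact this ▸ hqk
    · exfalso
      have h' : L ∣ q ^ (k + 1) + 1 := hcop.dvd_of_dvd_mul_left (m := q ^ k) ⟨K, by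
        rw [mul_add_one, ← pow_add, mul_comm L, show k + (k + 1) = 2 * k + 1 by omega]; omega⟩
      rw [← h, show L + 1 + 1 = 2 + L by omega] at h'
      have := Nat.le_of_dvd two_pos ((Nat.dvd_add_left (dvd_refl L)).1 h')
      omega
  -- extension to the whole space
  obtain ⟨π, φ, hπ, hπu, hφ, hchar⟩ := exists_extend hQ h2 B hBn
  refine ⟨φ (act g), by rw [(hchar _).1, hd], by rw [(hchar _).2, hsp], fun x => ?_⟩
  have hπS : π (S x) = ⟨S (π x).1, hCB s₀ _ (π x).2⟩ := hπu _ _ fun b => by
    show polar Q (S (π x).1) b.1 = polar Q (S x) b.1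
    rw [show S (π x).1 = (s₀ : Module.End F V) (π x).1 from rfl, show S x = (s₀ : Module.End F V) x from rfl, hτ, hτ]
    exact hπ x ⟨_, hCB (τ s₀) b.1 b.2⟩
  rw [hφ, hφ, hact, hact, hπS, map_add, map_sub]
  congr 1
  show ((g.1 : (algS S)ˣ) : algS S).1 ((s₀ : Module.End F V) (π x).1) = (s₀ : Module.End F V) (((g.1 : (algS S)ˣ) : algS S).1 (π x).1)
  rw [← hmulv, ← hmulv, mul_comm]

/-- An isometry of odd prime order in even dimension commutes with a rotation of spinor norm minus one. -/
theorem exists_spin_commute (hQ : (polarBilin Q).Nondegenerate) (h2 : (2 : F) ≠ 0) {S : Module.End F V}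
    (hS : ∀ x, Q (S x) = Q x) {r : ℕ} (hr : Odd r) (hrp : r.Prime) (hrF : (r : F) ≠ 0) (hSr : S ^ r = 1) {n : ℕ}
    (hn : finrank F V = 2 * n) (hn0 : 0 < n) [Finite V] :
    ∃ u : oG Q, dickson hQ (hex_of_two h2 _) u = 1 ∧ spin Q u = -1 ∧ ∀ x, u.1 (S x) = S (u.1 x) := by
  classical
  haveI : Nontrivial V := Module.nontrivial_of_finrank_pos (R := F) (by omega)
  by_cases hfix : ∀ x, S x = x → x = 0
  · exact exists_spin_fpf hQ h2 hS hr hrp hrF hSr hfix
  obtain ⟨P, hSP, hPS, hP3, hPsym⟩ := exists_avg hQ hS hrF hSr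
  push Not at hfix
  obtain ⟨x₀, hx₀, hx₀0⟩ := hfix
  have hPP : ∀ x, P (P x) = P x := fun x => hPS _ (hSP x)
  let W := LinearMap.range P
  let U := LinearMap.ker P
  have hW : ∀ w : W, S w.1 = w.1 ∧ P w.1 = w.1 := fun w => by
    obtain ⟨x, hx⟩ := w.2
    rw [← hx]
    exact ⟨hSP x, hPP x⟩
  have hperp : ∀ (w : W) (u : U), polar Q w.1 u.1 = 0 := fun w u => by
    rw [← (hW w).2, hPsym, LinearMap.mem_ker.1 u.2, polar_zero_right]
  have hQW : (polarBilin (Q.comp W.subtype)).Nondegenerate := nondeg_of fun w hw =>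
    Subtype.ext (eq_zero_of_polar hQ fun z => by
      rw [← (hW w).2, hPsym, (hW w).2]
      exact hw ⟨P z, z, rfl⟩)
  have hQU : (polarBilin (Q.comp U.subtype)).Nondegenerate := nondeg_of fun u hu =>
    Subtype.ext (eq_zero_of_polar hQ fun z => by
      have h1 : polar Q u.1 (P z) = 0 := by rw [polar_comm]; exact hperp ⟨P z, z, rfl⟩ u
      have h3 : polar Q u.1 (z - P z) = 0 :=
        hu ⟨z - P z, LinearMap.mem_ker.2 (by rw [map_sub, hPP, sub_self])⟩
      rw [← add_sub_cancel (P z) z, polar_add_right, h1, h3, add_zero])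
  have hSU : ∀ x ∈ U, S x ∈ U := fun x hx => LinearMap.mem_ker.2 (by rw [hP3, LinearMap.mem_ker.1 hx])
  let SU : Module.End F U := S.restrict hSU
  have hpow : ∀ (i : ℕ) (x : U), ((SU ^ i) x).1 = (S ^ i) x.1 := fun i => by
    induction i with
    | zero => exact fun x => rfl
    | succ i ih => exact fun x => by rw [pow_succ, pow_succ, Module.End.mul_apply, Module.End.mul_apply, ih]; rfl
  obtain ⟨-, k, -, -, hk, -⟩ := exists_sim_fpf hQU h2 (S := SU) (fun x => hS x.1) hr hrF
    (LinearMap.ext fun x => Subtype.ext (by rw [hpow, hSr]; rfl))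
    (fun x hx => Subtype.ext (by
      rw [← hPS x.1 (congrArg Subtype.val hx)]
      exact LinearMap.mem_ker.1 x.2)) one_ne_zero
  have hdim : finrank F W + finrank F U = 2 * n := by rw [← hn]; exact LinearMap.finrank_range_add_finrank_ker P
  have hW0 : 0 < finrank F W :=
    Module.finrank_pos_iff_exists_ne_zero.2 ⟨⟨x₀, x₀, hPS x₀ hx₀⟩, fun h => hx₀0 (congrArg Subtype.val h)⟩
  obtain ⟨a, b, ha, hb, has, hbs⟩ := exists_rO_square hQW h2 (by omega)
  have ha' : Q (a : V) ≠ 0 := ha
  have hb' : Q (b : V) ≠ 0 := hb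
  obtain ⟨hd, hsp⟩ := exists_rO_prod hQ (hex_of_two h2 _) ha' hb'
  refine ⟨rO ha' * rO hb', hd, ?_, ?_⟩
  · rw [hsp h2, qs_mul ha' hb', qs_eq_one.2 (show IsSquare (Q (a : V)) from has), one_mul]
    exact (Int.units_eq_one_or _).resolve_left fun h => hbs (qs_eq_one.1 h)
  · have hcomm : ∀ (w : W) (hw : Q (w : V) ≠ 0) (x : V), (rO hw).1 (S x) = S ((rO hw).1 x) := fun w hw x => by
      rw [rO_apply, rO_apply, map_sub, map_smul, (hW w).1]
      congr 3
      conv_lhs => rw [← (hW w).1]
      simp only [polar, ← map_add, hS]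
    intro x
    rw [oG_mul_apply, oG_mul_apply, hcomm, hcomm]

end Cfsg.Agent.AutPOmega
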