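import Cfsg.Agent.AutPOmega.ClassCoincide
import Cfsg.Agent.AutPOmega.PlusQuotMain
import Cfsg.Agent.AutPOmega.SemisimpleSpin
import Cfsg.Agent.Classical.OrthChar

/-!
Plus spaces of odd characteristic: inner, special and inner-diagonal classes of elements of odd prime order coincide.
-/

set_option autoImplicit false

namespace Cfsg.Agent.AutPOmega

open Module QuadraticMap Classical Classical.Quad Matrix

variable {F : Type*} [Field F] [Fintype F] {m : ℕ} (hm : 3 ≤ m) (hodd : Odd (Fintype.card F))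
include hm hodd

/-- A special isometry inducing an outer automorphism and commuting with a semisimple one. -/
theorem exists_special_outer (hB : Fintype.card F ^ m % 4 = 1) {s : Cfsg.isometryGroup F ⇑(qPlus F m)} {r : ℕ}
    (hr : r.Prime) (hro : Odd r) (hrF : (r : F) ≠ 0) (hsr : s ^ r = 1) :
    ∃ w : Cfsg.isometryGroup F ⇑(qPlus F m), parP (F := F) hm (isoToSim w) = 1 ∧ w * s = s * w ∧
      conjA (isoToSim w) ∉ Cfsg.Inn (Cfsg.POmega F ⇑(qPlus F m)) := by
  classical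
  have h2 := two_ne_zero_of_odd hodd
  have hSr : (Matrix.toLin' s.1.1) ^ r = 1 := by
    rw [← Matrix.toLin'_pow, ← Units.val_pow_eq_pow_val, ← SubgroupClass.coe_pow, hsr]
    exact Matrix.toLin'_one
  obtain ⟨u, hd, hsp, hcomm⟩ := exists_spin_commute (nondeg_qPlus (F := F) (m := m)) h2
    (S := Matrix.toLin' s.1.1) (fun v => by rw [Matrix.toLin'_apply]; exact mem_isometryGroup_iff.1 s.2 v)
    hro hr hrF hSr (n := m) (by simp; omega) (by omega)
  refine ⟨(oEquiv _).symm u, ?_, ?_, fun h => ?_⟩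
  · rw [parP_iso, MulEquiv.apply_symm_apply]
    exact hd
  · refine (oEquiv (qPlus F m)).injective (ext_oG fun x => ?_)
    rw [map_mul, map_mul, MulEquiv.apply_symm_apply, oG_mul_apply, oG_mul_apply, oEquiv_apply, oEquiv_apply]
    simpa [Matrix.toLin'_apply] using hcomm x
  · have h1 := iso_inn_chars hm hodd hB h
    rw [MulEquiv.apply_symm_apply, hsp] at h1
    exact absurd h1 (by decide)

theorem plus_coincide {x : MulAut (Cfsg.POmega F ⇑(qPlus F m))} (hx : x ∈ Cfsg.pgoAut F ⇑(qPlus F m)) {r : ℕ}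
    (hr : r.Prime) (hro : Odd r) (hrF : (r : F) ≠ 0) (hxr : orderOf x = r) :
    (∀ y, (Cfsg.IsConjUnder (Cfsg.Inn (Cfsg.POmega F ⇑(qPlus F m))) x y ↔
        Cfsg.IsConjUnder (inndiagQ (F := F) hm) x y) ∧
      (Cfsg.IsConjUnder (Cfsg.psoAut F ⇑(qPlus F m)) x y ↔ Cfsg.IsConjUnder (inndiagQ (F := F) hm) x y)) ∧
    ∀ y, Cfsg.IsConjUnder (Cfsg.poAut F ⇑(qPlus F m)) x y ↔
      Cfsg.IsConjUnder (Cfsg.pgoAut F ⇑(qPlus F m)) x y := by
  classical
  have h2 := two_ne_zero_of_odd hodd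
  obtain ⟨hcard8, hcard⟩ := card_quots_plus hm hodd
  rw [pgoAut_eq] at hx ⊢
  obtain ⟨s, hsΩ, rfl, hsr⟩ := exists_omega_lift nondeg_qPlus h2 (hn_plus hm) hx (by
    show Nat.card ((conjA (Q := qPlus F m)).range ⧸ (Cfsg.Inn (Cfsg.POmega F ⇑(qPlus F m))).subgroupOf
      (conjA (Q := qPlus F m)).range) ∣ 8
    rw [hcard8]; split_ifs <;> norm_num) hro hxr
  obtain ⟨u, hu0, hu⟩ := exists_qs_neg (F := F) h2
  obtain ⟨g, hgs, hgQ, hdet⟩ := exists_central_sim nondeg_qPlus h2 (hn_plus hm) hro hrF hsr (n := m)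
    (by simp; omega) (Units.mk0 u hu0)
  have hmu : multP hm g = Units.mk0 u hu0 := mult0_eq _ hgQ
  have hgp : parP (F := F) hm g = 1 := by
    have h := det_parP hm g
    rw [hdet, hmu] at h
    rcases Int.units_eq_one_or (parP (F := F) hm g) with e | e
    · exact e
    · exfalso
      rw [e] at h
      simp at h
      exact h2 ((mul_eq_zero.1 (by linear_combination h : (2 : F) * (u : F) ^ m = 0)).resolve_right
        (pow_ne_zero _ hu0))
  set d := conjA g
  set x₀ := conjA (isoToSim s)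
  have hdG : d ∈ inndiagQ (F := F) hm := ⟨g, hgp, rfl⟩
  have hdC : d ∈ Subgroup.centralizer {x₀} := by
    rw [Subgroup.mem_centralizer_singleton_iff, ← map_mul, ← map_mul, hgs]
  have hdP : d ∉ Cfsg.psoAut F ⇑(qPlus F m) := fun hmem => by
    rw [pso_plus_eq hm hodd] at hmem
    obtain ⟨t, -, ht⟩ := hmem
    have h1 : (isoToSim t)⁻¹ * g ∈ (conjA (Q := qPlus F m)).ker := by
      rw [MonoidHom.mem_ker, map_mul, map_inv]
      exact inv_mul_eq_one.2 ht
    have h3 := (ker_conjA_plus hm hodd).2 _ h1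
    rw [map_mul, map_inv, mult0_isoToSim, inv_one, one_mul, hmu, Units.val_mk0, ← qs_eq_one, hu] at h3
    exact absurd h3 (by decide)
  set J := Cfsg.Inn (Cfsg.POmega F ⇑(qPlus F m)) ⊔ (inndiagQ (F := F) hm ⊓ Subgroup.centralizer {x₀})
  have hKJ : Cfsg.Inn (Cfsg.POmega F ⇑(qPlus F m)) ≤ J := le_sup_left
  have hJG : J ≤ inndiagQ (F := F) hm := sup_le (inn_le_inndiagQ hm hodd) inf_le_left
  have hdJ : d ∈ J := Subgroup.mem_sup_right ⟨hdG, hdC⟩
  have hgen : inndiagQ (F := F) hm ≤ J := by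
    by_cases hB : Fintype.card F ^ m % 4 = 1
    · rw [if_pos hB] at hcard
      rcases Nat.even_or_odd m with hme | hmo
      · obtain ⟨w, hw1, hws, hwI⟩ := exists_special_outer hm hodd hB hr hro hrF hsr
        have hwC : conjA (isoToSim w) ∈ Subgroup.centralizer {x₀} := by
          rw [Subgroup.mem_centralizer_singleton_iff, ← map_mul, ← map_mul, ← map_mul, ← map_mul, hws]
        refine gen_of_four hcard (inn_le_pso_plus hm hodd) hKJ hJG hdJ hdP
          (u := conjA (isoToSim w)) (Subgroup.mem_sup_right ⟨⟨_, hw1, rfl⟩, hwC⟩) ?_ hwI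
        rw [pso_plus_eq hm hodd]
        exact ⟨w, hw1, rfl⟩
      · exact gen_of_cyclic_four ((inndiag_inn_plus hm hodd).2.1 hB hmo) (inn_le_pso_plus hm hodd)
          (pso_le_inndiagQ hm hodd) (relIndex_inn_pso hm hodd hB) hKJ hJG hdJ hdP
    · rw [if_neg hB] at hcard
      exact gen_of_two hcard hKJ hJG hdJ fun h => hdP (inn_le_pso_plus hm hodd h)
  refine classes_coincide (inn_le_pso_plus hm hodd) (pso_le_inndiagQ hm hodd) ?_ ?_ ?_ ?_ hgen
  · rw [inn_eq]
    rintro _ ⟨_, ⟨t, rfl⟩, rfl⟩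
    exact Subgroup.subset_closure ⟨t.1.1, t.1.2, (Semi.ofSim (isoToSim t.1)).induced_iff.2 rfl⟩
  · exact inndiagQ_le hm
  · refine (Subgroup.closure_le _).2 ?_
    rintro β ⟨k, hk, hi⟩
    exact ⟨isoToSim ⟨k, hk⟩, ((Semi.ofSim (isoToSim ⟨k, hk⟩)).induced_iff.1 hi).symm⟩
  · rintro _ ⟨k, rfl⟩
    rcases Int.units_eq_one_or (parP (F := F) hm k) with e | e
    · exact Or.inl ⟨k, e, rfl⟩
    · set σ : Cfsg.isometryGroup F ⇑(qPlus F m) := swapIso (⟨0, by omega⟩ : Fin m)
      refine Or.inr ⟨conjA (isoToSim σ),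
        Subgroup.subset_closure ⟨σ.1, σ.2, (Semi.ofSim (isoToSim σ)).induced_iff.2 rfl⟩,
        (isoToSim σ)⁻¹ * k, ?_, by rw [map_mul, map_inv]⟩
      rw [SetLike.mem_coe, MonoidHom.mem_ker, map_mul, map_inv, parP, parG_swap hm, e]
      decide

end Cfsg.Agent.AutPOmega
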