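import Cfsg.Agent.AutPOmega.Twisted
import Cfsg.Agent.Classical.OrthDiag
import Cfsg.Agent.Classical.OrthPOmega
import Cfsg.Agent.S0790

/-!
Involutory graph-field automorphisms of the plus groups: centralizers in the inner-diagonal group and splitting.
-/

set_option autoImplicit false

namespace Cfsg.Agent.AutPOmega

open Module QuadraticMap Classical.Quad Matrix

variable {F : Type*} [Field F] [Fintype F] {k : ℕ} (hm : 5 ≤ k + 1)

/-- The inner-diagonal group of the plus space, on the quadratic form. -/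
noncomputable def inndiagP : Subgroup (MulAut (Cfsg.POmega F ⇑(qPlus F (k + 1)))) :=
  (galOf (ctx_plus hm)).ker ⊓ ((hyp_plus (F := F) (by omega)).parA (ctx_plus hm)).ker

include hm

theorem conjA_mem_inndiagP {g : Geo.quadSimilarityGroup (F := F) (⇑(qPlus F (k + 1)))} :
    conjA g ∈ inndiagP hm ↔ (hyp_plus (F := F) (show 3 ≤ k + 1 by omega)).parG g = 1 := by
  rw [inndiagP, Subgroup.mem_inf, MonoidHom.mem_ker, MonoidHom.mem_ker, Hyp.parA_conjA]
  exact and_iff_right (galOf_conjA _ g)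

theorem range_mult_plus : (mult (ctx_plus (F := F) hm)).range = ⊤ := eq_top_iff.2 fun c _ => by
  let d : Fin (k + 1) ⊕ Fin (k + 1) → F := Sum.elim (fun _ => (c : F)) fun _ => 1
  have hdet : (Matrix.diagonal d).det ≠ 0 := by
    rw [Matrix.det_diagonal]
    exact Finset.prod_ne_zero_iff.2 fun l _ => by rcases l with l | l <;> simp [d]
  have happ : ∀ v, qPlus F (k + 1) (Matrix.diagonal d *ᵥ v) = (c : F) * qPlus F (k + 1) v := fun v => by
    simp [qPlus_apply, Cfsg.quadFormPlus, Matrix.mulVec_diagonal, d, Finset.mul_sum, mul_assoc]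
  exact ⟨⟨Matrix.GeneralLinearGroup.mkOfDetNeZero _ hdet, c, happ⟩, mult_eq _ happ⟩

theorem inn_le_inndiagP : Cfsg.Inn (Cfsg.POmega F ⇑(qPlus F (k + 1))) ≤ inndiagP hm := by
  rw [inn_eq]
  rintro _ ⟨_, ⟨s, rfl⟩, rfl⟩
  rw [conjA_mem_inndiagP hm]
  show Hyp.parG _ (isoToSim s.1) = 1
  rw [Hyp.parG_iso]
  exact Abelianization.commutator_subset_ker _ ((mem_omega_iff s.1).1 s.2)

/-- A similarity with square multiplier is inner up to the two characters. -/
theorem mem_inn_of_square {g : Geo.quadSimilarityGroup (F := F) (⇑(qPlus F (k + 1)))} {d : Fˣ}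
    (hd : mult (ctx_plus hm) g = d ^ 2) (hp : (hyp_plus (F := F) (show 3 ≤ k + 1 by omega)).parG g = 1)
    (hs : (2 : F) ≠ 0 → ∀ s, g = scalarSim d * isoToSim s → spin (qPlus F (k + 1)) (oEquiv _ s) = 1) :
    conjA g ∈ Cfsg.Inn (Cfsg.POmega F ⇑(qPlus F (k + 1))) := by
  set hc := ctx_plus (F := F) hm
  have hker : (scalarSim d)⁻¹ * g ∈ (mult hc).ker := by
    rw [MonoidHom.mem_ker, map_mul, map_inv, mult_scalarSim, hd, inv_mul_cancel]
  rw [ker_mult] at hker
  obtain ⟨s, hs'⟩ := hker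
  have hg : g = scalarSim d * isoToSim s := by rw [hs', mul_inv_cancel_left]
  have hsc : (hyp_plus (F := F) (show 3 ≤ k + 1 by omega)).parG (scalarSim d) = 1 := by
    rw [← Hyp.parA_conjA _ hc, conjA_scalarSim hc, map_one]
  rw [hg, map_mul, conjA_scalarSim hc, one_mul]
  refine mem_inn_of_omega ((mem_omega_iff _).2 ((mem_commutator_chars hc.nondeg
    (hyp_plus (F := F) (show 3 ≤ k + 1 by omega)).hex _).2 ⟨?_, fun h2 => hs h2 s hg⟩))
  rw [← (hyp_plus (F := F) (show 3 ≤ k + 1 by omega)).parG_iso, hs', map_mul, map_inv, hsc, hp]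
  decide

/-- In characteristic two the inner-diagonal group is inner. -/
theorem inndiagP_two [CharP F 2] : inndiagP (F := F) hm = Cfsg.Inn (Cfsg.POmega F ⇑(qPlus F (k + 1))) := by
  refine le_antisymm (fun x hx => ?_) (inn_le_inndiagP hm)
  have hx1 : x ∈ (galOf (ctx_plus (F := F) hm)).ker := (Subgroup.mem_inf.1 hx).1
  rw [ker_galOf] at hx1
  obtain ⟨g, rfl⟩ := hx1
  obtain ⟨d, hd⟩ := FiniteField.isSquare_of_char_two (ringChar.eq F 2) ((mult (ctx_plus hm) g : Fˣ) : F)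
  have hd0 : d ≠ 0 := fun h => (mult (ctx_plus hm) g).ne_zero (by rw [hd, h, mul_zero])
  exact mem_inn_of_square hm (d := Units.mk0 d hd0) (Units.ext (by simp [hd, pow_two]))
    ((conjA_mem_inndiagP hm).1 hx) fun h2 => absurd CharTwo.two_eq_zero h2

/-- For a field of square odd order the index is four. -/
theorem relIndex_inndiagP (h4 : Fintype.card F % 4 = 1) :
    (Cfsg.Inn (Cfsg.POmega F ⇑(qPlus F (k + 1)))).relIndex (inndiagP hm) = 4 := by
  have hc := ctx_plus (F := F) hm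
  have hH := hyp_plus (F := F) (show 3 ≤ k + 1 by omega)
  have hodd : Odd (Fintype.card F) := Nat.odd_iff.2 (by omega)
  have h2 := two_ne_zero_of_odd hodd
  have hn : 5 ≤ finrank F (Fin (k + 1) ⊕ Fin (k + 1) → F) := by simp; omega
  have hneg : ∃ g : Cfsg.isometryGroup F ⇑(qPlus F (k + 1)), g ∈ Cfsg.Omega F ⇑(qPlus F (k + 1)) ∧
      ((g : GL (Fin (k + 1) ⊕ Fin (k + 1)) F) : Matrix (Fin (k + 1) ⊕ Fin (k + 1)) (Fin (k + 1) ⊕ Fin (k + 1)) F) = -1 :=
    (S0790.result (F := F) rfl hodd (k + 1) (by omega)).2 (by rw [Nat.pow_mod, h4]; norm_num)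
  have hiso : Nat.card (Cfsg.isometryGroup F ⇑(qPlus F (k + 1))) = 8 * Nat.card (Cfsg.POmega F ⇑(qPlus F (k + 1))) := by
    have h3 := card_pomega_mul (Q := qPlus F (k + 1))
    rw [index_omega, index_commutator_odd hc.nondeg h2 (by omega),
      (card_center_omega hc.nondeg hn).1 ⟨hneg, h2⟩] at h3
    rw [← h3]; ring
  have hpgo : Nat.card (conjA (Q := qPlus F (k + 1))).range = 8 * Nat.card (Cfsg.POmega F ⇑(qPlus F (k + 1))) := by
    have h := card_pgo hc
    rw [range_mult_plus hm, Subgroup.card_top, Nat.card_units, hiso] at h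
    refine Nat.eq_of_mul_eq_mul_right (show 0 < Nat.card F - 1 by have := Finite.one_lt_card (α := F); omega) ?_
    rw [h, mul_comm]
  have h8 : (Cfsg.Inn (Cfsg.POmega F ⇑(qPlus F (k + 1)))).relIndex (conjA (Q := qPlus F (k + 1))).range = 8 := by
    have h := ((Cfsg.Inn (Cfsg.POmega F ⇑(qPlus F (k + 1)))).subgroupOf
      (conjA (Q := qPlus F (k + 1))).range).index_mul_card
    rw [Nat.card_congr (Subgroup.subgroupOfEquivOfLe inn_le_pgo).toEquiv, card_inn hc, hpgo] at h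
    exact Nat.eq_of_mul_eq_mul_right Nat.card_pos h
  have h2' : (inndiagP (F := F) hm).relIndex (conjA (Q := qPlus F (k + 1))).range = 2 := by
    show ((inndiagP (F := F) hm).subgroupOf _).index = 2
    rw [show (inndiagP (F := F) hm).subgroupOf (conjA (Q := qPlus F (k + 1))).range =
      ((hH.parA hc).comp (conjA (Q := qPlus F (k + 1))).range.subtype).ker from by
        ext ⟨x, g, rfl⟩
        rw [Subgroup.mem_subgroupOf, conjA_mem_inndiagP hm, MonoidHom.mem_ker, MonoidHom.comp_apply]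
        show _ ↔ hH.parA hc (conjA g) = 1
        rw [hH.parA_conjA], Subgroup.index_ker, MonoidHom.range_eq_top.2 (fun e => ?_), Subgroup.card_top]
    · simp
    · rcases Int.units_eq_one_or e with rfl | rfl
      · exact ⟨1, map_one _⟩
      · exact ⟨⟨_, isoToSim (swapIso 0), rfl⟩, (hH.parA_conjA hc _).trans (parG_swap (by omega) 0)⟩
  have h := Subgroup.relIndex_mul_relIndex _ _ _ (inn_le_inndiagP (F := F) hm)
    (show inndiagP (F := F) hm ≤ (conjA (Q := qPlus F (k + 1))).range by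
      rw [← ker_galOf hc]; exact inf_le_left)
  rw [h2', h8] at h
  omega

/-! ### The twisted embedding -/

variable {F₀ : Type*} [Field F₀] [Fintype F₀]

/-- The data of a twisted embedding of a minus space over a subfield of index two. -/
structure TwData (F : Type*) (F₀ : Type*) [Field F] [Fintype F] [Field F₀] [Fintype F₀] (k : ℕ) where
  σ : F ≃+* F
  i : F₀ →+* F
  hi : ∀ x : F, σ x = x ↔ x ∈ i.range
  hσ2 : σ * σ = 1
  ζ : F₀
  hζ : ∀ t : F₀, t ^ 2 + t + ζ ≠ 0
  t : F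
  ht : t ^ 2 + i 1 * t + i ζ = 0
  hσt : σ t = -i 1 - t
  J : (Fin (k + 1) ⊕ Fin (k + 1) → F) ≃ₗ[F] (Fin (k + 1) ⊕ Fin (k + 1) → F)
  hJ : ∀ v, qPlus F (k + 1) (J v) = qTw (i 1) (i ζ) v
  hJc : ∀ v, J v (.inl (Fin.last k)) = v (.inl (Fin.last k)) - t * v (.inr (Fin.last k)) ∧
    J v (.inr (Fin.last k)) = v (.inl (Fin.last k)) - σ t * v (.inr (Fin.last k)) ∧
    ∀ l : Fin k, J v (.inl l.castSucc) = v (.inl l.castSucc) ∧ J v (.inr l.castSucc) = v (.inr l.castSucc)

omit hm in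
theorem exists_twData {σ : F ≃+* F} (hσ2 : σ * σ = 1) (hne : σ ≠ 1) (i : F₀ →+* F)
    (hi : ∀ x : F, σ x = x ↔ x ∈ i.range) : ∃ D : TwData F F₀ k, D.σ = σ ∧ D.i = i := by
  obtain ⟨ζ, hζ⟩ := exists_rootfree (F := F₀)
  letI := i.toAlgebra
  obtain ⟨t, ht'⟩ := exists_root (F := F₀) (K := F) (finrank_of_involution i (by rw [pow_two]; exact hσ2) hne hi)
    (rootfree_aniso hζ)
  have ht : t ^ 2 + i 1 * t + i ζ = 0 := ht'
  have hfix : ∀ y, σ (i y) = i y := fun y => (hi _).2 ⟨y, rfl⟩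
  have hnt : ¬ σ t = t := fun h => by
    obtain ⟨z, hz⟩ := (hi t).1 h
    exact hζ z (i.injective (by
      rw [map_zero, map_add, map_add, map_pow, hz]
      rw [map_one] at ht
      linear_combination ht))
  have hσt : σ t = -i 1 - t := by
    have h1 := congrArg σ ht
    rw [map_add, map_add, map_mul, map_pow, hfix, hfix, map_zero] at h1
    rcases mul_eq_zero.1 (show (σ t - t) * (σ t - (-i 1 - t)) = 0 by linear_combination h1 - ht) with h | h
    · exact absurd (sub_eq_zero.1 h) hnt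
    · exact sub_eq_zero.1 h
  obtain ⟨J, hJ, hJc⟩ := exists_split (k := k) (a := i 1) (b := i ζ) (ρ := t) (ρ' := σ t)
    (by rw [hσt]; ring) (by rw [hσt]; linear_combination -ht) (Ne.symm hnt)
  exact ⟨⟨σ, i, hi, hσ2, ζ, hζ, t, ht, hσt, J, hJ, hJc⟩, rfl, rfl⟩

namespace TwData

variable (D : TwData F F₀ k)

omit hm

theorem aniso : ∀ z₁ z₂ : F₀, z₁ ^ 2 + (1 : F₀) * z₁ * z₂ + D.ζ * z₂ ^ 2 = 0 → z₁ = 0 ∧ z₂ = 0 :=
  rootfree_aniso D.hζ

theorem fix (y : F₀) : D.σ (D.i y) = D.i y := (D.hi _).2 ⟨y, rfl⟩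

theorem σσ (y : F) : D.σ (D.σ y) = y := RingEquiv.congr_fun D.hσ2 y

/-- The similitude from the twisted model. -/
def sim : Sim (qTw (k := k) (D.i 1) (D.i D.ζ)) (qPlus F (k + 1)) where
  H := ⟨LinearMap.toMatrix' D.J.toLinearMap, LinearMap.toMatrix' D.J.symm.toLinearMap,
    by rw [← LinearMap.toMatrix'_comp, LinearEquiv.comp_symm, LinearMap.toMatrix'_id],
    by rw [← LinearMap.toMatrix'_comp, LinearEquiv.symm_comp, LinearMap.toMatrix'_id]⟩
  c := 1
  c_ne := one_ne_zero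
  map_Q v := by rw [LinearMap.toMatrix'_mulVec, one_mul]; exact D.hJ v

theorem sim_app (v : Fin (k + 1) ⊕ Fin (k + 1) → F) : D.sim.H.1 *ᵥ v = D.J v := LinearMap.toMatrix'_mulVec _ _

theorem gal : ∀ v : Fin (k + 1) ⊕ Fin (k + 1) → F,
    qTw (D.i 1) (D.i D.ζ) (fun j => D.σ (v j)) = D.σ (qTw (D.i 1) (D.i D.ζ) v) := fun v => by
  have h := qTw_map (D.σ : F →+* F) (D.i 1) (D.i D.ζ) v
  simp only [RingEquiv.coe_toRingHom, D.fix] at h
  exact h

/-- The graph-field representative. -/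
noncomputable def rep : MulAut (Cfsg.POmega F ⇑(qPlus F (k + 1))) :=
  conjA (isoToSim (swapIso (Fin.last k))) * (Semi.ofGal D.σ (qPlus_gal D.σ)).aut

theorem rep_eq : D.sim.autIso (Semi.ofGal D.σ D.gal).aut = D.rep := by
  rw [D.sim.autIso_aut, rep, conjA_apply, ← Semi.aut_comp]
  refine Semi.aut_congr _ _ one_ne_zero fun v => ?_
  obtain ⟨u, rfl⟩ : ∃ u, D.sim.H.1 *ᵥ u = v := ⟨_, D.sim.H_inv v⟩
  rw [one_smul, D.sim.semi_app, Semi.app_comp, Semi.ofSim_app, Semi.ofGal_app, Semi.ofGal_app, D.sim_app, D.sim_app]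
  funext l
  show _ = ((swapIso (Fin.last k)).1.1 *ᵥ fun j => D.σ (D.J u j)) l
  rw [swapIso_mulVec]
  obtain ⟨e1, e2, e3⟩ := D.hJc u
  obtain ⟨f1, f2, f3⟩ := D.hJc fun j => D.σ (u j)
  rcases l with l | l <;> induction l using Fin.lastCases with
  | last =>
    first
      | rw [Equiv.swap_apply_left, e2, f1, map_sub, map_mul, D.σσ]
      | rw [Equiv.swap_apply_right, e1, f2, map_sub, map_mul]
  | cast l =>
    rw [Equiv.swap_apply_of_ne_of_ne (by simp [Fin.castSucc_ne_last]) (by simp [Fin.castSucc_ne_last])]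
    first
      | rw [(e3 l).1, (f3 l).1]
      | rw [(e3 l).2, (f3 l).2]

/-- Similarities of the minus space over the subfield as similarities of the plus space. -/
noncomputable def emb : Geo.quadSimilarityGroup (F := F₀) (⇑(qMinus F₀ k 1 D.ζ)) →*
    Geo.quadSimilarityGroup (F := F) (⇑(qPlus F (k + 1))) :=
  D.sim.go.comp ((mapGO (qTw_map D.i 1 D.ζ)).comp (goR 1 D.ζ))

theorem emb_apply (g : Geo.quadSimilarityGroup (F := F₀) (⇑(qMinus F₀ k 1 D.ζ))) :
    D.emb g = D.sim.go (mapGO (qTw_map D.i 1 D.ζ) (goR 1 D.ζ g)) := rfl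

include hm

theorem parG_emb (g : Geo.quadSimilarityGroup (F := F₀) (⇑(qMinus F₀ k 1 D.ζ))) :
    (hyp_plus (F := F) (show 3 ≤ k + 1 by omega)).parG (D.emb g) = parM (show 3 ≤ k by omega) D.aniso g := by
  have hM := hyp_minusK (show 3 ≤ k by omega) D.i (ctx_minus (show 3 ≤ k by omega) D.aniso).nondeg D.ht
  show Hyp.parG _ (D.sim.go (mapGO (qTw_map D.i 1 D.ζ) (goR 1 D.ζ g))) = _
  rw [Hyp.parG_go (hyp_tw hM) _ D.sim, goR_mapGO, parG_goR hM, parM_eq (show 3 ≤ k by omega) D.aniso D.i D.ht]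

theorem centralizer_rep : inndiagP hm ⊓ Subgroup.centralizer {D.rep} =
    ((parM (show 3 ≤ k by omega) D.aniso).ker.map D.emb).map conjA := by
  have hc₀ := ctx_tw (k := k) (by omega) D.aniso
  have hc := hc₀.map D.i (qTw_map D.i 1 D.ζ) (by simp; omega)
  have hcs := centralizer_std (qTw_map (k := k) D.i 1 D.ζ) hc hc₀ D.gal D.hi
  refine le_antisymm (fun x hx => ?_) ?_
  · obtain ⟨h1, h2⟩ := Subgroup.mem_inf.1 hx
    have h1' : x ∈ (galOf (ctx_plus (F := F) hm)).ker := (Subgroup.mem_inf.1 h1).1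
    rw [ker_galOf] at h1'
    obtain ⟨g, rfl⟩ := h1'
    obtain ⟨g', rfl⟩ := D.sim.go_surjective g
    have h3 : conjA g' ∈ (mapGO (qTw_map (k := k) D.i 1 D.ζ)).range.map conjA := by
      rw [← hcs]
      refine Subgroup.mem_inf.2 ⟨⟨g', rfl⟩, Subgroup.mem_centralizer_singleton_iff.2 (D.sim.autIso.injective ?_)⟩
      rw [map_mul, map_mul, D.rep_eq, D.sim.autIso_conjA]
      exact Subgroup.mem_centralizer_singleton_iff.1 h2
    obtain ⟨_, ⟨g₁, rfl⟩, hg⟩ := h3
    obtain ⟨g₀, rfl⟩ := goR_surjective 1 D.ζ g₁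
    have he : conjA (D.emb g₀) = conjA (D.sim.go g') := by
      rw [← D.sim.autIso_conjA, ← hg, D.sim.autIso_conjA]
      rfl
    refine ⟨_, ⟨g₀, ?_, rfl⟩, he⟩
    rw [SetLike.mem_coe, MonoidHom.mem_ker, ← D.parG_emb hm, ← conjA_mem_inndiagP hm, he]
    exact h1
  · rintro _ ⟨_, ⟨g₀, hg₀, rfl⟩, rfl⟩
    refine Subgroup.mem_inf.2 ⟨?_, ?_⟩
    · rw [conjA_mem_inndiagP hm, D.parG_emb hm]
      exact hg₀
    · have h3 : conjA (mapGO (qTw_map (k := k) D.i 1 D.ζ) (goR 1 D.ζ g₀)) ∈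
          (mapGO (qTw_map (k := k) D.i 1 D.ζ)).range.map conjA := ⟨_, ⟨_, rfl⟩, rfl⟩
      rw [← hcs] at h3
      rw [Subgroup.mem_centralizer_singleton_iff, ← D.rep_eq]
      rw [D.emb_apply]
      rw [← D.sim.autIso_conjA, ← map_mul, ← map_mul,
        Subgroup.mem_centralizer_singleton_iff.1 (Subgroup.mem_inf.1 h3).2]

theorem centralizer_iso : Nonempty (↥(inndiagP hm ⊓ Subgroup.centralizer {D.rep}) ≃*
    ↥(inndiagM (show 3 ≤ k by omega) D.aniso)) := by
  rw [D.centralizer_rep hm, inndiagM]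
  have hc₀ := ctx_tw (k := k) (by omega) D.aniso
  have hc := hc₀.map D.i (qTw_map D.i 1 D.ζ) (by simp; omega)
  set S := (parM (show 3 ≤ k by omega) D.aniso).ker
  let f₁ : S →* MulAut (Cfsg.POmega F ⇑(qPlus F (k + 1))) := (conjA.comp D.emb).comp S.subtype
  let f₂ : S →* MulAut (Cfsg.POmega F₀ ⇑(qMinus F₀ k 1 D.ζ)) := conjA.comp S.subtype
  have hker : f₁.ker = f₂.ker := Subgroup.ext fun g => by
    rw [MonoidHom.mem_ker, MonoidHom.mem_ker]
    show conjA (D.emb g.1) = 1 ↔ conjA g.1 = 1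
    rw [D.emb_apply]
    rw [← D.sim.autIso_conjA, MulEquiv.map_eq_one_iff, conjA_mapGO_eq_one (qTw_map D.i 1 D.ζ) hc hc₀,
      conjA_eq_one_iff hc₀, conjA_eq_one_iff (ctx_minus (show 3 ≤ k by omega) D.aniso)]
    exact goR_mem_scalars g.1
  have h1 : f₁.range = (S.map D.emb).map conjA := by
    rw [MonoidHom.range_comp, Subgroup.range_subtype, Subgroup.map_map]
  have h2 : f₂.range = S.map conjA := by rw [MonoidHom.range_comp, Subgroup.range_subtype]
  exact ⟨(MulEquiv.subgroupCongr h1.symm).trans (((QuotientGroup.quotientKerEquivRange f₁).symm.trans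
    (QuotientGroup.quotientMulEquivOfEq hker)).trans ((QuotientGroup.quotientKerEquivRange f₂).trans
      (MulEquiv.subgroupCongr h2)))⟩

theorem mult_emb (g : Geo.quadSimilarityGroup (F := F₀) (⇑(qMinus F₀ k 1 D.ζ))) :
    mult (ctx_plus (F := F) hm) (D.emb g) =
      Units.map (D.i : F₀ →* F) (mult (ctx_minus (show 3 ≤ k by omega) D.aniso) g) := by
  refine mult_eq _ fun v => ?_
  obtain ⟨u, rfl⟩ : ∃ u, D.sim.H.1 *ᵥ u = v := ⟨_, D.sim.H_inv v⟩
  rw [D.emb_apply]
  rw [D.sim.go_app, D.sim.map_Q, D.sim.map_Q, mat_mapGO, map_sim_eq (qTw_map D.i 1 D.ζ) (fun w => ?_) u,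
    mul_left_comm]
  · rfl
  · rw [goR_app, qTw_eq, qTw_eq]
    simp only [Equiv.symm_apply_apply]
    exact mult_spec (ctx_minus (show 3 ≤ k by omega) D.aniso) g _

omit hm in
theorem square_sub (y : F₀) : IsSquare (D.i y) := by
  classical
  by_cases hodd : Odd (Fintype.card F)
  · refine isSquare_of_two hodd D.i ?_ y
    letI := D.i.toAlgebra
    rw [Module.card_eq_pow_finrank (K := F₀) (V := F), finrank_of_involution D.i (by rw [pow_two]; exact D.hσ2)
      (fun h => ?_) D.hi]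
    obtain ⟨z, hz⟩ := (D.hi D.t).1 (by rw [h]; rfl)
    exact D.hζ z (D.i.injective (by
      have ht := D.ht
      rw [map_zero, map_add, map_add, map_pow, hz]
      rw [map_one] at ht
      linear_combination ht))
  · refine FiniteField.isSquare_of_char_two ?_ _
    by_contra h
    exact hodd (Nat.odd_iff.2 (FiniteField.odd_card_of_char_ne_two h))

/-- Multiplier a square of the subfield: inner. -/
theorem emb_mem_inn {g : Geo.quadSimilarityGroup (F := F₀) (⇑(qMinus F₀ k 1 D.ζ))}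
    (hp : parM (show 3 ≤ k by omega) D.aniso g = 1) {s₀ : F₀ˣ}
    (hs : mult (ctx_minus (show 3 ≤ k by omega) D.aniso) g = s₀ ^ 2) :
    conjA (D.emb g) ∈ Cfsg.Inn (Cfsg.POmega F ⇑(qPlus F (k + 1))) := by
  set hc₀ := ctx_minus (show 3 ≤ k by omega) D.aniso
  have hker : (scalarSim s₀)⁻¹ * g ∈ (mult hc₀).ker := by
    rw [MonoidHom.mem_ker, map_mul, map_inv, mult_scalarSim, hs, inv_mul_cancel]
  rw [ker_mult] at hker
  obtain ⟨X, hX⟩ := hker
  have he : conjA (D.emb g) = conjA (D.emb (isoToSim X)) := by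
    have hone : conjA (D.emb (scalarSim s₀)) = 1 := by
      rw [D.emb_apply]
      have hct := ctx_tw (k := k) (by omega) D.aniso
      rw [← D.sim.autIso_conjA, MulEquiv.map_eq_one_iff,
        conjA_mapGO_eq_one (qTw_map D.i 1 D.ζ) (hct.map D.i (qTw_map D.i 1 D.ζ) (by simp; omega)) hct,
        conjA_eq_one_iff hct, goR_mem_scalars]
      exact ⟨s₀, rfl⟩
    rw [show g = scalarSim s₀ * isoToSim X by rw [hX, mul_inv_cancel_left], map_mul, map_mul, hone, one_mul]
  have hXd : dickson hc₀.nondeg (hexM (show 3 ≤ k by omega) D.aniso) (oEquiv _ X) = 1 := by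
    rw [← parM_iso (show 3 ≤ k by omega) D.aniso, hX, map_mul, map_inv, parM_scalar, hp]
    decide
  rw [he]
  let φ : Cfsg.isometryGroup F₀ ⇑(qMinus F₀ k 1 D.ζ) →* Geo.quadSimilarityGroup (F := F) (⇑(qPlus F (k + 1))) :=
    D.emb.comp isoToSim
  have hmult : ∀ Y, mult (ctx_plus hm) (φ Y) = 1 := fun Y => by
    show mult _ (D.emb (isoToSim Y)) = 1
    rw [D.mult_emb hm, show mult hc₀ (isoToSim Y) = 1 from
      MonoidHom.mem_ker.1 (by rw [ker_mult]; exact ⟨Y, rfl⟩), map_one]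
  have hex' := (hyp_plus (F := F) (show 3 ≤ k + 1 by omega)).hex
  let ψ : Cfsg.isometryGroup F₀ ⇑(qMinus F₀ k 1 D.ζ) →* Cfsg.isometryGroup F ⇑(qPlus F (k + 1)) :=
    MonoidHom.mk' (fun Y => ⟨(φ Y).1, mem_isometryGroup_iff.2 fun v => by
      rw [mult_spec (ctx_plus hm) (φ Y), hmult, Units.val_one, one_mul]⟩)
      fun Y Z => Subtype.ext ((congrArg Subtype.val (map_mul φ Y Z)).trans rfl)
  have hψ : ∀ Y, D.emb (isoToSim Y) = isoToSim (ψ Y) := fun Y => Subtype.ext rfl
  rw [hψ]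
  refine mem_inn_of_omega ((mem_omega_iff _).2 ((mem_commutator_chars (ctx_plus hm).nondeg hex' _).2
    ⟨?_, fun h2 => ?_⟩))
  · rw [← (hyp_plus (F := F) (show 3 ≤ k + 1 by omega)).parG_iso, ← hψ, D.parG_emb hm, parM_iso, hXd]
  · have hrefl : ∀ (v : (Fin k ⊕ Fin k) ⊕ Fin 2 → F₀) (hv : qMinus F₀ k 1 D.ζ v ≠ 0),
        spin (qPlus F (k + 1)) (oEquiv _ (ψ ((oEquiv _).symm (rO hv)))) = -1 := fun v hv => by
      set w := D.J fun l => D.i (v ((twEquiv k).symm l)) with hw
      have hQw : qPlus F (k + 1) w = D.i (qMinus F₀ k 1 D.ζ v) := by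
        rw [hw, D.hJ, qTw_map, qTw_eq]
        simp
      have hw0 : qPlus F (k + 1) w ≠ 0 := by rw [hQw]; exact (map_ne_zero D.i).2 hv
      have e : oEquiv _ (ψ ((oEquiv _).symm (rO hv))) = rO hw0 := ext_oG fun x => by
        obtain ⟨u, rfl⟩ := D.J.surjective x
        rw [oEquiv_apply, rO_apply, hQw]
        show (D.emb (isoToSim ((oEquiv _).symm (rO hv)))).1.1 *ᵥ D.J u = _
        rw [D.emb_apply]
        rw [← D.sim_app, D.sim.go_app]
        simp only [D.sim_app]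
        have hpol : polar (⇑(qPlus F (k + 1))) (D.J u) w =
            polar (⇑(qTw (k := k) (D.i 1) (D.i D.ζ))) u (fun l => D.i (v ((twEquiv k).symm l))) := by
          rw [hw]
          simp only [polar, ← map_add, D.hJ]
        rw [hpol, ← map_smul, ← map_sub]
        refine congrArg D.J ?_
        have hv' : qTw (k := k) 1 D.ζ (fun l => v ((twEquiv k).symm l)) ≠ 0 := by rw [qTw_eq]; simpa using hv
        have hg : mapGO (qTw_map D.i 1 D.ζ) (goR 1 D.ζ (isoToSim ((oEquiv _).symm (rO hv)))) =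
            isoToSim (mapI (qTw_map D.i 1 D.ζ) ((oEquiv _).symm (rO hv'))) := by
          refine Subtype.ext (Units.ext ?_)
          show (goR 1 D.ζ _).1.1.map D.i = ((oEquiv _).symm (rO hv')).1.1.map D.i
          congr 1
          refine Matrix.ext_of_mulVec_single fun j => ?_
          rw [goR_app, ← oEquiv_apply (Q := qTw (k := k) 1 D.ζ), MulEquiv.apply_symm_apply]
          show (fun l => (((oEquiv (qMinus F₀ k 1 D.ζ)).symm (rO hv)).1.1 *ᵥ _) _) = _
          rw [← oEquiv_apply, MulEquiv.apply_symm_apply, rO_apply, rO_apply]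
          funext l
          simp only [Pi.sub_apply, Pi.smul_apply, polar, qTw_eq, Pi.add_apply, Equiv.apply_symm_apply,
            Equiv.symm_apply_apply]
          rfl
        rw [hg]
        show (mapI (qTw_map D.i 1 D.ζ) ((oEquiv _).symm (rO hv'))).1.1 *ᵥ u = _
        rw [← oEquiv_apply, mapI_rO, rO_apply]
        congr 3
        rw [qTw_map, qTw_eq]
        simp
      rw [e, spin_rO_qs h2, qs_eq_one.2 (hQw ▸ D.square_sub _)]
    have eq : ((spin (qPlus F (k + 1))).comp (oEquiv _).toMonoidHom).comp (ψ.comp (oEquiv _).symm.toMonoidHom) =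
        dickson hc₀.nondeg (hexM (show 3 ≤ k by omega) D.aniso) := by
      refine MonoidHom.eq_of_eqOn_dense (closure_reflSet hc₀.nondeg (hexM (show 3 ≤ k by omega) D.aniso)) ?_
      rintro _ ⟨v, hv, rfl⟩
      simp only [MonoidHom.comp_apply, MulEquiv.coe_toMonoidHom]
      rw [hrefl v hv, dickson_rO]
    have := DFunLike.congr_fun eq (oEquiv _ X)
    simp only [MonoidHom.comp_apply, MulEquiv.coe_toMonoidHom, MulEquiv.symm_apply_apply] at this
    rw [this, hXd]

end TwData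

end Cfsg.Agent.AutPOmega
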