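import Cfsg.Agent.AutPOmega.PlusQuotMain

/-!
Involutory similarity graph automorphisms of plus spaces (dimension eight included): number of inner classes.
-/

set_option autoImplicit false

namespace Cfsg.Agent.AutPOmega

open Module QuadraticMap Classical Classical.Quad Matrix

variable {F : Type*} [Field F] [Fintype F] {m : ℕ} (hm : 3 ≤ m) (hodd : Odd (Fintype.card F))

/-- The linear map of a similarity of the plus space. -/
noncomputable abbrev linP (g : Geo.quadSimilarityGroup (F := F) (⇑(qPlus F m))) :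
    (Fin m ⊕ Fin m → F) →ₗ[F] (Fin m ⊕ Fin m → F) := Matrix.toLin' g.1.1

include hm hodd

/-- The two shapes of an involution outside the inner-diagonal group. -/
theorem classify_plus {g₀ : Geo.quadSimilarityGroup (F := F) (⇑(qPlus F m))} (hp : parP (F := F) hm g₀ = -1)
    (h2γ : conjA g₀ * conjA g₀ = 1) :
    ∃ g, conjA g = conjA g₀ ∧
      (((∀ v, qPlus F m (linP g v) = qPlus F m v) ∧ ∀ v, linP g (linP g v) = v) ∨
        ∃ c : F, ¬ IsSquare c ∧ (∀ v, qPlus F m (linP g v) = c * qPlus F m v) ∧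
          ∀ v, linP g (linP g v) = c • v) := by
  classical
  have h2 := two_ne_zero_of_odd hodd
  rw [← map_mul] at h2γ
  obtain ⟨l, hl'⟩ := (sim_aut_one_iff nondeg_qPlus h2 (hn_plus hm)).1 h2γ
  have hlv : ∀ v, linP g₀ (linP g₀ v) = (l : F) • v := fun v => by
    rw [← scalarSim_mulVec, ← hl']
    simp [linP, Matrix.mulVec_mulVec]
  set μ := multP hm g₀
  have hμ : μ * μ = l ^ 2 := by rw [← map_mul, hl', mult0_scalarSim]
  have hμ' : (μ : F) = l ∨ (μ : F) = -l := by
    have h := congrArg Units.val hμ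
    rw [Units.val_mul, Units.val_pow_eq_pow_val, pow_two] at h
    exact mul_self_eq_mul_self_iff.1 h
  have hn : finrank F (Fin m ⊕ Fin m → F) = 2 * m := by simp; omega
  by_cases hsq : IsSquare (l : F)
  · obtain ⟨e, he⟩ := hsq
    have he0 : e ≠ 0 := fun h => l.ne_zero (by rw [he, h, mul_zero])
    set g := g₀ * scalarSim (Units.mk0 e he0)⁻¹
    have hgv : ∀ v, linP g v = e⁻¹ • linP g₀ v := fun v => by
      simp only [linP, g, Subgroup.coe_mul, Units.val_mul, Matrix.toLin'_apply, ← Matrix.mulVec_mulVec,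
        scalarSim_mulVec, Matrix.mulVec_smul, Units.val_inv_eq_inv_val, Units.val_mk0]
    have hgg : ∀ v, linP g (linP g v) = v := fun v => by
      rw [hgv, hgv, map_smul, hlv, smul_smul, smul_smul, he]
      field_simp
      rw [one_smul]
    have hgQ : ∀ v, qPlus F m (linP g v) = e⁻¹ * e⁻¹ * (μ : F) * qPlus F m v := fun v => by
      rw [hgv, Classical.Quad.map_smul', Matrix.toLin'_apply, mult0_spec (value_one_plus (F := F) hm) g₀]; ring
    have hiso : ∀ v, qPlus F m (linP g v) = qPlus F m v := by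
      rcases hμ' with hμ' | hμ'
      · intro v; rw [hgQ, hμ', he]; field_simp
      · exfalso
        have hneg : ∀ v, qPlus F m (linP g v) = -qPlus F m v := fun v => by
          rw [hgQ, hμ', he]; field_simp
        obtain ⟨-, hdim, hdet⟩ := det_involution h2 hgg
        have hsing : ∀ (ε : F), ε * ε = 1 → ∀ u, linP g u = ε • u → qPlus F m u = 0 := fun ε hε u hu => by
          have h := hneg u
          rw [hu, Classical.Quad.map_smul', hε, one_mul] at h
          exact (mul_eq_zero.1 (by linear_combination h : (2 : F) * qPlus F m u = 0)).resolve_left h2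
        have hA := two_mul_finrank_le nondeg_qPlus (W := LinearMap.ker (linP g - LinearMap.id)) fun u hu =>
          hsing 1 (one_mul 1) u (by rw [one_smul]; exact sub_eq_zero.1 hu)
        have hB := two_mul_finrank_le nondeg_qPlus (W := LinearMap.ker (linP g + LinearMap.id)) fun u hu =>
          hsing (-1) (by ring) u (by rw [neg_one_smul]; exact eq_neg_of_add_eq_zero_left hu)
        rw [hn] at hdim hA hB
        have hBm : finrank F (LinearMap.ker (linP g + LinearMap.id)) = m := by omega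
        have h := det_parP hm g
        rw [mult0_eq (value_one_plus (F := F) hm) (c := -1) (g := g) (fun v => by
          rw [Units.val_neg, Units.val_one, neg_one_mul]; exact hneg v), ← LinearMap.det_toLin', hdet, hBm,
          map_mul, parP_scalar, mul_one, hp] at h
        simp at h
        exact h2 ((mul_eq_zero.1 (by linear_combination h : (2 : F) * (-1 : F) ^ m = 0)).resolve_right
          (pow_ne_zero _ (neg_ne_zero.2 one_ne_zero)))
    exact ⟨g, by rw [map_mul, sim_aut_scalar nondeg_qPlus h2 (hn_plus hm), mul_one], Or.inl ⟨hiso, hgg⟩⟩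
  · refine ⟨g₀, rfl, Or.inr ⟨l, hsq, fun v => ?_, hlv⟩⟩
    rcases hμ' with hμ' | hμ'
    · rw [← hμ', Matrix.toLin'_apply]
      exact mult0_spec (value_one_plus (F := F) hm) g₀ v
    · exfalso
      have h := det_parP hm g₀
      rw [hp, ← LinearMap.det_toLin', det_of_sq_nonsquare hlv hsq hn] at h
      push_cast at h
      change (-(l : F)) ^ m = _ * (μ : F) ^ m at h
      rw [hμ'] at h
      exact h2 ((mul_eq_zero.1 (by linear_combination h : (2 : F) * (-(l : F)) ^ m = 0)).resolve_right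
        (pow_ne_zero _ (neg_ne_zero.2 l.ne_zero)))

set_option maxHeartbeats 1000000 in
/-- An element of spinor norm minus one commuting with the involution. -/
theorem exists_centralizer_plus (hB : Fintype.card F ^ m % 4 = 1)
    {g₀ : Geo.quadSimilarityGroup (F := F) (⇑(qPlus F m))} (hp : parP (F := F) hm g₀ = -1)
    (h2γ : conjA g₀ * conjA g₀ = 1) :
    ∃ x ∈ inndiagQ hm, x * conjA g₀ = conjA g₀ * x ∧ x ∉ Cfsg.Inn (Cfsg.POmega F ⇑(qPlus F m)) := by
  classical
  have h2 := two_ne_zero_of_odd hodd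
  have hQ := nondeg_qPlus (F := F) (m := m)
  obtain ⟨g, hgg₀, hg⟩ := classify_plus hm hodd hp h2γ
  rw [← hgg₀]
  obtain ⟨u, w, hu, hw, hsp, hcomm⟩ : ∃ (u w : Fin m ⊕ Fin m → F) (hu : qPlus F m u ≠ 0)
      (hw : qPlus F m w ≠ 0), spin (qPlus F m) (rO hu * rO hw) = -1 ∧
      ∀ v, (rO hu).1 ((rO hw).1 (linP g v)) = linP g ((rO hu).1 ((rO hw).1 v)) := by
    rcases hg with ⟨hiso, hgg⟩ | ⟨c, hns, hgQ, hgg⟩
    · obtain ⟨-, hdim, -⟩ := det_involution h2 hgg
      obtain ⟨ε, hε, A, hA, hA2⟩ : ∃ ε : F, (ε = 1 ∨ ε = -1) ∧ ∃ A : Submodule F (Fin m ⊕ Fin m → F),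
          (∀ x, x ∈ A ↔ linP g x = ε • x) ∧ 2 ≤ finrank F A := by
        by_cases h : 2 ≤ finrank F (LinearMap.ker (linP g - LinearMap.id))
        · exact ⟨1, Or.inl rfl, _, fun x => by simp [sub_eq_zero], h⟩
        · refine ⟨-1, Or.inr rfl, LinearMap.ker (linP g + LinearMap.id),
            fun x => by simp [add_eq_zero_iff_eq_neg], ?_⟩
          simp only [Module.finrank_fintype_fun_eq_card, Fintype.card_sum, Fintype.card_fin] at hdim
          omega
      obtain ⟨u, w, hu, hw, hsu, hsw, hcu, hcw⟩ := exists_comm_refls hQ h2 hiso hgg hε A hA hA2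
      refine ⟨u, w, hu, hw, ?_, fun v => by rw [hcw, hcu]⟩
      rw [map_mul, spin_rO h2, spin_rO h2, if_pos hsu, if_neg hsw, mul_one]
    · have hc0 : c ≠ 0 := fun h => hns (h ▸ IsSquare.zero)
      obtain ⟨u, hu, hperp⟩ := exists_orth_image hQ h2 hns hgQ hgg (by simp; omega)
      have hgu : qPlus F m (linP g u) ≠ 0 := by rw [hgQ]; exact mul_ne_zero hc0 hu
      refine ⟨u, linP g u, hu, hgu, ?_, fun v => ?_⟩
      · rw [map_mul, spin_rO h2, spin_rO h2, hgQ]
        by_cases hs : IsSquare (qPlus F m u)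
        · rw [if_pos hs, if_neg, mul_one]
          intro h
          exact hns (by
            have := h.mul hs.inv
            rwa [mul_assoc, mul_inv_cancel₀ hu, mul_one] at this)
        · rw [if_neg hs, if_pos (isSquare_mul_of_not h2 hns hs), one_mul]
      · have e1 : polar (⇑(qPlus F m)) (linP g v) (linP g u) =
            c * polar (⇑(qPlus F m)) v u := polar_of_sim hgQ v u
        have e3 : polar (⇑(qPlus F m)) (linP g v) u = polar (⇑(qPlus F m)) v (linP g u) := by
          have h := polar_of_sim hgQ v (linP g u)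
          rw [hgg, polar_smul_right, smul_eq_mul] at h
          exact mul_left_cancel₀ hc0 h
        simp only [rO_apply, map_sub, map_smul, hgg, polar_sub_left, polar_smul_left, smul_eq_mul]
        rw [e1, e3, hgQ, show polar (⇑(qPlus F m)) (linP g u) u = 0 by rw [polar_comm]; exact hperp,
          zero_div, zero_smul, zero_smul, sub_zero, sub_zero]
        match_scalars <;> field_simp <;> ring
  obtain ⟨s, hs⟩ : ∃ s, s = (oEquiv (qPlus F m)).symm (rO hu * rO hw) := ⟨_, rfl⟩
  refine ⟨conjA (isoToSim s), ⟨_, ?_, rfl⟩, ?_, ?_⟩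
  · rw [SetLike.mem_coe, MonoidHom.mem_ker, parP_iso, hs, MulEquiv.apply_symm_apply, map_mul, dickson_rO,
      dickson_rO]
    decide
  · rw [← map_mul, ← map_mul]
    refine congrArg conjA (Subtype.ext (Units.ext (Matrix.ext_of_mulVec_single fun j => ?_)))
    have hsx : ∀ v, s.1.1 *ᵥ v = (rO hu).1 ((rO hw).1 v) := fun v => by
      rw [hs, ← oEquiv_apply, MulEquiv.apply_symm_apply]; rfl
    show (s.1.1 * g.1.1) *ᵥ _ = (g.1.1 * s.1.1) *ᵥ _
    rw [← Matrix.mulVec_mulVec, ← Matrix.mulVec_mulVec, hsx, hsx]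
    exact hcomm _
  · intro hmem
    have h := iso_inn_chars hm hodd hB hmem
    rw [hs, MulEquiv.apply_symm_apply, hsp] at h
    exact absurd h (by decide)

/-- The number of inner classes in the class of an involutory graph automorphism. -/
theorem split_count_plus {γ : MulAut (Cfsg.POmega F ⇑(qPlus F m))}
    (hγ : Cfsg.IsSimilarityGraphAutPOmegaPlus m γ) (h2γ : γ * γ = 1) :
    (Cfsg.splitClassCount (inndiagQ hm) (Cfsg.Inn (Cfsg.POmega F ⇑(qPlus F m))) γ = 1 ∨
      Cfsg.splitClassCount (inndiagQ hm) (Cfsg.Inn (Cfsg.POmega F ⇑(qPlus F m))) γ = 2) ∧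
    (Fintype.card F ^ m % 4 = 1 →
      Cfsg.splitClassCount (inndiagQ hm) (Cfsg.Inn (Cfsg.POmega F ⇑(qPlus F m))) γ = 2) := by
  obtain ⟨g₁, hg₁, hnp, hi⟩ := hγ
  obtain rfl : γ = conjA ⟨g₁, hg₁⟩ := (Semi.ofSim ⟨g₁, hg₁⟩).induced_iff.1 hi
  have hp : parP (F := F) hm ⟨g₁, hg₁⟩ = -1 :=
    (Int.units_eq_one_or _).resolve_left fun h => hnp (((hyp_plus (F := F) hm).preserves_iff ⟨g₁, hg₁⟩).2 h)
  have hcard := (card_quots_plus hm hodd).2
  rw [AutPSL.splitClassCount_eq_relIndex _ _ (inn_le_inndiagQ hm hodd) _]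
  by_cases hB : Fintype.card F ^ m % 4 = 1
  · rw [if_pos hB] at hcard
    obtain ⟨c, s, hc, hs, -, -, -⟩ := exists_outer hm hodd
    have h := ne_identity_index_two (inn_le_inndiagQ hm hodd) hcard (inndiagQ_abelian hm hodd)
      (γ := conjA ⟨g₁, hg₁⟩) (d := conjA (dSim c)) (s := s) ⟨_, parP_dSim hm c, rfl⟩
      (by rw [hs]; exact commutator_dSim hm hodd hB hc)
      ⟨isoToSim (swapIso ⟨0, by omega⟩) * ⟨g₁, hg₁⟩, by
        rw [SetLike.mem_coe, MonoidHom.mem_ker, map_mul, hp, parP, parG_swap hm]; decide, by rw [map_mul, hs]⟩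
      (exists_centralizer_plus hm hodd hB hp h2γ)
    exact ⟨Or.inr h, fun _ => h⟩
  · rw [if_neg hB] at hcard
    exact ⟨index_dvd_two (inn_le_inndiagQ hm hodd) hcard, fun h => absurd h hB⟩

end Cfsg.Agent.AutPOmega
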