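import Cfsg.Agent.AutPOmega.Plus
import Cfsg.Agent.AutPOmega.OddLang

/-!
Field and graph-field automorphisms of prime order of the plus groups: normal forms under the inner-diagonal group.
-/

set_option autoImplicit false

namespace Cfsg.Agent.AutPOmega

open Module QuadraticMap Classical.Quad Matrix

section General

variable {ι : Type} [Fintype ι] [DecidableEq ι] {F : Type*} [Field F] [Finite F] {Q : QuadraticForm F (ι → F)}
  {m : ℕ} {U₀ : Submodule F (ι → F)}

/-- Correcting the parity of a conjugating similarity. -/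
theorem conjUnder_kernel (hH : Hyp Q m U₀) (hc : Ctx Q) {y : MulAut (Cfsg.POmega F ⇑Q)}
    {s g : Geo.quadSimilarityGroup (F := F) (⇑Q)} (hs : hH.parG s = -1) (hcomm : Commute (conjA s) y) :
    Cfsg.IsConjUnder ((galOf hc).ker ⊓ (hH.parA hc).ker) y (conjA g * y * (conjA g)⁻¹) := by
  rw [← hH.map_ker_parG hc]
  rcases Int.units_eq_one_or (hH.parG g) with h | h
  · exact ⟨_, ⟨g, h, rfl⟩, rfl⟩
  · refine ⟨_, ⟨g * s, by rw [SetLike.mem_coe, MonoidHom.mem_ker, map_mul, h, hs]; rfl, rfl⟩, ?_⟩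
    rw [map_mul, _root_.mul_inv_rev]
    have : conjA s * y * (conjA s)⁻¹ = y := by rw [hcomm.eq, mul_inv_cancel_right]
    calc conjA g * y * (conjA g)⁻¹ = conjA g * (conjA s * y * (conjA s)⁻¹) * (conjA g)⁻¹ := by rw [this]
      _ = _ := by group

end General

variable {F : Type*} [Field F] {k : ℕ}

theorem swap_commute_gal (j : Fin (k + 1)) (σ : F ≃+* F) :
    Commute (conjA (isoToSim (swapIso (F := F) j))) (Semi.ofGal σ (qPlus_gal σ)).aut := by
  show _ * _ = _ * _
  rw [conjA_apply, ← Semi.aut_comp, ← Semi.aut_comp]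
  refine Semi.aut_congr _ _ one_ne_zero fun v => ?_
  rw [one_smul, Semi.app_comp, Semi.app_comp, Semi.ofSim_app, Semi.ofSim_app, Semi.ofGal_app, Semi.ofGal_app]
  funext l
  show ((swapIso j).1.1 *ᵥ fun i => σ (v i)) l = σ (((swapIso j).1.1 *ᵥ v) l)
  rw [swapIso_mulVec, swapIso_mulVec]

theorem swap_commute (hk : 1 ≤ k) :
    Commute (conjA (isoToSim (swapIso (F := F) (0 : Fin (k + 1))))) (conjA (isoToSim (swapIso (Fin.last k)))) := by
  refine Commute.map (Subtype.ext (Units.ext (Matrix.ext_of_mulVec_single fun l => ?_))) conjA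
  show ((swapIso (0 : Fin (k + 1))).1.1 * (swapIso (Fin.last k)).1.1) *ᵥ _ =
    ((swapIso (Fin.last k)).1.1 * (swapIso (0 : Fin (k + 1))).1.1) *ᵥ _
  rw [← Matrix.mulVec_mulVec, ← Matrix.mulVec_mulVec]
  funext x
  rw [swapIso_mulVec, swapIso_mulVec, swapIso_mulVec, swapIso_mulVec]
  have h0 : (0 : Fin (k + 1)) ≠ Fin.last k := fun h => by
    have := congrArg Fin.val h
    simp at this
    omega
  congr 1
  rcases x with i | i <;>
    rcases eq_or_ne i 0 with rfl | hi0 <;>
      first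
        | simp [Equiv.swap_apply_of_ne_of_ne, h0, h0.symm]
        | (rcases eq_or_ne i (Fin.last k) with rfl | hil <;>
            simp [Equiv.swap_apply_of_ne_of_ne, h0, h0.symm, *])

variable [Fintype F] (hm : 5 ≤ k + 1)
include hm

/-- The inner-diagonal group is the kernel of both characters. -/
theorem inndiag_plus : Cfsg.inndiagPOmegaPlus (k + 1) F =
    (galOf (ctx_plus (F := F) hm)).ker ⊓ ((hyp_plus (F := F) (by omega)).parA (ctx_plus hm)).ker := by
  rw [← Hyp.map_ker_parG]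
  refine le_antisymm ((Subgroup.closure_le _).2 ?_) ?_
  · rintro β ⟨g, hg, hp, hi⟩
    exact ⟨⟨g, hg⟩, ((hyp_plus (F := F) (by omega)).preserves_iff ⟨g, hg⟩).1 hp,
      ((Semi.ofSim ⟨g, hg⟩).induced_iff.1 hi).symm⟩
  · rintro _ ⟨g, hg, rfl⟩
    exact Subgroup.subset_closure ⟨g.1, g.2, ((hyp_plus (F := F) (by omega)).preserves_iff g).2 hg,
      (Semi.ofSim g).induced_iff.2 rfl⟩

theorem normal_plus {x : MulAut (Cfsg.POmega F ⇑(qPlus F (k + 1)))} {r : ℕ} (hr : r.Prime) (hxr : x ^ r = 1)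
    (hne : galOf (ctx_plus hm) x ≠ 1) :
    ((hyp_plus (by omega)).parA (ctx_plus hm) x = 1 ∧ Cfsg.IsConjUnder (Cfsg.inndiagPOmegaPlus (k + 1) F)
        (Semi.ofGal _ (qPlus_gal (galOf (ctx_plus hm) x))).aut x) ∨
      ((hyp_plus (by omega)).parA (ctx_plus hm) x = -1 ∧ r = 2 ∧ Cfsg.IsConjUnder (Cfsg.inndiagPOmegaPlus (k + 1) F)
        (conjA (isoToSim (swapIso (Fin.last k))) * (Semi.ofGal _ (qPlus_gal (galOf (ctx_plus hm) x))).aut) x) := by
  rw [inndiag_plus hm]
  obtain ⟨T, rfl⟩ := exists_semi (ctx_plus hm) x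
  set hc := ctx_plus (F := F) hm
  set hH := hyp_plus (F := F) (m := k + 1) (by omega)
  have hord := orderOf_gal hc hr hxr hne
  rw [galOf_aut] at hord
  rw [galOf_aut]
  let σ := T.σ
  let K : Subfield F := (T.σ : F →+* F).eqLocusField (RingHom.id F)
  have hi : ∀ y : F, T.σ y = y ↔ y ∈ K.subtype.range := fun y =>
    ⟨fun h => ⟨⟨y, h⟩, rfl⟩, fun ⟨z, hz⟩ => hz ▸ z.2⟩
  obtain ⟨k₁, a, α, G₀, ha, hα, hG₀, hk, hT⟩ := exists_descent hc T hord hxr K.subtype hi
  have hs0 := parG_swap (F := F) (m := k + 1) (by omega) 0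
  rcases even_cases hG₀ (m := k + 1) (by rw [finrank_fintype_fun_eq_card]; simp; ring) with ⟨E, hE⟩ | ⟨-, hmin⟩
  · obtain ⟨H, c, hc', hH', hTH⟩ := exists_normal_form hc T K.subtype ha hα (fun y => y.2) hk hT
      ((plusCoord (k + 1)).trans E) one_ne_zero (P₀ := qPlus K (k + 1)) (P := qPlus F (k + 1)) (fun v => by
        show G₀ (E (plusCoord (k + 1) v)) = _
        rw [hE, plusCoord_map, one_mul, qPlus_apply]) (fun v => qPlus_map K.subtype v)
    obtain ⟨-, -, e, g, rfl, -⟩ := conj_of_normal T (Semi.ofGal T.σ (qPlus_gal T.σ)) hc' ha hH'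
      (fun v => by rw [hTH, Semi.ofGal_app])
    refine Or.inl ⟨?_, ?_⟩
    · rw [e, map_mul, map_mul, map_inv, mul_comm (hH.parA hc (conjA g)), mul_inv_cancel_right, hH.parA_aut,
        ofGal_par (by omega)]
    · rw [e]
      exact conjUnder_kernel hH hc hs0 (swap_commute_gal 0 T.σ)
  · obtain ⟨ζ, hζ⟩ := exists_rootfree (F := K)
    have hab := rootfree_aniso hζ
    obtain ⟨E, hE⟩ := hmin 1 ζ hab
    obtain ⟨H, c, hc', hH', hTH⟩ := exists_normal_form hc T K.subtype ha hα (fun y => y.2) hk hT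
      ((twCoord (k := k)).trans E) one_ne_zero (P₀ := qTw 1 ζ) (P := qTw (K.subtype 1) (K.subtype ζ)) (fun v => by
        show G₀ (E (twCoord v)) = _
        rw [hE, one_mul]
        rfl) (fun v => qTw_map K.subtype 1 ζ v)
    obtain ⟨t, ht⟩ : ∃ t : F, t ^ 2 + K.subtype 1 * t + K.subtype ζ = 0 := by
      by_contra hno
      push Not at hno
      refine not_similar_tw (a := K.subtype 1) (b := K.subtype ζ) ?_ hc' hH'
      rw [map_one] at hno ⊢
      exact rootfree_aniso fun t => by simpa using hno t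
    have hσK : ∀ y : K, T.σ (K.subtype y) = K.subtype y := fun y => y.2
    set ρ' := -K.subtype 1 - t with hρ'
    have hσt : T.σ t = ρ' := by
      have h1 := congrArg T.σ ht
      rw [map_add, map_add, map_mul, map_pow, hσK, hσK, map_zero] at h1
      rcases mul_eq_zero.1 (show (T.σ t - t) * (T.σ t - ρ') = 0 by rw [hρ']; linear_combination h1 - ht) with h | h
      · exfalso
        obtain ⟨z, hz⟩ := (hi t).1 (sub_eq_zero.1 h)
        exact hζ z (K.subtype.injective (by
          rw [map_zero, map_add, map_add, map_pow, hz]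
          rw [map_one] at ht
          linear_combination ht))
      · exact sub_eq_zero.1 h
    have hσσ : T.σ ρ' = t := by rw [hρ', map_sub, map_neg, hσK, hσt, hρ']; ring
    have hne' : t ≠ ρ' := fun h => by
      obtain ⟨z, hz⟩ := (hi t).1 (hσt.trans h.symm)
      exact hζ z (K.subtype.injective (by
        rw [map_zero, map_add, map_add, map_pow, hz]
        rw [map_one] at ht
        linear_combination ht))
    have hr2 : r = 2 := by
      by_contra hr2
      have hpow : ∀ n : ℕ, (T.σ ^ n) t = if Even n then t else ρ' := fun n => by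
        induction n with
        | zero => simp
        | succ n ih =>
          rw [pow_succ']
          show T.σ ((T.σ ^ n) t) = _
          rw [ih]
          by_cases hn : Even n
          · rw [if_pos hn, if_neg (fun h => Nat.even_add_one.1 h hn), hσt]
          · rw [if_neg hn, if_pos (Nat.even_add_one.2 hn), hσσ]
      have h1 := hpow r
      rw [show T.σ ^ r = 1 by rw [← hord]; exact pow_orderOf_eq_one _,
        if_neg (Nat.not_even_iff_odd.2 (hr.odd_of_ne_two hr2))] at h1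
      exact hne' h1
    obtain ⟨J, hJ, hJc⟩ := exists_split (k := k) (a := K.subtype 1) (b := K.subtype ζ) (ρ := t) (ρ' := ρ')
      (by rw [hρ']; ring) (by rw [hρ']; linear_combination -ht) hne'
    let Jm : GL (Fin (k + 1) ⊕ Fin (k + 1)) F := ⟨LinearMap.toMatrix' J.toLinearMap,
      LinearMap.toMatrix' J.symm.toLinearMap,
      by rw [← LinearMap.toMatrix'_comp, LinearEquiv.comp_symm, LinearMap.toMatrix'_id],
      by rw [← LinearMap.toMatrix'_comp, LinearEquiv.symm_comp, LinearMap.toMatrix'_id]⟩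
    have hJm : ∀ v, (Jm⁻¹).1 *ᵥ J v = v := fun v => by
      show LinearMap.toMatrix' J.symm.toLinearMap *ᵥ J v = v
      rw [LinearMap.toMatrix'_mulVec, LinearEquiv.coe_coe, LinearEquiv.symm_apply_apply]
    let S := (Semi.ofSim (isoToSim (swapIso (F := F) (Fin.last k)))).comp (Semi.ofGal T.σ (qPlus_gal T.σ))
    have hS : ∀ v, S.app (J v) = J fun j => T.σ (v j) := fun v => by
      funext l
      rw [Semi.app_comp, Semi.ofSim_app, Semi.ofGal_app]
      show ((swapIso (Fin.last k)).1.1 *ᵥ fun i => T.σ (J v i)) l = _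
      rw [swapIso_mulVec]
      obtain ⟨e1, e2, e3⟩ := hJc v
      obtain ⟨f1, f2, f3⟩ := hJc fun j => T.σ (v j)
      rcases l with i | i <;> induction i using Fin.lastCases with
      | last =>
        first
          | rw [Equiv.swap_apply_left, e2, f1, map_sub, map_mul, hσσ]
          | rw [Equiv.swap_apply_right, e1, f2, map_sub, map_mul, hσt]
      | cast i =>
        rw [Equiv.swap_apply_of_ne_of_ne (by simp [Fin.castSucc_ne_last]) (by simp [Fin.castSucc_ne_last])]
        first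
          | rw [(e3 i).1, (f3 i).1]
          | rw [(e3 i).2, (f3 i).2]
    obtain ⟨-, -, e, g, rfl, -⟩ := conj_of_normal T S (H := H * Jm⁻¹) hc' ha (fun v => by
        obtain ⟨u, rfl⟩ := J.surjective v
        rw [Units.val_mul, ← Matrix.mulVec_mulVec, hJm, hH', hJ])
      (fun v => by
        obtain ⟨u, rfl⟩ := J.surjective v
        rw [Units.val_mul, ← Matrix.mulVec_mulVec, hJm, hTH, ← Matrix.mulVec_mulVec, hS, hJm])
    have hSaut : S.aut = conjA (isoToSim (swapIso (Fin.last k))) * (Semi.ofGal T.σ (qPlus_gal T.σ)).aut :=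
      Semi.aut_comp _ _
    rw [hSaut] at e
    refine Or.inr ⟨?_, hr2, ?_⟩
    · rw [e, map_mul, map_mul, map_inv, mul_comm (hH.parA hc (conjA g)), mul_inv_cancel_right, map_mul,
        hH.parA_conjA, parG_swap (by omega), hH.parA_aut, ofGal_par (by omega), mul_one]
    · rw [e]
      exact conjUnder_kernel hH hc hs0 ((swap_commute (by omega)).mul_right (swap_commute_gal 0 T.σ))

theorem conjUnder_same {x y : MulAut (Cfsg.POmega F ⇑(qPlus F (k + 1)))} {r : ℕ} (hr : r.Prime)
    (hxr : x ^ r = 1) (hyr : y ^ r = 1) (hne : galOf (ctx_plus hm) x ≠ 1)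
    (hg : galOf (ctx_plus hm) y = galOf (ctx_plus hm) x)
    (hp : (hyp_plus (by omega)).parA (ctx_plus hm) y = (hyp_plus (by omega)).parA (ctx_plus hm) x) :
    Cfsg.IsConjUnder (Cfsg.inndiagPOmegaPlus (k + 1) F) x y := by
  have h1 := normal_plus hm hr hxr hne
  have h2 := normal_plus hm hr hyr (hg ▸ hne)
  rw [hg, hp] at h2
  rcases h1 with ⟨p1, c1⟩ | ⟨p1, -, c1⟩ <;> rcases h2 with ⟨p2, c2⟩ | ⟨p2, -, c2⟩
  · exact AutPSL.isConjUnder_trans (AutPSL.isConjUnder_symm c1) c2
  · exact absurd (p1.symm.trans p2) (by decide)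
  · exact absurd (p1.symm.trans p2) (by decide)
  · exact AutPSL.isConjUnder_trans (AutPSL.isConjUnder_symm c1) c2

theorem graphField_galOf {x : MulAut (Cfsg.POmega F ⇑(qPlus F (k + 1)))}
    (hx : Cfsg.IsGraphFieldAutClassPOmegaPlus (k + 1) x) : galOf (ctx_plus hm) x ≠ 1 := by
  obtain ⟨α, γ, φ, σ, v, g, hσ, hv, -, hg, hγ, hφ, h⟩ := hx
  have hgs : g ∈ Geo.quadSimilarityGroup (F := F) (⇑(qPlus F (k + 1))) := ⟨1, fun w => by
    rw [Units.val_one, one_mul, show g.1 = Cfsg.reflectionMatrix (⇑(qPlus F (k + 1))) v from hg,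
      reflectionMatrix_mulVec]
    exact (rO (Q := qPlus F (k + 1)) hv).2 w⟩
  have e1 : γ = conjA ⟨g, hgs⟩ := (Semi.ofSim ⟨g, hgs⟩).induced_iff.1 hγ
  have e2 : φ = (Semi.ofGal σ (qPlus_gal σ)).aut :=
    (Semi.isFieldAut_iff (Q := qPlus F (k + 1)) σ (qPlus_gal σ)).1 hφ
  have key : ∀ a b c : MulAut (Cfsg.POmega F ⇑(qPlus F (k + 1))), a * x * a⁻¹ = b * c →
      galOf (ctx_plus hm) x = galOf (ctx_plus hm) b * galOf (ctx_plus hm) c := fun a b c hab => by
    rw [← galOf_conj (ctx_plus hm) a x, hab, map_mul]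
  rw [key α γ φ h, e1, e2, galOf_conjA, one_mul, galOf_aut]
  exact hσ

theorem coset_plus {x δ : MulAut (Cfsg.POmega F ⇑(qPlus F (k + 1)))}
    (hx : Cfsg.IsFieldAutClassPOmega (⇑(qPlus F (k + 1))) x ∨ Cfsg.IsGraphFieldAutClassPOmegaPlus (k + 1) x) {r : ℕ}
    (hr : r.Prime) (hxr : orderOf x = r) (hδ : δ ∈ Cfsg.inndiagPOmegaPlus (k + 1) F) :
    orderOf (δ * x) = r ↔ Cfsg.IsConjUnder (Cfsg.inndiagPOmegaPlus (k + 1) F) x (δ * x) := by
  constructor
  · intro h
    have hne : galOf (ctx_plus hm) x ≠ 1 := by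
      rcases hx with hx | hx
      · exact galOf_fieldClass (ctx_plus hm) (fun σ => qPlus_gal σ) hx
      · exact graphField_galOf hm hx
    rw [inndiag_plus hm] at hδ
    obtain ⟨h1, h2⟩ := Subgroup.mem_inf.1 hδ
    exact conjUnder_same hm hr (hxr ▸ pow_orderOf_eq_one x) (h ▸ pow_orderOf_eq_one (δ * x)) hne
      (by rw [map_mul, MonoidHom.mem_ker.1 h1, one_mul]) (by rw [map_mul, MonoidHom.mem_ker.1 h2, one_mul])
  · rintro ⟨h, -, e⟩
    exact (congrArg orderOf e).trans ((AutPSL.orderOf_conj_eq h x).trans hxr)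

end Cfsg.Agent.AutPOmega
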