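import Cfsg.Agent.AutPOmega.SimKernel
import Cfsg.Agent.AutPOmega.Plus
import Cfsg.Agent.AutPOmega.MinusGraph
import Cfsg.Agent.Classical.OrthBlocks
import Cfsg.Agent.S0790

/-!
The images of the similarity groups of a plus space of dimension at least six in the automorphism group of
POmega, in odd characteristic (dimension eight included): the quotients by the special and by the inner part.
-/

set_option autoImplicit false

namespace Cfsg.Agent.AutPOmega

open Module QuadraticMap Classical Classical.Quad Matrix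

variable {F : Type*} [Field F] {m : ℕ}

theorem value_one_plus (hm : 3 ≤ m) : ∃ v : Fin m ⊕ Fin m → F, qPlus F m v = 1 := by
  let j : Fin m := ⟨0, by omega⟩
  refine ⟨Pi.single (Sum.inl j) 1 + Pi.single (Sum.inr j) 1, ?_⟩
  rw [qPlus_apply, Cfsg.quadFormPlus, Finset.sum_eq_single j (fun i _ hi => by simp [hi])
    (fun h => absurd (Finset.mem_univ j) h)]
  simp

theorem hn_plus (hm : 3 ≤ m) : 5 ≤ finrank F (Fin m ⊕ Fin m → F) := by simp; omega

/-- The similarity scaling the first coordinates. -/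
noncomputable def dSim (c : Fˣ) : Geo.quadSimilarityGroup (F := F) (⇑(qPlus F m)) :=
  ⟨Matrix.GeneralLinearGroup.mkOfDetNeZero
      (Matrix.diagonal (Sum.elim (fun _ => (c : F)) fun _ => 1 : Fin m ⊕ Fin m → F)) (by
    rw [Matrix.det_diagonal]
    exact Finset.prod_ne_zero_iff.2 fun l _ => by rcases l with l | l <;> simp), c, fun v => by
    show qPlus F m (Matrix.diagonal _ *ᵥ v) = _
    simp [qPlus_apply, Cfsg.quadFormPlus, Matrix.mulVec_diagonal, Finset.mul_sum, mul_assoc]⟩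

theorem dSim_val (c : Fˣ) : (dSim (m := m) c).1.1 =
    Matrix.diagonal (Sum.elim (fun _ => (c : F)) fun _ => 1) := rfl

theorem dSim_mult (c : Fˣ) (v : Fin m ⊕ Fin m → F) :
    qPlus F m ((dSim (m := m) c).1.1 *ᵥ v) = (c : F) * qPlus F m v := by
  rw [dSim_val]
  simp [qPlus_apply, Cfsg.quadFormPlus, Matrix.mulVec_diagonal, Finset.mul_sum, mul_assoc]

/-- The similarity exchanging the two halves. -/
noncomputable def wSim (c : Fˣ) : Geo.quadSimilarityGroup (F := F) (⇑(qPlus F m)) :=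
  ⟨⟨Matrix.fromBlocks 0 ((c : F) • 1) 1 0, Matrix.fromBlocks 0 1 (((c⁻¹ : Fˣ) : F) • 1) 0,
      by rw [Matrix.fromBlocks_multiply]; simp,
      by rw [Matrix.fromBlocks_multiply]; simp⟩, c, fun v => by
    show qPlus F m (Matrix.fromBlocks 0 ((c : F) • 1) 1 0 *ᵥ v) = _
    simp [qPlus_apply, Cfsg.quadFormPlus, Matrix.fromBlocks_mulVec, Matrix.smul_mulVec, Finset.mul_sum, mul_assoc,
      mul_comm (v (Sum.inl _))]⟩

theorem wSim_sq (c : Fˣ) : wSim (F := F) (m := m) c * wSim c = scalarSim c := by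
  refine Subtype.ext (Units.ext (Matrix.ext_of_mulVec_single fun l => ?_))
  rw [scalarSim_mulVec]
  show (Matrix.fromBlocks 0 ((c : F) • 1) 1 0 * Matrix.fromBlocks 0 ((c : F) • 1) 1 0) *ᵥ _ = _
  rw [Matrix.fromBlocks_multiply]
  simp only [Matrix.zero_mul, Matrix.mul_one, Matrix.one_mul, Matrix.mul_zero, zero_add, add_zero]
  rw [show Matrix.fromBlocks ((c : F) • (1 : Matrix (Fin m) (Fin m) F)) 0 0 ((c : F) • 1) = (c : F) • 1 by
    rw [← Matrix.fromBlocks_one, Matrix.fromBlocks_smul, smul_zero], Matrix.smul_mulVec, Matrix.one_mulVec]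

theorem imageSub_le {g : Matrix (Fin m ⊕ Fin m) (Fin m ⊕ Fin m) F}
    (h : ∀ u ∈ plusU F m, g *ᵥ u ∈ plusU F m) (hg : g.det ≠ 0) :
    (plusU F m).map (Matrix.toLin' g) = plusU F m := by
  refine Submodule.eq_of_le_of_finrank_le ?_ ?_
  · rintro _ ⟨u, hu, rfl⟩
    rw [Matrix.toLin'_apply]
    exact h u hu
  · rw [← LinearEquiv.finrank_eq (Submodule.equivMapOfInjective _ ?_ _)]
    intro x y hxy
    exact Matrix.mulVec_injective_of_isUnit ((Matrix.isUnit_iff_isUnit_det _).2 (isUnit_iff_ne_zero.2 hg)) hxy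

variable [Fintype F] (hm : 3 ≤ m) (hodd : Odd (Fintype.card F))

/-- The parity on the plus space. -/
noncomputable abbrev parP : Geo.quadSimilarityGroup (F := F) (⇑(qPlus F m)) →* ℤˣ :=
  (hyp_plus (F := F) hm).parG

/-- The multiplier on the plus space. -/
noncomputable abbrev multP : Geo.quadSimilarityGroup (F := F) (⇑(qPlus F m)) →* Fˣ :=
  mult0 (value_one_plus (F := F) hm)

/-- The inner-diagonal group of the plus space. -/
noncomputable def inndiagQ : Subgroup (MulAut (Cfsg.POmega F ⇑(qPlus F m))) := (parP (F := F) hm).ker.map conjA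

include hm

theorem parP_iso (s : Cfsg.isometryGroup F ⇑(qPlus F m)) :
    parP (F := F) hm (isoToSim s) =
      dickson (nondeg_qPlus (F := F) (m := m)) (hyp_plus (F := F) hm).hex (oEquiv _ s) :=
  (hyp_plus (F := F) hm).parG_iso s

theorem parP_of_stable {g : Geo.quadSimilarityGroup (F := F) (⇑(qPlus F m))}
    (h : ∀ u ∈ plusU F m, g.1.1 *ᵥ u ∈ plusU F m) : parP (F := F) hm g = 1 := by
  rw [parP, Hyp.parG_eq_psign, imageSub_le h ((Matrix.isUnit_iff_isUnit_det _).1 g.1.isUnit).ne_zero,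
    psign_self isMS_plusU.2]

theorem parP_scalar (c : Fˣ) : parP (F := F) hm (scalarSim c) = 1 :=
  parP_of_stable hm fun u hu => by rw [scalarSim_mulVec]; exact Submodule.smul_mem _ _ hu

theorem parP_dSim (c : Fˣ) : parP (F := F) hm (dSim c) = 1 :=
  parP_of_stable hm fun u hu => mem_plusU.2 fun j => by
    rw [dSim_val, Matrix.mulVec_diagonal, mem_plusU.1 hu j, mul_zero]

theorem multP_dSim (c : Fˣ) : multP hm (dSim c) = c := mult0_eq _ (dSim_mult c)

theorem inndiag_plus_eq : Cfsg.inndiagPOmegaPlus m F = inndiagQ hm := by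
  refine le_antisymm ((Subgroup.closure_le _).2 ?_) ?_
  · rintro β ⟨g, hg, hp, hi⟩
    exact ⟨⟨g, hg⟩, ((hyp_plus (F := F) hm).preserves_iff ⟨g, hg⟩).1 hp,
      ((Semi.ofSim ⟨g, hg⟩).induced_iff.1 hi).symm⟩
  · rintro _ ⟨g, hg, rfl⟩
    exact Subgroup.subset_closure ⟨g.1, g.2, ((hyp_plus (F := F) hm).preserves_iff g).2 hg,
      (Semi.ofSim g).induced_iff.2 rfl⟩

theorem inndiagQ_le : inndiagQ (F := F) hm ≤ (conjA (Q := qPlus F m)).range := by
  rintro _ ⟨g, -, rfl⟩; exact ⟨g, rfl⟩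

theorem det_parP (g : Geo.quadSimilarityGroup (F := F) (⇑(qPlus F m))) :
    g.1.1.det = (((parP (F := F) hm g : ℤˣ) : ℤ) : F) * (multP hm g : F) ^ m := by
  classical
  have hmem : (dSim (multP hm g))⁻¹ * g ∈ (multP (F := F) hm).ker := by
    rw [MonoidHom.mem_ker, map_mul, map_inv, multP_dSim hm, inv_mul_cancel]
  rw [ker_mult0] at hmem
  obtain ⟨s, hs⟩ := hmem
  have hg : g = dSim (multP hm g) * isoToSim s := by rw [hs, mul_inv_cancel_left]
  have hp : parP (F := F) hm g = dickson nondeg_qPlus (hyp_plus (F := F) hm).hex (oEquiv _ s) := by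
    rw [hg, map_mul, parP_dSim, one_mul, parP_iso]
  have hd : (dSim (m := m) (multP hm g)).1.1.det = (multP hm g : F) ^ m := by
    simp [dSim_val, Matrix.det_diagonal, Fintype.prod_sum_type]
  rw [hp, ← det_eq_dickson nondeg_qPlus (hyp_plus (F := F) hm).hex s, ← hd, mul_comm, ← Matrix.det_mul]
  exact congrArg (fun x : Geo.quadSimilarityGroup (F := F) (⇑(qPlus F m)) => x.1.1.det) hg

include hodd

theorem ker_conjA_plus : (conjA (Q := qPlus F m)).ker ≤ (parP (F := F) hm).ker ∧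
    ∀ g ∈ (conjA (Q := qPlus F m)).ker, IsSquare (multP hm g : F) := by
  have h2 := two_ne_zero_of_odd hodd
  refine ⟨fun g hg => ?_, fun g hg => ?_⟩ <;>
    obtain ⟨a, rfl⟩ := (sim_aut_one_iff nondeg_qPlus h2 (hn_plus hm)).1 hg
  · exact parP_scalar hm a
  · rw [mult0_scalarSim, Units.val_pow_eq_pow_val]; exact ⟨a, pow_two _⟩

theorem pso_plus_eq : Cfsg.psoAut F ⇑(qPlus F m) =
    ((parP (F := F) hm).comp isoToSim).ker.map (conjA.comp isoToSim) := by
  classical
  have h2 := two_ne_zero_of_odd hodd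
  have hdet : ∀ s : Cfsg.isometryGroup F ⇑(qPlus F m),
      s.1 ∈ Cfsg.specialIsometryGL F ⇑(qPlus F m) ↔ ((parP (F := F) hm).comp isoToSim) s = 1 := by
    intro s
    have h := det_eq_dickson nondeg_qPlus (hyp_plus (F := F) hm).hex s
    rw [MonoidHom.comp_apply, parP_iso]
    constructor
    · intro hs
      rcases Int.units_eq_one_or (dickson nondeg_qPlus (hyp_plus (F := F) hm).hex (oEquiv _ s)) with e | e
      · exact e
      · exfalso
        have h1 : (s.1.1 : Matrix _ _ F).det = 1 := congrArg Units.val (MonoidHom.mem_ker.1 hs.2)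
        rw [h, e] at h1
        simp at h1
        exact h2 (by linear_combination -h1)
    · intro hs
      rw [hs] at h
      exact ⟨s.2, MonoidHom.mem_ker.2 (Units.ext (h.trans (by simp)))⟩
  refine le_antisymm ((Subgroup.closure_le _).2 ?_) ?_
  · rintro β ⟨g, hg, hi⟩
    exact ⟨⟨g, hg.1⟩, (hdet ⟨g, hg.1⟩).1 hg, ((Semi.ofSim (isoToSim ⟨g, hg.1⟩)).induced_iff.1 hi).symm⟩
  · rintro _ ⟨s, hs, rfl⟩
    exact Subgroup.subset_closure ⟨s.1, (hdet s).2 hs, (Semi.ofSim (isoToSim s)).induced_iff.2 rfl⟩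

theorem pgo_pso_plus : ∃ φ : ↥(Cfsg.pgoAut F ⇑(qPlus F m)) →* Multiplicative (ZMod 2 × ZMod 2),
    Function.Surjective φ ∧
      φ.ker = (Cfsg.psoAut F ⇑(qPlus F m)).subgroupOf (Cfsg.pgoAut F ⇑(qPlus F m)) := by
  classical
  have h2 := two_ne_zero_of_odd hodd
  have hchar : ringChar F ≠ 2 := fun h => h2 (by
    have : CharP F 2 := h ▸ ringChar.charP F
    exact CharTwo.two_eq_zero)
  rw [pgoAut_eq, pso_plus_eq hm hodd]
  let χ : Fˣ →* ℤˣ := (quadraticChar F).toUnitHom
  have hχ : ∀ u : Fˣ, χ u = 1 ↔ IsSquare (u : F) := fun u => by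
    rw [← quadraticChar_one_iff_isSquare u.ne_zero, Units.ext_iff]
    simp [χ]
  let φ₁ := (parP (F := F) hm).prod (χ.comp (multP hm))
  have hsurj : Function.Surjective φ₁ := by
    obtain ⟨u, hu⟩ := FiniteField.exists_nonsquare hchar
    have hu0 : u ≠ 0 := by rintro rfl; exact hu IsSquare.zero
    rintro ⟨e₁, e₂⟩
    obtain ⟨c, hc⟩ : ∃ c : Fˣ, χ c = e₂ := by
      rcases Int.units_eq_one_or e₂ with rfl | rfl
      · exact ⟨1, map_one _⟩
      · exact ⟨Units.mk0 u hu0, (Int.units_eq_one_or _).resolve_left fun e => hu ((hχ _).1 e)⟩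
    rcases Int.units_eq_one_or e₁ with rfl | rfl
    · exact ⟨dSim c, Prod.ext (parP_dSim hm c) ((congrArg χ (multP_dSim hm c)).trans hc)⟩
    · refine ⟨isoToSim (swapIso ⟨0, by omega⟩) * dSim c, Prod.ext ?_ ?_⟩
      · show parP (F := F) hm (_ * _) = -1
        rw [map_mul, parP_dSim, mul_one]
        exact parG_swap hm _
      · show χ (multP hm (_ * _)) = e₂
        rw [map_mul, mult0_isoToSim, one_mul, multP_dSim hm, hc]
  have hker : φ₁.ker.map conjA = ((parP (F := F) hm).comp isoToSim).ker.map (conjA.comp isoToSim) := by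
    refine le_antisymm ?_ ?_
    · rintro _ ⟨g, hg, rfl⟩
      have hg' : parP (F := F) hm g = 1 ∧ χ (multP hm g) = 1 := Prod.ext_iff.1 hg
      obtain ⟨r, s, hrs⟩ := exists_iso_of_square _ ((hχ _).1 hg'.2)
      refine ⟨s, ?_, ?_⟩
      · rw [SetLike.mem_coe, MonoidHom.mem_ker, MonoidHom.comp_apply, ← hg'.1, hrs, map_mul, parP_scalar, one_mul]
      · rw [MonoidHom.comp_apply, hrs, map_mul, sim_aut_scalar nondeg_qPlus h2 (hn_plus hm), one_mul]
    · rintro _ ⟨s, hs, rfl⟩
      refine ⟨isoToSim s, Prod.ext hs ?_, rfl⟩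
      show χ (multP hm (isoToSim s)) = 1
      rw [mult0_isoToSim, map_one]
  obtain ⟨ψ, hψs, hψk, -⟩ := exists_descend conjA φ₁ fun g hg => by
    obtain ⟨h1, h2'⟩ := ker_conjA_plus hm hodd
    exact Prod.ext (h1 hg) ((hχ _).2 (h2' g hg))
  obtain ⟨e⟩ := units_klein
  refine ⟨e.toMonoidHom.comp ψ, e.surjective.comp (hψs hsurj), ?_⟩
  rw [← hker, ← hψk]
  ext x
  simp [MonoidHom.mem_ker]

omit hodd in
theorem inn_le_pso_plus (hodd : Odd (Fintype.card F)) :
    Cfsg.Inn (Cfsg.POmega F ⇑(qPlus F m)) ≤ Cfsg.psoAut F ⇑(qPlus F m) := by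
  rw [pso_plus_eq hm hodd, inn_eq]
  rintro _ ⟨_, ⟨s, rfl⟩, rfl⟩
  refine ⟨s.1, ?_, rfl⟩
  rw [SetLike.mem_coe, MonoidHom.mem_ker, MonoidHom.comp_apply, parP_iso]
  exact Abelianization.commutator_subset_ker _ ((mem_omega_iff s.1).1 s.2)

theorem pso_le_inndiagQ : Cfsg.psoAut F ⇑(qPlus F m) ≤ inndiagQ hm := by
  rw [pso_plus_eq hm hodd]
  rintro _ ⟨s, hs, rfl⟩
  exact ⟨isoToSim s, hs, rfl⟩

theorem inn_le_inndiagQ : Cfsg.Inn (Cfsg.POmega F ⇑(qPlus F m)) ≤ inndiagQ hm :=
  (inn_le_pso_plus hm hodd).trans (pso_le_inndiagQ hm hodd)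

/-- Parity has index two in the conformal group. -/
theorem relIndex_inndiagQ : (inndiagQ (F := F) hm).relIndex (conjA (Q := qPlus F m)).range = 2 := by
  obtain ⟨ψ, hψs, hψk, -⟩ := exists_descend conjA (parP (F := F) hm) (ker_conjA_plus hm hodd).1
  have hs : Function.Surjective (parP (F := F) hm) := fun e => by
    rcases Int.units_eq_one_or e with rfl | rfl
    · exact ⟨1, map_one _⟩
    · exact ⟨_, parG_swap hm ⟨0, by omega⟩⟩
  show ((inndiagQ (F := F) hm).subgroupOf _).index = 2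
  rw [inndiagQ, ← hψk, Subgroup.index_ker, MonoidHom.range_eq_top.2 (hψs hs), Subgroup.card_top,
    Nat.card_eq_fintype_card, Fintype.card_units_int]

theorem relIndex_pso_pgo :
    (Cfsg.psoAut F ⇑(qPlus F m)).relIndex (conjA (Q := qPlus F m)).range = 4 := by
  obtain ⟨φ, hs, hk⟩ := pgo_pso_plus hm hodd
  rw [← pgoAut_eq]
  show ((Cfsg.psoAut F ⇑(qPlus F m)).subgroupOf _).index = 4
  rw [← hk, Subgroup.index_ker, MonoidHom.range_eq_top.2 hs, Subgroup.card_top]
  simp [Nat.card_eq_fintype_card]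

/-- The sign lies in Omega exactly in the split case. -/
theorem neg_one_iff_plus :
    (∃ g : Cfsg.isometryGroup F ⇑(qPlus F m), g ∈ Cfsg.Omega F ⇑(qPlus F m) ∧
      g.1.1 = (-1 : Matrix (Fin m ⊕ Fin m) (Fin m ⊕ Fin m) F)) ↔ Fintype.card F ^ m % 4 = 1 :=
  S0790.result (F := F) rfl hodd m (by omega)

theorem case_iff_plus : (Odd m ∧ Fintype.card F % 4 = 3) ↔ ¬ Fintype.card F ^ m % 4 = 1 := by
  have h := (pow_mod_four_iff (F := F) rfl hodd m)
  rcases Nat.even_or_odd m with ⟨i, rfl⟩ | ⟨i, rfl⟩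
  · refine iff_of_false (fun h => (Nat.not_odd_iff_even.2 ⟨i, rfl⟩) h.1) (not_not.2 ?_)
    rw [← two_mul, pow_mul, Nat.pow_mod, Nat.pow_mod _ 2]
    rcases (show Fintype.card F % 4 = 1 ∨ Fintype.card F % 4 = 3 by have := Nat.odd_iff.1 hodd; omega) with h1 | h1 <;>
      simp [h1]
  · rw [and_iff_right ⟨i, rfl⟩, pow_succ, pow_mul, Nat.mul_mod, Nat.pow_mod, Nat.pow_mod _ 2]
    rcases (show Fintype.card F % 4 = 1 ∨ Fintype.card F % 4 = 3 by have := Nat.odd_iff.1 hodd; omega) with h1 | h1 <;>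
      simp [h1]

/-- Minus one as an isometry. -/
theorem exists_neg : ∃ N : Cfsg.isometryGroup F ⇑(qPlus F m),
    N.1.1 = (-1 : Matrix (Fin m ⊕ Fin m) (Fin m ⊕ Fin m) F) ∧
      parP (F := F) hm (isoToSim N) = 1 ∧ conjA (isoToSim N) = 1 ∧
      (spin (qPlus F m) (oEquiv _ N) = 1 ↔ Fintype.card F ^ m % 4 = 1) := by
  have h2 := two_ne_zero_of_odd hodd
  let N : Cfsg.isometryGroup F ⇑(qPlus F m) := ⟨(scalarSim (Q := qPlus F m) (-1)).1,
    mem_isometryGroup_iff.2 fun v => by rw [scalarSim_mulVec, Classical.Quad.map_smul']; simp⟩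
  have hN : N.1.1 = (-1 : Matrix (Fin m ⊕ Fin m) (Fin m ⊕ Fin m) F) := Matrix.ext_of_mulVec_single fun j => by
    show (scalarSim (Q := qPlus F m) (-1)).1.1 *ᵥ _ = _
    rw [scalarSim_mulVec, Matrix.neg_mulVec, Matrix.one_mulVec]
    simp
  have hp : parP (F := F) hm (isoToSim N) = 1 := parP_scalar hm (-1)
  refine ⟨N, hN, hp, sim_aut_scalar nondeg_qPlus h2 (hn_plus hm) (-1), ?_⟩
  rw [← neg_one_iff_plus hm hodd]
  constructor
  · intro h
    refine ⟨N, (mem_omega_iff N).2 ((mem_commutator_chars nondeg_qPlus (hyp_plus (F := F) hm).hex _).2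
      ⟨by rw [← parP_iso hm]; exact hp, fun _ => h⟩), hN⟩
  · rintro ⟨g, hg, hg1⟩
    rw [show N = g from Subtype.ext (Units.ext (hN.trans hg1.symm))]
    exact ((mem_commutator_chars nondeg_qPlus (hyp_plus (F := F) hm).hex _).1 ((mem_omega_iff g).1 hg)).2 h2

/-- In the non-split case every special isometry induces an inner automorphism. -/
theorem pso_eq_inn (hA : ¬ Fintype.card F ^ m % 4 = 1) :
    Cfsg.psoAut F ⇑(qPlus F m) = Cfsg.Inn (Cfsg.POmega F ⇑(qPlus F m)) := by
  refine le_antisymm ?_ (inn_le_pso_plus hm hodd)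
  obtain ⟨N, -, hN1, hN2, hN3⟩ := exists_neg hm hodd
  have hN : spin (qPlus F m) (oEquiv _ N) = -1 := (Int.units_eq_one_or _).resolve_left fun h => hA (hN3.1 h)
  rw [pso_plus_eq hm hodd]
  rintro _ ⟨s, hs, rfl⟩
  rw [SetLike.mem_coe, MonoidHom.mem_ker, MonoidHom.comp_apply, parP_iso] at hs
  rw [parP_iso] at hN1
  rcases Int.units_eq_one_or (spin (qPlus F m) (oEquiv _ s)) with h | h
  · exact inn_of_mem_omega ((mem_omega_iff _).2 ((mem_commutator_chars nondeg_qPlus _ _).2 ⟨hs, fun _ => h⟩))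
  · rw [MonoidHom.comp_apply, show conjA (isoToSim s) = conjA (isoToSim (N * s)) by rw [map_mul, map_mul, hN2, one_mul]]
    refine inn_of_mem_omega ((mem_omega_iff _).2 ((mem_commutator_chars nondeg_qPlus (hyp_plus (F := F) hm).hex _).2
      ⟨by rw [map_mul, map_mul, hN1, hs, one_mul], fun _ => by rw [map_mul, map_mul, hN, h]; decide⟩))

/-- In the split case an isometry is inner only if both characters vanish on it. -/
theorem iso_inn_chars (hB : Fintype.card F ^ m % 4 = 1) {s : Cfsg.isometryGroup F ⇑(qPlus F m)}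
    (h : conjA (isoToSim s) ∈ Cfsg.Inn (Cfsg.POmega F ⇑(qPlus F m))) : spin (qPlus F m) (oEquiv _ s) = 1 := by
  have h2 := two_ne_zero_of_odd hodd
  obtain ⟨σ, a, ha, hσ⟩ := sim_sign_of_inn nondeg_qPlus h2 (hn_plus hm) h
  have hmem : s ∈ Cfsg.Omega F ⇑(qPlus F m) := by
    rcases ha with rfl | rfl
    · rw [show s = σ.1 from Subtype.ext (Units.ext (by rw [hσ, one_smul]))]
      exact σ.2
    · obtain ⟨n₀, hn₀, hn₁⟩ := (neg_one_iff_plus hm hodd).2 hB
      rw [show s = n₀ * σ.1 from Subtype.ext (Units.ext (by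
        show _ = n₀.1.1 * mat σ
        rw [hσ, hn₁, neg_smul, one_smul, Matrix.neg_mul, Matrix.one_mul]))]
      exact mul_mem hn₀ σ.2
  exact ((mem_commutator_chars nondeg_qPlus (hyp_plus (F := F) hm).hex _).1 ((mem_omega_iff s).1 hmem)).2 h2

/-- A similarity with non-square multiplier and a reflection do not commute modulo the inner group. -/
theorem comm_swap (hB : Fintype.card F ^ m % 4 = 1) {g : Geo.quadSimilarityGroup (F := F) (⇑(qPlus F m))}
    (hg : ¬ IsSquare (multP hm g : F)) (j : Fin m) :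
    conjA g * conjA (isoToSim (swapIso j)) * (conjA g)⁻¹ * (conjA (isoToSim (swapIso j)))⁻¹ ∉
      Cfsg.Inn (Cfsg.POmega F ⇑(qPlus F m)) := by
  have h2 := two_ne_zero_of_odd hodd
  let v : Fin m ⊕ Fin m → F := Pi.single (Sum.inl j) 1 - Pi.single (Sum.inr j) 1
  have hqv : qPlus F m v = -1 := by
    rw [qPlus_apply, Cfsg.quadFormPlus, Finset.sum_eq_single j (fun i _ hi => by simp [v, hi])
      (fun h => absurd (Finset.mem_univ j) h)]
    simp [v]
  have hv : qPlus F m v ≠ 0 := by rw [hqv]; exact neg_ne_zero.2 one_ne_zero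
  have hw : qPlus F m (g.1.1 *ᵥ v) ≠ 0 := by
    rw [mult0_spec (value_one_plus (F := F) hm) g]; exact mul_ne_zero (multP hm g).ne_zero hv
  let t := (oEquiv (qPlus F m)).symm (rO hw)
  have hsw : oEquiv (qPlus F m) (swapIso j) = rO hv := oEquiv_swapIso j
  have e : g * isoToSim (swapIso j) * g⁻¹ = isoToSim t := by
    rw [mul_inv_eq_iff_eq_mul]
    refine Subtype.ext (Units.ext (Matrix.ext_of_mulVec_single fun l => ?_))
    show (g.1.1 * (swapIso j).1.1) *ᵥ _ = (t.1.1 * g.1.1) *ᵥ _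
    rw [← Matrix.mulVec_mulVec, ← Matrix.mulVec_mulVec, ← oEquiv_apply, ← oEquiv_apply, hsw,
      MulEquiv.apply_symm_apply, rO_apply, rO_apply, Matrix.mulVec_sub, Matrix.mulVec_smul]
    congr 2
    rw [mult0_spec (value_one_plus (F := F) hm) g]
    have hp : polar (⇑(qPlus F m)) (g.1.1 *ᵥ Pi.single l 1) (g.1.1 *ᵥ v) =
        (multP hm g : F) * polar (⇑(qPlus F m)) (Pi.single l 1) v := by
      simp only [polar, ← Matrix.mulVec_add, mult0_spec (value_one_plus (F := F) hm) g]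
      ring
    rw [hp, mul_div_mul_left _ _ (multP hm g).ne_zero]
  intro hmem
  rw [← map_inv, ← map_inv, ← map_mul, ← map_mul, ← map_mul, e, ← map_inv isoToSim, ← map_mul isoToSim] at hmem
  have h := iso_inn_chars hm hodd hB hmem
  rw [map_mul, map_inv, map_mul, map_inv, hsw, MulEquiv.apply_symm_apply, spin_rO_qs h2, spin_rO_qs h2,
    mult0_spec (value_one_plus (F := F) hm) g, qs_mul (multP hm g).ne_zero hv] at h
  refine hg (qs_eq_one.1 ?_)
  rcases Int.units_eq_one_or (qs (qPlus F m v)) with e1 | e1 <;>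
    rcases Int.units_eq_one_or (qs ((multP hm g : Fˣ) : F)) with e2 | e2 <;>
    simp [e1, e2] at h ⊢

/-- In the split case the special group has index two over the inner one. -/
theorem relIndex_inn_pso (hB : Fintype.card F ^ m % 4 = 1) :
    (Cfsg.Inn (Cfsg.POmega F ⇑(qPlus F m))).relIndex (Cfsg.psoAut F ⇑(qPlus F m)) = 2 := by
  classical
  have h2 := two_ne_zero_of_odd hodd
  let K := ((parP (F := F) hm).comp isoToSim).ker
  let cK := ((conjA (Q := qPlus F m)).comp isoToSim).comp K.subtype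
  let φ := ((spin (qPlus F m)).comp (oEquiv (qPlus F m)).toMonoidHom).comp K.subtype
  obtain ⟨ψ, hψs, hψk, -⟩ := exists_descend cK φ fun s hs => by
    rw [MonoidHom.mem_ker] at hs ⊢
    exact iso_inn_chars hm hodd hB (s := s.1) (by
      rw [show conjA (isoToSim s.1) = 1 from hs]
      exact one_mem _)
  have hrange : cK.range = Cfsg.psoAut F ⇑(qPlus F m) := by
    rw [pso_plus_eq hm hodd, MonoidHom.range_eq_map, ← Subgroup.map_map, ← MonoidHom.range_eq_map,
      Subgroup.range_subtype]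
  have hker : φ.ker.map cK = Cfsg.Inn (Cfsg.POmega F ⇑(qPlus F m)) := by
    refine le_antisymm ?_ ?_
    · rintro _ ⟨⟨s, hs⟩, hs', rfl⟩
      refine inn_of_mem_omega ((mem_omega_iff _).2 ((mem_commutator_chars nondeg_qPlus (hyp_plus (F := F) hm).hex _).2
        ⟨?_, fun _ => hs'⟩))
      rw [← parP_iso hm]
      exact hs
    · rw [inn_eq]
      rintro _ ⟨_, ⟨s, rfl⟩, rfl⟩
      have hc := (mem_commutator_chars nondeg_qPlus (hyp_plus (F := F) hm).hex _).1 ((mem_omega_iff s.1).1 s.2)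
      exact ⟨⟨s.1, by rw [MonoidHom.mem_ker, MonoidHom.comp_apply, parP_iso]; exact hc.1⟩, hc.2 h2, rfl⟩
  have hs : Function.Surjective φ := fun e => by
    rcases Int.units_eq_one_or e with rfl | rfl
    · exact ⟨1, map_one _⟩
    · obtain ⟨c, hc0, hc⟩ := exists_qs_neg (F := F) h2
      let j : Fin m := ⟨0, by omega⟩
      have hg : qPlus F m (Pi.single (Sum.inl j) c + Pi.single (Sum.inr j) 1) = c := by
        rw [qPlus_apply, Cfsg.quadFormPlus, Finset.sum_eq_single j (fun i _ hi => by simp [hi])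
          (fun h => absurd (Finset.mem_univ j) h)]
        simp
      obtain ⟨v, hv⟩ := value_one_plus (F := F) hm
      have hu : qPlus F m (Pi.single (Sum.inl j) c + Pi.single (Sum.inr j) 1) ≠ 0 := by rwa [hg]
      have hv0 : qPlus F m v ≠ 0 := by rw [hv]; exact one_ne_zero
      obtain ⟨h1, h3⟩ := exists_rO_prod nondeg_qPlus (hyp_plus (F := F) hm).hex hu hv0
      refine ⟨⟨(oEquiv _).symm (rO hu * rO hv0), ?_⟩, ?_⟩
      · rw [MonoidHom.mem_ker, MonoidHom.comp_apply, parP_iso, MulEquiv.apply_symm_apply, h1]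
      · show spin _ (oEquiv (qPlus F m) ((oEquiv _).symm _)) = -1
        rw [MulEquiv.apply_symm_apply, h3 h2, hg, hv, mul_one, hc]
  rw [← hker, ← hrange]
  show ((φ.ker.map cK).subgroupOf cK.range).index = 2
  rw [← hψk, Subgroup.index_ker, MonoidHom.range_eq_top.2 (hψs hs), Subgroup.card_top,
    Nat.card_eq_fintype_card, Fintype.card_units_int]

/-- The orders of the quotients. -/
theorem card_quots_plus :
    Nat.card ((conjA (Q := qPlus F m)).range ⧸ (Cfsg.Inn (Cfsg.POmega F ⇑(qPlus F m))).subgroupOf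
      (conjA (Q := qPlus F m)).range) = (if Fintype.card F ^ m % 4 = 1 then 8 else 4) ∧
    Nat.card (inndiagQ hm ⧸ (Cfsg.Inn (Cfsg.POmega F ⇑(qPlus F m))).subgroupOf (inndiagQ hm)) =
      (if Fintype.card F ^ m % 4 = 1 then 4 else 2) := by
  have h1 := Subgroup.relIndex_mul_relIndex _ _ _ (inn_le_pso_plus hm hodd)
    ((pso_le_inndiagQ hm hodd).trans (inndiagQ_le hm))
  have h3 := Subgroup.relIndex_mul_relIndex _ _ _ (inn_le_inndiagQ hm hodd) (inndiagQ_le (F := F) hm)
  rw [relIndex_inndiagQ hm hodd] at h3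
  rw [relIndex_pso_pgo hm hodd] at h1
  have h5 : (Cfsg.Inn (Cfsg.POmega F ⇑(qPlus F m))).relIndex (Cfsg.psoAut F ⇑(qPlus F m)) =
      if Fintype.card F ^ m % 4 = 1 then 2 else 1 := by
    split_ifs with hB
    · exact relIndex_inn_pso hm hodd hB
    · rw [pso_eq_inn hm hodd hB, Subgroup.relIndex_self]
  rw [h5] at h1
  show (Cfsg.Inn (Cfsg.POmega F ⇑(qPlus F m))).relIndex (conjA (Q := qPlus F m)).range = _ ∧
    (Cfsg.Inn (Cfsg.POmega F ⇑(qPlus F m))).relIndex (inndiagQ (F := F) hm) = _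
  split_ifs at h1 ⊢ <;> omega

/-- For odd `m` in the split case the scaling has order four modulo the inner group. -/
theorem dSim_sq_not_inn (hB : Fintype.card F ^ m % 4 = 1) (hmo : Odd m) {c : Fˣ} (hc : ¬ IsSquare (c : F)) :
    conjA (dSim (m := m) c) * conjA (dSim c) ∉ Cfsg.Inn (Cfsg.POmega F ⇑(qPlus F m)) := by
  have h2 := two_ne_zero_of_odd hodd
  obtain ⟨h, hs, happ⟩ : ∃ h : oG (qPlus F m),
      ((2 : F) ≠ 0 → spin (qPlus F m) h = ∏ _i : Fin m, qs (c : F)) ∧
      ∀ x, h.1 x = (Matrix.fromBlocks (Matrix.diagonal fun _ : Fin m => (c : F)) 0 0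
        (Matrix.diagonal fun _ : Fin m => (c : F)⁻¹)).mulVec x := by
    have e : plusQ F m = qPlus F m := DFunLike.coe_injective coe_plusQ
    rw [← e]
    obtain ⟨h, -, hs, happ⟩ := exists_plus_scale (m := m) (Or.inr (by rw [finrank_plus]; omega))
      (fun _ => (c : F)) fun _ => c.ne_zero
    exact ⟨h, hs, happ⟩
  have e : dSim (m := m) c * dSim c = scalarSim c * isoToSim ((oEquiv _).symm h) := by
    refine Subtype.ext (Units.ext (Matrix.ext_of_mulVec_single fun l => ?_))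
    show ((dSim (m := m) c).1.1 * (dSim (m := m) c).1.1) *ᵥ _ =
      ((scalarSim (Q := qPlus F m) c).1.1 * ((oEquiv (qPlus F m)).symm h).1.1) *ᵥ _
    rw [← Matrix.mulVec_mulVec _ (scalarSim (Q := qPlus F m) c).1.1, scalarSim_mulVec, ← oEquiv_apply,
      MulEquiv.apply_symm_apply, happ, dSim_val, Matrix.fromBlocks_diagonal, Matrix.diagonal_mul_diagonal,
      Matrix.diagonal_mulVec_single, Matrix.diagonal_mulVec_single, ← Pi.single_smul']
    congr 1
    rcases l with l | l <;> simp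
  intro hmem
  rw [← map_mul, e, map_mul, sim_aut_scalar nondeg_qPlus h2 (hn_plus hm), one_mul] at hmem
  have h3 := iso_inn_chars hm hodd hB hmem
  rw [MulEquiv.apply_symm_apply, hs h2, Finset.prod_const, Finset.card_univ, Fintype.card_fin,
    show qs (c : F) = -1 from (Int.units_eq_one_or _).resolve_left fun e => hc (qs_eq_one.1 e), hmo.neg_one_pow] at h3
  exact absurd h3 (by decide)

end Cfsg.Agent.AutPOmega
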