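import Cfsg.Agent.AutPOmega.PlusGraph

/-!
Splitting of the class of an involutory graph-field automorphism of a plus group.
-/

set_option autoImplicit false

namespace Cfsg.Agent.AutPOmega

open Module QuadraticMap Classical.Quad Matrix

variable {F : Type*} [Field F] [Fintype F] {k : ℕ} {F₀ : Type*} [Field F₀] [Fintype F₀] (hm : 5 ≤ k + 1)
  (D : TwData F F₀ k)

omit [Fintype F] [Fintype F₀] in
theorem canon_map_app (i : F₀ →+* F) {a b : F₀} {w : F₀ × F₀}
    {g : Geo.quadSimilarityGroup (F := F₀) (⇑(qMinus F₀ k a b))} (h : ∀ v, g.1.1 *ᵥ v = cLin a b w v)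
    (v : (Fin k ⊕ Fin k) ⊕ Fin 2 → F) : g.1.1.map i *ᵥ v = cLin (i a) (i b) (i w.1, i w.2) v := by
  have e : g.1.1.map i = LinearMap.toMatrix' (cLin (m := k) (i a) (i b) (i w.1, i w.2)) :=
    Matrix.ext_of_mulVec_single fun l => by
      have e1 : (Pi.single l 1 : _ → F) = fun j => i ((Pi.single l 1 : _ → F₀) j) := by
        funext j
        by_cases hj : j = l <;> simp [hj]
      rw [LinearMap.toMatrix'_mulVec, e1, mulVec_map_apply, cLin_map, h]
  rw [e, LinearMap.toMatrix'_mulVec]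

omit [Fintype F] in
theorem polar_qPlus (x y : Fin (k + 1) ⊕ Fin (k + 1) → F) : polar (⇑(qPlus F (k + 1))) x y =
    ∑ i, (x (.inl i) * y (.inr i) + y (.inl i) * x (.inr i)) := by
  simp only [polar, qPlus_apply, Cfsg.quadFormPlus, ← Finset.sum_sub_distrib, Pi.add_apply]
  exact Finset.sum_congr rfl fun i _ => by ring

include hm

/-- An embedded multiplication is a scalar times a scaling of the hyperbolic pairs. -/
theorem emb_canon {w : F₀ × F₀} {g : Geo.quadSimilarityGroup (F := F₀) (⇑(qMinus F₀ k 1 D.ζ))}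
    (hw : ∀ v, g.1.1 *ᵥ v = cLin 1 D.ζ w v) {d : F} (hd : d ≠ 0) (hd2 : d * d = D.i (binForm 1 D.ζ w)) :
    ∃ h : Cfsg.isometryGroup F ⇑(qPlus F (k + 1)), D.emb g = scalarSim (Units.mk0 d hd) * isoToSim h ∧
      ((2 : F) ≠ 0 → spin (qPlus F (k + 1)) (oEquiv _ h) = qs d ^ (k + 1) * qs (D.i w.1 - D.t * D.i w.2)) := by
  have ht := D.ht
  set u := D.i w.1 - D.t * D.i w.2 with hu
  set u' := D.i w.1 - D.σ D.t * D.i w.2 with hu'
  have hN : D.i (binForm 1 D.ζ w) = u * u' := by
    rw [hu, hu', D.hσt, binForm_apply, map_add, map_add, map_mul, map_mul, map_mul, map_pow, map_pow, map_one]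
    rw [map_one] at ht
    linear_combination (D.i w.2) ^ 2 * ht
  have hu0 : u ≠ 0 := fun h => mul_ne_zero hd hd (by rw [hd2, hN, h, zero_mul])
  let c : Fin (k + 1) → F := Fin.snoc (fun _ : Fin k => d) (u / d)
  have hc : ∀ i, c i ≠ 0 := fun i => by
    induction i using Fin.lastCases with
    | last => simp [c, div_ne_zero hu0 hd]
    | cast i => simp [c, hd]
  classical
  obtain ⟨h, -, hs, -, hact⟩ := exists_scale_family (Q := qPlus F (k + 1)) nondeg_qPlus
    (hyp_plus (F := F) (show 3 ≤ k + 1 by omega)).hex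
    (fun i : Fin (k + 1) => (Pi.single (Sum.inl i) 1 : Fin (k + 1) ⊕ Fin (k + 1) → F))
    (fun i => Pi.single (Sum.inr i) 1)
    (fun i => by simp [qPlus_apply, Cfsg.quadFormPlus]) (fun i => by simp [qPlus_apply, Cfsg.quadFormPlus])
    (fun i => by simp [polar_qPlus, Pi.single_apply])
    (fun i j hij => ⟨by simp [polar_qPlus], by simp [polar_qPlus],
      by simp [polar_qPlus, Pi.single_apply, hij, hij.symm]⟩) c hc Finset.univ
  refine ⟨(oEquiv _).symm h, ?_, fun h2 => ?_⟩
  · refine Subtype.ext (Units.ext (Matrix.ext_of_mulVec_single fun l => ?_))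
    show (D.emb g).1.1 *ᵥ _ = ((scalarSim (Q := qPlus F (k + 1)) (Units.mk0 d hd)).1.1 * _) *ᵥ _
    rw [← Matrix.mulVec_mulVec, scalarSim_mulVec, Units.val_mk0, D.emb_apply]
    show _ = d • (((oEquiv _).symm h).1.1 *ᵥ _)
    rw [← oEquiv_apply, MulEquiv.apply_symm_apply]
    obtain ⟨z, hz⟩ := D.J.surjective (Pi.single l 1)
    rw [← hz, ← D.sim_app, D.sim.go_app, D.sim_app, D.sim_app, hz, goR_mapGO]
    have hmid : ∀ j, ((goR (D.i 1) (D.i D.ζ) (mapGO (qMinus_map D.i 1 D.ζ) g)).1.1 *ᵥ z) j =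
        cLin (D.i 1) (D.i D.ζ) (D.i w.1, D.i w.2) (fun j => z (twEquiv k j)) ((twEquiv k).symm j) := fun j => by
      rw [goR_app, mat_mapGO, canon_map_app D.i hw]
    set z' := (goR (D.i 1) (D.i D.ζ) (mapGO (qMinus_map D.i 1 D.ζ) g)).1.1 *ᵥ z
    obtain ⟨a1, a2, a3⟩ := D.hJc z'
    obtain ⟨b1, b2, b3⟩ := D.hJc z
    rw [hz] at b1 b2 b3
    have x1 : D.J z' (.inl (Fin.last k)) = u * (Pi.single l 1 : _ → F) (.inl (Fin.last k)) := by
      rw [a1, b1, hmid, hmid, hu]
      simp [cLin, twEquiv]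
      rw [map_one] at ht
      linear_combination -(D.i w.2 * z (.inr (Fin.last k))) * ht
    have x2 : D.J z' (.inr (Fin.last k)) = u' * (Pi.single l 1 : _ → F) (.inr (Fin.last k)) := by
      rw [a2, b2, hmid, hmid, hu', D.hσt]
      simp [cLin, twEquiv]
      rw [map_one] at ht
      linear_combination -(D.i w.2 * z (.inr (Fin.last k))) * ht
    have x3 : ∀ i : Fin k, D.J z' (.inl i.castSucc) = d * d * (Pi.single l 1 : _ → F) (.inl i.castSucc) ∧
        D.J z' (.inr i.castSucc) = (Pi.single l 1 : _ → F) (.inr i.castSucc) := fun i => by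
      rw [(a3 i).1, (a3 i).2, (b3 i).1, (b3 i).2, hmid, hmid, hd2]
      simp [cLin, twEquiv, binForm_apply]
    rcases l with j | j
    · rw [(hact j (Finset.mem_univ j)).1]
      funext x
      rcases x with i | i <;> induction i using Fin.lastCases with
      | last =>
        first
          | (rw [x1]; by_cases hij : Fin.last k = j <;> [(subst hij; simp [c]; field_simp); simp [hij]])
          | (rw [x2]; simp)
      | cast i =>
        first
          | (rw [(x3 i).1]; by_cases hij : i.castSucc = j <;> [(subst hij; simp [c]); simp [hij]])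
          | (rw [(x3 i).2]; simp)
    · rw [(hact j (Finset.mem_univ j)).2]
      funext x
      rcases x with i | i <;> induction i using Fin.lastCases with
      | last =>
        first
          | (rw [x1]; simp)
          | (rw [x2]; by_cases hij : Fin.last k = j <;>
              [(subst hij; simp [c]; rw [hN] at hd2; field_simp; linear_combination -hd2); simp [hij]])
      | cast i =>
        first
          | (rw [(x3 i).1]; simp)
          | (rw [(x3 i).2]; by_cases hij : i.castSucc = j <;> [(subst hij; simp [c, hd]); simp [hij]])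
  · rw [MulEquiv.apply_symm_apply, hs h2, Fin.prod_univ_castSucc]
    simp only [c, Fin.snoc_castSucc, Fin.snoc_last, Finset.prod_const, Finset.card_univ, Fintype.card_fin]
    have hdi : qs (d⁻¹) = qs d := by
      have := qs_mul hd (inv_ne_zero hd)
      rw [mul_inv_cancel₀ hd, qs_one] at this
      exact mul_left_cancel (this.symm.trans (Int.units_mul_self _).symm)
    rw [div_eq_mul_inv, qs_mul hu0 (inv_ne_zero hd), hdi, pow_succ, mul_assoc, mul_comm (qs u)]

theorem splitCount_two [CharP F 2] :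
    Cfsg.splitClassCount (inndiagP hm) (Cfsg.Inn (Cfsg.POmega F ⇑(qPlus F (k + 1)))) D.rep = 1 := by
  rw [AutPSL.splitClassCount_eq_relIndex _ _ (inn_le_inndiagP hm), Subgroup.relIndex_eq_one]
  exact (inndiagP_two hm).le.trans le_sup_left

theorem splitCount_odd (hodd : Odd (Fintype.card F)) :
    Cfsg.splitClassCount (inndiagP hm) (Cfsg.Inn (Cfsg.POmega F ⇑(qPlus F (k + 1)))) D.rep =
      if Odd (k + 1) ∧ Fintype.card F₀ % 4 = 1 then 4 else 2 := by
  classical
  set Inn' := Cfsg.Inn (Cfsg.POmega F ⇑(qPlus F (k + 1))) with hInn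
  have hk : 3 ≤ k := by omega
  have hc := ctx_plus (F := F) hm
  have hc₀ := ctx_minus hk D.aniso
  have h2 := two_ne_zero_of_odd hodd
  have h2₀ : (2 : F₀) ≠ 0 := fun h => h2 (by rw [← map_ofNat D.i 2, h, map_zero])
  have hchar₀ : ringChar F₀ ≠ 2 := fun h => h2₀ (by
    have : CharP F₀ 2 := h ▸ ringChar.charP F₀
    exact CharTwo.two_eq_zero)
  have hσne : D.σ ≠ 1 := fun h => by
    obtain ⟨z, hz⟩ := (D.hi D.t).1 (by rw [h]; rfl)
    exact D.hζ z (D.i.injective (by
      have ht := D.ht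
      rw [map_zero, map_add, map_add, map_pow, hz]
      rw [map_one] at ht
      linear_combination ht))
  have hcard : Fintype.card F = Fintype.card F₀ ^ 2 := by
    letI := D.i.toAlgebra
    rw [Module.card_eq_pow_finrank (K := F₀) (V := F),
      finrank_of_involution D.i (by rw [pow_two]; exact D.hσ2) hσne D.hi]
  have hq₀ : Fintype.card F₀ % 4 = 1 ∨ Fintype.card F₀ % 4 = 3 := by
    have := FiniteField.odd_card_of_char_ne_two hchar₀
    omega
  have h4 : Fintype.card F % 4 = 1 := by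
    rw [hcard, Nat.pow_mod]
    rcases hq₀ with h | h <;> rw [h] <;> norm_num
  obtain ⟨n, hn⟩ := FiniteField.exists_nonsquare hchar₀
  have hn0 : n ≠ 0 := fun h => hn (h ▸ IsSquare.zero)
  obtain ⟨g, hgc, hgm⟩ := exists_canon_mult hk D.aniso (Units.mk0 n hn0)
  have hgp : parM hk D.aniso g = 1 := (isParM_parM hk D.aniso).2 g hgc
  obtain ⟨w, hw0, hw⟩ := hgc
  have hwn : binForm 1 D.ζ w = n := by
    have h := mult_eq hc₀ (g := g) (c := Units.mk0 _ hw0) fun v => by rw [hw, qMinus_cLin]; rfl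
    rw [hgm] at h
    exact (congrArg Units.val h).symm
  obtain ⟨d, hd⟩ := D.square_sub n
  have hd0 : d ≠ 0 := fun h => (map_ne_zero D.i).2 hn0 (by rw [hd, h, mul_zero])
  obtain ⟨h, hemb, hspin⟩ := emb_canon hm D hw hd0 (by rw [hwn, hd])
  -- the quadratic characters
  have hu : qs (D.i w.1 - D.t * D.i w.2) = -1 := by
    refine (Int.units_eq_one_or _).resolve_left fun h1 => ?_
    obtain ⟨s, hs⟩ := qs_eq_one.1 h1
    have hprod : (D.i w.1 - D.t * D.i w.2) * D.σ (D.i w.1 - D.t * D.i w.2) = D.i n := by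
      have ht := D.ht
      rw [map_sub, map_mul, D.fix, D.fix, D.hσt, ← hwn, binForm_apply, map_add, map_add, map_mul, map_mul, map_mul,
        map_pow, map_pow, map_one]
      rw [map_one] at ht
      linear_combination -(D.i w.2) ^ 2 * ht
    obtain ⟨r, hr⟩ := (D.hi (s * D.σ s)).1 (by rw [map_mul, D.σσ, mul_comm])
    exact hn ⟨r, D.i.injective (by rw [map_mul, hr, ← hprod, hs, map_mul]; ring)⟩
  have hσd : D.σ d = -d := by
    have h1 : D.σ d * D.σ d = d * d := by rw [← map_mul, ← hd, D.fix]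
    rcases mul_self_eq_mul_self_iff.1 h1 with h1 | h1
    · obtain ⟨r, hr⟩ := (D.hi d).1 h1
      exact absurd ⟨r, D.i.injective (by rw [map_mul, hr, hd])⟩ hn
    · exact h1
  have hdq : qs d = if Fintype.card F₀ % 4 = 1 then -1 else 1 := by
    split_ifs with h1
    · refine (Int.units_eq_one_or _).resolve_left fun hq => ?_
      obtain ⟨s, hs⟩ := qs_eq_one.1 hq
      have hs0 : s ≠ 0 := fun h => hd0 (by rw [hs, h, mul_zero])
      obtain ⟨r, hr⟩ := (FiniteField.isSquare_neg_one_iff (F := F₀)).2 (by omega)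
      set j := D.σ s / s with hj
      have hj2 : j * j = -1 := by
        rw [hj, div_mul_div_comm, ← map_mul, ← hs, hσd, neg_div, div_self hd0]
      have hjf : D.σ j = j := by
        rcases mul_self_eq_mul_self_iff.1 (hj2.trans (show (-1 : F) = D.i r * D.i r by
          rw [← map_mul, ← hr, map_neg, map_one])) with e | e <;> rw [e] <;> simp [D.fix]
      have hjj : j * D.σ j = 1 := by
        rw [hj, map_div₀, D.σσ, div_mul_div_comm, mul_comm s, div_self (mul_ne_zero ((map_ne_zero D.σ).2 hs0) hs0)]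
      rw [hjf, hj2] at hjj
      exact h2 (by linear_combination -hjj)
    · refine qs_eq_one.2 ?_
      have hne1 : ¬ IsSquare (-1 : F₀) := fun h => (FiniteField.isSquare_neg_one_iff.1 h) (by omega)
      obtain ⟨j, hj⟩ := D.square_sub (-1)
      rw [map_neg, map_one] at hj
      have hj0 : j ≠ 0 := fun h => by simp [h] at hj
      have hσj : D.σ j = -j := by
        have h1 : D.σ j * D.σ j = j * j := by rw [← map_mul, ← hj, map_neg, map_one]
        rcases mul_self_eq_mul_self_iff.1 h1 with h1 | h1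
        · obtain ⟨r, hr⟩ := (D.hi j).1 h1
          exact absurd ⟨r, D.i.injective (by rw [map_neg, map_one, map_mul, hr, hj])⟩ hne1
        · exact h1
      obtain ⟨r, hr⟩ := (D.hi (d / j)).1 (by rw [map_div₀, hσd, hσj, neg_div_neg_eq])
      rw [show d = j * D.i r by rw [hr, mul_div_cancel₀ _ hj0]]
      refine IsSquare.mul ?_ (D.square_sub r)
      have hcF : ringChar F ≠ 2 := fun h => h2 (by
        have : CharP F 2 := h ▸ ringChar.charP F
        exact CharTwo.two_eq_zero)
      rw [FiniteField.isSquare_iff hcF hj0]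
      obtain ⟨c, hc'⟩ : ∃ c, Fintype.card F / 2 = 4 * c := by
        obtain ⟨l, hl⟩ : ∃ l, Fintype.card F₀ = 4 * l + 3 := ⟨Fintype.card F₀ / 4, by omega⟩
        refine ⟨2 * l * l + 3 * l + 1, ?_⟩
        rw [hcard, hl, show (4 * l + 3) ^ 2 = 2 * (4 * (2 * l * l + 3 * l + 1)) + 1 by ring]
        omega
      rw [hc', pow_mul, show j ^ 4 = (j * j) ^ 2 by ring, ← hj]
      norm_num
  have hspin' : spin (qPlus F (k + 1)) (oEquiv _ h) = if Odd (k + 1) ∧ Fintype.card F₀ % 4 = 1 then 1 else -1 := by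
    rw [hspin h2, hu, hdq]
    split_ifs with h1 h1 h1
    · rw [h1.1.neg_one_pow]; decide
    · rw [(Nat.not_odd_iff_even.1 fun ho => h1 ⟨ho, ‹_›⟩).neg_one_pow]; decide
    · exact absurd h1.2 ‹_›
    · rw [one_pow]; decide
  -- the image
  have hch : conjA (D.emb g) = conjA (isoToSim h) := by rw [hemb, map_mul, conjA_scalarSim hc, one_mul]
  have hall : ∀ g', parM hk D.aniso g' = 1 →
      conjA (D.emb g') ∈ Inn' ∨ (conjA (D.emb g))⁻¹ * conjA (D.emb g') ∈ Inn' := fun g' hg' => by
    by_cases hs : IsSquare ((mult hc₀ g' : F₀ˣ) : F₀)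
    · obtain ⟨s, hs⟩ := hs
      have hs0 : s ≠ 0 := fun h => (mult hc₀ g').ne_zero (by rw [hs, h, mul_zero])
      exact Or.inl (D.emb_mem_inn hm hg' (s₀ := Units.mk0 s hs0) (Units.ext (by simp [hs, pow_two])))
    · obtain ⟨s, hs'⟩ := isSquare_mul_of_not h2₀ hs hn
      have hs0 : s / n ≠ 0 := div_ne_zero (fun h => mul_ne_zero (mult hc₀ g').ne_zero hn0 (by rw [hs', h, mul_zero])) hn0
      refine Or.inr ?_
      rw [← map_inv, ← map_mul, ← map_inv, ← map_mul]
      refine D.emb_mem_inn hm (by rw [map_mul, map_inv, hgp, hg']; decide) (s₀ := Units.mk0 _ hs0) (Units.ext ?_)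
      rw [map_mul, map_inv, hgm]
      simp only [Units.val_mul, Units.val_inv_eq_inv_val, Units.val_mk0, Units.val_pow_eq_pow_val]
      field_simp
      linear_combination hs'
  have hcmem : conjA (D.emb g) ∈ Inn' ↔ (Odd (k + 1) ∧ Fintype.card F₀ % 4 = 1) := by
    have hdk : dickson hc.nondeg (hyp_plus (F := F) (show 3 ≤ k + 1 by omega)).hex (oEquiv _ h) = 1 := by
      rw [← (hyp_plus (F := F) (show 3 ≤ k + 1 by omega)).parG_iso]
      have h1 := congrArg (hyp_plus (F := F) (show 3 ≤ k + 1 by omega)).parG hemb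
      rw [map_mul, D.parG_emb hm, hgp, ← (hyp_plus (F := F) (show 3 ≤ k + 1 by omega)).parA_conjA hc (scalarSim _),
        conjA_scalarSim hc, map_one, one_mul] at h1
      exact h1.symm
    rw [hch]
    constructor
    · intro hmem
      obtain ⟨s, a, ha, hsa⟩ := exists_scalar_of_mem_inn hc hmem
      have hO : h ∈ Cfsg.Omega F ⇑(qPlus F (k + 1)) := by
        rcases mul_self_eq_one_iff.1 ha with rfl | rfl
        · rw [show h = s.1 from Subtype.ext (Units.ext (by rw [hsa, one_smul]))]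
          exact s.2
        · obtain ⟨n₁, hn₁, hn₂⟩ : ∃ g : Cfsg.isometryGroup F ⇑(qPlus F (k + 1)), g ∈ Cfsg.Omega F ⇑(qPlus F (k + 1)) ∧
              ((g : GL (Fin (k + 1) ⊕ Fin (k + 1)) F) :
                Matrix (Fin (k + 1) ⊕ Fin (k + 1)) (Fin (k + 1) ⊕ Fin (k + 1)) F) = -1 :=
            (S0790.result (F := F) rfl hodd (k + 1) (by omega)).2 (by rw [Nat.pow_mod, h4]; norm_num)
          rw [show h = n₁ * s.1 from Subtype.ext (Units.ext (by
            show _ = n₁.1.1 * mat s
            rw [hsa, hn₂, neg_smul, one_smul, Matrix.neg_mul, Matrix.one_mul]))]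
          exact mul_mem hn₁ s.2
      have h1 := ((mem_commutator_chars hc.nondeg (hyp_plus (F := F) (show 3 ≤ k + 1 by omega)).hex _).1
        ((mem_omega_iff h).1 hO)).2 h2
      rw [hspin'] at h1
      by_contra hcon
      rw [if_neg hcon] at h1
      exact absurd h1 (by decide)
    · intro hcon
      refine mem_inn_of_omega ((mem_omega_iff _).2 ((mem_commutator_chars hc.nondeg
        (hyp_plus (F := F) (show 3 ≤ k + 1 by omega)).hex _).2 ⟨hdk, fun _ => ?_⟩))
      rw [hspin', if_pos hcon]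
  rw [AutPSL.splitClassCount_eq_relIndex _ _ (inn_le_inndiagP hm), D.centralizer_rep hm, ← hInn]
  set C := ((parM hk D.aniso).ker.map D.emb).map conjA
  have hI4 := relIndex_inndiagP hm h4
  rw [← hInn] at hI4
  by_cases hcon : Odd (k + 1) ∧ Fintype.card F₀ % 4 = 1
  · rw [if_pos hcon, sup_eq_left.2 (by
      rintro _ ⟨_, ⟨g', hg', rfl⟩, rfl⟩
      rcases hall g' hg' with h1 | h1
      · exact h1
      · exact (Subgroup.mul_mem_cancel_left _ (inv_mem (hcmem.2 hcon))).1 h1), hI4]
  · rw [if_neg hcon]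
    set π := QuotientGroup.mk' Inn'
    set c₀ := π (conjA (D.emb g))
    have hc1 : c₀ ≠ 1 := fun h => hcon (hcmem.1 ((QuotientGroup.eq_one_iff _).1 h))
    have hc2 : c₀ ^ 2 = 1 := by
      rw [← map_pow, ← map_pow, ← map_pow]
      refine (QuotientGroup.eq_one_iff _).2 (D.emb_mem_inn hm (by rw [map_pow, hgp, one_pow]) (s₀ := mult hc₀ g) ?_)
      rw [map_pow]
    have hX : Inn' ⊔ C = (Subgroup.zpowers c₀).comap π := by
      refine le_antisymm (sup_le (fun y hy => ?_) ?_) fun y hy => ?_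
      · rw [Subgroup.mem_comap, show π y = 1 from (QuotientGroup.eq_one_iff y).2 hy]
        exact one_mem _
      · rintro _ ⟨_, ⟨g', hg', rfl⟩, rfl⟩
        rw [Subgroup.mem_comap]
        rcases hall g' hg' with h1 | h1
        · rw [show π (conjA (D.emb g')) = 1 from (QuotientGroup.eq_one_iff _).2 h1]
          exact one_mem _
        · refine ⟨1, ?_⟩
          show c₀ ^ (1 : ℤ) = _
          rw [zpow_one]
          exact (QuotientGroup.eq).2 h1
      · obtain ⟨z, hz⟩ := hy
        have hz' : (conjA (D.emb g) ^ z)⁻¹ * y ∈ Inn' := by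
          rw [← QuotientGroup.eq_one_iff]
          show π _ = 1
          rw [map_mul, map_inv, map_zpow, show c₀ ^ z = π y from hz, inv_mul_cancel]
        have : y = conjA (D.emb g) ^ z * ((conjA (D.emb g) ^ z)⁻¹ * y) := (mul_inv_cancel_left _ _).symm
        rw [this]
        exact mul_mem (zpow_mem (Subgroup.mem_sup_right (show conjA (D.emb g) ∈ C from ⟨_, ⟨g, hgp, rfl⟩, rfl⟩)) z) (Subgroup.mem_sup_left hz')
    rw [hX, Subgroup.relIndex_comap]
    have hD : (Subgroup.zpowers c₀) ≤ (inndiagP hm).map π := by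
      rw [Subgroup.zpowers_le]
      exact ⟨_, (conjA_mem_inndiagP hm).2 (by rw [D.parG_emb hm, hgp]), rfl⟩
    have h1 := Subgroup.relIndex_mul_relIndex ⊥ _ _ bot_le hD
    rw [Subgroup.relIndex_bot_left, Subgroup.relIndex_bot_left, Nat.card_zpowers,
      orderOf_eq_prime hc2 hc1] at h1
    have h4' : Nat.card ((inndiagP hm).map π) = 4 := by
      have h := Subgroup.relIndex_comap ⊥ π (inndiagP hm)
      rw [MonoidHom.comap_bot, QuotientGroup.ker_mk', hI4, Subgroup.relIndex_bot_left] at h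
      exact h.symm
    rw [h4'] at h1
    omega

/-- The statement on involutory graph-field automorphisms. -/
theorem graph_main {p f : ℕ} [Fact p.Prime] (hF : Fintype.card F = p ^ f) (hf : 1 ≤ f)
    {x : MulAut (Cfsg.POmega F ⇑(qPlus F (k + 1)))} (hne : galOf (ctx_plus hm) x ≠ 1) (hx2 : x ^ 2 = 1)
    (hpar : (hyp_plus (F := F) (show 3 ≤ k + 1 by omega)).parA (ctx_plus hm) x = -1) {F' : Type*} [Field F'] [Fintype F']
    (hF' : Fintype.card F' = p ^ (f / 2)) :
    Even f ∧ (∀ y, (hyp_plus (F := F) (show 3 ≤ k + 1 by omega)).parA (ctx_plus hm) y = -1 →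
        galOf (ctx_plus hm) y ≠ 1 → y ^ 2 = 1 → Cfsg.IsConjUnder (Cfsg.inndiagPOmegaPlus (k + 1) F) x y) ∧
      (∃ a₀ b₀ : F', (∀ z₁ z₂ : F', z₁ ^ 2 + a₀ * z₁ * z₂ + b₀ * z₂ ^ 2 = 0 → z₁ = 0 ∧ z₂ = 0) ∧
        Nonempty (↥(inndiagP hm ⊓ Subgroup.centralizer {x}) ≃* ↥(Cfsg.inndiagPOmegaMinus k F' a₀ b₀))) ∧
      (p = 2 → Cfsg.splitClassCount (inndiagP hm) (Cfsg.Inn (Cfsg.POmega F ⇑(qPlus F (k + 1)))) x = 1) ∧
      (p ≠ 2 → Cfsg.splitClassCount (inndiagP hm) (Cfsg.Inn (Cfsg.POmega F ⇑(qPlus F (k + 1)))) x =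
        if Odd (k + 1) ∧ p ^ (f / 2) % 4 = 1 then 4 else 2) := by
  have hc := ctx_plus (F := F) hm
  have hord := orderOf_gal hc Nat.prime_two hx2 hne
  obtain ⟨hcyc, hgal⟩ := AutPSL.card_gal (F := F) hf hF
  have h2f : 2 ∣ f := by rw [← hgal, ← hord]; exact orderOf_dvd_natCard _
  obtain ⟨j, hi⟩ := AutPSL.exists_fixed_embedding hF hord h2f F' hF'
  obtain ⟨D, hDσ, -⟩ := exists_twData (k := k) (σ := galOf hc x)
    (by rw [← pow_two, ← hord, pow_orderOf_eq_one]) hne j hi
  have hconj : Cfsg.IsConjUnder (inndiagP hm) D.rep x := by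
    rcases normal_plus hm Nat.prime_two hx2 hne with ⟨h1, -⟩ | ⟨-, -, h⟩
    · rw [hpar] at h1; exact absurd h1 (by decide)
    · obtain ⟨b, hb, hx⟩ := h
      rw [inndiag_plus hm] at hb
      refine ⟨b, hb, hx.trans ?_⟩
      rw [TwData.rep]
      congr 3
      refine Semi.aut_congr _ _ one_ne_zero fun v => ?_
      rw [one_smul, Semi.ofGal_app, Semi.ofGal_app, hDσ]
  refine ⟨even_iff_two_dvd.2 h2f, fun y hy hy1 hy2 => ?_, ?_, fun hp => ?_, fun hp => ?_⟩
  · refine conjUnder_same hm Nat.prime_two hx2 hy2 hne ?_ (hy.trans hpar.symm)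
    have h2y := orderOf_gal hc Nat.prime_two hy2 hy1
    haveI : Finite (F ≃+* F) := Finite.of_injective (fun σ : F ≃+* F => (σ : F → F)) DFunLike.coe_injective
    classical
    haveI := Fintype.ofFinite (F ≃+* F)
    by_contra hxy
    have hle := IsCyclic.card_pow_eq_one_le (α := F ≃+* F) (n := 2) two_pos
    have hsub : ({1, galOf hc x, galOf hc y} : Finset (F ≃+* F)) ⊆ Finset.univ.filter fun a => a ^ 2 = 1 := by
      intro a ha
      simp only [Finset.mem_insert, Finset.mem_singleton] at ha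
      rw [Finset.mem_filter]
      refine ⟨Finset.mem_univ _, ?_⟩
      rcases ha with rfl | rfl | rfl
      · exact one_pow 2
      · rw [← map_pow, hx2, map_one]
      · rw [← map_pow, hy2, map_one]
    have h3 := Finset.card_le_card hsub
    rw [Finset.card_eq_three.2 ⟨1, galOf hc x, galOf hc y, hne.symm, hy1.symm, Ne.symm hxy, rfl⟩] at h3
    omega
  · obtain ⟨e1⟩ := AutPSL.centralizer_inf_congr hconj
    obtain ⟨e2⟩ := D.centralizer_iso hm
    refine ⟨1, D.ζ, D.aniso, ⟨e1.trans (e2.trans (MulEquiv.subgroupCongr ?_))⟩⟩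
    rw [inndiagM, ← inndiag_minus]
  · subst hp
    haveI : CharP F 2 := AutPSL.charP_of_card hF
    rw [AutPSL.splitClassCount_conj _ hconj, splitCount_two hm D]
  · have hodd : Odd (Fintype.card F) := hF ▸ ((Fact.out : p.Prime).odd_of_ne_two hp).pow
    rw [AutPSL.splitClassCount_conj _ hconj, splitCount_odd hm D hodd, hF']

theorem graphField_parA {x : MulAut (Cfsg.POmega F ⇑(qPlus F (k + 1)))}
    (hx : Cfsg.IsGraphFieldAutClassPOmegaPlus (k + 1) x) :
    (hyp_plus (F := F) (show 3 ≤ k + 1 by omega)).parA (ctx_plus hm) x = -1 := by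
  obtain ⟨α, γ, φ, σ, v, g, -, hv, -, hg, hγ, hφ, h⟩ := hx
  have hc := ctx_plus (F := F) hm
  have hv' : qPlus F (k + 1) v ≠ 0 := hv
  let s : Cfsg.isometryGroup F ⇑(qPlus F (k + 1)) := (oEquiv _).symm (rO hv')
  have hgs : g = s.1 := Units.ext (hg.trans ((matrix_eq_reflection_iff hv').2 ((oEquiv _).apply_symm_apply _)).symm)
  have e1 : γ = conjA (isoToSim s) := (Semi.ofSim (isoToSim s)).induced_iff.1 (by
    show Cfsg.IsInducedBySemilinearPOmega _ s.1 _ γ
    rw [← hgs]; exact hγ)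
  have e2 : φ = (Semi.ofGal σ (qPlus_gal σ)).aut :=
    (Semi.isFieldAut_iff (Q := qPlus F (k + 1)) σ (qPlus_gal σ)).1 hφ
  set P := (hyp_plus (F := F) (show 3 ≤ k + 1 by omega)).parA hc
  have key : ∀ a b c : MulAut (Cfsg.POmega F ⇑(qPlus F (k + 1))), a * x * a⁻¹ = b * c → P x = P b * P c :=
    fun a b c hab => by rw [← map_mul, ← hab, map_mul, map_mul, map_inv, mul_right_comm, mul_inv_cancel, one_mul]
  rw [key α γ φ h, e1, e2, Hyp.parA_conjA, Hyp.parA_aut, ofGal_par (by omega),
    (hyp_plus (F := F) (show 3 ≤ k + 1 by omega)).parG_iso, MulEquiv.apply_symm_apply, dickson_rO]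
  decide

end Cfsg.Agent.AutPOmega
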