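import Cfsg.Agent.AutPOmega.Incidence

/-!
The point map of an automorphism.
-/

set_option autoImplicit false

namespace Cfsg.Agent.AutPOmega

open Module QuadraticMap Classical Classical.Quad Matrix

variable {ι : Type} [Fintype ι] [DecidableEq ι] {F : Type*} [Field F] {Q : QuadraticForm F (ι → F)}

/-- The point of e goes to the point of e'. -/
def PtMaps (β : MulAut (Cfsg.POmega F ⇑Q)) (e e' : ι → F) : Prop :=
  e ≠ 0 ∧ Q e = 0 ∧ e' ≠ 0 ∧ Q e' = 0 ∧ ∀ L M, Maps β L M → (e ∈ L ↔ e' ∈ M)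

/-- The automorphism keeps meeting lines meeting. -/
def MeetPres (β : MulAut (Cfsg.POmega F ⇑Q)) : Prop :=
  ∀ L L' M M', Maps β L M → Maps β L' M' → Meet L L' → Meet M M'

/-- The automorphism and its inverse keep meeting lines meeting. -/
def Nice (β : MulAut (Cfsg.POmega F ⇑Q)) : Prop := MeetPres β ∧ MeetPres β⁻¹

variable (hc : Pre Q) (p : ℕ) [Fact p.Prime] [CharP F p] [Fintype F]
include hc p

omit [Fact p.Prime] [Fintype F] in
theorem InX.pow {L : Submodule F (ι → F)} (hL : IsLine Q L) {s : Om Q} (hs : InX L s) [Fact p.Prime] :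
    s ^ p ^ 1 = 1 := by
  obtain ⟨a, b, ha, hb, rfl⟩ := hs
  exact sg_pow hc p (hL.isSg ha hb)

theorem Maps.elt_inj {L : Submodule F (ι → F)} (hL : IsLine Q L) {M : Submodule F (ι → F)} (hM : IsLine Q M)
    {s t : Om Q} (hs : InX L s) (ht : InX M t) (h : mkO s = mkO t) : s = t :=
  eq_of_mkO_eq hc p (InX.pow hc p hL hs) (InX.pow hc p hM ht) h

theorem maps_exists {L : Submodule F (ι → F)} (hL : IsLine Q L) (β : MulAut (Cfsg.POmega F ⇑Q)) :
    ∃ M, Maps β L M := by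
  obtain ⟨M, hM, h⟩ := image_root hc p hL β
  exact ⟨M, hL, hM, h⟩

variable {β : MulAut (Cfsg.POmega F ⇑Q)}

theorem Maps.ne_one {L M : Submodule F (ι → F)} (h : Maps β L M) {s s' : Om Q} (hs : InX L s)
    (he : β (mkO s) = mkO s') (h1 : s ≠ 1) : s' ≠ 1 := fun h0 => h1 (by
  rw [h0, map_one] at he
  exact eq_of_mkO_eq hc p (InX.pow hc p h.1 hs) (one_pow (p ^ 1))
    ((β.injective (he.trans (map_one β).symm)).trans (map_one mkO).symm))

omit [Fintype F] p [Fact p.Prime] [CharP F p] in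
theorem exists_ne_one {L : Submodule F (ι → F)} (hL : IsLine Q L) : ∃ s : Om Q, InX L s ∧ s ≠ 1 := by
  obtain ⟨e, v, hp, rfl⟩ := hL
  exact ⟨_, (InX.iff_param hc hp).2 ⟨1, rfl⟩, hp.sg_ne_one hc one_ne_zero⟩

theorem Maps.unique {L M M' : Submodule F (ι → F)} (h : Maps β L M) (h' : Maps β L M') : M = M' := by
  obtain ⟨s, hs, hs1⟩ := exists_ne_one hc h.1
  obtain ⟨t, ht, et⟩ := h.2.2 s hs
  obtain ⟨t', ht', et'⟩ := h'.2.2 s hs
  have e := Maps.elt_inj hc p h.2.1 h'.2.1 ht ht' (et.symm.trans et')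
  subst e
  exact IsLine.eq_of_sg hc h.2.1 h'.2.1 ht ht' (h.ne_one hc p hs et hs1)

theorem Maps.symm {L M : Submodule F (ι → F)} (h : Maps β L M) : Maps β⁻¹ M L := by
  obtain ⟨L', h'⟩ := maps_exists hc p h.2.1 β⁻¹
  obtain ⟨s, hs, hs1⟩ := exists_ne_one hc h.1
  obtain ⟨t, ht, et⟩ := h.2.2 s hs
  obtain ⟨r, hr, er⟩ := h'.2.2 t ht
  have e : mkO r = mkO s := by rw [← er, ← et]; exact β.symm_apply_apply _
  have e' := Maps.elt_inj hc p h'.2.1 h.1 hr hs e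
  subst e'
  rwa [IsLine.eq_of_sg hc h.1 h'.2.1 hs hr hs1]

theorem maps_exists' {M : Submodule F (ι → F)} (hM : IsLine Q M) (β : MulAut (Cfsg.POmega F ⇑Q)) :
    ∃ L, Maps β L M := by
  obtain ⟨L, h⟩ := maps_exists hc p hM β⁻¹
  have := h.symm hc p
  rw [inv_inv] at this
  exact ⟨L, this⟩

theorem Maps.lift {L M : Submodule F (ι → F)} (h : Maps β L M) {t : Om Q} (ht : InX M t) :
    ∃ s, InX L s ∧ β (mkO s) = mkO t := by
  obtain ⟨s, hs, e⟩ := (h.symm hc p).2.2 t ht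
  exact ⟨s, hs, by rw [← e]; exact β.apply_symm_apply _⟩

theorem Maps.inj {L L' M : Submodule F (ι → F)} (h : Maps β L M) (h' : Maps β L' M) : L = L' :=
  (h.symm hc p).unique hc p (h'.symm hc p)

theorem Maps.com {L L' M M' : Submodule F (ι → F)} (h : Maps β L M) (h' : Maps β L' M') (hcom : Com Q L L') :
    Com Q M M' := fun t t' ht ht' => by
  obtain ⟨s, hs, es⟩ := h.lift hc p ht
  obtain ⟨s', hs', es'⟩ := h'.lift hc p ht'
  have h1 : Commute (mkO t) (mkO t') := by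
    rw [← es, ← es']
    exact ((hcom s s' hs hs').map mkO).map β
  exact commute_of_mkO hc p (InX.pow hc p h.2.1 ht) h1

theorem Maps.adj {L L' M M' : Submodule F (ι → F)} (h : Maps β L M) (h' : Maps β L' M') (ha : Adj Q L L') :
    Adj Q M M' := by
  obtain ⟨hne, hcom, s, t, r, N, hs, ht, hs1, ht1, hN, hr, e⟩ := (gAdj_iff hc h.1 h'.1).2 ha
  obtain ⟨N', hN'⟩ := maps_exists hc p hN β
  obtain ⟨s', hs', es⟩ := h.2.2 s hs
  obtain ⟨t', ht', et⟩ := h'.2.2 t ht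
  obtain ⟨r', hr', er⟩ := hN'.2.2 r hr
  have hcom' := h.com hc p h' hcom
  refine (gAdj_iff hc h.2.1 h'.2.1).1 ⟨fun e' => hne (h.inj hc p (e' ▸ h')), hcom', s', t', r', N', hs', ht',
    h.ne_one hc p hs es hs1, h'.ne_one hc p ht et ht1, hN'.2.1, hr', ?_⟩
  refine eq_of_mkO_eq hc p (k := 1) ?_ (InX.pow hc p hN'.2.1 hr') ?_
  · rw [(hcom' s' t' hs' ht').mul_pow, InX.pow hc p h.2.1 hs', InX.pow hc p h'.2.1 ht', one_mul]
  · rw [map_mul, ← es, ← et, ← er, ← map_mul, ← map_mul, e]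

theorem Maps.adj_iff {L L' M M' : Submodule F (ι → F)} (h : Maps β L M) (h' : Maps β L' M') :
    Adj Q L L' ↔ Adj Q M M' :=
  ⟨h.adj hc p h', (h.symm hc p).adj hc p (h'.symm hc p)⟩

theorem Maps.cn {L L' M M' N K : Submodule F (ι → F)} (h : Maps β L M) (h' : Maps β L' M') (hN : Maps β N K)
    (hcn : CN Q L L' N) : CN Q M M' K :=
  ⟨hN.2.1, hN.adj hc p h hcn.2.1, hN.adj hc p h' hcn.2.2⟩

theorem Maps.grid {L L' M M' : Submodule F (ι → F)} (h : Maps β L M) (h' : Maps β L' M') (hg : Grid Q L L') :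
    Grid Q M M' := by
  obtain ⟨⟨N, N', hN, hN', ha⟩, hclaw⟩ := hg
  obtain ⟨K, hK⟩ := maps_exists hc p hN.1 β
  obtain ⟨K', hK'⟩ := maps_exists hc p hN'.1 β
  refine ⟨⟨K, K', h.cn hc p h' hK hN, h.cn hc p h' hK' hN', hK.adj hc p hK' ha⟩, ?_⟩
  rintro ⟨A, A₁, A₂, A₃, c0, c1, c2, c3, a1, a2, a3, b12, b13, b23, n12, n13, n23⟩
  obtain ⟨B, hB⟩ := maps_exists' hc p c0.1 β
  obtain ⟨B₁, hB₁⟩ := maps_exists' hc p c1.1 β
  obtain ⟨B₂, hB₂⟩ := maps_exists' hc p c2.1 β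
  obtain ⟨B₃, hB₃⟩ := maps_exists' hc p c3.1 β
  have s := h.symm hc p
  have s' := h'.symm hc p
  exact hclaw ⟨B, B₁, B₂, B₃, s.cn hc p s' (hB.symm hc p) c0, s.cn hc p s' (hB₁.symm hc p) c1,
    s.cn hc p s' (hB₂.symm hc p) c2, s.cn hc p s' (hB₃.symm hc p) c3, (hB.adj_iff hc p hB₁).2 a1,
    (hB.adj_iff hc p hB₂).2 a2, (hB.adj_iff hc p hB₃).2 a3, fun a => b12 ((hB₁.adj_iff hc p hB₂).1 a),
    fun a => b13 ((hB₁.adj_iff hc p hB₃).1 a), fun a => b23 ((hB₂.adj_iff hc p hB₃).1 a),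
    fun a => n12 (hB₁.unique hc p (a ▸ hB₂)), fun a => n13 (hB₁.unique hc p (a ▸ hB₃)),
    fun a => n23 (hB₂.unique hc p (a ▸ hB₃))⟩

theorem Maps.meet_iff {L L' M M' : Submodule F (ι → F)} (hβ : Nice β) (h : Maps β L M) (h' : Maps β L' M') :
    Meet L L' ↔ Meet M M' :=
  ⟨hβ.1 _ _ _ _ h h', hβ.2 _ _ _ _ (h.symm hc p) (h'.symm hc p)⟩

omit hc in
/-- Away from the eight-dimensional plus space every automorphism keeps meeting lines meeting. -/
theorem nice (hc : Ctx Q) (β : MulAut (Cfsg.POmega F ⇑Q)) : Nice β := by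
  have key : ∀ γ : MulAut (Cfsg.POmega F ⇑Q), MeetPres γ := fun γ L L' M M' h h' hm => by
    rw [AutPOmega.meet_iff hc.toPre hc.notD4 h.1 h'.1] at hm
    rw [AutPOmega.meet_iff hc.toPre hc.notD4 h.2.1 h'.2.1]
    refine ⟨fun e => hm.1 (h.inj hc.toPre p (e ▸ h')), h.com hc.toPre p h' hm.2.1,
      hm.2.2.imp (h.adj hc.toPre p h') fun hn hg => hn ?_⟩
    exact (h.symm hc.toPre p).grid hc.toPre p (h'.symm hc.toPre p) hg
  exact ⟨key β, key β⁻¹⟩

omit [Fintype F] p [Fact p.Prime] [CharP F p] hc in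
/-- The star of a point through two non-adjacent lines. -/
theorem star_iff {L M : Submodule F (ι → F)} (hL : IsLine Q L) (hM : IsLine Q M) {e : ι → F} (he0 : e ≠ 0)
    (heL : e ∈ L) (heM : e ∈ M) (hne : L ≠ M) (ho : ¬ Orth Q L M) {N : Submodule F (ι → F)} (hN : IsLine Q N) :
    e ∈ N ↔ N = L ∨ N = M ∨ (Meet N L ∧ Meet N M) := by
  constructor
  · intro h
    by_cases h1 : N = L
    · exact Or.inl h1
    by_cases h2 : N = M
    · exact Or.inr (Or.inl h2)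
    exact Or.inr (Or.inr ⟨⟨h1, e, he0, h, heL⟩, h2, e, he0, h, heM⟩)
  · rintro (rfl | rfl | ⟨⟨-, a, ha0, haN, haL⟩, -, c, hc0, hcN, hcM⟩)
    · exact heL
    · exact heM
    by_contra heN
    obtain ⟨u, hu, hpu, hLe⟩ := hL.exists_pr heL he0
    obtain ⟨w, hw, hpw, hMe⟩ := hM.exists_pr heM he0
    have huw : polar (⇑Q) u w ≠ 0 := fun h0 => ho fun x hx y hy => by
      rw [hLe] at hx; rw [hMe] at hy
      obtain ⟨c₁, c₂, rfl⟩ := mem_ln.1 hx
      obtain ⟨d₁, d₂, rfl⟩ := mem_ln.1 hy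
      simp [polar_add_left, polar_add_right, polar_smul_left, polar_smul_right, polar_singular hpu.he, hpw.hev,
        polar_comm (⇑Q) u e, hpu.hev, h0]
    rw [hLe] at haL; rw [hMe] at hcM
    obtain ⟨a₁, a₂, hae⟩ := mem_ln.1 haL
    obtain ⟨c₁, c₂, hce⟩ := mem_ln.1 hcM
    have h0 := hN.polar_mem haN hcN
    rw [← hae, ← hce] at h0
    simp [polar_add_left, polar_add_right, polar_smul_left, polar_smul_right, polar_singular hpu.he, hpw.hev,
      polar_comm (⇑Q) u e, hpu.hev, huw] at h0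
    have key : ∀ {a s : F} {x z : ι → F}, z ≠ 0 → z ∈ N → s • e + a • x = z → a ≠ 0 := fun {a s x z} hz0 hzN hz ha => by
      rw [ha, zero_smul, add_zero] at hz
      have hs : s ≠ 0 := fun hs => hz0 (by rw [← hz, hs, zero_smul])
      exact heN (by simpa [hs] using N.smul_mem s⁻¹ (hz ▸ hzN : s • e ∈ N))
    rcases h0 with h0 | h0
    · exact key hc0 hcN hce h0
    · exact key ha0 haN hae h0

/-- The point map. -/
theorem exists_ptMaps {e : ι → F} (he0 : e ≠ 0) (he : Q e = 0) (β : MulAut (Cfsg.POmega F ⇑Q)) (hβ : Nice β) :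
    ∃ e', PtMaps β e e' := by
  obtain ⟨u, v, hu, hv, huv, -⟩ := exists_two_lines hc he0 he
  have hno : ¬ Orth Q (ln e u) (ln e v) := fun h =>
    one_ne_zero (huv.symm.trans (h u (right_mem_ln e u) v (right_mem_ln e v)))
  have hne : ln e u ≠ ln e v := fun h =>
    one_ne_zero (huv.symm.trans (hv.polar_mem (h ▸ right_mem_ln e u) (right_mem_ln e v)))
  have hm : Meet (ln e u) (ln e v) := ⟨hne, e, he0, left_mem_ln e u, left_mem_ln e v⟩
  obtain ⟨A, hA⟩ := maps_exists hc p (⟨e, u, hu, rfl⟩ : IsLine Q (ln e u)) β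
  obtain ⟨B, hB⟩ := maps_exists hc p (⟨e, v, hv, rfl⟩ : IsLine Q (ln e v)) β
  obtain ⟨hAB, e', he0', he'A, he'B⟩ := hβ.1 _ _ _ _ hA hB hm
  have hno' : ¬ Orth Q A B := fun h => hno ((hA.adj_iff hc p hB).2 ⟨⟨hAB, e', he0', he'A, he'B⟩, h⟩).2
  refine ⟨e', he0, he, he0', hA.2.1.singular he'A, fun L M hLM => ?_⟩
  rw [star_iff hA.1 hB.1 he0 (left_mem_ln e u) (left_mem_ln e v) hne hno hLM.1,
    star_iff hA.2.1 hB.2.1 he0' he'A he'B hAB hno' hLM.2.1, hLM.meet_iff hc p hβ hA, hLM.meet_iff hc p hβ hB]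
  refine or_congr ?_ (or_congr ?_ Iff.rfl)
  · exact ⟨fun h => (hLM.unique hc p (h ▸ hA)), fun h => hLM.inj hc p (h ▸ hA)⟩
  · exact ⟨fun h => (hLM.unique hc p (h ▸ hB)), fun h => hLM.inj hc p (h ▸ hB)⟩

theorem PtMaps.unique {e e' e'' : ι → F} (h : PtMaps β e e') (h' : PtMaps β e e'') :
    ∃ c : F, e'' = c • e' := by
  obtain ⟨u, v, hu, hv, -, hint⟩ := exists_two_lines hc h.2.2.1 h.2.2.2.1
  obtain ⟨L₁, hL₁⟩ := maps_exists' hc p (⟨e', u, hu, rfl⟩ : IsLine Q (ln e' u)) β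
  obtain ⟨L₂, hL₂⟩ := maps_exists' hc p (⟨e', v, hv, rfl⟩ : IsLine Q (ln e' v)) β
  have m1 := (h.2.2.2.2 _ _ hL₁).2 (left_mem_ln e' u)
  have m2 := (h.2.2.2.2 _ _ hL₂).2 (left_mem_ln e' v)
  obtain ⟨c, hc'⟩ := Submodule.mem_span_singleton.1
    (hint _ ((h'.2.2.2.2 _ _ hL₁).1 m1) ((h'.2.2.2.2 _ _ hL₂).1 m2))
  exact ⟨c, hc'.symm⟩

omit [Fintype F] p [Fact p.Prime] [CharP F p] in
theorem exists_line_through [Fintype F] {x y : ι → F} (hx0 : x ≠ 0) (hx : Q x = 0) (hy : Q y = 0)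
    (h : polar (⇑Q) x y = 0) : ∃ L, IsLine Q L ∧ x ∈ L ∧ y ∈ L := by
  by_cases hm : y ∈ Submodule.span F {x}
  · obtain ⟨u, -, hu, -, -, -⟩ := exists_two_lines hc hx0 hx
    exact ⟨ln x u, ⟨x, u, hu, rfl⟩, left_mem_ln x u,
      (Submodule.span_singleton_le_iff_mem x (ln x u)).2 (left_mem_ln x u) hm⟩
  · exact ⟨ln x y, ⟨x, y, Pr.of_not_mem hx0 hx hy h hm, rfl⟩, left_mem_ln x y, right_mem_ln x y⟩

theorem PtMaps.orth {x y x' y' : ι → F} (h : PtMaps β x x') (h' : PtMaps β y y') :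
    polar (⇑Q) x y = 0 ↔ polar (⇑Q) x' y' = 0 := by
  constructor
  · intro h0
    obtain ⟨L, hL, hxL, hyL⟩ := exists_line_through hc h.1 h.2.1 h'.2.1 h0
    obtain ⟨M, hM⟩ := maps_exists hc p hL β
    exact hM.2.1.polar_mem ((h.2.2.2.2 _ _ hM).1 hxL) ((h'.2.2.2.2 _ _ hM).1 hyL)
  · intro h0
    obtain ⟨M, hM, hxM, hyM⟩ := exists_line_through hc h.2.2.1 h.2.2.2.1 h'.2.2.2.1 h0
    obtain ⟨L, hL⟩ := maps_exists' hc p hM β
    exact hL.1.polar_mem ((h.2.2.2.2 _ _ hL).2 hxM) ((h'.2.2.2.2 _ _ hL).2 hyM)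

end Cfsg.Agent.AutPOmega
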