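import Cfsg.Agent.AutPOmega.Linear

/-!
Rigidity, and the theorem that every automorphism is induced by a semisimilarity.
-/

set_option autoImplicit false

namespace Cfsg.Agent.AutPOmega

open Module QuadraticMap Classical Classical.Quad Matrix

variable {ι : Type} [Fintype ι] [DecidableEq ι] {F : Type*} [Field F] {Q : QuadraticForm F (ι → F)}

theorem Semi.app_mem_ln (T : Semi Q) {e v z : ι → F} : T.app z ∈ ln (T.app e) (T.app v) ↔ z ∈ ln e v := by
  rw [mem_ln, mem_ln]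
  constructor
  · rintro ⟨s, t, h⟩
    refine ⟨T.σ.symm s, T.σ.symm t, T.app_injective ?_⟩
    rw [T.app_add, T.app_smul, T.app_smul, T.σ.apply_symm_apply, T.σ.apply_symm_apply, h]
  · rintro ⟨s, t, rfl⟩
    exact ⟨T.σ s, T.σ t, by rw [T.app_add, T.app_smul, T.app_smul]⟩

theorem Semi.app_ne_zero (T : Semi Q) {z : ι → F} (hz : z ≠ 0) : T.app z ≠ 0 := fun h => hz (T.app_injective
  (h.trans (by simpa using (T.app_smul 0 0).symm)))

theorem Semi.app_pr (T : Semi Q) {e v : ι → F} (h : Pr Q e v) : Pr Q (T.app e) (T.app v) :=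
  Pr.of_not_mem (T.app_ne_zero h.e_ne) (by rw [T.Q_app, h.he, map_zero, mul_zero])
    (by rw [T.Q_app, h.hv, map_zero, mul_zero]) (by rw [T.polar_app, h.hev, map_zero, mul_zero]) fun hm => by
      obtain ⟨r, hr⟩ := Submodule.mem_span_singleton.1 hm
      rw [show r = T.σ (T.σ.symm r) from (T.σ.apply_symm_apply r).symm, ← T.app_smul] at hr
      exact h.not_mem (Submodule.mem_span_singleton.2 ⟨_, T.app_injective hr⟩)

variable (hc : Pre Q) (p : ℕ) [Fact p.Prime] [CharP F p] [Fintype F]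
include hc p

theorem Maps.comp {β γ : MulAut (Cfsg.POmega F ⇑Q)} {L M N : Submodule F (ι → F)} (h : Maps β L M)
    (h' : Maps γ M N) : Maps (γ * β) L N := ⟨h.1, h'.2.1, fun s hs => by
  obtain ⟨t, ht, e⟩ := h.2.2 s hs
  obtain ⟨r, hr, e'⟩ := h'.2.2 t ht
  exact ⟨r, hr, by rw [MulAut.mul_apply, e, e']⟩⟩

theorem PtMaps.comp {β γ : MulAut (Cfsg.POmega F ⇑Q)} {x y z : ι → F} (h : PtMaps β x y) (h' : PtMaps γ y z) :
    PtMaps (γ * β) x z := ⟨h.1, h.2.1, h'.2.2.1, h'.2.2.2.1, fun L N hLN => by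
  obtain ⟨M, hM⟩ := maps_exists hc p hLN.1 β
  obtain ⟨N', hN'⟩ := maps_exists hc p hM.2.1 γ
  rw [hLN.unique hc p (hM.comp hc p hN'), h.2.2.2.2 _ _ hM, h'.2.2.2.2 _ _ hN']⟩

theorem PtMaps.symm {β : MulAut (Cfsg.POmega F ⇑Q)} {x y : ι → F} (h : PtMaps β x y) : PtMaps β⁻¹ y x :=
  ⟨h.2.2.1, h.2.2.2.1, h.1, h.2.1, fun L M hLM => by
    have h1 := hLM.symm hc p
    rw [inv_inv] at h1
    exact (h.2.2.2.2 _ _ h1).symm⟩

omit [Fintype F] in
theorem Semi.maps_aut (T : Semi Q) {e v : ι → F} (h : Pr Q e v) :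
    Maps T.aut (ln e v) (ln (T.app e) (T.app v)) := by
  refine ⟨⟨e, v, h, rfl⟩, ⟨_, _, T.app_pr h, rfl⟩, fun s hs => ?_⟩
  obtain ⟨t, rfl⟩ := (InX.iff_param hc h).1 hs
  refine ⟨T.omAut (sg Q e (t • v)), ?_, T.aut_mkO _⟩
  rw [T.omAut_sg hc (h.isSg t), T.app_smul, smul_smul]
  exact (InX.iff_param hc (T.app_pr h)).2 ⟨_, rfl⟩

theorem Semi.ptMaps_aut (T : Semi Q) {x : ι → F} (hx0 : x ≠ 0) (hx : Q x = 0) : PtMaps T.aut x (T.app x) :=
  ⟨hx0, hx, T.app_ne_zero hx0, by rw [T.Q_app, hx, map_zero, mul_zero], fun L M hLM => by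
    obtain ⟨e, v, h, rfl⟩ := hLM.1
    rw [hLM.unique hc p (T.maps_aut hc p h), T.app_mem_ln]⟩

omit hc p [Fact p.Prime] [CharP F p] [Fintype F] in
theorem PtMaps.smul {β : MulAut (Cfsg.POmega F ⇑Q)} {x y : ι → F} (h : PtMaps β x y) {r : F} (hr : r ≠ 0) :
    PtMaps β x (r • y) := ⟨h.1, h.2.1, smul_ne_zero hr h.2.2.1, by rw [Quad.map_smul', h.2.2.2.1, mul_zero],
  fun L M hLM => by rw [h.2.2.2.2 L M hLM, Submodule.smul_mem_iff _ hr]⟩

/-- The correcting semisimilarity. -/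
theorem exists_semi_fix {β : MulAut (Cfsg.POmega F ⇑Q)} {a b : ι → F} (H : HPair Q a b) (ha : PtMaps β a a)
    (hb : PtMaps β b b) : ∃ T : Semi Q, PtMaps (T.aut⁻¹ * β) a a ∧ PtMaps (T.aut⁻¹ * β) b b ∧
      ∀ w, InW Q a b w → (T.aut⁻¹ * β) (mkO (sg Q a w)) = mkO (sg Q a w) := by
  obtain ⟨φ, hφ⟩ := exists_phi hc p H ha
  obtain ⟨θ, c, hc0, hθ⟩ := hφ.semilinear hc p H ha
  let f : (ι → F) → ι → F := fun x =>
    θ (polar (⇑Q) x b) • c • a + θ (polar (⇑Q) x a) • b + φ (proj Q a b x)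
  have hf_add : ∀ x y, f (x + y) = f x + f y := fun x y => by
    have e : proj Q a b (x + y) = proj Q a b x + proj Q a b y := by
      simp only [proj, polar_add_left]; module
    simp only [f, polar_add_left, map_add, e, hφ.add hc p H (H.proj_mem x) (H.proj_mem y)]
    module
  have hf_smul : ∀ (r : F) x, f (r • x) = θ r • f x := fun r x => by
    have e : proj Q a b (r • x) = r • proj Q a b x := by
      simp only [proj, polar_smul_left, smul_eq_mul]; module
    simp only [f, polar_smul_left, smul_eq_mul, map_mul, e, (hθ _ (H.proj_mem x)).2 r]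
    module
  have hf_Q : ∀ x, Q (f x) = c * θ (Q x) := fun x => by
    conv_rhs => rw [eq_proj (Q := Q) a b x, H.map_comb (H.proj_mem x), map_add, map_mul]
    simp only [f, smul_smul]
    rw [H.map_comb (hφ _ (H.proj_mem x)).1, (hθ _ (H.proj_mem x)).1]
    ring
  have hf_inj : ∀ x, f x = 0 → x = 0 := fun x hx => by
    have hw := (hφ _ (H.proj_mem x)).1
    have e1 := congrArg (fun z => polar (⇑Q) z b) hx
    have e2 := congrArg (fun z => polar (⇑Q) z a) hx
    simp [f, polar_add_left, polar_smul_left, H.hab, H.bb, hw.2, hc0] at e1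
    simp [f, polar_add_left, polar_smul_left, H.aa, H.ba, hw.1] at e2
    simp only [f, e1, e2, map_zero, zero_smul, zero_add] at hx
    have e3 : proj Q a b x = 0 := hφ.inj hc p H (H.proj_mem x) inW_zero (hx.trans (hφ.zero hc p H).symm)
    rw [eq_proj (Q := Q) a b x, e1, e2, e3]
    simp
  let fl : (ι → F) →ₗ[F] (ι → F) :=
    { toFun := fun x => f fun i => θ.symm (x i)
      map_add' := fun x y => by
        rw [← hf_add]
        exact congrArg f (funext fun i => map_add θ.symm _ _)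
      map_smul' := fun r x => by
        rw [RingHom.id_apply]
        conv_rhs => rw [← θ.apply_symm_apply r, ← hf_smul]
        exact congrArg f (funext fun i => map_mul θ.symm _ _) }
  have hfl : Function.Injective fl := (injective_iff_map_eq_zero fl).2 fun x hx => by
    have := hf_inj _ hx
    funext i
    exact θ.symm.injective ((congrFun this i).trans (map_zero θ.symm).symm)
  have hM : IsUnit (LinearMap.toMatrix' fl) := by
    rw [← Matrix.mulVec_injective_iff_isUnit]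
    intro x y hxy
    rw [LinearMap.toMatrix'_mulVec, LinearMap.toMatrix'_mulVec] at hxy
    exact hfl hxy
  let T : Semi Q :=
    { g := hM.unit
      σ := θ
      c := c
      c_ne := hc0
      map_Q := fun v => by
        rw [IsUnit.unit_spec, LinearMap.toMatrix'_mulVec]
        show Q (f fun i => θ.symm (θ (v i))) = _
        simp only [RingEquiv.symm_apply_apply]
        exact hf_Q v }
  have hT : ∀ v, T.app v = f v := fun v => by
    show hM.unit.1 *ᵥ _ = _
    rw [IsUnit.unit_spec, LinearMap.toMatrix'_mulVec]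
    show (f fun i => θ.symm (θ (v i))) = _
    simp only [RingEquiv.symm_apply_apply]
  have hTa : T.app a = c • a := by
    rw [hT]
    simp [f, H.hab, H.aa, proj, hφ.zero hc p H]
  have hTb : T.app b = b := by
    rw [hT]
    simp [f, H.ba, H.bb, proj, hφ.zero hc p H]
  have hTw : ∀ w, InW Q a b w → T.app w = φ w := fun w hw => by
    rw [hT]
    simp [f, hw.1, hw.2, proj_eq hw]
  refine ⟨T, ?_, ?_, fun w hw => ?_⟩
  · refine ha.comp hc p ((T.ptMaps_aut hc p H.a_ne H.ha).symm hc p |> fun h => ?_)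
    rw [hTa] at h
    exact ⟨H.a_ne, H.ha, H.a_ne, H.ha, fun L M hLM => by
      rw [← h.2.2.2.2 L M hLM, Submodule.smul_mem_iff _ hc0]⟩
  · refine hb.comp hc p ?_
    have h := (T.ptMaps_aut hc p H.b_ne H.hb).symm hc p
    rwa [hTb] at h
  · have e : T.aut (mkO (sg Q a w)) = mkO (sg Q a (φ w)) := by
      rw [T.aut_mkO, T.omAut_sg hc (hw.isSg H), hTa, hTw w hw,
        sg_smul hc (((hφ w hw).1.isSg H).smul _), smul_smul]
      rw [show c * T.c⁻¹ = 1 from mul_inv_cancel₀ hc0, one_smul]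
    rw [MulAut.mul_apply, (hφ w hw).2, ← e]
    exact T.aut.symm_apply_apply _

/-- An automorphism fixing one radical and the opposite point fixes the opposite radical. -/
theorem fix_opposite {β : MulAut (Cfsg.POmega F ⇑Q)} (hβ : Nice β) {a b : ι → F} (H : HPair Q a b) (ha : PtMaps β a a)
    (hb : PtMaps β b b) (hfix : ∀ w, InW Q a b w → β (mkO (sg Q a w)) = mkO (sg Q a w)) {y : ι → F}
    (hy : InW Q a b y) (hQy : Q y = 0) : β (mkO (sg Q b y)) = mkO (sg Q b y) := by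
  by_cases hy0 : y = 0
  · rw [hy0, sg_zero hc H.hb, map_one, map_one]
  have hpa := hy.pr H hQy hy0
  have hpb := hy.swap.pr H.symm hQy hy0
  have hL : Maps β (ln a y) (ln a y) := by
    obtain ⟨M, hM⟩ := maps_exists hc p (⟨a, y, hpa, rfl⟩ : IsLine Q (ln a y)) β
    obtain ⟨s', hs', es⟩ := hM.2.2 _ ((InX.iff_param hc hpa).2 ⟨1, rfl⟩)
    rw [one_smul, hfix y hy] at es
    have e := Maps.elt_inj hc p hM.1 hM.2.1 ((InX.iff_param hc hpa).2 ⟨1, by rw [one_smul]⟩) hs' es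
    have h1 : sg Q a y ≠ 1 := by simpa using hpa.sg_ne_one hc (one_ne_zero (α := F))
    rwa [IsLine.eq_of_sg hc hM.2.1 hM.1 (e ▸ hs') ((InX.iff_param hc hpa).2 ⟨1, by rw [one_smul]⟩) h1] at hM
  obtain ⟨M, hM⟩ := maps_exists hc p (⟨b, y, hpb, rfl⟩ : IsLine Q (ln b y)) β
  have hbM := (hb.2.2.2.2 _ _ hM).1 (left_mem_ln b y)
  have hmeet : Meet (ln a y) (ln b y) := by
    refine ⟨fun h => ?_, y, hy0, right_mem_ln a y, right_mem_ln b y⟩
    exact one_ne_zero (H.hab.symm.trans (hpb.polar_mem (h ▸ left_mem_ln a y) (left_mem_ln b y)))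
  obtain ⟨-, z, hz0, hzL, hzM⟩ := hβ.1 _ _ _ _ hL hM hmeet
  obtain ⟨s, t, hz⟩ := mem_ln.1 hzL
  have hzb := hM.2.1.polar_mem hzM hbM
  rw [← hz, polar_add_left, polar_smul_left, polar_smul_left, H.hab, hy.2] at hzb
  simp at hzb
  have ht : t ≠ 0 := fun ht => hz0 (by rw [← hz, hzb, ht]; simp)
  have hyM : y ∈ M := by
    rw [hzb, zero_smul, zero_add] at hz
    simpa [ht] using M.smul_mem t⁻¹ (hz ▸ hzM : t • y ∈ M)
  rw [hM.2.1.eq_ln hbM hyM hpb] at hM
  obtain ⟨s', hs', es⟩ := hM.2.2 _ ((InX.iff_param hc hpb).2 ⟨1, rfl⟩)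
  obtain ⟨k, rfl⟩ := (InX.iff_param hc hpb).1 hs'
  rw [one_smul] at es
  -- the braid relation
  obtain ⟨g, hg, hyg⟩ : ∃ g, InW Q a b g ∧ polar (⇑Q) y g = 1 := by
    obtain ⟨g, -, hg⟩ := exists_hyp_pair hc.nondeg hy0 hQy
    refine ⟨proj Q a b g, H.proj_mem g, ?_⟩
    rw [proj, polar_sub_right, polar_sub_right, polar_smul_right, polar_smul_right, hg, hy.1, hy.2]
    simp
  set w := g + (-Q g) • y with hw
  have hwW : InW Q a b w := hg.add (hy.smul _)
  have hwQ : Q w = 0 := by rw [hw, map_add_smul, hQy, polar_comm, hyg]; ring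
  have hyw : polar (⇑Q) y w = 1 := by
    rw [hw, polar_add_right, polar_smul_right, polar_singular hQy, hyg, smul_zero, add_zero]
  have hsw := hwW.isSg H
  have hsy : ∀ k : F, IsSg Q b (k • y) := fun k => (hy.smul k).swap.isSg H.symm
  have hsy1 : IsSg Q b y := hy.swap.isSg H.symm
  set X := sg Q a w with hX
  set Y := sg Q b y with hY
  set Y' := sg Q b (k • y) with hY'
  have e1 : ∀ v, mat X *ᵥ v = v + polar (⇑Q) v w • a - polar (⇑Q) v a • w := fun v => by
    rw [sg_mulVec hc hsw, sgMap, hwQ, zero_mul, zero_smul, sub_zero]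
  have e2 : ∀ (r : F) v, mat (sg Q b (r • y)) *ᵥ v = v + (r * polar (⇑Q) v y) • b - polar (⇑Q) v b • r • y :=
    fun r v => by
      rw [sg_mulVec hc (hsy r), sgMap, Quad.map_smul', hQy, polar_smul_right, smul_eq_mul]
      simp
  have hbraid : X * Y * X = Y * X * Y := om_ext_mulVec fun v => by
    rw [hY, ← one_smul F y, mat_mul_mulVec, mat_mul_mulVec, mat_mul_mulVec, mat_mul_mulVec]
    simp only [e1, e2, polar_add_left, polar_sub_left, polar_smul_left, smul_eq_mul, H.aa, H.bb, H.hab, H.ba,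
      hwW.1, hwW.2, hwW.ax, hwW.bx, hy.1, hy.2, hy.ax, hy.bx, polar_singular hwQ, polar_singular hQy, hyw,
      polar_comm (⇑Q) w y]
    module
  have himg : mkO (X * Y' * X) = mkO (Y' * X * Y') := by
    have := congrArg (fun s => β (mkO s)) hbraid
    simp only [map_mul] at this
    rw [hfix w hwW, show β (mkO Y) = mkO Y' from es] at this
    simpa only [map_mul] using this
  have hz : (Y' * X * Y')⁻¹ * (X * Y' * X) ∈ Subgroup.center (Om Q) :=
    mkO_eq_one_iff.1 (by rw [map_mul, map_inv, himg, inv_mul_cancel])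
  obtain ⟨ε, hε⟩ := center_scalar hc hz
  obtain ⟨u, hu0, -, hup⟩ := exists_singular_perp (Q := Q) ![a, b, w, y] (by have := hc.seven; omega)
  have u1 : polar (⇑Q) u a = 0 := hup 0
  have u2 : polar (⇑Q) u b = 0 := hup 1
  have u3 : polar (⇑Q) u w = 0 := hup 2
  have u4 : polar (⇑Q) u y = 0 := hup 3
  have hlr : ∀ v, mat (X * Y' * X) *ᵥ v = ε • (mat (Y' * X * Y') *ᵥ v) := fun v => by
    rw [← Matrix.mulVec_smul, ← hε v, ← mat_mul_mulVec, mul_inv_cancel_left]
  have hε1 : ε = 1 := by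
    have h := hlr u
    rw [mat_mul_mulVec, mat_mul_mulVec, mat_mul_mulVec, mat_mul_mulVec, hY'] at h
    simp [e1, e2, u1, u2, u3, u4] at h
    have h0 : (ε - 1) • u = 0 := by rw [sub_smul, one_smul, ← h, sub_self]
    exact sub_eq_zero.1 ((smul_eq_zero.1 h0).resolve_right hu0)
  have h := congrArg (fun v => polar (⇑Q) v y) (hlr b)
  rw [hε1, one_smul, mat_mul_mulVec, mat_mul_mulVec, mat_mul_mulVec, mat_mul_mulVec, hY'] at h
  simp only [e1, e2, polar_add_left, polar_sub_left, polar_smul_left, smul_eq_mul, H.aa, H.bb, H.hab, H.ba,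
    hwW.1, hwW.2, hwW.ax, hwW.bx, hy.1, hy.2, hy.ax, hy.bx, polar_singular hwQ, polar_singular hQy, hyw,
    polar_comm (⇑Q) w y] at h
  have hk : k = 1 := by linear_combination h
  rw [hY', hk, one_smul] at es
  exact es

/-- An automorphism fixing two opposite radicals is trivial. -/
theorem rigid {β : MulAut (Cfsg.POmega F ⇑Q)} {a b : ι → F} (H : HPair Q a b)
    (hA : ∀ w, InW Q a b w → β (mkO (sg Q a w)) = mkO (sg Q a w))
    (hB : ∀ w, InW Q a b w → β (mkO (sg Q b w)) = mkO (sg Q b w)) : β = 1 := by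
  have hmem : ∀ {s : Om Q}, β (mkO s) = mkO s → ∀ {t : Om Q}, β (mkO t) = mkO t → β (mkO (s * t)) = mkO (s * t) :=
    fun {s} hs {t} ht => by rw [map_mul, map_mul, hs, ht]
  let G : Subgroup (Om Q) :=
    { carrier := {s | β (mkO s) = mkO s}
      one_mem' := by show β (mkO 1) = mkO 1; rw [map_one, map_one]
      mul_mem' := fun hs ht => hmem hs ht
      inv_mem' := fun {s} hs => by
        show β (mkO s⁻¹) = mkO s⁻¹
        rw [map_inv, map_inv, show β (mkO s) = mkO s from hs] }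
  -- orbit of the point
  have hfa : ∀ z, Q z = 0 → polar (⇑Q) z b ≠ 0 → ∃ h ∈ G, ∃ r : F, r ≠ 0 ∧ mat h *ᵥ a = r • z := by
    intro z hz hzb
    set s := polar (⇑Q) z b with hs
    set w := proj Q a b z with hw
    have hwW := H.proj_mem z
    refine ⟨sg Q b ((-s⁻¹) • w), hB _ (hwW.smul _), s⁻¹, inv_ne_zero hzb, ?_⟩
    have hQw : s * polar (⇑Q) z a + Q w = 0 := by rw [hs, hw, ← H.map_comb hwW, ← eq_proj]; exact hz
    rw [sg_mulVec hc ((hwW.smul _).swap.isSg H.symm), sgMap, H.hab, polar_smul_right, hwW.ax,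
      Quad.map_smul']
    conv_rhs => rw [eq_proj (Q := Q) a b z]
    rw [smul_zero, mul_one]
    rw [hw] at hQw
    match_scalars <;> field_simp <;> first | exact hs | linear_combination -hQw
  have hfb : ∀ z, Q z = 0 → polar (⇑Q) z a ≠ 0 → ∃ h ∈ G, ∃ r : F, r ≠ 0 ∧ mat h *ᵥ b = r • z := by
    intro z hz hzb
    set s := polar (⇑Q) z a with hs
    set w := proj Q b a z with hw
    have hwW : InW Q b a w := H.symm.proj_mem z
    refine ⟨sg Q a ((-s⁻¹) • w), hA _ (hwW.smul _).swap, s⁻¹, inv_ne_zero hzb, ?_⟩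
    have hQw : s * polar (⇑Q) z b + Q w = 0 := by rw [hs, hw, ← H.symm.map_comb hwW, ← eq_proj]; exact hz
    rw [sg_mulVec hc ((hwW.smul _).swap.isSg H), sgMap, H.ba, polar_smul_right, hwW.ax,
      Quad.map_smul']
    conv_rhs => rw [eq_proj (Q := Q) b a z]
    rw [smul_zero, mul_one]
    rw [hw] at hQw
    match_scalars <;> field_simp <;> first | exact hs | linear_combination -hQw
  obtain ⟨a₁, b₁, -, -, h₁, -, i₁, j₁, -⟩ := hc.exists_pairs H
  have hbG : ∃ h ∈ G, ∃ r : F, r ≠ 0 ∧ mat h *ᵥ a = r • b := by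
    set z := (1 : F) • a + (-1 : F) • b + ((1 : F) • a₁ + (1 : F) • b₁ + 0) with hz
    have hm : InW Q a b ((1 : F) • a₁ + (1 : F) • b₁ + 0) := ((i₁.smul 1).add (j₁.smul 1)).add inW_zero
    have hzQ : Q z = 0 := by rw [hz, H.map_comb hm, h₁.map_comb inW_zero]; simp
    have hzb : polar (⇑Q) z b = 1 := by simp [hz, polar_add_left, polar_smul_left, H.hab, H.bb, hm.2, polar_neg_left, i₁.2, j₁.2]
    have hza : polar (⇑Q) z a = -1 := by simp [hz, polar_add_left, polar_smul_left, H.aa, H.ba, hm.1, polar_neg_left, i₁.1, j₁.1]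
    obtain ⟨h, hh, r, hr, e⟩ := hfa z hzQ (by rw [hzb]; exact one_ne_zero)
    obtain ⟨h', hh', r', hr', e'⟩ := hfb z hzQ (by rw [hza]; exact neg_ne_zero.2 one_ne_zero)
    refine ⟨h'⁻¹ * h, mul_mem (inv_mem hh') hh, r * r'⁻¹, mul_ne_zero hr (inv_ne_zero hr'), ?_⟩
    rw [mat_mul_mulVec, e, Matrix.mulVec_smul, show mat h'⁻¹ *ᵥ z = r'⁻¹ • b by
      rw [← inv_smul_smul₀ hr' z, ← e', Matrix.mulVec_smul, mat_inv_mulVec], smul_smul]
  have horb : ∀ z, z ≠ 0 → Q z = 0 → ∃ h ∈ G, ∃ r : F, r ≠ 0 ∧ mat h *ᵥ a = r • z := by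
    intro z hz0 hz
    by_cases hzb : polar (⇑Q) z b = 0
    swap
    · exact hfa z hz hzb
    by_cases hza : polar (⇑Q) z a = 0
    swap
    · obtain ⟨h, hh, r, hr, e⟩ := hfb z hz hza
      obtain ⟨h', hh', r', hr', e'⟩ := hbG
      exact ⟨h * h', mul_mem hh hh', r' * r, mul_ne_zero hr' hr, by
        rw [mat_mul_mulVec, e', Matrix.mulVec_smul, e, smul_smul]⟩
    obtain ⟨g, -, hg⟩ := exists_hyp_pair hc.nondeg hz0 hz
    have hy : polar (⇑Q) z (proj Q a b g) = 1 := by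
      rw [proj, polar_sub_right, polar_sub_right, polar_smul_right, polar_smul_right, hg, hza, hzb]
      simp
    have hs := (H.proj_mem g).isSg H
    set z' := mat (sg Q a (proj Q a b g)) *ᵥ z with hz'
    have hz'b : polar (⇑Q) z' b ≠ 0 := by
      rw [hz', sg_mulVec hc hs, sgMap, hy, hza]
      simp [polar_add_left, polar_smul_left, hzb, H.hab]
    obtain ⟨h, hh, r, hr, e⟩ := hfa z' (by rw [hz', Q_mat, hz]) hz'b
    exact ⟨(sg Q a (proj Q a b g))⁻¹ * h, mul_mem (inv_mem (hA _ (H.proj_mem g))) hh, r, hr, by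
      rw [mat_mul_mulVec, e, Matrix.mulVec_smul, hz', mat_inv_mulVec]⟩
  have hall : ∀ e v, Pr Q e v → β (mkO (sg Q e v)) = mkO (sg Q e v) := by
    intro e v hp
    obtain ⟨h, hh, r, hr, he⟩ := horb e hp.e_ne hp.he
    set u := mat h⁻¹ *ᵥ v with hu
    have he' : mat h *ᵥ (r⁻¹ • a) = e := by rw [Matrix.mulVec_smul, he, inv_smul_smul₀ hr]
    have hu2 : mat h *ᵥ u = v := by rw [hu, mat_mulVec_inv]
    have hau : polar (⇑Q) (r⁻¹ • a) u = 0 := by rw [← polar_mat h, he', hu2, hp.hev]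
    rw [polar_smul_left, smul_eq_mul, mul_eq_zero] at hau
    have hau' : polar (⇑Q) a u = 0 := hau.resolve_left (inv_ne_zero hr)
    have hsu : IsSg Q a (r⁻¹ • u) := IsSg.smul ⟨H.ha, hau'⟩ _
    have e1 : sg Q a (r⁻¹ • u) = sg Q a (r⁻¹ • proj Q a b u) := by
      rw [← sg_add_smul hc (((H.proj_mem u).smul r⁻¹).isSg H) (r⁻¹ * polar (⇑Q) u b)]
      congr 1
      conv_lhs => rw [eq_proj (Q := Q) a b u, polar_comm (⇑Q) u a, hau', zero_smul, add_zero]
      module
    have hmem : sg Q a (r⁻¹ • u) ∈ G := by rw [e1]; exact hA _ ((H.proj_mem u).smul _)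
    have e2 : sg Q e v = h * sg Q a (r⁻¹ • u) * h⁻¹ := by
      rw [← sg_smul hc ⟨H.ha, hau'⟩, conj_sg hc ⟨by rw [Quad.map_smul', H.ha, mul_zero],
        by rw [polar_smul_left, hau', smul_zero]⟩, he', hu2]
    rw [e2]
    exact mul_mem (mul_mem hh hmem) (inv_mem hh)
  refine autExt fun g => ?_
  obtain ⟨g', hg'⟩ := mkO_surjective (β (mkO g))
  have hfix : ∀ e v, Pr Q e v → mat (g'⁻¹ * g) *ᵥ e ∈ ln e v := by
    intro e v hp
    set k := g'⁻¹ * g with hk
    have hs : IsSg Q e v := ⟨hp.he, hp.hev⟩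
    have h1 : β (mkO (g * sg Q e v * g⁻¹)) = mkO (g * sg Q e v * g⁻¹) := by
      rw [conj_sg hc hs]
      exact hall _ _ ⟨by rw [Q_mat, hp.he], by rw [Q_mat, hp.hv], by rw [polar_mat, hp.hev],
        LinearIndependent.pair_iff.2 fun s t hst => hp.indep (mat_injective g (by
          rw [Matrix.mulVec_add, Matrix.mulVec_smul, Matrix.mulVec_smul, hst, Matrix.mulVec_zero]))⟩
    rw [map_mul, map_mul, map_inv, map_mul, map_mul, map_inv, hall e v hp, ← hg', ← map_inv, ← map_inv, ← map_mul,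
      ← map_mul, ← map_mul, ← map_mul, conj_sg hc hs, conj_sg hc hs] at h1
    have h2 := eq_of_mkO_eq hc p (sg_pow hc p (hs.conj g')) (sg_pow hc p (hs.conj g)) h1
    rw [← conj_sg hc hs, ← conj_sg hc hs] at h2
    have h3 : k * sg Q e v * k⁻¹ = sg Q e v := by
      have h4 : g'⁻¹ * (g' * sg Q e v * g'⁻¹) * g' = sg Q e v := by group
      rw [h2] at h4
      rw [hk]
      conv_rhs => rw [← h4]
      group
    rw [conj_sg hc hs] at h3
    exact sg_eq_ln hc (hs.conj k) (LinearIndependent.pair_iff.2 fun s t hst => hp.indep (mat_injective k (by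
      rw [Matrix.mulVec_add, Matrix.mulVec_smul, Matrix.mulVec_smul, hst, Matrix.mulVec_zero]))) hs h3
      (left_mem_ln _ _)
  obtain ⟨c, hc'⟩ := scalar_of_fix hc hfix
  rw [MulAut.one_apply, ← hg']
  have := mkO_eq_one_iff.2 (mem_center_of_scalar hc hc')
  rw [map_mul, map_inv, inv_mul_eq_one] at this
  exact this

theorem Semi.meetPres (T : Semi Q) : MeetPres T.aut := fun L L' M M' h h' hm => by
  obtain ⟨e, v, he, rfl⟩ := h.1
  obtain ⟨e', v', he', rfl⟩ := h'.1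
  obtain ⟨hne, x, hx0, hx1, hx2⟩ := hm
  have e1 := h.unique hc p (T.maps_aut hc p he)
  have e2 := h'.unique hc p (T.maps_aut hc p he')
  refine ⟨fun hMM => hne (h.inj hc p (hMM ▸ h')), T.app x, T.app_ne_zero hx0, ?_, ?_⟩
  · rw [e1]; exact (T.app_mem_ln).2 hx1
  · rw [e2]; exact (T.app_mem_ln).2 hx2

theorem Semi.nice_aut (T : Semi Q) : Nice T.aut := ⟨T.meetPres hc p, fun L L' M M' h h' hm => by
  have g := h.symm hc p
  have g' := h'.symm hc p
  rw [inv_inv] at g g'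
  obtain ⟨e, v, he, rfl⟩ := g.1
  obtain ⟨e', v', he', rfl⟩ := g'.1
  have e1 := g.unique hc p (T.maps_aut hc p he)
  have e2 := g'.unique hc p (T.maps_aut hc p he')
  obtain ⟨hne, x, hx0, hx1, hx2⟩ := hm
  rw [e1, ← T.app_inv x, T.app_mem_ln] at hx1
  rw [e2, ← T.app_inv x, T.app_mem_ln] at hx2
  refine ⟨fun hMM => hne (g.unique hc p (hMM ▸ g')), T.appInv x, fun h0 => hx0 ?_, hx1, hx2⟩
  rw [← T.app_inv x, h0]
  simpa using T.app_smul 0 0⟩

theorem MeetPres.mul {β γ : MulAut (Cfsg.POmega F ⇑Q)} (h : MeetPres β) (h' : MeetPres γ) : MeetPres (β * γ) :=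
  fun L L' M M' hL hL' hm => by
    obtain ⟨N, hN⟩ := maps_exists hc p hL.1 γ
    obtain ⟨N', hN'⟩ := maps_exists hc p hL'.1 γ
    have key : ∀ {A B C}, Maps γ A B → Maps (β * γ) A C → Maps β B C := fun {A B C} h1 h2 => by
      obtain ⟨C', hC'⟩ := maps_exists hc p h1.2.1 β
      rwa [h2.unique hc p (h1.comp hc p hC')]
    exact h _ _ _ _ (key hN hL) (key hN' hL') (h' _ _ _ _ hN hN' hm)

/-- Every automorphism keeping meeting lines meeting is induced by semisimilarities. -/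
theorem exists_decomp (β : MulAut (Cfsg.POmega F ⇑Q)) (hβ : Nice β) : ∃ T S : Semi Q, β = T.aut⁻¹ * S.aut := by
  obtain ⟨A, B, hp, -⟩ := hc.pairs
  set a := A 0
  set b := B 0
  have H : HPair Q a b := hp 0
  obtain ⟨a', ha'⟩ := exists_ptMaps hc p H.a_ne H.ha β hβ
  obtain ⟨b', hb'⟩ := exists_ptMaps hc p H.b_ne H.hb β hβ
  have hne : polar (⇑Q) a' b' ≠ 0 := fun h => one_ne_zero (H.hab.symm.trans ((ha'.orth hc p hb').2 h))
  set r := (polar (⇑Q) a' b')⁻¹
  have hb'' := hb'.smul (r := r) (inv_ne_zero hne)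
  have H' : HPair Q a' (r • b') := ⟨ha'.2.2.2.1, hb''.2.2.2.1, by
    rw [polar_smul_right, smul_eq_mul, inv_mul_cancel₀ hne]⟩
  have hli : ∀ {x y : ι → F}, HPair Q x y → LinearIndependent F ![x, y] := fun {x y} h =>
    LinearIndependent.pair_iff.2 fun s t hst => h.indep hst
  obtain ⟨g, hg, hgi⟩ := witt_family hc.nondeg 2 ![a', r • b'] ![a, b] (hli H') (hli H)
    (fun i => by fin_cases i <;> simp [H'.ha, H'.hb, H.ha, H.hb])
    (fun i j => by
      fin_cases i <;> fin_cases j <;> simp [H'.aa, H'.bb, H'.hab, H'.ba, H.aa, H.bb, H.hab, H.ba,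
        -polar_smul_left, -polar_smul_right])
  let G := Semi.ofIso g hg
  have hGa : G.app a' = a := by rw [Semi.ofIso_app]; exact hgi 0
  have hGb : G.app (r • b') = b := by rw [Semi.ofIso_app]; exact hgi 1
  have ha1 : PtMaps (G.aut * β) a a := by
    have := ha'.comp hc p (G.ptMaps_aut hc p ha'.2.2.1 ha'.2.2.2.1)
    rwa [hGa] at this
  have hb1 : PtMaps (G.aut * β) b b := by
    have := hb''.comp hc p (G.ptMaps_aut hc p hb''.2.2.1 hb''.2.2.2.1)
    rwa [hGb] at this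
  obtain ⟨T, hTa, hTb, hT⟩ := exists_semi_fix hc p H ha1 hb1
  refine ⟨G, T, ?_⟩
  have hN : Nice (T.aut⁻¹ * (G.aut * β)) := by
    refine ⟨MeetPres.mul hc p (T.nice_aut hc p).2 (MeetPres.mul hc p (G.meetPres hc p) hβ.1), ?_⟩
    rw [_root_.mul_inv_rev, _root_.mul_inv_rev, inv_inv]
    exact MeetPres.mul hc p (MeetPres.mul hc p hβ.2 (G.nice_aut hc p).2) (T.meetPres hc p)
  obtain ⟨a₁, b₁, -, -, h₁, -, i₁, j₁, -⟩ := hc.exists_pairs H
  have := rigid hc p H hT fun w hw =>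
    singular_induction (U := perpF Q ![a, b])
      (P := fun w => (T.aut⁻¹ * (G.aut * β)) (mkO (sg Q b w)) = mkO (sg Q b w)) h₁ (mem_perp_pair.2 i₁)
      (mem_perp_pair.2 j₁)
      (fun x hx y hy ex ey => by
        rw [← sg_mul hc ((mem_perp_pair.1 hx).swap.isSg H.symm) ((mem_perp_pair.1 hy).swap.isSg H.symm), map_mul,
          map_mul, ex, ey])
      (fun x hx hQx => fix_opposite hc p hN H hTa hTb hT (mem_perp_pair.1 hx) hQx) (mem_perp_pair.2 hw)
  rw [inv_mul_eq_one.1 this, inv_mul_cancel_left]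

omit hc p [Fact p.Prime] [CharP F p] [Fintype F] in
theorem gamma_eq_top (hc : Ctx Q) (p : ℕ) [Fact p.Prime] [CharP F p] [Fintype F] :
    Cfsg.gammaPOmega F ⇑Q = ⊤ := eq_top_iff.2 fun β _ => by
  obtain ⟨T, S, rfl⟩ := exists_decomp hc.toPre p β (nice p hc β)
  exact mul_mem (inv_mem T.aut_mem_gamma) S.aut_mem_gamma

end Cfsg.Agent.AutPOmega
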