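import Cfsg.Agent.AutPOmega.OddNormal
import Cfsg.Agent.AutPOmega.InvCent
import Cfsg.Agent.AutPOmega.Balance

/-!
The centraliser of a similarity whose square is a scalar: rigidity of the commuting Siegel transformations.
-/

set_option autoImplicit false

namespace Cfsg.Agent.AutPOmega

open Module QuadraticMap Classical.Quad Matrix

variable {ι : Type} [Fintype ι] [DecidableEq ι] {F : Type*} [Field F] {Q : QuadraticForm F (ι → F)}

/-- The isometries commuting with a linear map. -/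
def centL (Q : QuadraticForm F (ι → F)) (L : (ι → F) →ₗ[F] (ι → F)) : Subgroup (oG Q) where
  carrier := {g | ∀ v, g.1 (L v) = L (g.1 v)}
  mul_mem' := fun {g h} hg hh v => by rw [oG_mul_apply, oG_mul_apply, hh, hg]
  one_mem' := fun v => by simp
  inv_mem' := fun {g} hg v => g.1.injective (by rw [oG_apply_inv, hg, oG_apply_inv])

/-- The isometries of the commutator subgroup commuting with a linear map. -/
def centO (Q : QuadraticForm F (ι → F)) (L : (ι → F) →ₗ[F] (ι → F)) : Subgroup (oG Q) :=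
  commutator (oG Q) ⊓ centL Q L

/-- Rigidity of the centraliser of a linear map `L`: what commutes with it and normalises it is spanned by `1, L`. -/
structure Rigid (Q : QuadraticForm F (ι → F)) (L : (ι → F) →ₗ[F] (ι → F)) : Prop where
  semi : ∀ T : Semi Q, (∃ e : F, ∀ v, T.app (L v) = e • L (T.app v)) →
    (∀ h ∈ centO Q L, ∀ v, T.app ((h * h).1 v) = (h * h).1 (T.app v)) →
    ∃ a : F, a ≠ 0 ∧ ((∀ v, T.app v = a • v) ∨ ∀ v, T.app v = a • L v)
  normal : ∀ N ≤ centO Q L, (∀ s ∈ centO Q L, ∀ h ∈ N, s * h * s⁻¹ ∈ N) →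
    (∀ h ∈ N, ∃ (k : ℕ) (c : F), Odd k ∧ ∀ v, (h ^ k).1 v = c • v) →
    ∀ h ∈ N, ∃ a : F, a ≠ 0 ∧ ((∀ v, h.1 v = a • v) ∨ ∀ v, h.1 v = a • L v)

variable [Finite F]

/-- Automorphisms from isometries. -/
noncomputable def cA (Q : QuadraticForm F (ι → F)) : oG Q →* MulAut (Cfsg.POmega F ⇑Q) :=
  conjA.comp (isoToSim.comp (oEquiv Q).symm.toMonoidHom)

omit [Finite F] in
theorem cA_eq (h : oG Q) (T : Semi Q) (hT : ∀ v, T.app v = h.1 v) : cA Q h = T.aut := by
  show conjA (isoToSim ((oEquiv Q).symm h)) = _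
  rw [conjA_apply]
  refine Semi.aut_congr _ _ one_ne_zero fun v => ?_
  rw [one_smul, Semi.ofSim_app, hT]
  show ((oEquiv Q).symm h).1.1 *ᵥ v = _
  rw [← oEquiv_apply, MulEquiv.apply_symm_apply]

/-- The witness for an automorphism of order two induced by such a similarity. -/
theorem witness_rigid (hc : Ctx Q) {g₀ : Geo.quadSimilarityGroup (F := F) (⇑Q)} {l : F} (hl : l ≠ 0)
    (hL : ∀ v, Matrix.toLin' g₀.1.1 (Matrix.toLin' g₀.1.1 v) = l • v) (hR : Rigid Q (Matrix.toLin' g₀.1.1))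
    (hord : orderOf (conjA g₀) = 2) : LocalBalance.Witness 2 (conjA g₀) := by
  classical
  set L := Matrix.toLin' g₀.1.1 with hLdef
  have hLapp : ∀ v, (Semi.ofSim g₀).app v = L v := fun v => by
    rw [Semi.ofSim_app, hLdef, Matrix.toLin'_apply]
  have hval : ∀ (h : oG Q) v, (Semi.ofSim (isoToSim ((oEquiv Q).symm h))).app v = h.1 v := fun h v => by
    rw [Semi.ofSim_app]
    show ((oEquiv Q).symm h).1.1 *ᵥ v = _
    rw [← oEquiv_apply, MulEquiv.apply_symm_apply]
  have hcx : ∀ h ∈ centL Q L, cA Q h * conjA g₀ = conjA g₀ * cA Q h := fun h hh => by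
    rw [cA_eq h _ (hval h), conjA_apply, ← Semi.aut_comp, ← Semi.aut_comp]
    refine Semi.aut_congr _ _ one_ne_zero fun v => ?_
    rw [one_smul, Semi.app_comp, Semi.app_comp, hLapp, hLapp, hval, hval, hh]
  have hinn : ∀ h ∈ commutator (oG Q), cA Q h ∈ LocalBalance.innR (Cfsg.POmega F ⇑Q) := fun h hh => by
    refine ⟨mkO ⟨(oEquiv Q).symm h, (mem_omega_iff _).2 (by rwa [MulEquiv.apply_symm_apply])⟩, ?_⟩
    rw [← conjA_omToSim]
    rfl
  have hsq : ∀ (T : Semi Q), T.aut * conjA g₀ = conjA g₀ * T.aut →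
      ∃ e : F, ∀ v, T.app (L v) = e • L (T.app v) := fun T hT => by
    rw [conjA_apply, ← Semi.aut_comp, ← Semi.aut_comp] at hT
    obtain ⟨-, e, -, he⟩ := Semi.aut_eq_aut hc hT
    exact ⟨e, fun v => by rw [← hLapp, ← hLapp, ← Semi.app_comp, ← Semi.app_comp, he]⟩
  set X := LocalBalance.innR (Cfsg.POmega F ⇑Q) ⊓ Subgroup.centralizer {conjA g₀}
  have hX : ∀ h ∈ centO Q L, cA Q h ∈ X := fun h hh => Subgroup.mem_inf.2
    ⟨hinn h hh.1, Subgroup.mem_centralizer_singleton_iff.2 (hcx h hh.2)⟩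
  have hscal : ∀ (T : Semi Q) (a : F), a ≠ 0 → ((∀ v, T.app v = a • v) ∨ ∀ v, T.app v = a • L v) →
      T.aut = 1 ∨ T.aut = conjA g₀ := fun T a ha hT => by
    rcases hT with hT | hT
    · left
      rw [← map_one (conjA (Q := Q)), conjA_apply]
      refine Semi.aut_congr _ _ ha fun v => ?_
      rw [hT, Semi.ofSim_app, OneMemClass.coe_one, Units.val_one, Matrix.one_mulVec]
    · right
      rw [conjA_apply]
      exact Semi.aut_congr _ _ ha fun v => by rw [hT, hLapp]
  refine ⟨X, inf_le_left, inf_le_right, ?_, ?_, ?_⟩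
  · rintro y hy hyx z hz
    exact Subgroup.mem_inf.2 ⟨mul_mem (mul_mem hy (Subgroup.mem_inf.1 hz).1) (inv_mem hy),
      mul_mem (mul_mem (Subgroup.mem_centralizer_singleton_iff.2 hyx) (Subgroup.mem_inf.1 hz).2)
        (inv_mem (Subgroup.mem_centralizer_singleton_iff.2 hyx))⟩
  · intro y hyx hyX
    obtain ⟨T, rfl⟩ := exists_semi hc y
    obtain ⟨a, ha, hT⟩ := hR.semi T (hsq T hyx) fun h hh v => by
      have h1 := hyX _ (hX h hh)
      rw [cA_eq h _ (hval h), ← Semi.aut_comp, ← Semi.aut_comp] at h1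
      obtain ⟨-, d, -, hd⟩ := Semi.aut_eq_aut hc h1
      have hd' : ∀ u, T.app (h.1 u) = d • h.1 (T.app u) := fun u => by
        have := hd u
        rwa [Semi.app_comp, Semi.app_comp, hval, hval] at this
      have hdd : d * d = 1 := by
        -- multipliers
        obtain ⟨u, hu⟩ := exists_value_one hc
        have e1 := congrArg (⇑Q) (hd' u)
        rw [T.Q_app, Classical.Quad.map_smul', h.2, h.2, T.Q_app, hu, map_one, mul_one] at e1
        exact mul_right_cancel₀ T.c_ne (by rw [one_mul]; exact e1.symm)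
      rw [oG_mul_apply, oG_mul_apply, hd', hd', map_smul, smul_smul, hdd, one_smul]
    rcases hscal T a ha hT with h | h
    · exact h ▸ one_mem _
    · exact h ▸ Subgroup.mem_zpowers _
  · intro M hM hMn hMc
    haveI := LocalBalance.finite_mulAut (K := Cfsg.POmega F ⇑Q)
    have hMc2 : Odd (Nat.card M) := by
      rw [← Nat.not_even_iff_odd, even_iff_two_dvd]
      exact fun h => by simpa using Nat.eq_one_of_dvd_coprimes hMc h dvd_rfl
    let N : Subgroup (oG Q) := M.comap (cA Q) ⊓ centO Q L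
    have hN := hR.normal N inf_le_right (fun s hs h hh => Subgroup.mem_inf.2
        ⟨by
          show cA Q (s * h * s⁻¹) ∈ M
          rw [map_mul, map_mul, map_inv]
          exact hMn _ (hX s hs) _ hh.1, mul_mem (mul_mem hs hh.2) (inv_mem hs)⟩)
      (fun h hh => by
        refine ⟨Nat.card M, ?_⟩
        have h1 : cA Q (h ^ Nat.card M) = 1 := by
          rw [map_pow]
          exact congrArg Subtype.val (pow_card_eq_one' (x := (⟨_, hh.1⟩ : M)))
        rw [cA_eq _ _ (hval _)] at h1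
        obtain ⟨-, d, -, hd⟩ := Semi.eq_of_aut_eq_one hc _ h1
        exact ⟨d, hMc2, fun v => by rw [← hval]; exact hd v⟩)
    refine (Subgroup.eq_bot_iff_forall M).2 fun y hy => ?_
    obtain ⟨⟨k, rfl⟩, hyx⟩ := Subgroup.mem_inf.1 (hM hy)
    obtain ⟨s, rfl⟩ := mkO_surjective k
    rw [Subgroup.mem_centralizer_singleton_iff] at hyx
    set h := oEquiv Q s.1 with hhdef
    have hch : cA Q h = MulAut.conj (mkO s) := by
      rw [← conjA_omToSim]
      show conjA (isoToSim ((oEquiv Q).symm (oEquiv Q s.1))) = _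
      rw [MulEquiv.symm_apply_apply]
      rfl
    rw [← hch] at hy hyx ⊢
    obtain ⟨d, hd⟩ := hsq _ ((cA_eq h _ (hval h)) ▸ hyx)
    have hd' : ∀ v, h.1 (L v) = d • L (h.1 v) := fun v => by rw [← hval h (L v), hd, hval]
    have hdd : d * d = 1 := by
      obtain ⟨u, hu⟩ := exists_value_one hc
      have hu0 : h.1 u ≠ 0 := fun h0 => by
        have := h.2 u
        rw [h0, map_zero, hu] at this
        exact zero_ne_one this
      have e : h.1 (L (L u)) = (d * d) • L (L (h.1 u)) := by rw [hd', hd', map_smul, smul_smul]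
      rw [hL, hL, map_smul, smul_smul] at e
      exact mul_right_cancel₀ hl (((smul_left_injective F hu0) e).symm.trans (one_mul l).symm)
    have hh2 : h * h ∈ N := Subgroup.mem_inf.2 ⟨by
        show cA Q (h * h) ∈ M
        rw [map_mul]
        exact mul_mem hy hy,
      Subgroup.mem_inf.2 ⟨mul_mem ((mem_omega_iff s.1).1 s.2) ((mem_omega_iff s.1).1 s.2), fun v => by
        rw [oG_mul_apply, oG_mul_apply, hd', map_smul, hd', smul_smul, hdd, one_smul]⟩⟩
    obtain ⟨a, ha, hT⟩ := hN _ hh2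
    have hor : orderOf (cA Q h) ∣ Nat.card M := by
      rw [← Subgroup.orderOf_mk _ hy]; exact orderOf_dvd_natCard _
    have hodd' : Odd (orderOf (cA Q h)) := hMc2.of_dvd_nat hor
    rcases hscal (Semi.ofSim (isoToSim ((oEquiv Q).symm (h * h)))) a ha
      (hT.imp (fun e v => by rw [hval, e]) fun e v => by rw [hval, e]) with h1 | h1
    · rw [← cA_eq _ _ (hval _), map_mul, ← pow_two] at h1
      have h3 : orderOf (cA Q h) = 1 := Nat.Coprime.eq_one_of_dvd
        ((Nat.coprime_two_right).2 hodd') (orderOf_dvd_of_pow_eq_one h1)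
      exact orderOf_eq_one_iff.1 h3
    · exfalso
      rw [← cA_eq _ _ (hval _)] at h1
      have h3 : orderOf (cA Q (h * h)) ∣ Nat.card M := by
        rw [← Subgroup.orderOf_mk _ (show cA Q (h * h) ∈ M from hh2.1)]; exact orderOf_dvd_natCard _
      rw [h1, hord] at h3
      exact Nat.not_even_iff_odd.2 hMc2 (even_iff_two_dvd.2 h3)

variable (hc : Ctx Q) (h2 : (2 : F) ≠ 0) {L : (ι → F) →ₗ[F] (ι → F)}

section Split

variable (hLQ : ∀ v, Q (L v) = Q v) (hLL : ∀ v, L (L v) = v)
include hc h2 hLQ hLL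

omit hc in
/-- Siegel transformations inside an eigenspace. -/
theorem sO_centO (hQ : (polarBilin Q).Nondegenerate) {ε : F} (hε : ε = 1 ∨ ε = -1) {e w : ι → F}
    (hLe : L e = ε • e) (hLw : L w = ε • w) (he : Q e = 0) (hw : polar (⇑Q) e w = 0) :
    sO he hw ∈ centO Q L := by
  haveI := Fintype.ofFinite F
  refine Subgroup.mem_inf.2 ⟨sO_mem_commutator hQ (Or.inl fun h => ?_) he hw, fun v => ?_⟩
  · rw [Nat.card_eq_fintype_card] at h
    have h0 : ((Fintype.card F : ℕ) : F) = 0 := FiniteField.cast_card_eq_zero F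
    rw [h] at h0
    exact h2 (by exact_mod_cast h0)
  · have hee : ε * ε = 1 := by rcases hε with rfl | rfl <;> ring
    have key : ∀ z, L z = ε • z → polar (⇑Q) (L v) z = ε * polar (⇑Q) v z := fun z hz => by
      have h' := polar_of_sim (c := (1 : F)) (fun x => by rw [one_mul, hLQ]) v z
      rw [hz, polar_smul_right, smul_eq_mul, one_mul] at h'
      linear_combination ε * h' - polar (⇑Q) (L v) z * hee
    rw [sO_apply, sO_apply, key e hLe, key w hLw]
    simp only [map_add, map_smul, hLe, hLw, smul_smul]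
    module

/-- What the commuting transformations of a large eigenspace force. -/
theorem part_semi {T : Semi Q} {d : F} (hd : ∀ v, T.app (L v) = d • L (T.app v))
    (hT : ∀ h ∈ centO Q L, ∀ v, T.app ((h * h).1 v) = (h * h).1 (T.app v)) {ε : F} (hε : ε = 1 ∨ ε = -1)
    (A : Submodule F (ι → F)) (hA : ∀ v, v ∈ A ↔ L v = ε • v) (hd3 : 3 ≤ finrank F A) (hdo : Odd (finrank F A)) :
    d = 1 ∧ T.σ = 1 ∧ ∃ a : F, a ≠ 0 ∧ ∀ v ∈ A, T.app v = a • v := by
  have hee : ε * ε = 1 := by rcases hε with rfl | rfl <;> ring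
  have hε0 : ε ≠ 0 := left_ne_zero_of_mul_eq_one hee
  have hQA := restrict_nondeg A (eigen_nondeg hc.nondeg h2 hLQ hLL hε A hA)
  set R := Q.comp A.subtype
  have hsO : ∀ (e w : A) (he : Q (e : ι → F) = 0) (hw : polar (⇑Q) (e : ι → F) w = 0) (v : ι → F),
      T.app ((sO (Q := Q) (p := (e : ι → F)) (w := (w : ι → F)) he hw).1 v) =
        (sO (Q := Q) (p := (e : ι → F)) (w := (w : ι → F)) he hw).1 (T.app v) := by
    intro e w he hw v
    have hw' : polar (⇑Q) (e : ι → F) ((2⁻¹ : F) • (w : ι → F)) = 0 := by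
      rw [polar_smul_right, show polar (⇑Q) (e : ι → F) w = 0 from hw, smul_zero]
    have hm := sO_centO h2 hLQ hLL hc.nondeg hε ((hA _).1 e.2) (w := (2⁻¹ : F) • (w : ι → F))
      (by rw [map_smul, (hA _).1 w.2, smul_comm]) he hw'
    have := hT _ hm v
    rw [sO_mul, sO_congr he (polar_perp_add hw' hw') hw (by
      rw [← add_smul, show (2⁻¹ : F) + 2⁻¹ = 1 by field_simp; norm_num, one_smul])] at this
    exact this
  have hproj : ∀ x, ∃ a b, a ∈ A ∧ L b = (-ε) • b ∧ x = a + b := fun x => by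
    refine ⟨(2⁻¹ : F) • (x + ε • L x), (2⁻¹ : F) • (x - ε • L x), (hA _).2 ?_, ?_, ?_⟩
    · simp only [map_smul, map_add, hLL, smul_smul, smul_add]
      rw [show ε * (2⁻¹ * ε) = 2⁻¹ by linear_combination (2⁻¹ : F) * hee,
        show ε * 2⁻¹ = 2⁻¹ * ε by ring, add_comm]
    · simp only [map_smul, map_sub, hLL, smul_smul, smul_sub]
      rw [show -ε * (2⁻¹ * ε) = -(2⁻¹) by linear_combination -(2⁻¹ : F) * hee,
        show -ε * 2⁻¹ = -(2⁻¹ * ε) by ring]
      module
    · match_scalars <;> field_simp <;> ring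
  have hperp : ∀ (b : ι → F), L b = (-ε) • b → ∀ z ∈ A, polar (⇑Q) b z = 0 := fun b hb z hz => by
    have h' := polar_of_sim (c := (1 : F)) (fun x => by rw [one_mul, hLQ]) b z
    rw [hb, (hA z).1 hz, polar_smul_left, polar_smul_right, smul_eq_mul, smul_eq_mul, one_mul] at h'
    exact mul_left_cancel₀ h2 (by linear_combination -h' + -(polar (⇑Q) b z) * hee)
  -- singular vectors of `A`
  have hfix : ∀ (e : A), e ≠ 0 → R e = 0 → ∃ (a : F) (b : ι → F), L b = (-ε) • b ∧ T.app e = a • (e : ι → F) + b := by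
    intro e he0 he
    obtain ⟨xa, xb, hxa, hxb, hx⟩ := hproj (T.app e)
    obtain ⟨a, ha⟩ := Submodule.mem_span_singleton.1 (mem_span_of_fix hQA (x := ⟨xa, hxa⟩) he0 he (by omega)
      fun w hw => Subtype.ext (by
        have h' := hsO e w he hw e
        rw [show (sO (Q := Q) (p := (e : ι → F)) (w := (w : ι → F)) he hw).1 e = (e : ι → F) from
          siegel_fix (Q := Q) he hw (polar_singular (Q := Q) he) hw, hx] at h'
        rw [map_add, show (sO (Q := Q) (p := (e : ι → F)) (w := (w : ι → F)) he hw).1 xb = xb from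
          siegel_fix (Q := Q) he hw (hperp xb hxb _ e.2) (hperp xb hxb _ w.2)] at h'
        exact (add_right_cancel h').symm))
    exact ⟨a, xb, hxb, by rw [hx, show xa = a • (e : ι → F) from (congrArg Subtype.val ha).symm]⟩
  have hsplit : ∀ {a : F} {u b : ι → F}, u ∈ A → L b = (-ε) • b → a • u + b = 0 → a • u = 0 ∧ b = 0 := by
    intro a u b hu hb h0
    have h' := congrArg L h0
    rw [map_add, map_smul, (hA u).1 hu, hb, map_zero] at h'
    have hb' : b = -(a • u) := eq_neg_of_add_eq_zero_right h0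
    rw [hb'] at h'
    have h'' : ((2 : F) * (ε * a)) • u = 0 := by linear_combination (norm := module) h'
    have hau : a • u = 0 := by
      rcases smul_eq_zero.1 h'' with h3 | h3
      · rw [mul_eq_zero, mul_eq_zero] at h3
        rw [(h3.resolve_left h2).resolve_left hε0, zero_smul]
      · rw [h3, smul_zero]
    exact ⟨hau, by rw [hb', hau, neg_zero]⟩
  have hdv : ∀ (e : A), e ≠ 0 → R e = 0 → ∀ (a : F) (b : ι → F), L b = (-ε) • b →
      T.app e = a • (e : ι → F) + b → (T.σ ε - d * ε) * a = 0 ∧ (T.σ ε + d * ε) • b = 0 := by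
    intro e he0 he a b hb hTe
    have h' := hd (e : ι → F)
    rw [(hA _).1 e.2, T.app_smul, hTe, map_add, map_smul, hb, (hA _).1 e.2] at h'
    obtain ⟨h3, h4⟩ := hsplit (a := (T.σ ε - d * ε) * a) (u := (e : ι → F))
      (b := (T.σ ε + d * ε) • b) e.2 (by rw [map_smul, hb, smul_comm]) (by
        linear_combination (norm := module) h')
    exact ⟨(smul_eq_zero.1 h3).resolve_right fun h => he0 (Subtype.ext h), h4⟩
  have hσε : T.σ ε = ε := by rcases hε with rfl | rfl <;> simp
  have hinjT : Function.Injective T.app := fun x y => T.app_injective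
  obtain ⟨e₁, he₁0, he₁⟩ := exists_singular R hd3
  obtain ⟨f₁, hf₁, hef₁⟩ := exists_hyp_pair hQA he₁0 he₁
  obtain ⟨u₁, heu₁, hfu₁, hQu₁⟩ := exists_aniso_perp hQA hd3 he₁ hf₁ hef₁
  have hd1 : d = 1 := by
    by_contra hdne
    have hf₁0 : f₁ ≠ 0 := fun h => by simp [h, polar] at hef₁
    have ha : ∀ (e : A), e ≠ 0 → R e = 0 → L (T.app e) = (-ε) • T.app e := fun e he0 he => by
      obtain ⟨a, b, hb, hTe⟩ := hfix e he0 he
      have h3 := (hdv e he0 he a b hb hTe).1
      rw [hσε] at h3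
      have ha0 : a = 0 := (mul_eq_zero.1 h3).resolve_left fun h4 => hdne (mul_right_cancel₀ hε0 (by linear_combination -h4))
      rw [hTe, ha0, zero_smul, zero_add, hb]
    let s : oG R := sO he₁ heu₁
    have hsf0 : s.1 f₁ ≠ 0 := by simpa using hf₁0
    have hsA : ((s.1 f₁ : A) : ι → F) = (sO (Q := Q) (p := (e₁ : ι → F)) (w := (u₁ : ι → F)) he₁ heu₁).1 f₁ := by
      rfl
    have h5 := ha (s.1 f₁) hsf0 (by rw [s.2, hf₁])
    have h6 := hsO e₁ u₁ he₁ heu₁ (f₁ : ι → F)
    rw [← hsA, show (sO (Q := Q) (p := (e₁ : ι → F)) (w := (u₁ : ι → F)) he₁ heu₁).1 (T.app f₁) = T.app f₁ from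
      siegel_fix (Q := Q) he₁ heu₁ (hperp _ (ha f₁ hf₁0 hf₁) _ e₁.2) (hperp _ (ha f₁ hf₁0 hf₁) _ u₁.2)] at h6
    have h7 : s.1 f₁ = f₁ := Subtype.ext (hinjT h6)
    have h8 := congrArg (fun z => polar (⇑R) z u₁) h7
    simp only [s, sO_apply, polar_add_left, polar_smul_left, smul_eq_mul, polar_self', heu₁, hfu₁] at h8
    rw [polar_comm (⇑R) f₁ e₁, hef₁] at h8
    refine hQu₁ ?_
    have h9 : (2 : F) * R u₁ = 0 := by linear_combination -h8
    exact (mul_eq_zero.1 h9).resolve_left h2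
  have hTA : ∀ v ∈ A, T.app v ∈ A := fun v hv => (hA _).2 (by
    have h' := hd v
    rw [hd1, one_smul, (hA v).1 hv, T.app_smul, hσε] at h'
    exact h'.symm)
  obtain ⟨a, ha, hTa, hτ⟩ := scalar_of_commute hQA h2 hd3 (T := fun v : A => (⟨T.app v, hTA v v.2⟩ : A))
    (τ := T.σ) (fun x y => Subtype.ext (T.app_add x y)) (fun t x => Subtype.ext (T.app_smul t x))
    (fun x y h => Subtype.ext (hinjT (congrArg Subtype.val h))) fun e w he hw x => Subtype.ext (by
      have hcoe : ∀ z : A, (((sO he hw).1 z : A) : ι → F) =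
          (sO (Q := Q) (p := (e : ι → F)) (w := (w : ι → F)) he hw).1 z := fun z => by
        rfl
      show T.app (((sO he hw).1 x : A) : ι → F) = _
      rw [hcoe, hsO e w he hw, hcoe])
  exact ⟨hd1, RingEquiv.ext hτ, a, ha, fun v hv => congrArg Subtype.val (hTa ⟨v, hv⟩)⟩

/-- A normalised group of odd order modulo scalars on a large eigenspace. -/
theorem part_normal {N : Subgroup (oG Q)} (hN : N ≤ centO Q L) (hNn : ∀ s ∈ centO Q L, ∀ h ∈ N, s * h * s⁻¹ ∈ N)
    (hNo : ∀ h ∈ N, ∃ (k : ℕ) (c : F), Odd k ∧ ∀ v, (h ^ k).1 v = c • v) {ε : F} (hε : ε = 1 ∨ ε = -1)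
    (A : Submodule F (ι → F)) (hA : ∀ v, v ∈ A ↔ L v = ε • v) (hd3 : 3 ≤ finrank F A) (hdo : Odd (finrank F A)) :
    ∀ h ∈ N, ∃ a : F, ∀ v ∈ A, h.1 v = a • v := by
  have hQA := restrict_nondeg A (eigen_nondeg hc.nondeg h2 hLQ hLL hε A hA)
  set R := Q.comp A.subtype
  have hmap : ∀ h : centL Q L, A.map (h.1.1 : (ι → F) →ₗ[F] (ι → F)) = A := fun h => by
    refine le_antisymm ?_ fun v hv => ⟨(h.1⁻¹).1 v, (hA _).2 ?_, oG_apply_inv h.1 v⟩
    · rintro _ ⟨v, hv, rfl⟩
      refine (hA _).2 ?_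
      show L (h.1.1 v) = ε • h.1.1 v
      rw [← h.2, (hA v).1 hv, map_smul]
    · rw [← (centL Q L).inv_mem h.2, (hA v).1 hv, map_smul]
  let res : centL Q L →* oG R :=
    { toFun := fun h => ⟨h.1.1.ofSubmodules A A (hmap h), fun x => h.1.2 x.1⟩
      map_one' := ext_oG fun x => Subtype.ext rfl
      map_mul' := fun g h => ext_oG fun x => Subtype.ext rfl }
  let N' : Subgroup (oG R) := (N.subgroupOf (centL Q L)).map res
  have heo : eo R ≤ ((centO Q L).subgroupOf (centL Q L)).map res := by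
    refine (Subgroup.closure_le _).2 ?_
    rintro _ ⟨p, w, hp, hpw, rfl⟩
    have hm := sO_centO h2 hLQ hLL hc.nondeg hε ((hA _).1 p.2) ((hA _).1 w.2) (e := (p : ι → F)) hp hpw
    exact ⟨⟨_, hm.2⟩, hm, ext_oG fun x => Subtype.ext rfl⟩
  intro h hh
  obtain ⟨a, ha⟩ := scalar_of_normalized hQA h2 hd3 hdo N' (fun s hs g hg => by
      obtain ⟨s', hs', rfl⟩ := heo hs
      obtain ⟨g', hg', rfl⟩ := hg
      exact ⟨s' * g' * s'⁻¹, hNn _ hs' _ hg', by rw [map_mul, map_mul, map_inv]⟩) (fun g hg => by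
      obtain ⟨g', hg', rfl⟩ := hg
      obtain ⟨k, c, hk, hkc⟩ := hNo _ hg'
      refine ⟨k, c, hk, fun x => ?_⟩
      rw [← map_pow]
      refine Subtype.ext ?_
      show (g' ^ k : centL Q L).1.1 x.1 = c • x.1
      rw [SubgroupClass.coe_pow]; exact hkc x.1) (res ⟨h, (hN hh).2⟩) ⟨_, hh, rfl⟩
  exact ⟨a, fun v hv => congrArg Subtype.val (ha ⟨v, hv⟩)⟩

/-- Rigidity for an involutive isometry with two eigenspaces of odd dimension. -/
theorem rigid_split (A B : Submodule F (ι → F)) (hA : ∀ v, v ∈ A ↔ L v = v) (hB : ∀ v, v ∈ B ↔ L v = -v)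
    (hAo : Odd (finrank F A)) (hBo : Odd (finrank F B)) (hsum : 8 ≤ finrank F A + finrank F B) : Rigid Q L := by
  have hA1 : ∀ v, v ∈ A ↔ L v = (1 : F) • v := fun v => by rw [one_smul]; exact hA v
  have hB1 : ∀ v, v ∈ B ↔ L v = (-1 : F) • v := fun v => by rw [neg_one_smul]; exact hB v
  have hcases : ∀ {U : Submodule F (ι → F)}, Odd (finrank F U) → finrank F U = 1 ∨ 3 ≤ finrank F U :=
    fun {U} h => by obtain ⟨j, hj⟩ := h; omega
  have hline : ∀ {U : Submodule F (ι → F)} {f : (ι → F) → (ι → F)}, finrank F U = 1 →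
      (∀ (t : F) v, f (t • v) = t • f v) → (∀ v ∈ U, f v ∈ U) → ∃ a : F, ∀ v ∈ U, f v = a • v := by
    intro U f h1 hf hU
    obtain ⟨u, hu0, hu⟩ := finrank_eq_one_iff'.1 h1
    obtain ⟨a, ha⟩ := hu ⟨f u, hU u u.2⟩
    refine ⟨a, fun v hv => ?_⟩
    obtain ⟨t, ht⟩ := hu ⟨v, hv⟩
    have hv' : v = t • (u : ι → F) := (congrArg Subtype.val ht).symm
    rw [hv', hf, show f u = a • (u : ι → F) from (congrArg Subtype.val ha).symm, smul_comm]
  -- scalars on the two parts
  have hfin : ∀ (f : (ι → F) → (ι → F)) (μ a b : F), μ ≠ 0 → (∀ x y, f (x + y) = f x + f y) →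
      (∀ (t : F) x, f (t • x) = t • f x) → (∀ v, Q (f v) = μ * Q v) → (∀ v ∈ A, f v = a • v) →
      (∀ v ∈ B, f v = b • v) → ∃ e : F, e ≠ 0 ∧ ((∀ v, f v = e • v) ∨ ∀ v, f v = e • L v) := by
    intro f μ a b hμ hadd hsmul hQf ha hb
    have val : ∀ {U : Submodule F (ι → F)} {ε : F}, (ε = 1 ∨ ε = -1) → (∀ v, v ∈ U ↔ L v = ε • v) →
        0 < finrank F U → ∃ v ∈ U, Q v ≠ 0 := by
      intro U ε hε hU hpos
      by_contra hall
      push Not at hall
      have hle := two_mul_finrank_le (restrict_nondeg U (eigen_nondeg hc.nondeg h2 hLQ hLL hε U hU))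
        (W := (⊤ : Submodule F U)) fun w _ => hall w w.2
      rw [finrank_top] at hle
      omega
    obtain ⟨va, hva, hQa⟩ := val (Or.inl rfl) hA1 (by obtain ⟨j, hj⟩ := hAo; omega)
    obtain ⟨vb, hvb, hQb⟩ := val (Or.inr rfl) hB1 (by obtain ⟨j, hj⟩ := hBo; omega)
    have e1 := hQf va
    rw [ha va hva, Classical.Quad.map_smul'] at e1
    have e2 := hQf vb
    rw [hb vb hvb, Classical.Quad.map_smul'] at e2
    have e1' := mul_right_cancel₀ hQa e1
    have e2' := mul_right_cancel₀ hQb e2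
    have ha0 : a ≠ 0 := fun h => hμ (by rw [← e1', h, mul_zero])
    have hdec : ∀ v, ∃ p q, p ∈ A ∧ q ∈ B ∧ v = p + q := fun v =>
      ⟨(2⁻¹ : F) • (v + L v), (2⁻¹ : F) • (v - L v), (hA _).2 (by rw [map_smul, map_add, hLL, add_comm]),
        (hB _).2 (by rw [map_smul, map_sub, hLL]; module), by match_scalars <;> field_simp <;> ring⟩
    refine ⟨a, ha0, ?_⟩
    rcases mul_self_eq_mul_self_iff.1 (e2'.trans e1'.symm) with hba | hba
    · refine Or.inl fun v => ?_
      obtain ⟨p, q, hp, hq, rfl⟩ := hdec v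
      rw [hadd, ha p hp, hb q hq, hba, smul_add]
    · refine Or.inr fun v => ?_
      obtain ⟨p, q, hp, hq, rfl⟩ := hdec v
      rw [hadd, ha p hp, hb q hq, hba, map_add, (hA p).1 hp, (hB q).1 hq]
      module
  refine ⟨fun T hd hT => ?_, fun N hN hNn hNo h hh => ?_⟩
  · obtain ⟨d, hd⟩ := hd
    have key : d = 1 ∧ T.σ = 1 := by
      rcases hcases hAo with h1 | h3
      · rcases hcases hBo with h1' | h3'
        · omega
        · obtain ⟨hd1, hσ, -⟩ := part_semi hc h2 hLQ hLL hd hT (Or.inr rfl) B hB1 h3' hBo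
          exact ⟨hd1, hσ⟩
      · obtain ⟨hd1, hσ, -⟩ := part_semi hc h2 hLQ hLL hd hT (Or.inl rfl) A hA1 h3 hAo
        exact ⟨hd1, hσ⟩
    obtain ⟨rfl, hσ⟩ := key
    have hsm : ∀ (t : F) x, T.app (t • x) = t • T.app x := fun t x => by rw [T.app_smul, hσ]; rfl
    have getA : ∀ {U : Submodule F (ι → F)} {ε : F}, (ε = 1 ∨ ε = -1) → (∀ v, v ∈ U ↔ L v = ε • v) →
        Odd (finrank F U) → ∃ a : F, ∀ v ∈ U, T.app v = a • v := by
      intro U ε hε hU hUo
      rcases hcases hUo with h1 | h3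
      · refine hline h1 hsm fun v hv => (hU _).2 ?_
        have := hd v
        rw [one_smul, (hU v).1 hv, hsm] at this
        exact this.symm
      · obtain ⟨-, -, a, -, ha⟩ := part_semi hc h2 hLQ hLL hd hT hε U hU h3 hUo
        exact ⟨a, ha⟩
    obtain ⟨a, ha⟩ := getA (Or.inl rfl) hA1 hAo
    obtain ⟨b, hb⟩ := getA (Or.inr rfl) hB1 hBo
    exact hfin T.app T.c a b T.c_ne T.app_add hsm (fun v => by rw [T.Q_app, hσ]; rfl) ha hb
  · have getA : ∀ {U : Submodule F (ι → F)} {ε : F}, (ε = 1 ∨ ε = -1) → (∀ v, v ∈ U ↔ L v = ε • v) →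
        Odd (finrank F U) → ∃ a : F, ∀ v ∈ U, h.1 v = a • v := by
      intro U ε hε hU hUo
      rcases hcases hUo with h1 | h3
      · exact hline h1 (fun t x => map_smul h.1 t x) fun v hv => (hU _).2 (by
          rw [← (hN hh).2, (hU v).1 hv, map_smul])
      · exact part_normal hc h2 hLQ hLL hN hNn hNo hε U hU h3 hUo h hh
    obtain ⟨a, ha⟩ := getA (Or.inl rfl) hA1 hAo
    obtain ⟨b, hb⟩ := getA (Or.inr rfl) hB1 hBo
    exact hfin h.1 1 a b one_ne_zero (map_add h.1) (map_smul h.1) (fun v => by rw [one_mul]; exact h.2 v) ha hb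

end Split

section NonSplit

variable {c : F} (hns : ¬ IsSquare c) (hLQ : ∀ v, Q (L v) = c * Q v) (hLL : ∀ v, L (L v) = c • v)
include hc h2 hns hLQ hLL

set_option maxHeartbeats 1000000 in
/-- Rigidity for a similarity whose square is a non-square scalar. -/
theorem rigid_nonsplit {k : ℕ} (hdim : Fintype.card ι = 2 * k) (hk : Odd k) (hk3 : 3 ≤ k) : Rigid Q L := by
  classical
  have hc0 : c ≠ 0 := fun h => hns (h ▸ IsSquare.zero)
  haveI : Fact (∀ r : F, r ^ 2 ≠ c + 0 * r) := ⟨fun r hr => hns ⟨r, by linear_combination -hr⟩⟩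
  haveI : Finite (QuadraticAlgebra F c 0) := Finite.of_equiv _ (QuadraticAlgebra.equivProd c 0).symm
  let φ : (QuadraticAlgebra F c 0) →ₐ[F] Module.End F (ι → F) := QuadraticAlgebra.lift ⟨L, LinearMap.ext fun v => by
    simp [Module.End.mul_apply, hLL]⟩
  letI : Module (QuadraticAlgebra F c 0) (ι → F) := Module.compHom _ φ.toRingHom
  have hsmul : ∀ (z : (QuadraticAlgebra F c 0)) v, z • v = z.re • v + z.im • L v := fun z v => by
    show φ z v = _
    simp [φ, QuadraticAlgebra.lift]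
  haveI : IsScalarTower F (QuadraticAlgebra F c 0) (ι → F) := IsScalarTower.of_algebraMap_smul fun t v => by
    rw [hsmul]; simp
  haveI : FiniteDimensional (QuadraticAlgebra F c 0) (ι → F) := Module.Finite.of_restrictScalars_finite F (QuadraticAlgebra F c 0) _
  have hfin : finrank (QuadraticAlgebra F c 0) (ι → F) = k := by
    have h := Module.finrank_mul_finrank F (QuadraticAlgebra F c 0) (ι → F)
    rw [Module.finrank_fintype_fun_eq_card, hdim, QuadraticAlgebra.finrank_eq_two] at h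
    omega
  have hsa : ∀ x y, polar (⇑Q) (L x) y = polar (⇑Q) x (L y) := fun x y => by
    have h := polar_of_sim hLQ x (L y)
    rw [hLL, polar_smul_right, smul_eq_mul] at h
    exact mul_left_cancel₀ hc0 h
  let BE : LinearMap.BilinForm (QuadraticAlgebra F c 0) (ι → F) := LinearMap.mk₂ (QuadraticAlgebra F c 0)
    (fun x y => (⟨polar (⇑Q) x y / 2, polar (⇑Q) x (L y) / (2 * c)⟩ : (QuadraticAlgebra F c 0)))
    (fun x x' y => QuadraticAlgebra.ext (by simp [polar_add_left, add_div]) (by simp [polar_add_left, add_div]))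
    (fun z x y => QuadraticAlgebra.ext
      (by simp [hsmul, polar_add_left, polar_smul_left, hsa, QuadraticAlgebra.re_mul]; field_simp)
      (by simp [hsmul, polar_add_left, polar_smul_left, hsa, hLL, polar_smul_right, QuadraticAlgebra.im_mul]
          field_simp))
    (fun x y y' => QuadraticAlgebra.ext (by simp [polar_add_right, add_div]) (by simp [polar_add_right, add_div]))
    (fun z x y => QuadraticAlgebra.ext
      (by simp [hsmul, polar_add_right, polar_smul_right, QuadraticAlgebra.re_mul]; field_simp)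
      (by simp [hsmul, polar_add_right, polar_smul_right, map_add, map_smul, hLL, QuadraticAlgebra.im_mul]
          field_simp))
  let R : QuadraticForm (QuadraticAlgebra F c 0) (ι → F) := LinearMap.BilinMap.toQuadraticMap BE
  have hR : ∀ v, R v = (⟨Q v, polar (⇑Q) v (L v) / (2 * c)⟩ : (QuadraticAlgebra F c 0)) := fun v => by
    show BE v v = _
    refine QuadraticAlgebra.ext ?_ rfl
    show polar (⇑Q) v v / 2 = Q v
    rw [polar_self']; field_simp
  have hRp : ∀ x y, polar (⇑R) x y = (⟨polar (⇑Q) x y, polar (⇑Q) x (L y) / c⟩ : (QuadraticAlgebra F c 0)) := fun x y => by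
    rw [show polar (⇑R) x y = BE x y + BE y x from LinearMap.BilinMap.polar_toQuadraticMap _ _]
    refine QuadraticAlgebra.ext ?_ ?_
    · show polar (⇑Q) x y / 2 + polar (⇑Q) y x / 2 = _
      rw [polar_comm (⇑Q) y]; field_simp; ring
    · show polar (⇑Q) x (L y) / (2 * c) + polar (⇑Q) y (L x) / (2 * c) = _
      rw [polar_comm (⇑Q) y, hsa]; field_simp; ring
  have hRnd : (polarBilin R).Nondegenerate := nondeg_of fun x hx => eq_zero_of_polar hc.nondeg fun y => by
    have := congrArg QuadraticAlgebra.re (hx y)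
    rwa [hRp] at this
  have h2E : (2 : (QuadraticAlgebra F c 0)) ≠ 0 := by
    rw [← map_ofNat (algebraMap F (QuadraticAlgebra F c 0)) 2]
    exact (map_ne_zero (algebraMap F (QuadraticAlgebra F c 0))).2 h2
  -- restriction of scalars
  have hsmulL : ∀ v, (⟨0, 1⟩ : (QuadraticAlgebra F c 0)) • v = L v := fun v => by rw [hsmul]; simp
  let ρ : oG R →* oG Q :=
    { toFun := fun g => ⟨g.1.restrictScalars F, fun v => by
        have := congrArg QuadraticAlgebra.re (g.2 v)
        rwa [hR, hR] at this⟩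
      map_one' := rfl
      map_mul' := fun g h => rfl }
  have hρL : ∀ g, ρ g ∈ centL Q L := fun g v => by
    show g.1 (L v) = L (g.1 v)
    rw [← hsmulL v, map_smul, hsmulL]
  have hsurj : ∀ h ∈ centL Q L, ∃ g, ρ g = h := fun h hh => by
    let e : (ι → F) ≃ₗ[(QuadraticAlgebra F c 0)] (ι → F) :=
      { h.1 with
        map_smul' := fun z v => by
          show h.1 (z • v) = z • h.1 v
          rw [hsmul, hsmul, map_add, map_smul, map_smul, hh] }
    refine ⟨⟨e, fun v => ?_⟩, ext_oG fun v => rfl⟩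
    show R (h.1 v) = R v
    rw [hR, hR, ← hh v, h.2, polar_oG]
  haveI := Fintype.ofFinite (QuadraticAlgebra F c 0)
  have hexE : Nat.card (QuadraticAlgebra F c 0) ≠ 2 := fun h => by
    rw [Nat.card_eq_fintype_card] at h
    have h0 : ((Fintype.card (QuadraticAlgebra F c 0) : ℕ) : (QuadraticAlgebra F c 0)) = 0 := FiniteField.cast_card_eq_zero (QuadraticAlgebra F c 0)
    rw [h] at h0
    exact h2E (by exact_mod_cast h0)
  have heo : ∀ s ∈ eo R, ρ s ∈ centO Q L := fun s hs => by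
    refine Subgroup.mem_inf.2 ⟨?_, hρL s⟩
    rw [eo_eq_commutator hRnd (by omega) (Or.inl hexE)] at hs
    have : ρ s ∈ (commutator (oG R)).map ρ := ⟨s, hs, rfl⟩
    rw [commutator_def, Subgroup.map_commutator] at this
    exact Subgroup.commutator_mono le_top le_top this
  have hscalar : ∀ (f : (ι → F) → (ι → F)) (μ : F) (z : (QuadraticAlgebra F c 0)), μ ≠ 0 → (∀ v, Q (f v) = μ * Q v) →
      (∀ v, f v = z • v) → ∃ a : F, a ≠ 0 ∧ ((∀ v, f v = a • v) ∨ ∀ v, f v = a • L v) := by
    intro f μ z hμ hQf hf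
    obtain ⟨e, he0, he⟩ := exists_singular R (by omega)
    obtain ⟨f', hf', hef⟩ := exists_hyp_pair hRnd he0 he
    set v := e + (⟨0, 1⟩ : (QuadraticAlgebra F c 0)) • f'
    have hv : R v = ⟨0, 1⟩ := by
      rw [map_add_smul, he, hf', hef]; simp
    rw [hR] at hv
    have hv1 : Q v = 0 := congrArg QuadraticAlgebra.re hv
    have hv2 : polar (⇑Q) v (L v) / (2 * c) = 1 := congrArg QuadraticAlgebra.im hv
    have h := hQf v
    rw [hf, hsmul, map_add', Classical.Quad.map_smul', Classical.Quad.map_smul', hLQ, hv1, polar_smul_left,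
      polar_smul_right, smul_eq_mul, smul_eq_mul] at h
    simp only [mul_zero, zero_add, add_zero] at h
    have hne : polar (⇑Q) v (L v) ≠ 0 := fun h0 => by rw [h0, zero_div] at hv2; exact zero_ne_one hv2
    obtain ⟨u, hu⟩ := exists_value_one hc
    have hz0 : z ≠ 0 := fun h0 => by
      have h' := hQf u
      rw [hf, h0, zero_smul, map_zero, hu, mul_one] at h'
      exact hμ h'.symm
    rcases mul_eq_zero.1 h with h' | h'
    · refine ⟨z.im, fun h0 => hz0 (QuadraticAlgebra.ext h' h0), Or.inr fun w => ?_⟩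
      rw [hf, hsmul, h', zero_smul, zero_add]
    · rcases mul_eq_zero.1 h' with h'' | h''
      · refine ⟨z.re, fun h0 => hz0 (QuadraticAlgebra.ext h0 h''), Or.inl fun w => ?_⟩
        rw [hf, hsmul, h'', zero_smul, add_zero]
      · exact absurd h'' hne
  have hn3 : 3 ≤ finrank (QuadraticAlgebra F c 0) (ι → F) := by omega
  refine ⟨fun T hd hT => ?_, fun N hN hNn hNo h hh => ?_⟩
  · obtain ⟨d, hd⟩ := hd
    obtain ⟨z, -, hz, hτ⟩ := scalar_of_commute hRnd h2E hn3 (T := T.app)
      (τ := fun z => (⟨T.σ z.re, T.σ z.im * d⟩ : (QuadraticAlgebra F c 0))) T.app_add (fun z v => by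
        rw [hsmul, hsmul, T.app_add, T.app_smul, T.app_smul, hd, smul_smul])
      (fun x y => T.app_injective) fun e w he hw x => by
        have hw' : polar (⇑R) e ((2⁻¹ : (QuadraticAlgebra F c 0)) • w) = 0 := by rw [polar_smul_right, hw, smul_zero]
        have h' := hT _ (heo _ (sO_mem_eo he hw')) x
        rw [← map_mul, sO_mul, sO_congr he (polar_perp_add hw' hw') hw (by
          rw [← add_smul, ← two_mul, mul_inv_cancel₀ h2E, one_smul])] at h'
        exact h'
    refine hscalar T.app T.c z T.c_ne (fun v => ?_) hz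
    have hσ : ∀ t : F, T.σ t = t := fun t => by
      simpa using congrArg QuadraticAlgebra.re (hτ (⟨t, 0⟩ : (QuadraticAlgebra F c 0)))
    rw [T.Q_app, hσ]
  · obtain ⟨g, rfl⟩ := hsurj h (hN hh).2
    obtain ⟨z, hz⟩ := scalar_of_normalized hRnd h2E hn3 (hfin ▸ hk) (N.comap ρ)
      (fun s hs g' hg' => by
        show ρ (s * g' * s⁻¹) ∈ N
        rw [map_mul, map_mul, map_inv]
        exact hNn _ (heo s hs) _ hg') (fun g' hg' => by
        obtain ⟨j, a, hj, hja⟩ := hNo _ hg'
        refine ⟨j, algebraMap F (QuadraticAlgebra F c 0) a, hj, fun v => ?_⟩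
        rw [algebraMap_smul, ← hja v, ← map_pow]
        rfl) g hh
    exact hscalar _ 1 z one_ne_zero (fun v => by rw [one_mul]; exact (ρ g).2 v) fun v => hz v

end NonSplit

end Cfsg.Agent.AutPOmega
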