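import Cfsg.Agent.AutPOmega.Lines

/-!
Root groups of lines are the centres of Sylow p-subgroups; automorphisms permute them.
-/

set_option autoImplicit false

namespace Cfsg.Agent.AutPOmega

open Module QuadraticMap Classical Classical.Quad Matrix

variable {ι : Type} [Fintype ι] [DecidableEq ι] {F : Type*} [Field F] {Q : QuadraticForm F (ι → F)}

/-- The orthogonal of a line. -/
def lperp (Q : QuadraticForm F (ι → F)) (L : Submodule F (ι → F)) : Submodule F (ι → F) where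
  carrier := {x | ∀ y ∈ L, polar (⇑Q) x y = 0}
  add_mem' {a b} ha hb y hy := by rw [polar_add_left, ha y hy, hb y hy, add_zero]
  zero_mem' y _ := polar_zero_left Q y
  smul_mem' r x hx y hy := by rw [polar_smul_left, hx y hy, smul_zero]

theorem mem_lperp_ln {e v x : ι → F} :
    x ∈ lperp Q (ln e v) ↔ polar (⇑Q) x e = 0 ∧ polar (⇑Q) x v = 0 := by
  constructor
  · exact fun h => ⟨h e (left_mem_ln e v), h v (right_mem_ln e v)⟩
  · rintro ⟨h1, h2⟩ y hy
    obtain ⟨s, t, rfl⟩ := mem_ln.1 hy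
    rw [polar_add_right, polar_smul_right, polar_smul_right, h1, h2, smul_zero, smul_zero, add_zero]

theorem IsLine.le_lperp {L : Submodule F (ι → F)} (hL : IsLine Q L) : L ≤ lperp Q L := fun _ hx _ hy =>
  hL.polar_mem hx hy

/-- The subgroup fixing a line and its orthogonal modulo the line. -/
def flagFix (Q : QuadraticForm F (ι → F)) (L : Submodule F (ι → F)) : Subgroup (Om Q) where
  carrier := {s | (∀ x ∈ L, mat s *ᵥ x = x) ∧ ∀ x ∈ lperp Q L, mat s *ᵥ x - x ∈ L}
  one_mem' := ⟨fun x _ => mat_one_mulVec x, fun x _ => by rw [mat_one_mulVec, sub_self]; exact L.zero_mem⟩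
  mul_mem' {a b} ha hb := ⟨fun x hx => by rw [mat_mul_mulVec, hb.1 x hx, ha.1 x hx], fun x hx => by
    obtain ⟨l, hl, hbl⟩ : ∃ l ∈ L, mat b *ᵥ x = x + l := ⟨_, hb.2 x hx, (add_sub_cancel x _).symm⟩
    rw [mat_mul_mulVec, hbl, Matrix.mulVec_add, ha.1 l hl, add_sub_right_comm]
    exact add_mem (ha.2 x hx) hl⟩
  inv_mem' {a} ha := ⟨fun x hx => by
      have := congrArg (mat a⁻¹ *ᵥ ·) (ha.1 x hx)
      simp only [mat_inv_mulVec] at this
      exact this.symm, fun x hx => by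
      have h1 := ha.2 x hx
      have h2 : mat a⁻¹ *ᵥ (mat a *ᵥ x - x) = mat a *ᵥ x - x := by
        have := congrArg (mat a⁻¹ *ᵥ ·) (ha.1 _ h1)
        simp only [mat_inv_mulVec] at this
        exact this.symm
      rw [Matrix.mulVec_sub, mat_inv_mulVec] at h2
      rw [show mat a⁻¹ *ᵥ x - x = -(x - mat a⁻¹ *ᵥ x) by abel, h2]
      exact neg_mem h1⟩

variable (hc : Pre Q)
include hc

/-- The dual frame of a line. -/
theorem exists_dual {e v : ι → F} (h : Pr Q e v) :
    ∃ e' v', Q e' = 0 ∧ Q v' = 0 ∧ polar (⇑Q) e e' = 1 ∧ polar (⇑Q) v e' = 0 ∧ polar (⇑Q) v v' = 1 ∧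
      polar (⇑Q) e v' = 0 ∧ polar (⇑Q) e' v' = 0 := by
  have hd : e ∉ Submodule.span F {v} := h.symm.not_mem
  obtain ⟨f0, hf0, hef0⟩ := exists_perp hc.nondeg hd
  have hvf0 : polar (⇑Q) v f0 = 0 := hf0 v (Submodule.mem_span_singleton_self v)
  obtain ⟨e', he'1, he'2, he'3⟩ : ∃ e', Q e' = 0 ∧ polar (⇑Q) e e' = 1 ∧ polar (⇑Q) v e' = 0 :=
    ⟨f0 + (-Q f0) • e, by rw [map_add_smul, h.he, polar_comm (⇑Q) f0, hef0]; ring,
      by rw [polar_add_right, polar_smul_right, polar_singular h.he, hef0, smul_zero, add_zero],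
      by rw [polar_add_right, polar_smul_right, hvf0, polar_comm (⇑Q) v e, h.hev, smul_zero, add_zero]⟩
  have hv : v ∉ Submodule.span F (Set.range ![e, e']) := fun hm => by
    rw [Matrix.range_cons_cons_empty, Submodule.mem_span_pair] at hm
    obtain ⟨s, t, hst⟩ := hm
    have h1 := congrArg (fun x => polar (⇑Q) x e) hst
    simp [polar_add_left, polar_smul_left, polar_singular h.he, polar_comm (⇑Q) e' e, he'2, polar_comm (⇑Q) v e,
      h.hev] at h1
    rw [h1, zero_smul, add_zero] at hst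
    exact h.not_mem (Submodule.mem_span_singleton.2 ⟨s, hst⟩)
  obtain ⟨v0, hv0, hv01⟩ := exists_perp hc.nondeg hv
  have h5 : polar (⇑Q) e v0 = 0 := hv0 e (Submodule.subset_span ⟨0, rfl⟩)
  have h6 : polar (⇑Q) e' v0 = 0 := hv0 e' (Submodule.subset_span ⟨1, rfl⟩)
  refine ⟨e', v0 + (-Q v0) • v, he'1, ?_, he'2, he'3, ?_, ?_, ?_⟩
  · rw [map_add_smul, h.hv, polar_comm (⇑Q) v0, hv01]; ring
  · rw [polar_add_right, polar_smul_right, polar_singular h.hv, hv01, smul_zero, add_zero]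
  · rw [polar_add_right, polar_smul_right, h5, h.hev, smul_zero, add_zero]
  · rw [polar_add_right, polar_smul_right, h6, polar_comm (⇑Q) e' v, he'3, smul_zero, add_zero]

theorem sg_mem_flagFix {e v w : ι → F} (h : Pr Q e v) (hw : w ∈ lperp Q (ln e v)) :
    sg Q e w ∈ flagFix Q (ln e v) := by
  have hs : IsSg Q e w := ⟨h.he, by rw [polar_comm]; exact (mem_lperp_ln.1 hw).1⟩
  refine ⟨fun x hx => ?_, fun x hx => ?_⟩
  · rw [sg_mulVec hc hs, sgMap, polar_comm (⇑Q) x w, hw x hx, h.polar_mem hx (left_mem_ln e v)]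
    simp
  · rw [sg_mulVec hc hs, sgMap, (mem_lperp_ln.1 hx).1]
    simp only [zero_smul, sub_zero, mul_zero, add_sub_cancel_left]
    exact Submodule.smul_mem _ _ (left_mem_ln e v)

variable (p : ℕ) [Fact p.Prime] [CharP F p]
include p

theorem flagFix_pow {e v : ι → F} (h : Pr Q e v) {s : Om Q} (hs : s ∈ flagFix Q (ln e v)) : s ^ p ^ 2 = 1 := by
  let K := flagFix Q (ln e v)
  obtain ⟨e', v', -, -, h1, h2, h3, h4, -⟩ := exists_dual hc h
  have hmap : ∀ x, mat s *ᵥ x - x ∈ lperp Q (ln e v) := fun x y hy => by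
    rw [polar_sub_left, sub_eq_zero]
    conv_lhs => rw [← hs.1 y hy]
    exact polar_mat s x y
  set N : Matrix ι ι F := mat s - 1 with hN
  have hNx : ∀ x, N *ᵥ x = mat s *ᵥ x - x := fun x => by rw [hN, Matrix.sub_mulVec, Matrix.one_mulVec]
  have hN3 : N ^ 3 = 0 := Matrix.ext_of_mulVec_single fun i => by
    rw [Matrix.zero_mulVec, pow_succ, pow_succ, pow_one, ← Matrix.mulVec_mulVec, ← Matrix.mulVec_mulVec]
    rw [hNx (N *ᵥ (N *ᵥ _)), hNx (Pi.single i 1), hNx (mat s *ᵥ _ - _), hs.1 _ (hs.2 _ (hmap _)), sub_self]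
  have hp3 : 3 ≤ p ^ 2 := by
    have := (Fact.out : p.Prime).two_le
    calc 3 ≤ 2 ^ 2 := by norm_num
      _ ≤ p ^ 2 := Nat.pow_le_pow_left this 2
  refine om_ext_mulVec fun x => ?_
  have hpow : mat (s ^ p ^ 2) = (mat s) ^ p ^ 2 := by
    induction p ^ 2 with
    | zero => rfl
    | succ k ih => rw [pow_succ, pow_succ, ← ih]; rfl
  haveI : Nonempty ι := ⟨(Finset.card_pos.1 (show 0 < (Finset.univ : Finset ι).card by
    have := hc.seven; rw [Finset.card_univ]; omega)).choose⟩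
  rw [hpow, show mat s = N + 1 by rw [hN, sub_add_cancel],
    add_pow_char_pow_of_commute p 2 (Commute.one_right N), one_pow, pow_eq_zero_of_le hp3 hN3, zero_add,
    Matrix.one_mulVec, mat_one_mulVec]

omit [Fact p.Prime] in
theorem eq_one_of_pow_fix {u : Om Q} {k : ℕ} (hk : u ^ p ^ k = 1) [Fact p.Prime] {e : ι → F} (he : e ≠ 0) {a : F}
    (ha : mat u *ᵥ e = a • e) : a = 1 := by
  have hpow : ∀ i : ℕ, mat (u ^ i) *ᵥ e = a ^ i • e := fun i => by
    induction i with
    | zero => rw [pow_zero, pow_zero, one_smul, mat_one_mulVec]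
    | succ i ih => rw [pow_succ, mat_mul_mulVec, ha, Matrix.mulVec_smul, ih, smul_smul, pow_succ']
  have h1 := hpow (p ^ k)
  rw [hk, mat_one_mulVec] at h1
  have h2 : a ^ p ^ k = 1 := by
    have h0 : (a ^ p ^ k - 1) • e = 0 := by rw [sub_smul, one_smul, ← h1, sub_self]
    exact sub_eq_zero.1 ((smul_eq_zero.1 h0).resolve_right he)
  have h3 : (a - 1) ^ p ^ k = 0 := by rw [sub_pow_char_pow, h2, one_pow, sub_self]
  exact sub_eq_zero.1 (eq_zero_of_pow_eq_zero h3)

omit p [Fact p.Prime] [CharP F p] in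
/-- The fixed vectors of an element centralising the radical. -/
theorem fixed_points_of_centralizing {e v : ι → F} (h : Pr Q e v) {u : Om Q}
    (hu : ∀ a ∈ ln e v, ∀ w ∈ lperp Q (ln e v), u * sg Q a w = sg Q a w * u) {a : ι → F} (ha : a ∈ ln e v)
    (ha0 : a ≠ 0) : mat u *ᵥ a ∈ Submodule.span F {a} := by
  have hL : IsLine Q (ln e v) := ⟨e, v, h, rfl⟩
  have key : ∀ w ∈ lperp Q (ln e v), w ∉ Submodule.span F {a} → mat u *ᵥ a ∈ ln a w := fun w hw hwa => by
    have hs : IsSg Q a w := ⟨hL.singular ha, by rw [polar_comm]; exact hw a ha⟩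
    have h1 : u * sg Q a w * u⁻¹ = sg Q a w := by rw [hu a ha w hw, mul_inv_cancel_right]
    rw [conj_sg hc hs] at h1
    have hli : LinearIndependent F ![mat u *ᵥ a, mat u *ᵥ w] := LinearIndependent.pair_iff.2 fun s t hst => by
      have h0 : s • a + t • w = 0 := mat_injective u (by
        rw [Matrix.mulVec_add, Matrix.mulVec_smul, Matrix.mulVec_smul, hst, Matrix.mulVec_zero])
      exact LinearIndependent.pair_iff.1 ((LinearIndependent.pair_iff' ha0).2 fun c hc' =>
        hwa (Submodule.mem_span_singleton.2 ⟨c, hc'⟩)) s t h0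
    exact sg_eq_ln hc (hs.conj u) hli hs h1 (left_mem_ln _ _)
  obtain ⟨b, hb, hab, hLab⟩ := hL.exists_pr ha ha0
  obtain ⟨z, hz0, hzperp⟩ : ∃ z, z ∉ ln e v ∧ z ∈ lperp Q (ln e v) := by
    by_contra hne
    push Not at hne
    have h1 := Submodule.finrank_mono (show lperp Q (ln e v) ≤ ln e v from fun z hz => by
      by_contra hz'; exact hne z hz' hz)
    rw [hL.finrank] at h1
    have h2 : perpF Q ![e, v] ≤ lperp Q (ln e v) := fun x hx =>
      mem_lperp_ln.2 ⟨mem_perpF.1 hx 0, mem_perpF.1 hx 1⟩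
    have h3 := Submodule.finrank_mono h2
    have h4 := finrank_perpF (Q := Q) ![e, v]
    have := hc.seven
    omega
  have h1 := key b (hL.le_lperp hb) hab.not_mem
  have h2 := key z hzperp fun hm => hz0 ((Submodule.span_singleton_le_iff_mem a (ln e v)).2 ha hm)
  obtain ⟨s, t, hst⟩ := mem_ln.1 h1
  obtain ⟨s', t', hst'⟩ := mem_ln.1 h2
  have ht' : t' = 0 := by
    by_contra ht
    refine hz0 ?_
    have hz : z = t'⁻¹ • ((s - s') • a + t • b) := by
      rw [show (s - s') • a + t • b = t' • z by linear_combination (norm := module) hst - hst', inv_smul_smul₀ ht]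
    rw [hz]
    exact Submodule.smul_mem _ _ (add_mem (Submodule.smul_mem _ _ ha) (Submodule.smul_mem _ _ hb))
  rw [ht', zero_smul, add_zero] at hst'
  exact Submodule.mem_span_singleton.2 ⟨s', hst'⟩

/-- A p-element centralising the radical of a line lies in the root group of the line. -/
theorem centralizer_radical {e v : ι → F} (h : Pr Q e v) {u : Om Q} {k : ℕ} (hk : u ^ p ^ k = 1)
    (hu : ∀ a ∈ ln e v, ∀ w ∈ lperp Q (ln e v), u * sg Q a w = sg Q a w * u) : InX (ln e v) u := by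
  have hL : IsLine Q (ln e v) := ⟨e, v, h, rfl⟩
  have hfix : ∀ a ∈ ln e v, mat u *ᵥ a = a := fun a ha => by
    by_cases ha0 : a = 0
    · rw [ha0, Matrix.mulVec_zero]
    obtain ⟨c, hc'⟩ := Submodule.mem_span_singleton.1 (fixed_points_of_centralizing hc h hu ha ha0)
    rw [← hc', eq_one_of_pow_fix hc p hk ha0 hc'.symm, one_smul]
  have hperp : ∀ w ∈ lperp Q (ln e v), mat u *ᵥ w = w := fun w hw => by
    have hsub : ∀ a ∈ ln e v, a ≠ 0 → mat u *ᵥ w - w ∈ Submodule.span F {a} := fun a ha ha0 => by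
      have hs : IsSg Q a w := ⟨hL.singular ha, by rw [polar_comm]; exact hw a ha⟩
      have h1 : u * sg Q a w * u⁻¹ = sg Q a w := by rw [hu a ha w hw, mul_inv_cancel_right]
      rw [conj_sg hc hs, hfix a ha] at h1
      have hs' := hs.conj u
      rw [hfix a ha] at hs'
      exact sg_inj hc hs' hs ha0 h1
    obtain ⟨c, hc1⟩ := Submodule.mem_span_singleton.1 (hsub e (left_mem_ln e v) h.e_ne)
    obtain ⟨d, hd⟩ := Submodule.mem_span_singleton.1 (hsub v (right_mem_ln e v) h.v_ne)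
    have := h.indep (s := c) (t := -d) (by rw [hc1, neg_smul, hd, add_neg_cancel])
    rw [this.1, zero_smul] at hc1
    exact sub_eq_zero.1 hc1.symm
  obtain ⟨e', v', he', hv', h1, h2, h3, h4, h5⟩ := exists_dual hc h
  let r : (ι → F) → (ι → F) := fun x =>
    x - polar (⇑Q) x e • e' - polar (⇑Q) x v • v'
  have hr : ∀ x, r x ∈ lperp Q (ln e v) := fun x => mem_lperp_ln.2 (by
    constructor <;>
      simp [r, polar_sub_left, polar_smul_left, polar_comm (⇑Q) e' e, h1, polar_comm (⇑Q) v' e, h4,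
        polar_comm (⇑Q) e' v, h2, polar_comm (⇑Q) v' v, h3])
  have hD : ∀ y, polar (⇑Q) y e = 0 → polar (⇑Q) y v = 0 → (∀ w ∈ lperp Q (ln e v), polar (⇑Q) y w = 0) →
      y = polar (⇑Q) y e' • e + polar (⇑Q) y v' • v := fun y hye hyv hyw => by
    refine sub_eq_zero.1 (eq_zero_of_polar hc.nondeg fun x => ?_)
    rw [show x = r x + (polar (⇑Q) x e • e' + polar (⇑Q) x v • v') by simp only [r]; abel]
    simp only [polar_sub_left, polar_add_left, polar_add_right, polar_smul_left, polar_smul_right, smul_eq_mul,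
      h1, h2, h3, h4, hyw _ (hr x)]
    rw [polar_comm (⇑Q) e (r x), (mem_lperp_ln.1 (hr x)).1, polar_comm (⇑Q) v (r x), (mem_lperp_ln.1 (hr x)).2]
    ring
  have hcomp : ∀ z, mat u *ᵥ z - z =
      polar (⇑Q) (mat u *ᵥ z - z) e' • e + polar (⇑Q) (mat u *ᵥ z - z) v' • v := fun z => by
    have hgen : ∀ w, mat u *ᵥ w = w → polar (⇑Q) (mat u *ᵥ z - z) w = 0 := fun w hw => by
      rw [polar_sub_left, sub_eq_zero]
      conv_lhs => rw [← hw]
      exact polar_mat u z w
    exact hD _ (hgen e (hfix e (left_mem_ln e v))) (hgen v (hfix v (right_mem_ln e v))) fun w hw => hgen w (hperp w hw)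
  set α := polar (⇑Q) (mat u *ᵥ e' - e') e' with hα
  set β := polar (⇑Q) (mat u *ᵥ e' - e') v' with hβ
  set γ := polar (⇑Q) (mat u *ᵥ v' - v') e' with hγ
  set δ := polar (⇑Q) (mat u *ᵥ v' - v') v' with hδ
  have hue : mat u *ᵥ e' = e' + α • e + β • v := by rw [add_assoc, ← hcomp e', add_sub_cancel]
  have huv : mat u *ᵥ v' = v' + γ • e + δ • v := by rw [add_assoc, ← hcomp v', add_sub_cancel]
  have hα0 : α = 0 := by
    have := Q_mat u e'
    rw [hue, map_add_two, he', h.he, h.hv, h.hev, polar_comm (⇑Q) e' e, h1, polar_comm (⇑Q) e' v, h2] at this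
    linear_combination this
  have hδ0 : δ = 0 := by
    have := Q_mat u v'
    rw [huv, map_add_two, hv', h.he, h.hv, h.hev, polar_comm (⇑Q) v' e, h4, polar_comm (⇑Q) v' v, h3] at this
    linear_combination this
  have hγβ : γ + β = 0 := by
    have := polar_mat u e' v'
    rw [hue, huv] at this
    simp only [polar_add_left, polar_add_right, polar_smul_left, polar_smul_right, smul_eq_mul, h.hev,
      polar_comm (⇑Q) v e, polar_singular h.he, polar_singular h.hv, polar_comm (⇑Q) e' e, h1, polar_comm (⇑Q) e' v,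
      h2, h3, h4, h5] at this
    linear_combination this
  rw [InX.iff_param hc h]
  refine ⟨-β, om_ext_mulVec fun x => ?_⟩
  have hx : x = r x + polar (⇑Q) x e • e' + polar (⇑Q) x v • v' := by simp only [r]; abel
  conv_lhs => rw [hx, Matrix.mulVec_add, Matrix.mulVec_add, Matrix.mulVec_smul, Matrix.mulVec_smul, hperp _ (hr x),
    hue, huv, hα0, hδ0]
  rw [sg_mulVec hc (h.isSg _), sgMap, Quad.map_smul', h.hv, polar_smul_right, smul_eq_mul]
  simp only [r]
  rw [show γ = -β from eq_neg_of_add_eq_zero_left hγβ]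
  module

variable [Fintype F]

/-- A p-group fixes a singular line and its flag. -/
theorem exists_fixed_line {P : Subgroup (Om Q)} (hP : IsPGroup p P) :
    ∃ e v, Pr Q e v ∧ ∀ s ∈ P, ∀ t : F, s * sg Q e (t • v) = sg Q e (t • v) * s := by
  classical
  have hp : p.Prime := Fact.out
  obtain ⟨A, B, hAB, -⟩ := hc.pairs
  -- a fixed point
  let Z := {x : ι → F // Q x = 0}
  letI : MulAction P Z :=
    { smul := fun s x => ⟨mat s.1 *ᵥ x.1, by rw [Q_mat, x.2]⟩
      one_smul := fun x => Subtype.ext (mat_one_mulVec x.1)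
      mul_smul := fun s t x => Subtype.ext (mat_mul_mulVec s.1 t.1 x.1) }
  have hZ : p ∣ Nat.card Z := by
    have h3 : 3 ≤ finrank F (⊤ : Submodule F (ι → F)) := by
      rw [finrank_top, Module.finrank_fintype_fun_eq_card]; have := hc.seven; omega
    refine (zeros_dvd p (U := ⊤) (hAB 0) trivial trivial h3).trans (dvd_of_eq (Nat.card_congr ?_))
    exact { toFun := fun x => ⟨x.1.1, x.2⟩, invFun := fun x => ⟨⟨x.1, trivial⟩, x.2⟩,
            left_inv := fun x => rfl, right_inv := fun x => rfl }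
  obtain ⟨⟨e, he⟩, hfix, hne⟩ := hP.exists_fixed_point_of_prime_dvd_card_of_fixed_point Z hZ
    (a := ⟨0, QuadraticMap.map_zero Q⟩) (fun s => Subtype.ext (Matrix.mulVec_zero _))
  have he0 : e ≠ 0 := fun h => hne (Subtype.ext h.symm)
  have hfe : ∀ s ∈ P, mat s *ᵥ e = e := fun s hs => congrArg Subtype.val (hfix ⟨s, hs⟩)
  obtain ⟨f, hf, hef⟩ := exists_hyp_pair hc.nondeg he0 he
  have H : HPair Q e f := ⟨he, hf, hef⟩
  obtain ⟨a₁, b₁, a₂, b₂, h₁, -, i₁, j₁, -⟩ := hc.exists_pairs H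
  let U := perpF Q ![e, f]
  have hU : ∀ {x}, x ∈ U ↔ InW Q e f x := fun {x} => by
    rw [mem_perpF]
    exact ⟨fun h => ⟨h 0, h 1⟩, fun h i => by fin_cases i; exacts [h.1, h.2]⟩
  let Z' := {x : U // Q (x : ι → F) = 0}
  have hpr : ∀ x : ι → F, polar (⇑Q) x e = 0 → Q (proj Q e f x) = Q x := fun x hx => by
    conv_rhs => rw [eq_proj (Q := Q) e f x]
    rw [H.map_comb (H.proj_mem x), hx, mul_zero, zero_add]
  have hse : ∀ (s : P) (x : ι → F), polar (⇑Q) x e = 0 → polar (⇑Q) (mat s.1 *ᵥ x) e = 0 := fun s x hx => by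
    rw [← hfe s.1 s.2, polar_mat, hx]
  letI : MulAction P Z' :=
    { smul := fun s x => ⟨⟨proj Q e f (mat s.1 *ᵥ x.1.1), hU.2 (H.proj_mem _)⟩, by
        show Q (proj Q e f (mat s.1 *ᵥ x.1.1)) = 0
        rw [hpr _ (hse s _ (hU.1 x.1.2).1), Q_mat, x.2]⟩
      one_smul := fun x => Subtype.ext (Subtype.ext (by
        show proj Q e f (mat (1 : Om Q) *ᵥ x.1.1) = x.1.1
        rw [mat_one_mulVec, proj_eq (hU.1 x.1.2)]))
      mul_smul := fun s t x => Subtype.ext (Subtype.ext (by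
        show proj Q e f (mat (s.1 * t.1) *ᵥ x.1.1) = proj Q e f (mat s.1 *ᵥ proj Q e f (mat t.1 *ᵥ x.1.1))
        set y := mat t.1 *ᵥ x.1.1
        have hy : proj Q e f y = y - polar (⇑Q) y f • e := by
          rw [proj, hse t _ (hU.1 x.1.2).1, zero_smul, sub_zero]
        rw [mat_mul_mulVec, hy, Matrix.mulVec_sub, Matrix.mulVec_smul, hfe s.1 s.2]
        simp only [proj, polar_sub_left, polar_smul_left, H.aa, H.hab, smul_eq_mul]
        module)) }
  have hZ' : p ∣ Nat.card Z' := zeros_dvd p h₁ (hU.2 i₁) (hU.2 j₁) (by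
    have := finrank_perpF (Q := Q) ![e, f]
    have := hc.seven
    show 3 ≤ finrank F (perpF Q ![e, f])
    omega)
  obtain ⟨⟨⟨v, hvU⟩, hv⟩, hfix', hne'⟩ := hP.exists_fixed_point_of_prime_dvd_card_of_fixed_point Z' hZ'
    (a := ⟨0, QuadraticMap.map_zero Q⟩) (fun s => Subtype.ext (Subtype.ext (by
      show proj Q e f (mat s.1 *ᵥ (0 : ι → F)) = 0
      rw [Matrix.mulVec_zero, proj_eq inW_zero])))
  have hv0 : v ≠ 0 := fun h => hne' (Subtype.ext (Subtype.ext h.symm))
  have hpv : Pr Q e v := Pr.of_not_mem he0 he hv (hU.1 hvU).ax fun hm => by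
    obtain ⟨c, rfl⟩ := Submodule.mem_span_singleton.1 hm
    have := (hU.1 hvU).2
    rw [polar_smul_left, hef, smul_eq_mul, mul_one] at this
    exact hv0 (by rw [this, zero_smul])
  refine ⟨e, v, hpv, fun s hs t => ?_⟩
  have h1 : proj Q e f (mat s *ᵥ v) = v := congrArg (fun x : Z' => x.1.1) (hfix' ⟨s, hs⟩)
  have h2 : mat s *ᵥ v = v + polar (⇑Q) (mat s *ᵥ v) f • e := by
    conv_lhs => rw [eq_proj (Q := Q) e f (mat s *ᵥ v), h1, hse ⟨s, hs⟩ v (hU.1 hvU).1, zero_smul, add_zero]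
    rw [add_comm]
  have h3 := conj_sg hc (hpv.isSg t) s
  rw [hfe s hs, Matrix.mulVec_smul, h2, smul_add, smul_smul, sg_add_smul hc (hpv.isSg t)] at h3
  exact mul_inv_eq_iff_eq_mul.1 h3


/-- For each line a Sylow subgroup in which the root group is central, and the centre is that root group. -/
theorem exists_sylow {L : Submodule F (ι → F)} (hL : IsLine Q L) :
    ∃ P : Sylow p (Om Q), (∀ a b, a ∈ L → b ∈ L → sg Q a b ∈ (P : Subgroup (Om Q))) ∧
      (∀ s, InX L s → ∀ y ∈ (P : Subgroup (Om Q)), s * y = y * s) ∧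
      ∀ u ∈ (P : Subgroup (Om Q)), (∀ y ∈ (P : Subgroup (Om Q)), u * y = y * u) → InX L u := by
  obtain ⟨e, v, h, rfl⟩ := hL
  have hK : IsPGroup p (flagFix Q (ln e v)) := fun s => ⟨2, Subtype.ext (flagFix_pow hc p h s.2)⟩
  obtain ⟨P, hP⟩ := hK.exists_le_sylow
  have hrad : ∀ a ∈ ln e v, ∀ w ∈ lperp Q (ln e v), sg Q a w ∈ (P : Subgroup (Om Q)) := fun a ha w hw => by
    refine hP ?_
    by_cases ha0 : a = 0
    · subst ha0
      have h1 : sg Q 0 w = 1 := om_ext_mulVec fun x => by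
        rw [sg_mulVec hc ⟨QuadraticMap.map_zero Q, polar_zero_left Q w⟩, mat_one_mulVec, sgMap]; simp
      rw [h1]; exact one_mem _
    obtain ⟨b, hb, hab, hLab⟩ := IsLine.exists_pr ⟨e, v, h, rfl⟩ ha ha0
    rw [hLab] at hw ⊢
    exact sg_mem_flagFix hc hab hw
  have hin : ∀ u ∈ (P : Subgroup (Om Q)), (∀ y ∈ (P : Subgroup (Om Q)), u * y = y * u) → InX (ln e v) u :=
    fun u hu hcomm => by
      obtain ⟨k, hk⟩ := P.isPGroup' ⟨u, hu⟩
      exact centralizer_radical hc p h (k := k) (by simpa using congrArg Subtype.val hk)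
        fun a ha w hw => hcomm _ (hrad a ha w hw)
  obtain ⟨e', v', h', hcent⟩ := exists_fixed_line hc p P.isPGroup'
  have hmem : ∀ t : F, sg Q e' (t • v') ∈ (P : Subgroup (Om Q)) := fun t => by
    have hz : IsPGroup p (Subgroup.zpowers (sg Q e' (t • v'))) := fun x => by
      obtain ⟨j, hj⟩ := Subgroup.mem_zpowers_iff.1 x.2
      refine ⟨1, Subtype.ext ?_⟩
      rw [SubmonoidClass.coe_pow, ← hj, ← zpow_natCast, ← _root_.zpow_mul, mul_comm, _root_.zpow_mul, zpow_natCast,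
        sg_pow hc p (h'.isSg t), _root_.one_zpow]
      rfl
    have hnorm : Subgroup.zpowers (sg Q e' (t • v')) ≤ Subgroup.normalizer ((P : Subgroup (Om Q)) : Set (Om Q)) := by
      rw [Subgroup.zpowers_le, Subgroup.mem_normalizer_iff]
      intro y
      constructor
      · intro hy
        rw [← hcent y hy t, mul_inv_cancel_right]; exact hy
      · intro hy
        have := hcent _ hy t
        have e1 : y = sg Q e' (t • v') * y * (sg Q e' (t • v'))⁻¹ := by
          set z := sg Q e' (t • v')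
          have e2 : z * y * z⁻¹ * z = z * (z * y * z⁻¹) := this
          rw [inv_mul_cancel_right] at e2
          exact mul_left_cancel e2
        rw [e1]; exact hy
    have h1 := P.is_maximal' (hz.to_sup_of_normal_right' P.isPGroup' hnorm) le_sup_right
    exact h1 ▸ Subgroup.mem_sup_left (Subgroup.mem_zpowers _)
  have hline : ln e v = ln e' v' := by
    refine IsLine.eq_of_sg hc ⟨e, v, h, rfl⟩ ⟨e', v', h', rfl⟩ (s := sg Q e' ((1 : F) • v'))
      (hin _ (hmem 1) fun y hy => (hcent y hy 1).symm) ((InX.iff_param hc h').2 ⟨1, rfl⟩) ?_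
    exact h'.sg_ne_one hc one_ne_zero
  refine ⟨P, fun a b ha hb => hrad a ha b (IsLine.le_lperp ⟨e, v, h, rfl⟩ hb), fun s hs y hy => ?_, hin⟩
  rw [hline, InX.iff_param hc h'] at hs
  obtain ⟨t, rfl⟩ := hs
  exact (hcent y hy t).symm

/-- The image of a root group. -/
theorem image_root {L : Submodule F (ι → F)} (hL : IsLine Q L) (β : MulAut (Cfsg.POmega F ⇑Q)) :
    ∃ M, IsLine Q M ∧ ∀ s, InX L s → ∃ s', InX M s' ∧ β (mkO s) = mkO s' := by
  classical
  haveI : Finite (Om Q) := inferInstance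
  obtain ⟨P, hmem, hcent, hin⟩ := exists_sylow hc p hL
  let Pb : Sylow p (Cfsg.POmega F ⇑Q) := P.mapSurjective mkO_surjective
  let R : Sylow p (Cfsg.POmega F ⇑Q) :=
    Pb.mapSurjective (f := (β : Cfsg.POmega F ⇑Q ≃* Cfsg.POmega F ⇑Q).toMonoidHom) β.surjective
  obtain ⟨x, hx⟩ := MulAction.exists_smul_eq (Cfsg.POmega F ⇑Q) Pb R
  obtain ⟨g, rfl⟩ := mkO_surjective x
  have hR : ((P : Subgroup (Om Q)).map mkO).map (β : Cfsg.POmega F ⇑Q ≃* Cfsg.POmega F ⇑Q).toMonoidHom =
      ((P : Subgroup (Om Q)).map mkO).map (MulAut.conj (mkO g)).toMonoidHom := by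
    have := congrArg (fun T : Sylow p (Cfsg.POmega F ⇑Q) => (T : Subgroup (Cfsg.POmega F ⇑Q))) hx
    exact this.symm
  obtain ⟨e, v, h, rfl⟩ := hL
  refine ⟨ln (mat g *ᵥ e) (mat g *ᵥ v), ⟨_, _, ⟨by rw [Q_mat, h.he], by rw [Q_mat, h.hv], by rw [polar_mat, h.hev],
    LinearIndependent.pair_iff.2 fun s t hst => h.indep (mat_injective g (by
      rw [Matrix.mulVec_add, Matrix.mulVec_smul, Matrix.mulVec_smul, hst, Matrix.mulVec_zero]))⟩, rfl⟩, fun s hs => ?_⟩
  have hsP : s ∈ (P : Subgroup (Om Q)) := by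
    obtain ⟨a, b, ha, hb, rfl⟩ := hs; exact hmem a b ha hb
  have h1 : β (mkO s) ∈ ((P : Subgroup (Om Q)).map mkO).map (MulAut.conj (mkO g)).toMonoidHom := by
    rw [← hR]; exact ⟨_, ⟨s, hsP, rfl⟩, rfl⟩
  obtain ⟨_, ⟨u, huP, rfl⟩, hu'⟩ := h1
  have hu'' : β (mkO s) = mkO g * mkO u * (mkO g)⁻¹ := hu'.symm
  obtain ⟨k, hk⟩ := P.isPGroup' ⟨u, huP⟩
  have hku : u ^ p ^ k = 1 := by simpa using congrArg Subtype.val hk
  have hcomm : ∀ w ∈ (P : Subgroup (Om Q)), u * w = w * u := fun w hw => by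
    have h1 : mkO g * mkO w * (mkO g)⁻¹ ∈
        ((P : Subgroup (Om Q)).map mkO).map (β : Cfsg.POmega F ⇑Q ≃* Cfsg.POmega F ⇑Q).toMonoidHom := by
      rw [hR]; exact ⟨_, ⟨w, hw, rfl⟩, rfl⟩
    obtain ⟨_, ⟨w', hw', rfl⟩, hw''⟩ := h1
    have h2 : Commute (β (mkO s)) (β (mkO w')) :=
      ((show Commute s w' from hcent s hs w' hw').map mkO).map β
    rw [hu'', show β (mkO w') = mkO g * mkO w * (mkO g)⁻¹ from hw''] at h2
    exact (commute_of_mkO hc p hku ((Commute.conj_iff (h := mkO g)).1 h2)).eq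
  refine ⟨g * u * g⁻¹, ?_, by rw [hu'', map_mul, map_mul, map_inv]⟩
  obtain ⟨t, rfl⟩ := (InX.iff_param hc h).1 (hin u huP hcomm)
  rw [conj_sg hc (h.isSg t), Matrix.mulVec_smul]
  exact ⟨_, _, left_mem_ln _ _, Submodule.smul_mem _ _ (right_mem_ln _ _), rfl⟩

end Cfsg.Agent.AutPOmega
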