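import Cfsg.Agent.AutPOmega.NormRing
import Cfsg.Agent.Classical.QuadDecomp
import Cfsg.Agent.Classical.AltBasis

/-!
The algebra generated by a semisimple isometry: the adjoint involution, similarities commuting with the isometry
with prescribed multiplier, their determinants.
-/

set_option autoImplicit false

namespace Cfsg.Agent.AutPOmega

open Module QuadraticMap Polynomial
open scoped IsMulCommutative Matrix

variable {F V : Type*} [Field F] [AddCommGroup V] [Module F V]

theorem det_alt_similitude [FiniteDimensional F V] {B : LinearMap.BilinForm F V} (hA : B.IsAlt)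
    (hB : ∀ x, (∀ z, B x z = 0) → x = 0) {k : ℕ} (hk : finrank F V = 2 * k) (t : Module.End F V) {c : F}
    (hc : c ≠ 0) (ht : ∀ x z, B (t x) (t z) = c * B x z) : LinearMap.det t = c ^ k := by
  classical
  obtain ⟨m, e, f, hb, hm⟩ := Classical.Alt.exists_sympBasis hA ⊤ fun w _ hw0 => by
    by_contra h
    push Not at h
    exact hw0 (hB w fun z => h z trivial)
  rw [finrank_top, hk] at hm
  obtain rfl : k = m := by omega
  let b : Basis (Fin k ⊕ Fin k) F V := Basis.mk (hb.linearIndependent hA) hb.span
  have hG : LinearMap.BilinForm.toMatrix b B = -Matrix.J (Fin k) F := by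
    ext i j
    rw [LinearMap.BilinForm.toMatrix_apply]
    rcases i with i | i <;> rcases j with j | j
    · simp [b, hb.ee, Matrix.J]
    · simp [b, hb.ef, Matrix.J, Matrix.one_apply]
    · simp [b, Classical.Alt.neg' hA (e j) (f i), hb.ef, Matrix.J, Matrix.one_apply, eq_comm]
    · simp [b, hb.ff, Matrix.J]
  set M := LinearMap.toMatrix b b t with hM
  have h1 : Mᵀ * Matrix.J (Fin k) F * M = c • Matrix.J (Fin k) F := by
    have e1 : LinearMap.BilinForm.toMatrix b (B.comp t t) = Mᵀ * (-Matrix.J (Fin k) F) * M := by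
      rw [LinearMap.BilinForm.toMatrix_comp b b B t t, hG]
    have e2 : B.comp t t = c • B := LinearMap.ext fun x => LinearMap.ext fun z => by
      simp [ht]
    rw [e2, map_smul, hG] at e1
    rw [Matrix.mul_neg, Matrix.neg_mul, smul_neg, neg_inj] at e1
    exact e1.symm
  set D : Matrix (Fin k ⊕ Fin k) (Fin k ⊕ Fin k) F := Matrix.fromBlocks (c⁻¹ • 1) 0 0 1 with hD
  have hDJ : Dᵀ * Matrix.J (Fin k) F * D = c⁻¹ • Matrix.J (Fin k) F := by
    simp [hD, Matrix.J, Matrix.fromBlocks_transpose, Matrix.fromBlocks_multiply, Matrix.fromBlocks_smul]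
  have hmem : M * D ∈ Matrix.symplecticGroup (Fin k) F := by
    rw [SymplecticGroup.mem_iff', Matrix.transpose_mul,
      show Dᵀ * Mᵀ * Matrix.J (Fin k) F * (M * D) = Dᵀ * (Mᵀ * Matrix.J (Fin k) F * M) * D by
        simp only [Matrix.mul_assoc], h1, Matrix.mul_smul, Matrix.smul_mul, hDJ, smul_smul, mul_inv_cancel₀ hc,
      one_smul]
  have hdet := SymplecticGroup.det_eq_one hmem
  rw [Matrix.det_mul, hD, Matrix.det_fromBlocks_zero₂₁, Matrix.det_smul, Matrix.det_one, mul_one, mul_one,
    Fintype.card_fin, inv_pow, hM, LinearMap.det_toMatrix] at hdet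
  exact (mul_inv_eq_one₀ (pow_ne_zero k hc)).1 hdet

/-- The algebra generated by an endomorphism. -/
abbrev algS (S : Module.End F V) : Subalgebra F (Module.End F V) := Algebra.adjoin F ({S} : Set (Module.End F V))

theorem algS_isReduced {S : Module.End F V} {r : ℕ} (hrF : (r : F) ≠ 0) (hSr : S ^ r = 1) :
    IsReduced (algS S) := by
  refine ⟨fun a ⟨n, hn⟩ => ?_⟩
  obtain ⟨p, hp⟩ : ∃ p : F[X], aeval S p = (a : Module.End F V) := by
    have : (a : Module.End F V) ∈ Algebra.adjoin F ({S} : Set (Module.End F V)) := a.2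
    rwa [Algebra.adjoin_singleton_eq_range_aeval, AlgHom.mem_range] at this
  rcases Nat.eq_zero_or_pos n with rfl | hn0
  · have h1 : (1 : algS S) = 0 := by rw [← pow_zero a]; exact hn
    rw [← mul_one a, h1, mul_zero]
  refine Subtype.ext ?_
  have h0 : aeval S (p ^ n) = 0 := by
    rw [map_pow, hp, ← Subalgebra.coe_pow, hn]; rfl
  have hsq : Squarefree (minpoly F S) :=
    Squarefree.squarefree_of_dvd (minpoly.dvd F S (show aeval S (X ^ r - 1 : F[X]) = 0 by simp [hSr]))
      (Separable.squarefree (X_pow_sub_one_separable_iff.2 hrF))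
  obtain ⟨w, hw⟩ := (hsq.dvd_pow_iff_dvd hn0.ne').1 (minpoly.dvd F S h0)
  show (a : Module.End F V) = 0
  rw [← hp, hw, map_mul, minpoly.aeval, zero_mul]

theorem algS_finite [FiniteDimensional F V] [Finite F] (S : Module.End F V) : Finite (algS S) := by
  haveI : Finite V := Module.finite_of_finite F
  haveI : Finite (Module.End F V) := Finite.of_injective (fun f : Module.End F V => (f : V → V)) DFunLike.coe_injective
  infer_instance

section Isometry

variable {Q : QuadraticForm F V} (hQ : (polarBilin Q).Nondegenerate) {S : Module.End F V}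
  (hS : ∀ x, Q (S x) = Q x) {r : ℕ} (hr0 : 0 < r) (hSr : S ^ r = 1)
include hQ

theorem adj_unique {a b b' : Module.End F V} (h : ∀ x z, polar Q (a x) z = polar Q x (b z))
    (h' : ∀ x z, polar Q (a x) z = polar Q x (b' z)) : b = b' := LinearMap.ext fun z => by
  refine sub_eq_zero.1 (Classical.Quad.eq_zero_of_polar hQ fun x => ?_)
  rw [polar_comm, polar_sub_right, ← h, ← h', sub_self]

include hS hr0 hSr

theorem exists_adj (a : algS S) : ∃ b : algS S, ∀ x z, polar Q ((a : Module.End F V) x) z =
    polar Q x ((b : Module.End F V) z) := by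
  obtain ⟨a, ha⟩ := a
  induction ha using Algebra.adjoin_induction with
  | mem x hx =>
    obtain rfl := Set.mem_singleton_iff.1 hx
    refine ⟨⟨x ^ (r - 1), pow_mem (Algebra.self_mem_adjoin_singleton F x) _⟩, fun u z => ?_⟩
    have e : (x * x ^ (r - 1)) z = z := by
      rw [← pow_succ', Nat.sub_add_cancel hr0, hSr]; rfl
    conv_lhs => rw [← e, Module.End.mul_apply]
    simp only [polar, ← map_add, hS]
  | algebraMap t => exact ⟨⟨_, Subalgebra.algebraMap_mem _ t⟩, fun u z => by
      show polar Q (t • u) z = polar Q u (t • z)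
      rw [polar_smul_left, polar_smul_right]⟩
  | add x y _ _ hx hy =>
    obtain ⟨b, hb⟩ := hx
    obtain ⟨b', hb'⟩ := hy
    exact ⟨b + b', fun u z => by
      show polar Q (x u + y u) z = polar Q u ((b : Module.End F V) z + (b' : Module.End F V) z)
      rw [polar_add_left, polar_add_right, hb, hb']⟩
  | mul x y _ _ hx hy =>
    obtain ⟨b, hb⟩ := hx
    obtain ⟨b', hb'⟩ := hy
    exact ⟨b' * b, fun u z => by
      show polar Q (x (y u)) z = polar Q u ((b' : Module.End F V) ((b : Module.End F V) z))
      rw [hb, hb']⟩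

theorem exists_adjEquiv : ∃ τ : algS S ≃+* algS S, (∀ a, τ (τ a) = a) ∧
    ∀ (a : algS S) x z, polar Q ((a : Module.End F V) x) z = polar Q x ((τ a : Module.End F V) z) := by
  choose f hf using exists_adj hQ hS hr0 hSr
  have huniq : ∀ a b : algS S, (∀ x z, polar Q ((a : Module.End F V) x) z = polar Q x ((b : Module.End F V) z)) →
      f a = b := fun a b h => Subtype.ext (adj_unique hQ (hf a) h)
  have hinv : ∀ a, f (f a) = a := fun a => huniq _ _ fun x z => by
    rw [polar_comm Q, ← hf, polar_comm Q]
  refine ⟨{ toFun := f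
            invFun := f
            left_inv := hinv
            right_inv := hinv
            map_mul' := fun a b => huniq _ _ fun x z => by
              rw [mul_comm (f a)]
              show polar Q ((a : Module.End F V) ((b : Module.End F V) x)) z = _
              rw [hf, hf]
              rfl
            map_add' := fun a b => huniq _ _ fun x z => by
              show polar Q ((a : Module.End F V) x + (b : Module.End F V) x) z =
                polar Q x ((f a : Module.End F V) z + (f b : Module.End F V) z)
              rw [polar_add_left, polar_add_right, hf, hf] }, hinv, hf⟩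

variable [FiniteDimensional F V] [Finite F] (h2 : (2 : F) ≠ 0) (hodd : Odd r) (hrF : (r : F) ≠ 0)
  (hfix : ∀ x, S x = x → x = 0)
include h2 hodd hrF hfix

theorem skew_injective : Function.Injective ((S - S ^ (r - 1) : Module.End F V)) :=
  (injective_iff_map_eq_zero _).2 fun x hx => by
    obtain ⟨j, hj⟩ := hodd
    rw [LinearMap.sub_apply, sub_eq_zero] at hx
    have h : (S ^ 2) x = x := by
      rw [pow_two, Module.End.mul_apply, hx, ← Module.End.mul_apply, ← pow_succ', Nat.sub_add_cancel hr0, hSr]
      rfl
    have h' : ∀ i, ((S ^ 2) ^ i) x = x := fun i => by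
      induction i with
      | zero => rfl
      | succ i ih => rw [pow_succ, Module.End.mul_apply, h, ih]
    refine hfix x ?_
    conv_rhs => rw [show x = (1 : Module.End F V) x from rfl, ← hSr, hj, pow_succ', pow_mul, Module.End.mul_apply, h']

theorem skew_adj (τ : algS S ≃+* algS S)
    (hτ : ∀ (a : algS S) x z, polar Q ((a : Module.End F V) x) z = polar Q x ((τ a : Module.End F V) z))
    (hτ2 : ∀ a, τ (τ a) = a) :
    ∃ y : algS S, (y : Module.End F V) = S - S ^ (r - 1) ∧ IsUnit y ∧ τ y = -y := by
  have hmem := Algebra.self_mem_adjoin_singleton F S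
  let s : algS S := ⟨S, hmem⟩
  have hτs : τ s = s ^ (r - 1) := Subtype.ext (adj_unique hQ (hτ s) fun u z => by
    have e : (S * S ^ (r - 1)) z = z := by
      rw [← pow_succ', Nat.sub_add_cancel hr0, hSr]; rfl
    conv_lhs => rw [← e, Module.End.mul_apply]
    simp only [s, SubmonoidClass.coe_pow, SubmonoidClass.mk_pow, Module.End.mul_apply, polar, ← map_add, hS])
  refine ⟨s - s ^ (r - 1), by simp [s], ?_, ?_⟩
  · haveI : Finite (algS S) := algS_finite S
    have hinj : Function.Injective fun a : algS S => (s - s ^ (r - 1)) * a := fun a b h => by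
      refine Subtype.ext (LinearMap.ext fun x => skew_injective hQ hS hr0 hSr h2 hodd hrF hfix ?_)
      have h' := congrArg (fun w : algS S => (w : Module.End F V) x) h
      simpa [s] using h'
    obtain ⟨w, hw⟩ := (Finite.injective_iff_surjective.1 hinj) 1
    exact IsUnit.of_mul_eq_one w hw
  · rw [map_sub, map_pow, hτs, ← pow_mul]
    have h1 : s ^ r = 1 := Subtype.ext (by simp [s, hSr])
    have h2' : s ^ ((r - 1) * (r - 1)) = s := by
      obtain ⟨j, hj⟩ := hodd
      rcases j with _ | j
      · subst hj
        simp only [Nat.mul_zero, Nat.zero_add, pow_one] at h1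
        simp [h1]
      · rw [show (r - 1) * (r - 1) = r * (2 * j + 1) + 1 by
          rw [hj, show 2 * (j + 1) + 1 - 1 = 2 * j + 2 by omega]; ring, pow_succ, pow_mul, h1, one_pow, one_mul]
    rw [h2', neg_sub]

end Isometry

end Cfsg.Agent.AutPOmega
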