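import Cfsg.Agent.AutPOmega.Space
import Cfsg.Agent.Classical.QuadBasis
import Cfsg.Agent.Classical.QuadTypes

/-!
The standard forms of odd, plus and minus type satisfy the standing hypotheses.
-/

set_option autoImplicit false

namespace Cfsg.Agent.AutPOmega

open Module QuadraticMap Classical.Quad

variable {ι : Type} [Fintype ι] [DecidableEq ι] {F : Type*} [Field F]

theorem ctx_of_hyp {U : Type*} [AddCommGroup U] [Module F U] {R : QuadraticForm F U}
    (hR : (polarBilin R).Nondegenerate) {m : ℕ} (hm : 3 ≤ m)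
    (e : (ι → F) ≃ₗ[F] ((Fin m → F) × (Fin m → F)) × U) (h7 : 7 ≤ Fintype.card ι)
    (hD : 9 ≤ Fintype.card ι ∨
      ∀ W : Submodule F (ι → F), (∀ x ∈ W, (hyp R m).comp e.toLinearMap x = 0) → finrank F W ≤ 3) :
    Ctx ((hyp R m).comp e.toLinearMap) where
  nondeg := Iso.nondeg (Q := hyp R m) ⟨e.symm, fun x => by simp⟩ (nondeg_hyp hR m)
  seven := h7
  notD4 := hD
  pairs := by
    let k : Fin 3 → Fin m := Fin.castLE hm
    have hk : Function.Injective k := Fin.castLE_injective hm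
    have hp : ∀ x y, polar (⇑((hyp R m).comp e.toLinearMap)) (e.symm x) (e.symm y) = polar (⇑(hyp R m)) x y :=
      fun x y => by simp only [polar, ← map_add, QuadraticMap.comp_apply, LinearEquiv.coe_coe, e.apply_symm_apply]
    refine ⟨fun i => e.symm ((Pi.single (k i) 1, 0), 0), fun i => e.symm ((0, Pi.single (k i) 1), 0), fun i => ?_,
      fun i j h => ?_⟩
    · refine ⟨?_, ?_, ?_⟩
      · simp [hyp_apply]
      · simp [hyp_apply]
      · rw [hp, polar_hyp]
        simp [Pi.single_apply, QuadraticMap.polar_zero_left]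
    · have hne : k i ≠ k j := hk.ne h
      refine ⟨?_, ?_, ?_⟩ <;> rw [hp, polar_hyp] <;>
        simp [Pi.single_apply, QuadraticMap.polar_zero_left, hne, hne.symm]

theorem two_ne_zero_of_odd [Fintype F] (hodd : Odd (Fintype.card F)) : (2 : F) ≠ 0 := fun h => by
  have hc : ringChar F = 2 := by
    have : CharP F 2 := CharTwo.of_one_ne_zero_of_two_eq_zero one_ne_zero h
    exact ringChar.eq F 2
  exact Nat.not_even_iff_odd.2 hodd (Nat.even_iff.2 (FiniteField.even_card_of_char_two hc))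

/-- The odd form. -/
theorem exists_ctx_odd [Fintype F] (hodd : Odd (Fintype.card F)) {m : ℕ} (hm : 3 ≤ m) :
    ∃ Q : QuadraticForm F (Unit ⊕ (Fin m ⊕ Fin m) → F), ⇑Q = Cfsg.quadFormOdd m F ∧ Ctx Q := by
  have hn := nondeg_sqForm (two_ne_zero_of_odd hodd)
  refine ⟨(hyp (sqForm F) m).comp (oddCoord m).toLinearMap, funext fun v => oddCoord_map m v,
    ctx_of_hyp hn hm _ (by simp; omega) ?_⟩
  rcases Nat.lt_or_ge m 4 with h | h
  · refine Or.inr fun W hW => ?_
    have h2 := two_mul_finrank_le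
      (Iso.nondeg (Q := hyp (sqForm F) m) ⟨(oddCoord m).symm, fun x => by simp⟩ (nondeg_hyp hn m)) hW
    rw [Module.finrank_fintype_fun_eq_card] at h2
    simp at h2
    omega
  · exact Or.inl (by simp; omega)

/-- The plus form. -/
theorem exists_ctx_plus {m : ℕ} (hm : 5 ≤ m) :
    ∃ Q : QuadraticForm F (Fin m ⊕ Fin m → F), ⇑Q = Cfsg.quadFormPlus m F ∧ Ctx Q :=
  ⟨(hyp (zeroForm F) m).comp (plusCoord m).toLinearMap, funext fun v => plusCoord_map m v,
    ctx_of_hyp nondeg_zeroForm (by omega) _ (by simp; omega) (Or.inl (by simp; omega))⟩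

/-- The minus form. -/
theorem exists_ctx_minus [Finite F] {m : ℕ} (hm : 3 ≤ m) {a b : F}
    (hab : ∀ z₁ z₂ : F, z₁ ^ 2 + a * z₁ * z₂ + b * z₂ ^ 2 = 0 → z₁ = 0 ∧ z₂ = 0) :
    ∃ Q : QuadraticForm F ((Fin m ⊕ Fin m) ⊕ Fin 2 → F), ⇑Q = Cfsg.quadFormMinus m F a b ∧ Ctx Q := by
  refine ⟨(hyp (binForm a b) m).comp (minusCoord m).toLinearMap, funext fun v => minusCoord_map a b m v,
    ctx_of_hyp (nondeg_binForm hab) hm _ (by simp; omega) ?_⟩
  rcases Nat.lt_or_ge m 4 with h | h
  · refine Or.inr fun W hW => ((minus_index hab m).2 W fun u hu => ?_).trans (by omega)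
    rw [← minusCoord_map]; exact hW u hu
  · exact Or.inl (by simp; omega)

end Cfsg.Agent.AutPOmega
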