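import Cfsg.Agent.AutPOmega.OddField
import Cfsg.Agent.AutPOmega.Balance

/-!
Transport of POmega, its automorphisms and its inner-diagonal data along a similitude between two forms.
-/

set_option autoImplicit false

namespace Cfsg.Agent.AutPOmega

open Module QuadraticMap Classical.Quad Matrix

section Groups

variable {X Y : Type*} [Group X] [Group Y]

theorem map_inf_centralizer (e : X ≃* Y) (H : Subgroup X) (x : X) :
    (H ⊓ Subgroup.centralizer {x}).map e.toMonoidHom = H.map e.toMonoidHom ⊓ Subgroup.centralizer {e x} := by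
  rw [Subgroup.map_inf _ _ _ e.injective]
  congr 1
  ext y
  obtain ⟨z, rfl⟩ := e.surjective y
  refine (Subgroup.mem_map_iff_mem (f := e.toMonoidHom) e.injective).trans ?_
  rw [Subgroup.mem_centralizer_singleton_iff, Subgroup.mem_centralizer_singleton_iff, ← map_mul, ← map_mul,
    e.injective.eq_iff]

theorem isConjUnder_map (e : X ≃* Y) (H : Subgroup X) (x y : X) :
    Cfsg.IsConjUnder (H.map e.toMonoidHom) (e x) (e y) ↔ Cfsg.IsConjUnder H x y := by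
  constructor
  · rintro ⟨_, ⟨h, hh, rfl⟩, hy⟩
    exact ⟨h, hh, e.injective (hy.trans (by simp))⟩
  · rintro ⟨h, hh, rfl⟩
    exact ⟨_, ⟨h, hh, rfl⟩, by simp⟩

theorem splitClassCount_map (e : X ≃* Y) (H K : Subgroup X) (x : X) :
    Cfsg.splitClassCount (H.map e.toMonoidHom) (K.map e.toMonoidHom) (e x) = Cfsg.splitClassCount H K x :=
  (Nat.card_congr (Quot.congr (e.toEquiv.subtypeEquiv fun y => (isConjUnder_map e H x y).symm)
    fun a b => (isConjUnder_map e K a.1 b.1).symm)).symm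

theorem map_inn (e : X ≃* Y) : (Cfsg.Inn X).map (MulAut.congr e).toMonoidHom = Cfsg.Inn Y := by
  have key : ∀ k, MulAut.congr e (MulAut.conj k) = MulAut.conj (e k) := fun k => MulEquiv.ext fun z => by
    show e (k * e.symm z * k⁻¹) = e k * z * (e k)⁻¹
    rw [map_mul, map_mul, map_inv, e.apply_symm_apply]
  ext β
  constructor
  · rintro ⟨_, ⟨k, rfl⟩, rfl⟩
    exact ⟨e k, (key k).symm⟩
  · rintro ⟨k, rfl⟩
    exact ⟨_, ⟨e.symm k, rfl⟩, (key _).trans (by rw [e.apply_symm_apply])⟩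

/-- Witnesses transport along isomorphisms. -/
theorem witness_congr (e : X ≃* Y) {p : ℕ} {x : MulAut X} (h : LocalBalance.Witness p x) :
    LocalBalance.Witness p (MulAut.congr e x) := by
  obtain ⟨S, hI, hC, hN, hF, hS⟩ := h.exists_sub
  set Φ := MulAut.congr e
  have hinn : (LocalBalance.innR X).map Φ.toMonoidHom = LocalBalance.innR Y := map_inn e
  refine ⟨S.map Φ.toMonoidHom, hinn ▸ Subgroup.map_mono hI, ?_, ?_, ?_, ?_⟩
  · rintro _ ⟨z, hz, rfl⟩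
    rw [Subgroup.mem_centralizer_singleton_iff]
    exact ((map_mul Φ z x).symm.trans (congrArg Φ (Subgroup.mem_centralizer_singleton_iff.1 (hC hz)))).trans
      (map_mul Φ x z)
  · rintro y hy hyx _ ⟨z, hz, rfl⟩
    rw [← hinn] at hy
    obtain ⟨w, hw, rfl⟩ := hy
    refine ⟨w * z * w⁻¹, hN w hw (Φ.injective ?_) z hz, by simp⟩
    rw [map_mul, map_mul]
    exact hyx
  · intro y hyx hyS
    obtain ⟨w, rfl⟩ := Φ.surjective y
    obtain ⟨k, hk⟩ := hF w (Φ.injective (by rw [map_mul, map_mul]; exact hyx)) fun z hz =>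
      Φ.injective (by rw [map_mul, map_mul]; exact hyS _ ⟨z, hz, rfl⟩)
    exact ⟨k, (map_zpow Φ x k).symm.trans (congrArg Φ hk)⟩
  · intro M hM hMn hMc
    have hb : M.comap Φ.toMonoidHom = ⊥ := by
      refine hS _ (fun z hz => ?_) (fun z hz w hw => ?_) ?_
      · obtain ⟨z', hz', he⟩ := hM hz
        rwa [← Φ.injective he]
      · show Φ (z * w * z⁻¹) ∈ M
        rw [map_mul, map_mul, map_inv]
        exact hMn _ ⟨z, hz, rfl⟩ _ hw
      · exact hMc.of_dvd_left (Subgroup.card_comap_dvd_of_injective M _ Φ.injective)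
    refine (Subgroup.eq_bot_iff_forall M).2 fun w hw => ?_
    obtain ⟨z, rfl⟩ := Φ.surjective w
    have : z ∈ M.comap Φ.toMonoidHom := hw
    rw [hb, Subgroup.mem_bot] at this
    rw [this, map_one]

end Groups

variable {ι : Type} [Fintype ι] [DecidableEq ι] {F : Type*} [Field F]

/-- A similitude from P to Q. -/
structure Sim (P Q : QuadraticForm F (ι → F)) where
  H : GL ι F
  c : F
  c_ne : c ≠ 0
  map_Q : ∀ v, Q (H.1 *ᵥ v) = c * P v

namespace Sim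

variable {P Q : QuadraticForm F (ι → F)} (e : Sim P Q)

/-- The inverse similitude. -/
def symm : Sim Q P where
  H := e.H⁻¹
  c := e.c⁻¹
  c_ne := inv_ne_zero e.c_ne
  map_Q v := by
    have h := e.map_Q ((e.H⁻¹).1 *ᵥ v)
    rw [Matrix.mulVec_mulVec, Units.mul_inv, Matrix.one_mulVec] at h
    rw [h, inv_mul_cancel_left₀ e.c_ne]

theorem H_inv (v : ι → F) : e.H.1 *ᵥ ((e.H⁻¹).1 *ᵥ v) = v := by
  rw [Matrix.mulVec_mulVec, Units.mul_inv, Matrix.one_mulVec]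

theorem inv_H (v : ι → F) : (e.H⁻¹).1 *ᵥ (e.H.1 *ᵥ v) = v := by
  rw [Matrix.mulVec_mulVec, Units.inv_mul, Matrix.one_mulVec]

theorem conj_app (s : GL ι F) (v : ι → F) : (e.H * s * e.H⁻¹).1 *ᵥ (e.H.1 *ᵥ v) = e.H.1 *ᵥ (s.1 *ᵥ v) := by
  rw [Units.val_mul, Units.val_mul, Matrix.mulVec_mulVec, Matrix.mul_assoc, Units.inv_mul, Matrix.mul_one,
    ← Matrix.mulVec_mulVec]

theorem conj_mem {s : GL ι F} (hs : s ∈ Cfsg.isometryGroup F ⇑P) :
    e.H * s * e.H⁻¹ ∈ Cfsg.isometryGroup F ⇑Q := mem_isometryGroup_iff.2 fun v => by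
  rw [← e.H_inv v, e.conj_app, e.map_Q, e.map_Q, mem_isometryGroup_iff.1 hs]

/-- The isomorphism of isometry groups. -/
def iso : Cfsg.isometryGroup F ⇑P ≃* Cfsg.isometryGroup F ⇑Q where
  toFun s := ⟨e.H * s.1 * e.H⁻¹, e.conj_mem s.2⟩
  invFun s := ⟨e.H⁻¹ * s.1 * e.H, by
    have := e.symm.conj_mem s.2
    rwa [show e.symm.H * s.1 * e.symm.H⁻¹ = e.H⁻¹ * s.1 * e.H by show e.H⁻¹ * s.1 * e.H⁻¹⁻¹ = _; rw [inv_inv]] at this⟩
  left_inv s := Subtype.ext (show e.H⁻¹ * (e.H * s.1 * e.H⁻¹) * e.H = s.1 by group)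
  right_inv s := Subtype.ext (show e.H * (e.H⁻¹ * s.1 * e.H) * e.H⁻¹ = s.1 by group)
  map_mul' s t := Subtype.ext (show e.H * (s.1 * t.1) * e.H⁻¹ = e.H * s.1 * e.H⁻¹ * (e.H * t.1 * e.H⁻¹) by group)

theorem map_omega : (Cfsg.Omega F ⇑P).map e.iso.toMonoidHom = Cfsg.Omega F ⇑Q := by
  show (commutator _).map _ = commutator _
  rw [commutator_def, Subgroup.map_commutator, Subgroup.map_top_of_surjective _ e.iso.surjective]
  rfl

/-- The isomorphism of the groups Omega. -/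
def omIso : Om P ≃* Om Q :=
  (MulEquiv.subgroupMap e.iso (Cfsg.Omega F ⇑P)).trans (MulEquiv.subgroupCongr e.map_omega)

theorem omIso_app (s : Om P) (v : ι → F) : mat (e.omIso s) *ᵥ (e.H.1 *ᵥ v) = e.H.1 *ᵥ (mat s *ᵥ v) :=
  e.conj_app s.1.1 v

theorem map_center : (Subgroup.center (Om P)).map e.omIso.toMonoidHom = Subgroup.center (Om Q) := by
  ext x
  obtain ⟨y, rfl⟩ := e.omIso.surjective x
  refine (Subgroup.mem_map_iff_mem (f := e.omIso.toMonoidHom) e.omIso.injective).trans ?_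
  simp only [Subgroup.mem_center_iff, e.omIso.surjective.forall, ← map_mul,
    e.omIso.injective.eq_iff]

/-- The isomorphism of the groups POmega. -/
def pom : Cfsg.POmega F ⇑P ≃* Cfsg.POmega F ⇑Q := QuotientGroup.congr _ _ e.omIso e.map_center

theorem pom_mkO (s : Om P) : e.pom (mkO s) = mkO (e.omIso s) := rfl

/-- The isomorphism of the automorphism groups. -/
def autIso : MulAut (Cfsg.POmega F ⇑P) ≃* MulAut (Cfsg.POmega F ⇑Q) := MulAut.congr e.pom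

theorem autIso_apply (β : MulAut (Cfsg.POmega F ⇑P)) (x : Cfsg.POmega F ⇑P) :
    e.autIso β (e.pom x) = e.pom (β x) := congrArg (fun y => e.pom (β y)) (e.pom.symm_apply_apply x)

theorem ext_pom {α β : MulAut (Cfsg.POmega F ⇑Q)} (h : ∀ s, α (e.pom (mkO s)) = β (e.pom (mkO s))) : α = β :=
  MulEquiv.ext fun z => by
    obtain ⟨y, rfl⟩ := e.pom.surjective z
    obtain ⟨s, rfl⟩ := mkO_surjective y
    exact h s

theorem map_inn : (Cfsg.Inn (Cfsg.POmega F ⇑P)).map e.autIso.toMonoidHom = Cfsg.Inn (Cfsg.POmega F ⇑Q) :=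
  AutPOmega.map_inn e.pom

/-- Transport of a semisimilarity. -/
def semi (T : Semi P) : Semi Q where
  g := e.H * T.g * Matrix.GeneralLinearGroup.map (T.σ : F →+* F) e.H⁻¹
  σ := T.σ
  c := e.c * T.c / T.σ e.c
  c_ne := div_ne_zero (mul_ne_zero e.c_ne T.c_ne) ((map_ne_zero T.σ).2 e.c_ne)
  map_Q v := by
    have hσ : T.σ e.c ≠ 0 := (map_ne_zero T.σ).2 e.c_ne
    have h : ((e.H * T.g * Matrix.GeneralLinearGroup.map (T.σ : F →+* F) e.H⁻¹ : GL ι F).1 *ᵥ fun i => T.σ (v i)) =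
        e.H.1 *ᵥ T.app ((e.H⁻¹).1 *ᵥ v) := by
      show (e.H.1 * T.g.1 * (e.H⁻¹).1.map T.σ) *ᵥ _ = e.H.1 *ᵥ (T.g.1 *ᵥ fun i => T.σ (((e.H⁻¹).1 *ᵥ v) i))
      rw [T.map_mulVec, ← Matrix.mulVec_mulVec, ← Matrix.mulVec_mulVec]
    rw [h, e.map_Q, T.Q_app]
    conv_rhs => rw [← e.H_inv v, e.map_Q, map_mul]
    field_simp

theorem semi_app (T : Semi P) (v : ι → F) : (e.semi T).app (e.H.1 *ᵥ v) = e.H.1 *ᵥ T.app v := by
  show (e.H.1 * T.g.1 * (e.H⁻¹).1.map T.σ) *ᵥ (fun i => T.σ ((e.H.1 *ᵥ v) i)) = e.H.1 *ᵥ (T.g.1 *ᵥ _)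
  rw [T.map_mulVec, Matrix.mulVec_mulVec, Matrix.mul_assoc, ← Matrix.map_mul, Units.inv_mul,
    Matrix.map_one _ (map_zero T.σ) (map_one T.σ), Matrix.mul_one, ← Matrix.mulVec_mulVec]

theorem autIso_aut (T : Semi P) : e.autIso T.aut = (e.semi T).aut := e.ext_pom fun s => by
  rw [e.autIso_apply, Semi.aut_mkO, e.pom_mkO, e.pom_mkO, Semi.aut_mkO]
  refine congrArg mkO ((e.semi T).omAut_ext fun v => ?_)
  obtain ⟨u, rfl⟩ : ∃ u, e.H.1 *ᵥ u = v := ⟨_, e.H_inv v⟩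
  rw [Semi.omAut_app, e.semi_app, e.omIso_app, e.omIso_app, e.semi_app, Semi.omAut_app]

theorem galOf_autIso [Finite F] (hP : Ctx P) (hQ : Ctx Q) (β : MulAut (Cfsg.POmega F ⇑P)) :
    galOf hQ (e.autIso β) = galOf hP β := by
  obtain ⟨T, rfl⟩ := exists_semi hP β
  rw [e.autIso_aut, galOf_aut, galOf_aut]
  rfl

/-- Transport of similarities. -/
def go : Geo.quadSimilarityGroup (F := F) (⇑P) →* Geo.quadSimilarityGroup (F := F) (⇑Q) :=
  (((MulAut.conj e.H).toMonoidHom).comp (Geo.quadSimilarityGroup (F := F) (⇑P)).subtype).codRestrict _ fun g => by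
    obtain ⟨d, hd⟩ := g.2
    refine ⟨d, fun v => ?_⟩
    show Q ((e.H * g.1 * e.H⁻¹).1 *ᵥ v) = _
    rw [← e.H_inv v, e.conj_app, e.map_Q, e.map_Q, hd]
    ring

theorem go_val (g : Geo.quadSimilarityGroup (F := F) (⇑P)) : (e.go g).1 = e.H * g.1 * e.H⁻¹ := rfl

theorem go_app (g : Geo.quadSimilarityGroup (F := F) (⇑P)) (v : ι → F) :
    (e.go g).1.1 *ᵥ (e.H.1 *ᵥ v) = e.H.1 *ᵥ (g.1.1 *ᵥ v) := e.conj_app g.1 v

theorem go_isoToSim (s : Cfsg.isometryGroup F ⇑P) : e.go (isoToSim s) = isoToSim (e.iso s) := Subtype.ext rfl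

theorem go_surjective : Function.Surjective e.go := fun g =>
  ⟨e.symm.go g, Subtype.ext (by
    show e.H * (e.H⁻¹ * g.1 * e.H⁻¹⁻¹) * e.H⁻¹ = g.1
    group)⟩

theorem autIso_conjA (g : Geo.quadSimilarityGroup (F := F) (⇑P)) : e.autIso (conjA g) = conjA (e.go g) := by
  rw [conjA_apply, conjA_apply, e.autIso_aut]
  refine Semi.aut_congr _ _ one_ne_zero fun v => ?_
  obtain ⟨u, rfl⟩ : ∃ u, e.H.1 *ᵥ u = v := ⟨_, e.H_inv v⟩
  rw [one_smul, e.semi_app, Semi.ofSim_app, Semi.ofSim_app, e.go_app]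

/-- Two similitudes differ by a similarity of the target. -/
theorem change (e' : Sim P Q) : ∃ g : Geo.quadSimilarityGroup (F := F) (⇑Q), g.1 = e'.H * e.H⁻¹ ∧
    ∀ β, e'.autIso β = conjA g * e.autIso β * (conjA g)⁻¹ := by
  let g : Geo.quadSimilarityGroup (F := F) (⇑Q) := ⟨e'.H * e.H⁻¹, Units.mk0 (e'.c / e.c) (div_ne_zero e'.c_ne e.c_ne),
    fun v => by
      rw [Units.val_mul, ← Matrix.mulVec_mulVec, e'.map_Q, Units.val_mk0]
      conv_rhs => rw [← e.H_inv v, e.map_Q]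
      field_simp [e.c_ne]⟩
  have hg : ∀ y, e'.pom y = conjA g (e.pom y) := fun y => by
    obtain ⟨s, rfl⟩ := mkO_surjective y
    rw [e'.pom_mkO, e.pom_mkO, conjA_apply, Semi.aut_mkO]
    refine congrArg mkO ((Semi.ofSim g).omAut_ext fun v => ?_)
    rw [Semi.omAut_app, Semi.ofSim_app, Semi.ofSim_app]
    obtain ⟨u, rfl⟩ : ∃ u, e.H.1 *ᵥ u = v := ⟨_, e.H_inv v⟩
    have hu : ∀ w, g.1.1 *ᵥ (e.H.1 *ᵥ w) = e'.H.1 *ᵥ w := fun w => by
      show (e'.H * e.H⁻¹).1 *ᵥ _ = _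
      rw [Units.val_mul, ← Matrix.mulVec_mulVec, e.inv_H]
    rw [e.omIso_app, hu, hu, e'.omIso_app]
  refine ⟨g, rfl, fun β => e'.ext_pom fun s => ?_⟩
  rw [e'.autIso_apply, MulAut.mul_apply, MulAut.mul_apply, hg (mkO s), MulAut.inv_def, MulEquiv.symm_apply_apply,
    e.autIso_apply, hg]

end Sim

end Cfsg.Agent.AutPOmega
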