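import Cfsg.Agent.AutPOmega.PlusLang
import Cfsg.Agent.AutPOmega.MinusField

/-!
The twisted model as a minus space over a subfield: re-indexing, parity, the embedding of minus similarities.
-/

set_option autoImplicit false

namespace Cfsg.Agent.AutPOmega

open Module QuadraticMap Classical.Quad Matrix

/-- The indices of the minus space as those of the twisted model. -/
def twEquiv (k : ℕ) : (Fin k ⊕ Fin k) ⊕ Fin 2 ≃ Fin (k + 1) ⊕ Fin (k + 1) where
  toFun := Sum.elim (Sum.elim (fun j => .inl j.castSucc) fun j => .inr j.castSucc)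
    ![.inl (Fin.last k), .inr (Fin.last k)]
  invFun := Sum.elim (Fin.snoc (fun j => .inl (.inl j)) (.inr 0)) (Fin.snoc (fun j => .inl (.inr j)) (.inr 1))
  left_inv l := by
    rcases l with (j | j) | j
    · simp
    · simp
    · fin_cases j <;> simp
  right_inv l := by
    rcases l with i | i <;> induction i using Fin.lastCases <;> simp

variable {F : Type*} [Field F] {k : ℕ}

theorem qTw_eq (a b : F) (v : Fin (k + 1) ⊕ Fin (k + 1) → F) :
    qTw a b v = qMinus F k a b fun l => v (twEquiv k l) := by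
  simp [qTw_apply, qMinus_apply, Cfsg.quadFormMinus, twEquiv]

/-- Re-indexing of similarities. -/
def goR (a b : F) : Geo.quadSimilarityGroup (F := F) (⇑(qMinus F k a b)) →*
    Geo.quadSimilarityGroup (F := F) (⇑(qTw (k := k) a b)) :=
  ((Units.map (Matrix.reindexAlgEquiv F F (twEquiv k)).toRingHom.toMonoidHom).comp
    (Geo.quadSimilarityGroup (F := F) (⇑(qMinus F k a b))).subtype).codRestrict _ fun g => by
    obtain ⟨c, hc⟩ := g.2
    refine ⟨c, fun v => ?_⟩
    show qTw a b (Matrix.reindex (twEquiv k) (twEquiv k) g.1.1 *ᵥ v) = _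
    rw [qTw_eq, qTw_eq, ← hc]
    congr 1
    funext l
    rw [Matrix.reindex_apply, Matrix.submatrix_mulVec_equiv]
    simp [Function.comp_def]

theorem goR_app {a b : F} (g : Geo.quadSimilarityGroup (F := F) (⇑(qMinus F k a b)))
    (v : Fin (k + 1) ⊕ Fin (k + 1) → F) :
    (goR a b g).1.1 *ᵥ v = fun l => (g.1.1 *ᵥ fun j => v (twEquiv k j)) ((twEquiv k).symm l) := by
  show Matrix.reindex (twEquiv k) (twEquiv k) g.1.1 *ᵥ v = _
  rw [Matrix.reindex_apply, Matrix.submatrix_mulVec_equiv]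
  rfl

theorem goR_surjective (a b : F) : Function.Surjective (goR (k := k) a b) := fun g => by
  obtain ⟨c, hc⟩ := g.2
  let M := Units.map (Matrix.reindexAlgEquiv F F (twEquiv k).symm).toRingHom.toMonoidHom g.1
  refine ⟨⟨M, c, fun v => ?_⟩, Subtype.ext (Units.ext (Matrix.ext fun x y => ?_))⟩
  · show qMinus F k a b (Matrix.reindex (twEquiv k).symm (twEquiv k).symm g.1.1 *ᵥ v) = _
    have h1 : ∀ u : (Fin k ⊕ Fin k) ⊕ Fin 2 → F, qMinus F k a b u = qTw a b fun l => u ((twEquiv k).symm l) :=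
      fun u => by rw [qTw_eq]; simp
    rw [h1, h1 v, ← hc]
    congr 1
    funext l
    rw [Matrix.reindex_apply, Matrix.submatrix_mulVec_equiv]
    simp [Function.comp_def]
  · show g.1.1 ((twEquiv k).symm.symm ((twEquiv k).symm x)) ((twEquiv k).symm.symm ((twEquiv k).symm y)) = _
    simp

theorem goR_mem_scalars {a b : F} (g : Geo.quadSimilarityGroup (F := F) (⇑(qMinus F k a b))) :
    (goR a b g).1 ∈ Geo.scalars (Fin (k + 1) ⊕ Fin (k + 1)) F ↔ g.1 ∈ Geo.scalars ((Fin k ⊕ Fin k) ⊕ Fin 2) F := by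
  rw [Geo.mem_scalars_iff, Geo.mem_scalars_iff]
  refine exists_congr fun c => ?_
  show Matrix.reindexAlgEquiv F F (twEquiv k) g.1.1 = _ ↔ _
  rw [← (Matrix.reindexAlgEquiv F F (twEquiv k)).injective.eq_iff, map_smul, map_one]

theorem goR_mapGO {K : Type*} [Field K] (i : F →+* K) (a b : F)
    (g : Geo.quadSimilarityGroup (F := F) (⇑(qMinus F k a b))) :
    mapGO (qTw_map i a b) (goR a b g) = goR (i a) (i b) (mapGO (qMinus_map i a b) g) :=
  Subtype.ext (Units.ext rfl)

theorem psign_equiv {V W : Type*} [AddCommGroup V] [Module F V] [AddCommGroup W] [Module F W] (m : ℕ)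
    (L : V ≃ₗ[F] W) (U U' : Submodule F V) :
    psign m (U.map L.toLinearMap) (U'.map L.toLinearMap) = psign m U U' := by
  rw [psign, psign, ← Submodule.map_inf _ L.injective, LinearEquiv.finrank_map_eq]

/-- The singular half of the twisted model. -/
def twU (k : ℕ) (ρ : F) : Submodule F (Fin (k + 1) ⊕ Fin (k + 1) → F) :=
  (minusU (m := k) ρ).map (LinearEquiv.funCongrLeft F F (twEquiv k).symm).toLinearMap

theorem hyp_tw {a b ρ : F} (hH : Hyp (qMinus F k a b) (k + 1) (minusU ρ)) :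
    Hyp (qTw (k := k) a b) (k + 1) (twU k ρ) where
  nondeg := Iso.nondeg (Q := qMinus F k a b) ⟨LinearEquiv.funCongrLeft F F (twEquiv k).symm, fun x => by
    rw [qTw_eq]
    congr 1
    funext l
    simp⟩ hH.nondeg
  big := hH.big
  dim := by simp; ring
  ms := ⟨by
    rintro _ ⟨u, hu, rfl⟩
    rw [qTw_eq]
    simpa using hH.ms.1 u hu,
    by rw [twU, LinearEquiv.finrank_map_eq, hH.ms.2]⟩

theorem parG_goR [Finite F] {a b ρ : F} (hH : Hyp (qMinus F k a b) (k + 1) (minusU ρ))
    (g : Geo.quadSimilarityGroup (F := F) (⇑(qMinus F k a b))) :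
    (hyp_tw hH).parG (goR a b g) = hH.parG g := by
  rw [Hyp.parG_eq_psign, Hyp.parG_eq_psign, twU, ← Submodule.map_comp]
  have e : (Matrix.toLin' (goR a b g).1.1).comp (LinearEquiv.funCongrLeft F F (twEquiv k).symm).toLinearMap =
      (LinearEquiv.funCongrLeft F F (twEquiv k).symm).toLinearMap.comp (Matrix.toLin' g.1.1) :=
    LinearMap.ext fun v => by
      show (goR a b g).1.1 *ᵥ (fun l => v ((twEquiv k).symm l)) = fun l => (g.1.1 *ᵥ v) ((twEquiv k).symm l)
      rw [goR_app]
      simp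
  rw [e, Submodule.map_comp]
  exact psign_equiv _ _ _ _

/-- The standing hypotheses pass to an extension field. -/
theorem Ctx.map {ι : Type} [Fintype ι] [DecidableEq ι] {K : Type*} [Field K] (i : F →+* K) {Q : QuadraticForm F (ι → F)}
    {Q' : QuadraticForm K (ι → K)} (hc : Ctx Q) (h : ∀ v : ι → F, Q' (fun j => i (v j)) = i (Q v))
    (h9 : 9 ≤ Fintype.card ι) : Ctx Q' where
  nondeg := nondeg_map i hc.nondeg h
  seven := hc.seven
  notD4 := Or.inl h9
  pairs := by
    obtain ⟨A, B, hp, ho⟩ := hc.pairs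
    refine ⟨fun l j => i (A l j), fun l j => i (B l j), fun l => ⟨?_, ?_, ?_⟩, fun l l' hl => ⟨?_, ?_, ?_⟩⟩
    · rw [h, (hp l).ha, map_zero]
    · rw [h, (hp l).hb, map_zero]
    · rw [polar_map_sub h, (hp l).hab, map_one]
    · rw [polar_map_sub h, (ho l l' hl).1, map_zero]
    · rw [polar_map_sub h, (ho l l' hl).2.1, map_zero]
    · rw [polar_map_sub h, (ho l l' hl).2.2, map_zero]

theorem ctx_tw [Finite F] (hk : 4 ≤ k) {a b : F}
    (hab : ∀ z₁ z₂ : F, z₁ ^ 2 + a * z₁ * z₂ + b * z₂ ^ 2 = 0 → z₁ = 0 ∧ z₂ = 0) : Ctx (qTw (k := k) a b) :=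
  ctx_of_hyp (nondeg_binForm hab) (by omega) (twCoord (F := F)) (by simp; omega) (Or.inl (by simp; omega))

end Cfsg.Agent.AutPOmega
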